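import Cfsg.Agent.GW.Alpha

/-!
# S4594 core: piece An
-/

set_option autoImplicit false
set_option linter.unusedSectionVars false
set_option linter.style.haveILetI false

namespace Cfsg.GW

open Subgroup Cfsg.FT Cfsg.Gag Cfsg.Gag.Fin5
open scoped Pointwise

universe u

variable {G : Type u} [Group G] [Finite G] {S V X Y C : Subgroup G} {t s s' σ n f x : G} {p : ℕ}

theorem norm_of_inverts (hs : orderOf s = 2) (h : ∀ x ∈ Y, s * x * s = x⁻¹) (hX : X ≤ Y) :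
    s ∈ 𝐍[X] := mem_norm_of_conj_le (conj_le_iff_forall.2 fun a ha => by
  rw [inv_inv' hs, h a (hX ha)]; exact inv_mem ha)

omit [Finite G] in
theorem abelian_of_inverts (hs : orderOf s = 2) (h : ∀ x ∈ Y, s * x * s = x⁻¹) :
    IsMulCommutative Y := abelian_iff_forall.2 fun a ha b hb => by
  have e : s * (a * b) * s = (s * a * s) * (s * b * s) := by
    simp only [mul_assoc, ← mul_assoc s s, inv_sq hs, one_mul]
  rw [h a ha, h b hb, h _ (mul_mem ha hb), ← mul_inv_rev, inv_inj] at e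
  exact e

theorem cyclic_inv_uniq (hC : IsCyclic C) (ht : t ∈ C) (ot : orderOf t = 2) (hs : s ∈ C)
    (h : s * s = 1) : s = 1 ∨ s = t := by
  by_contra! e
  exact (klein_pair ot (orderOf_eq_prime (by rwa [pow_two]) e.1)
    (mem_cent1.2 (comm_of_abelian (cyclic_abelian hC) hs ht)) e.2).not_cyclic
    (cyclicS (sup_le (zpowers_le.2 ht) (zpowers_le.2 hs)) hC)

theorem nil_TI (hY : Group.IsNilpotent Y) (h : ∀ p : ℕ, p.Prime → core {p} Y ⊓ X = ⊥) :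
    Y ⊓ X = ⊥ := by_contra fun hn => by
  obtain ⟨p, hp, e⟩ := sol_core_ne_bot (nilpotent_sol (nilpotentS inf_le_left hY)) hn
  exact e (eq_bot_iff.2 ((le_inf (nil_le_core hY ((pcore_sub _ _).trans inf_le_left)
    (pcore_pgroup _ _)) ((pcore_sub _ _).trans inf_le_right)).trans (h p hp).le))

theorem dvd_kk [Fact p.Prime] (h : ¬ core {p} (oc t) ≤ 𝐂₁[s]) : p ∣ kk t s := by
  have h1 := relIndex_inf_dvd_of_normal (H := 𝐂₁[s] ⊓ oc t) (pcore_normal {p} (oc t)).2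
    inf_le_right (pcore_sub _ _)
  rw [inf_relIndex_right] at h1
  exact (dvd_relIndex_of_pgroup (pcore_pgroup' p _) fun e => h (e.trans inf_le_left)).trans h1

namespace Ctx

variable [IsSimpleGroup G] (c : Ctx S t)
include c

theorem U_not_le (hA : IsCoatom 𝐂₁[t]) (hs : s ∈ S) (os : orderOf s = 2) (st : s ≠ t) :
    ¬ oc t ≤ 𝐂₁[s] := fun h => by
  have hV := c.klein hs os st
  have h1 : 𝐂₁[t] ≤ 𝐍[⟪t⟫ ⊔ ⟪s⟫] := c.sup.ge.trans (sup_le (cents_norm (by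
    rw [cent_pair]; exact le_inf (oc_le t) h)) (c.SV hV (c.pairS hs)))
  obtain ⟨y, hy, e⟩ := c.fus _ hV t (mem_sup_left (mem_zpowers t)) s
    (mem_sup_right (mem_zpowers s)) c.t1 (inv_ne_one os)
  have h2 := ((hA.le_iff.1 h1).resolve_left (c.normV_ne hV)).le hy.2
  exact st (by rw [← e, mem_cent1.1 h2, mul_inv_cancel_right])

theorem exists_prime (hA : IsCoatom 𝐂₁[t]) (hs : s ∈ S) (os : orderOf s = 2) (st : s ≠ t) :
    ∃ p : ℕ, p.Prime ∧ ¬ core {p} (oc t) ≤ 𝐂₁[s] := by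
  by_contra! h
  refine c.U_not_le hA hs os st (cent_od os (normG _ (c.cen hs)) fun p hp p2 => ?_)
  rw [← core_core_of_subset (ρ := {2}ᶜ) (by simpa using p2.symm)]
  exact h p hp

theorem comm_pair (s : G) (hs : s ∈ 𝐂₁[t]) : ⁅oc t, ⟪t⟫ ⊔ ⟪s⟫⁆ = ⁅oc t, ⟪s⟫⁆ := by
  rw [commGC, sup_comm, commg_sup_cent' (norms_cycle (zpowers_le.2 (cent1C.1 hs)))
    (zpowers_le.2 (le_cent1.1 (oc_le t))), commGC]

theorem inf_eq (hs : s ∈ S) (os : orderOf s = 2) (st : s ≠ t) (h : s' ∈ ⟪t⟫ ⊔ ⟪s⟫) (h1 : s' ≠ 1)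
    (h2 : s' ≠ t) : oc t ⊓ 𝐂₁[s'] = oc t ⊓ 𝐂₁[s] := by
  have hV := c.klein hs os st
  rw [← c.W_eq hV (mem_sup_left (mem_zpowers t)) h c.t1 h1 h2,
    c.W_eq hV (mem_sup_left (mem_zpowers t)) (mem_sup_right (mem_zpowers s)) c.t1 (inv_ne_one os) st]

theorem bswh (hA : IsCoatom 𝐂₁[t]) (hS : S = ⟪σ⟫ ⊔ ⟪s⟫) (tσ : t ∈ ⟪σ⟫) (os : orderOf s = 2)
    (hi : s * σ * s = σ⁻¹) (sσ : s ∉ ⟪σ⟫) (hU : oc t ≤ 𝐂₁[σ]) (h : ∀ x ∈ oc t, s * x * s = x⁻¹) :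
    BSWH (⟪σ⟫ ⊔ oc t) t s := by
  have hc : oc t ≤ 𝐂[⟪σ⟫] := by rwa [cent_cycle]
  have ab : IsMulCommutative ↥(⟪σ⟫ ⊔ oc t) :=
    abelianY.2 ⟨inferInstance, abelian_of_inverts os h, hc⟩
  have h2 : Syl 2 ⟪σ⟫ (⟪σ⟫ ⊔ oc t) := (hall_sup_of_norm (cents_norm hc)
    (piSub_singleton.2 (c.S2.to_le (hS ▸ le_sup_left))) (pcore_pgroup _ _)).1.syl
  have h3 : ∀ v ∈ ⟪σ⟫ ⊔ oc t, orderOf v = 2 → v ∈ ⟪σ⟫ := fun v hv ov => zpowers_le.1
    (sub_normal_Sylow h2 (sub_abelian_normal ab h2.le) (zpowers_le.2 hv) (inv_pgroup ov))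
  have h4 : ∀ x ∈ ⟪σ⟫ ⊔ oc t, s * x * s = x⁻¹ := fun x hx => by
    obtain ⟨_, ⟨k, rfl⟩, u, hu, rfl⟩ := (mem_join_norm (cents_norm hc)).1 hx
    have e : s * (σ ^ k * u) * s = (s * σ ^ k * s⁻¹) * (s * u * s) := by group
    have e' : s * σ * s⁻¹ = σ⁻¹ := by rwa [inv_inv' os]
    rw [e, ← conj_zpow, e', h u hu, hc hu _ (zpow_mem (mem_zpowers σ) k), mul_inv_rev, inv_zpow]
  refine ⟨ab, mem_sup_left tσ, c.ot, fun v hv e => ?_, fun e => sσ (h3 s e os), inv_sq os, h4,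
    fun x hx x1 => ?_, c.conj⟩
  · by_cases v1 : v = 1
    · exact .inl v1
    exact cyclic_inv_uniq inferInstance tσ c.ot
      (h3 v hv (orderOf_eq_prime (by rwa [pow_two]) v1)) e
  have e : ⟪σ⟫ ⊔ oc t ⊔ ⟪s⟫ = 𝐂₁[t] := by rw [← c.sup, hS, sup_comm ⟪σ⟫, sup_assoc]
  have h5 : 𝐂₁[t] ≤ 𝐍[⟪x⟫] := e.ge.trans (sup_le (sub_abelian_norm ab (zpowers_le.2 hx))
    (zpowers_le.2 (norm_of_inverts os h4 (zpowers_le.2 hx))))
  have h6 : 𝐍[⟪x⟫] ≠ ⊤ := norm_ne_top (by simpa using x1) fun e =>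
    c.nab ⟨⟨fun a b => comm_of_abelian (cycle_abelian x) (e ▸ mem_top a) (e ▸ mem_top b)⟩⟩
  rw [e, ← (hA.le_iff.1 h5).resolve_left h6]
  exact norms_cycle le_rfl

end Ctx

/-- the hypotheses of `StAn` -/
structure AnH (S : Subgroup G) (t : G) : Prop where
  c : Ctx S t
  co : IsCoatom 𝐂₁[t]
  nm : ∀ (p : ℕ) (s : G), p.Prime → s ∈ S → orderOf s = 2 → s ≠ t →
    core {p} (oc t) ≤ 𝐂₁[s] ∨ core {p} (oc t) ⊓ 𝐂₁[s] = ⊥

namespace AnH

variable [IsSimpleGroup G] (h : AnH S t)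
include h

theorem inv (hs : s ∈ S) (os : orderOf s = 2) (e : core {p} (oc t) ⊓ 𝐂₁[s] = ⊥) :
    ∀ x ∈ core {p} (oc t), s * x * s = x⁻¹ := fun _ hx =>
  inverts_of_fpf (oddSg (pcore_sub _ _) (oc_odd t)) os (norms_pcore _ h.c.SU hs) e hx

theorem N_le (hs : s ∈ S) (os : orderOf s = 2) (st : s ≠ t) : ⁅oc t, ⟪s⟫⁆ ≤ 𝐙[fit (oc t)] := by
  have h1 : ⁅oc t, ⟪s⟫⁆ ≤ 𝐂[fit (oc t)] := centsC.1 (Fitting_le_of_forall fun p hp => centsC.1 ?_)
  · exact le_inf ((le_inf (commg_subl.2 (zpowers_le.2 (h.c.SU hs))) h1).trans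
      (cent_sub_Fitting h.c.U_sol)) h1
  have hn := (pcore_normal {p} (oc t)).2
  rcases h.nm p s hp hs os st with e | e
  · exact (commgS _ (zpowers_le.2 (le_cent1.1 e))).trans (commg_subr.2 (norms_cent hn))
  refine commg_le_iff.2 fun u hu a ha y hy => ?_
  rcases mem_cycle2 (inv_sq os) ha with rfl | rfl
  · simp
  have e1 := h.inv hs os e _ hy
  have e2 := h.inv hs os e _ ((memJ_norm' (hn hu)).2 hy)
  rw [inv_inv' os]
  calc y * (u * a * u⁻¹ * a) = u * a * (a * (u⁻¹ * y * u) * a) * u⁻¹ * a := by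
        simp only [mul_assoc, ← mul_assoc a a, inv_sq os, one_mul, mul_inv_cancel_left]
    _ = u * a * u⁻¹ * a * (a * y * a)⁻¹ * (a * a) := by
        rw [e2]; simp only [mul_inv_rev, inv_inv' os, inv_inv, mul_assoc, ← mul_assoc a a, inv_sq os,
          one_mul, mul_inv_cancel_left, mul_one]
    _ = _ := by rw [e1, inv_inv, inv_sq os, mul_one]

theorem N_TI (hs : s ∈ S) (os : orderOf s = 2) (st : s ≠ t) : ⁅oc t, ⟪s⟫⁆ ⊓ 𝐂₁[s] = ⊥ := by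
  have h1 := zpowers_le.2 (h.c.SU hs)
  rw [← coprime_commGid h1 (cop_inv (oc_odd t) os), ← cent_cycle]
  exact coprime_abel_cent_TI (commg_normr _ _) (cop_inv (oddSg (commg_subl.2 h1) (oc_odd t)) os)
    (abelianS (h.N_le hs os st) (center_abelian _))

theorem V_TI (hV : Klein V) (hS : V ≤ S) : ⁅oc t, V⁆ ⊓ 𝐂[V] = ⊥ := by
  obtain ⟨s, hs, s1, st⟩ := klein_other hV t
  refine eq_bot_iff.2 ((inf_le_inf ?_ (cent_le_cent1 hs)).trans
    (h.N_TI (hS hs) (hV.orderOf hs s1) st).le)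
  rw [hV.gen hs (h.c.tV hV hS) s1 h.c.t1 st, h.c.comm_pair s (h.c.cen (hS hs))]

theorem mixed (hK : StKW.{u}) [hp : Fact p.Prime] (hS : S = ⟪s⟫ ⊔ ⟪s'⟫) (os : orderOf s = 2)
    (os' : orderOf s' = 2) (st : s ≠ t) (st' : s' ≠ t) (nc : s' ∉ 𝐂₁[s])
    (h1 : core {p} (oc t) ≤ 𝐂₁[s]) (h2 : ¬ core {p} (oc t) ≤ 𝐂₁[s']) :
    p = 3 ∧ oc t ⊓ 𝐂[S] ≠ ⊥ := by
  have c := h.c
  have hs : s ∈ S := hS ▸ mem_sup_left (mem_zpowers s)
  have hs' : s' ∈ S := hS ▸ mem_sup_right (mem_zpowers s')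
  have h3 := (h.nm p s' hp.out hs' os' st').resolve_left h2
  have hi := h.inv hs' os' h3
  have Y0 : core {p} (oc t) ≠ ⊥ := fun e => h2 (e ▸ bot_le)
  have hYF := pcore_sub_Fitting p (oc t)
  have hYp := pcore_pgroup' p (oc t)
  have hYn := (pcore_normal {p} (oc t)).2
  have hYU := pcore_sub {p} (oc t)
  have key : ∀ R : Subgroup G, IsPGroup p R → R ≤ fit (oc t) → R ≤ core {p} (oc t) :=
    fun R => pgroup_le_Fitting
  generalize hY : core {p} (oc t) = Y at *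
  have hV := c.klein hs os st
  have hV' := c.klein hs' os' st'
  have hW := c.W_eq hV (mem_sup_left (mem_zpowers t)) (mem_sup_right (mem_zpowers s)) c.t1
    (inv_ne_one os) st
  have hW' := c.W_eq hV' (mem_sup_left (mem_zpowers t)) (mem_sup_right (mem_zpowers s')) c.t1
    (inv_ne_one os') st'
  have nW : 𝐍[⟪t⟫ ⊔ ⟪s⟫] ≤ 𝐍[oc t ⊓ 𝐂₁[s]] := hW ▸ norms_pcore _ (cent_norm _)
  have nW' : 𝐍[⟪t⟫ ⊔ ⟪s'⟫] ≤ 𝐍[oc t ⊓ 𝐂₁[s']] := hW' ▸ norms_pcore _ (cent_norm _)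
  have s1 : ∀ n ∈ 𝐍[⟪t⟫ ⊔ ⟪s⟫], 𝐂₁[t] ≤ 𝐍[Y ⊓ n •ᶜ Y] := fun n hn => by
    rw [← c.sup, ← coprime_cent_prod (zpowers_le.2 (c.SU hs)) (cop_inv (oc_odd t) os)
      (solOr_cycle _ _), cent_cycle, hS]
    refine sup_le (sup_le (cents_norm (centsS (inf_le_left.trans hYF)
      ((h.N_le hs os st).trans inf_le_right))) (normsI (inf_le_left.trans hYn) ?_))
      (sup_le (cents_norm (centsS inf_le_left (zpowers_le.2 (le_cent1.1 h1))))
      (zpowers_le.2 (norm_of_inverts os' hi inf_le_left)))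
    rw [← conj_eq_of_mem_norm (nW hn)]
    exact conj_norms n (inf_le_left.trans hYn)
  obtain ⟨y, hy, e⟩ := c.fus _ hV t (mem_sup_left (mem_zpowers t)) s
    (mem_sup_right (mem_zpowers s)) c.t1 (inv_ne_one os)
  have s2 : Y ⊓ y •ᶜ Y = ⊥ := by_contra fun hn => by
    have e1 := c.norm_eq h.co (oddSg (inf_le_left.trans hYU) (oc_odd t)) hn (s1 y hy.2)
    have e2 := conj_norms y (s1 y⁻¹ (inv_mem hy.2))
    rw [conj_inf, conj_inv_conj, inf_comm, e1] at e2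
    have e3 := conj_eq_of_mem_norm (mem_norm_of_conj_le e2)
    rw [← cent1_conj, e] at e3
    exact nc (e3 ▸ c.cen hs')
  have hP : Y ≤ core {p} (oc t ⊓ 𝐂₁[s]) :=
    pcore_max' hYp ⟨le_inf hYU h1, inf_le_left.trans hYn⟩
  have hPU : core {p} (oc t ⊓ 𝐂₁[s]) ≤ oc t := (pcore_sub _ _).trans inf_le_left
  have s3 : core {p} (oc t ⊓ 𝐂₁[s]) ⊓ 𝐂₁[s'] ≠ ⊥ := fun hb => by
    have e1 := coprime_cent_prod (norms_pcore {p} ((zpowers_le.2 (c.SV hV (c.pairS hs) hs')).trans nW))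
      (cop_inv (oddSg hPU (oc_odd t)) os') (solOr_cycle _ _)
    rw [cent_cycle, hb, sup_bot_eq] at e1
    have e2 := key _ (pcore_pgroup' p _) (e1.ge.trans ((commSg _ hPU).trans
      ((h.N_le hs' os' st').trans inf_le_left)))
    have e3 := (conj_le_of_mem_norm (norms_pcore {p} nW hy.2) hP).trans e2
    rw [inf_eq_right.2 e3, conj_eq_bot] at s2
    exact Y0 s2
  refine ⟨?_, fun e => s3 (eq_bot_iff.2 (le_trans ?_ e.le))⟩
  swap
  · rw [hS, cent_pair, ← inf_assoc]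
    exact inf_le_inf_right _ (pcore_sub _ _)
  obtain ⟨D, hD, hSD, hl⟩ := c.exists_syl p c.S2 (oddSg inf_le_left (oc_odd t))
    ((c.SV hV' (c.pairS hs')).trans nW') IsPGroup.of_bot bot_le (norms1 S)
  have hDU := hD.le.trans inf_le_left
  have D0 : D ≠ ⊥ := hD.ne_bot ((pgroup_pdiv ((pcore_pgroup' p _).to_le inf_le_left) s3).trans
    (card_dvd_of_le (inf_le_inf_right _ hPU)))
  have hDs : D ≤ 𝐂[⟪s⟫] := by
    have e1 : ⁅D, ⟪s⟫⁆ ≤ D := commg_subl.2 (zpowers_le.2 (hSD hs))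
    have e2 := commSg ⟪s⟫ hDU
    exact commG1P.1 (eq_bot_iff.2 ((le_inf e2 ((key _ (hD.pgroup.to_le e1) (e2.trans
      ((h.N_le hs os st).trans inf_le_left))).trans h1)).trans (h.N_TI hs os st).le))
  obtain ⟨⟨a, ha⟩, oa⟩ := exists_prime_orderOf_dvd_card' p (pgroup_pdiv (hYp.to_le inf_le_left)
    (nontrivial_cent_pgroup hD.pgroup hYp (hDU.trans hYn) Y0))
  rw [orderOf_mk] at oa
  refine hK G 𝐍[D] _ a s' p (c.dg (c.norm_ne (oddSg hDU (oc_odd t)) D0)) hV ((c.pairS hs).trans hSD)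
    hp.out (c.p_ne (hY ▸ Y0)) oa ⟨cent_sub D ha.2, pcore_sub _ _ (hW.ge ⟨hYU ha.1, h1 ha.1⟩)⟩
    (fun e => ?_) ⟨hSD hs', c.SV hV (c.pairS hs) hs'⟩ (inv_sq os') (hi a ha.1)
  have e1 := (c.ob_syl (al_H h.co) (hY ▸ Y0) hV' (mem_sup_left (mem_zpowers t))
    (hW' ▸ hD)).le_of_norms' (hYp.to_le (zpowers_le.2 ha.1)) (zpowers_le.2 e)
    (zpowers_le.2 (cent_sub D ha.2))
  have e2 : a ∈ Y ⊓ 𝐂₁[s'] := ⟨ha.1, (hD.le (e1 (mem_zpowers a))).2⟩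
  rw [h3, mem_bot] at e2
  rw [e2, orderOf_one] at oa
  exact hp.out.one_lt.ne oa

theorem caseK (hF : StFrob.{u}) (hC : StC1K.{u}) (hS : Klein S) : ∃ K s, BSWH K t s := by
  have c := h.c
  obtain ⟨s, hs, s1, st⟩ := klein_other hS t
  have os := hS.orderOf hs s1
  have e := hS.gen hs c.tS s1 c.t1 st
  have h1 : ⁅oc t, S⁆ = oc t := by_contra fun hn => by
    obtain ⟨p, hp, h1⟩ := c.exists_prime h.co hs os st
    haveI := Fact.mk hp
    refine c.not_dvd_ii hF (al_H h.co) (fun v hv ov vt h2 => h1 ?_) ((dvd_kk h1).trans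
      ((hC G S t s c.syl hS c.tS hs c.t1 s1 st hn).2 (h.V_TI hS le_rfl)))
    exact (le_inf (pcore_sub _ _) h2).trans
      ((c.inf_eq hs os st (e ▸ hv) (inv_ne_one ov) vt).le.trans inf_le_right)
  rw [e, c.comm_pair s (c.cen hs)] at h1
  refine ⟨_, s, c.bswh h.co e (mem_zpowers t) os ?_ (fun e => ?_) (oc_le t) fun x hx =>
    inverts_of_fpf (oc_odd t) os (c.SU hs) (h1 ▸ h.N_TI hs os st) hx⟩
  · rw [mem_cent1.1 (c.cen hs), mul_assoc, inv_sq os, mul_one, inv_inv' c.ot]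
  · exact (mem_cycle2 (inv_sq c.ot) e).elim s1 st

theorem caseD (hF : StFrob.{u}) (hK : StKW.{u}) (hC : StC1D.{u}) (hS : D8 S f x) (e : f ^ 2 = t) :
    ∃ K s, BSWH K t s := by
  have c := h.c
  have hS' := d8_swap hS
  have gen : S = ⟪x⟫ ⊔ ⟪x * f⟫ := le_antisymm (hS.gen.le.trans (sup_le (zpowers_le.2
    ((mul_mem_cancel_left (mem_sup_left (mem_zpowers x))).1 (mem_sup_right (mem_zpowers _))))
    le_sup_left)) (sup_le (zpowers_le.2 (d8_xA hS)) (zpowers_le.2 (d8_xA hS')))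
  have xt : x ≠ t := fun e' => d8_x_notin hS (e ▸ e' ▸ mem_zpowers _)
  have xt' : x * f ≠ t := fun e' => d8_x_notin hS' (e ▸ e' ▸ mem_zpowers _)
  have nc : x * f ∉ 𝐂₁[x] := fun e' =>
    d8_nc hS (mem_cent1.1 ((mul_mem_cancel_left (cent1id x)).1 e'))
  have m1 := fun (p : ℕ) [Fact p.Prime] => h.mixed (p := p) hK gen hS.ox hS'.ox xt xt' nc
  have m2 := fun (p : ℕ) [Fact p.Prime] => h.mixed (p := p) hK (gen.trans (sup_comm _ _)) hS'.ox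
    hS.ox xt' xt fun e => nc (cent1C.1 e)
  have h1 : ⁅oc t, S⁆ = oc t := by_contra fun hn => by
    obtain ⟨p, hp, h1, h2⟩ : ∃ p : ℕ, p.Prime ∧ ¬ core {p} (oc t) ≤ 𝐂₁[x] ∧
        ¬ core {p} (oc t) ≤ 𝐂₁[x * f] := by
      obtain ⟨a, ha, h1⟩ := c.exists_prime h.co (d8_xA hS) hS.ox xt
      obtain ⟨b, hb, h2⟩ := c.exists_prime h.co (d8_xA hS') hS'.ox xt'
      by_contra! h3
      haveI := Fact.mk ha
      haveI := Fact.mk hb
      have h4 : core {b} (oc t) ≤ 𝐂₁[x] := by_contra fun h4 => h2 (h3 b hb h4)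
      exact h1 ((m2 a (h3 a ha h1) h1).1 ▸ (m1 b h4 h2).1 ▸ h4)
    haveI := Fact.mk hp
    subst e
    refine c.not_dvd_ii (p := p) hF (al_H h.co) (fun v hv ov vt h3 => ?_)
      (((hC G S f x c.syl hS hn).2 fun V hV hl => h.V_TI hV hl).elim (dvd_kk h1).trans
        (dvd_kk h2).trans)
    rcases d8_invol hS hv (inv_sq ov) with e | e
    · exact h1 ((le_inf (pcore_sub _ _) h3).trans ((c.inf_eq (d8_xA hS) hS.ox xt e (inv_ne_one ov)
        vt).le.trans inf_le_right))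
    · exact h2 ((le_inf (pcore_sub _ _) h3).trans ((c.inf_eq (d8_xA hS') hS'.ox xt' e
        (inv_ne_one ov) vt).le.trans inf_le_right))
  have hn : S ≤ 𝐍[𝐙[fit (oc t)]] := norms_center (norms_Fitting c.SU)
  have ab : IsMulCommutative (oc t) := by
    refine abelianS (h1.ge.trans ?_) (center_abelian (fit (oc t)))
    rw [commGC, gen]
    exact commg_sup_le (zpowers_le.2 (hn (d8_xA hS))) (zpowers_le.2 (hn (d8_xA hS')))
      (commGC _ ⟪x⟫ ▸ h.N_le (d8_xA hS) hS.ox xt) (commGC _ ⟪x * f⟫ ▸ h.N_le (d8_xA hS') hS'.ox xt')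
  have hB := coprime_abel_cent_TI c.SU (cop_two (oc_odd t) c.S2) ab
  rw [h1] at hB
  have h2 : ∀ p : ℕ, p.Prime → core {p} (oc t) ⊓ 𝐂₁[x] = ⊥ ∧ core {p} (oc t) ⊓ 𝐂₁[x * f] = ⊥ := by
    intro p hp
    haveI := Fact.mk hp
    by_cases h3 : core {p} (oc t) ≤ 𝐂₁[x] <;> by_cases h4 : core {p} (oc t) ≤ 𝐂₁[x * f]
    · have : core {p} (oc t) = ⊥ := eq_bot_iff.2 (le_trans (le_inf (pcore_sub _ _) (by
        rw [gen, cent_pair]; exact le_inf h3 h4)) hB.le)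
      simp [this]
    · exact absurd hB (m1 p h3 h4).2
    · exact absurd hB (m2 p h4 h3).2
    · exact ⟨(h.nm p _ hp (d8_xA hS) hS.ox xt).resolve_left h3,
        (h.nm p _ hp (d8_xA hS') hS'.ox xt').resolve_left h4⟩
  have i1 := fun u => inverts_of_fpf (x := u) (oc_odd t) hS.ox (c.SU (d8_xA hS))
    (nil_TI (abelian_nil ab) fun p hp => (h2 p hp).1)
  have i2 := fun u => inverts_of_fpf (x := u) (oc_odd t) hS'.ox (c.SU (d8_xA hS'))
    (nil_TI (abelian_nil ab) fun p hp => (h2 p hp).2)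
  refine ⟨_, x, c.bswh h.co hS.gen (e ▸ npow_mem_zpowers f 2) hS.ox ?_ (fun e => ?_)
    (fun u hu => mem_cent1.2 ?_) i1⟩
  · rw [← hS.inv, d8_xinv hS]
  · exact d8_nc hS (comm_of_abelian (cycle_abelian f) (mem_zpowers f) e)
  · have e1 := (i2 u hu).trans (i1 u hu).symm
    have e2 : x * f = f⁻¹ * x := by rw [← inv_inv' hS'.ox, mul_inv_rev, d8_xinv hS]
    rw [congrArg (x * f * u * ·) e2, ← mul_assoc, mul_left_inj, mul_assoc, mul_assoc,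
      mul_right_inj, ← mul_assoc, mul_inv_eq_iff_eq_mul] at e1
    exact e1.symm

end AnH

theorem stAn (hF : StFrob.{u}) (hK : StKW.{u}) (h1 : StC1K.{u}) (h2 : StC1D.{u}) : StAn.{u} :=
  fun _ _ _ _ _ _ c hA hm => c.shape.elim (AnH.caseK ⟨c, hA, hm⟩ hF h1)
    fun ⟨_, _, hS, e⟩ => AnH.caseD ⟨c, hA, hm⟩ hF hK h2 hS e

end Cfsg.GW
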