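import Cfsg.Agent.GW.Defs2
import Cfsg.Agent.Gag.Core
import Cfsg.Agent.Gag.Conj

/-! # The pieces `StFrob` and `StSol`, and basic facts on groups with small dihedral Sylow 2-subgroups -/

set_option autoImplicit false

namespace Cfsg.GW

namespace Fr

open Subgroup Cfsg.FT Cfsg.Gag Cfsg.Gag.Fin5
open scoped Pointwise

universe u

variable {G : Type u} [Group G] {A K Q S V W X Y : Subgroup G} {a b f g n t x : G}

instance two : Fact (Nat.Prime 2) := ⟨Nat.prime_two⟩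

theorem d8_pgroup (h : D8 A f x) : IsPGroup 2 A := IsPGroup.of_card (n := 3) h.card

theorem d8_center (h : D8 A f x) (ha : a ∈ A) (hc : a ∈ 𝐂[A]) : a = 1 ∨ a = f ^ 2 := by
  have hf : Commute f a := mem_cent.1 hc f (d8_fA h)
  rcases d8_memT h (d8_cent h ⟨ha, centS (d8_TA h) hc⟩) with e | e | e | e
  · exact .inl e
  · exact .inr e
  · exact absurd (e ▸ hf) (d8_nc h)
  · refine absurd ?_ (d8_nc h)
    have := ((Commute.refl f).pow_right 2).inv_right.mul_right (e ▸ hf)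
    rwa [inv_mul_cancel_left] at this

theorem d8_nab (h : D8 A f x) : ¬ IsMulCommutative A :=
  fun e => d8_nc h (comm_of_abelian e (d8_fA h) (d8_xA h))

theorem klein_fix2 (hV : Klein V) (hn : n ∈ 𝐍[V]) (ht : t ∈ V) (h1 : t ≠ 1) (hc : Commute n t) :
    n ^ 2 ∈ 𝐂[V] := by
  obtain ⟨ρ, h2, h3⟩ := klein_rep hV
  obtain ⟨i, hi⟩ := h3 ⟨n, hn⟩ t ht h1 hc
  exact (h2 (⟨n, hn⟩ ^ 2)).1 (by rw [map_pow]; exact perm3_fix _ i hi)

theorem Fus.mono (h : Fus X V) (hX : X ≤ Y) : Fus Y V := fun a ha b hb h1 h2 =>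
  let ⟨y, hy, e⟩ := h a ha b hb h1 h2
  ⟨y, ⟨hX hy.1, hy.2⟩, e⟩

theorem fus_conj (h : Fus X V) (g : G) : Fus (g •ᶜ X) (g •ᶜ V) := fun a ha b hb h1 h2 => by
  obtain ⟨c, hc, rfl⟩ := mem_conj_iff_exists.1 ha
  obtain ⟨d, hd, rfl⟩ := mem_conj_iff_exists.1 hb
  obtain ⟨y, hy, e⟩ := h c hc d hd (fun e => h1 (by simp [e])) (fun e => h2 (by simp [e]))
  exact ⟨g * y * g⁻¹, by rw [norm_conj, ← conj_inf]; exact conj_mem_conj.2 hy, by rw [← e]; group⟩

theorem fus_conj' (h : Fus X V) (hg : g ∈ X) : Fus X (g •ᶜ V) :=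
  conj_eq_of_mem hg ▸ fus_conj h g

variable [Finite G]

theorem odd_od (X : Subgroup G) : Odd (Nat.card (od X)) :=
  Nat.odd_iff.2 (Nat.two_dvd_ne_zero.1 (p'core_not_dvd 2 X))

theorem nd2 {m : ℕ} (h : Odd m) : ¬ 2 ∣ m := Nat.two_dvd_ne_zero.2 (Nat.odd_iff.1 h)

theorem odd_nd2 {m : ℕ} (h : ¬ 2 ∣ m) : Odd m := Nat.odd_iff.2 (Nat.two_dvd_ne_zero.1 h)

theorem sol_od (X : Subgroup G) : Group.IsSolvable (od X) := feit_thompson (odd_od X)

theorem pnil_sol (h : PNil 2 X) : Group.IsSolvable X :=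
  sol_of_quo (sol_od X) (pcore_normal _ X).norm (pgroup_sol h.quo_pgroup)

theorem shape (hD : Dih G) (hQ : IsPGroup 2 Q) : IsCyclic Q ∨ Klein Q ∨ ∃ f x, D8 Q f x := by
  refine (hD Q hQ).elim (fun h => or_iff_not_imp_left.2 fun hc => .inl ?_) fun h => .inr (.inr h)
  have h4 : Nat.card Q = 2 ^ 2 := by
    rcases (Nat.dvd_prime_pow Nat.prime_two).1 (card_dvd_of_le_pow (n := 2) hQ h) with ⟨i, hi, e⟩
    interval_cases i
    · exact absurd (Subgroup.card_eq_one.1 e ▸ zpowers_one_eq_bot (G := G) ▸ cycle_cyclic 1) hc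
    · exact absurd (prime_cyclic (e ▸ Nat.prime_two)) hc
    · exact e
  refine ⟨h4, fun t ht => ?_⟩
  by_cases e : t = 1
  · rw [e, mul_one]
  · rw [← pow_two, ← abelem_order_p (p2group_noncyclic_abelem h4 hc) ht e, pow_orderOf_eq_one]

theorem card_le8 (hD : Dih G) (hQ : IsPGroup 2 Q) : Nat.card Q ≤ 8 :=
  (hD Q hQ).elim (fun h => by omega) fun ⟨_, _, h⟩ => h.card.le

theorem d8_syl (hD : Dih G) (h : D8 A f x) (hA : A ≤ X) : Syl 2 A X :=
  max_pgroup_Sylow hA (d8_pgroup h) fun _ h1 _ h3 =>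
    (card_eq_of_le h1 (h.card ▸ card_le8 hD h3)).symm

/-- a 2-group containing a four-group -/
theorem shape' (hD : Dih G) (hQ : IsPGroup 2 Q) (hV : Klein V) (h : V ≤ Q) :
    V = Q ∨ ∃ f x, D8 Q f x ∧ V = ⟪f ^ 2⟫ ⊔ ⟪x⟫ := by
  refine (hD Q hQ).imp (fun e => card_eq_of_le h (hV.1 ▸ e)) fun ⟨f, x, e⟩ => ?_
  exact (d8_klein_eq e hV h).elim (fun e' => ⟨f, x, e, e'⟩) fun e' => ⟨f, x * f, d8_swap e, e'⟩

theorem klein_meet (hD : Dih G) (hQ : IsPGroup 2 Q) (hV : Klein V) (hW : Klein W) (h : V ≤ Q)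
    (h' : W ≤ Q) : ∃ v ∈ V ⊓ W, v ≠ 1 := by
  rcases hD Q hQ with e | ⟨f, x, e⟩
  · rw [card_eq_of_le h (hV.1 ▸ e), card_eq_of_le h' (hW.1 ▸ e), inf_idem,
      ← card_eq_of_le h (hV.1 ▸ e)]
    exact exists_ne_one hV.ne_bot
  · refine ⟨f ^ 2, ⟨?_, ?_⟩, d8_c_ne e⟩
    · rcases d8_klein_eq e hV h with r | r <;> rw [r] <;> exact d8_cT
    · rcases d8_klein_eq e hW h' with r | r <;> rw [r] <;> exact d8_cT

/-- a four-group is self-centralizing among the 2-elements -/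
theorem klein_self (hD : Dih G) (hV : Klein V) (hQ : IsPGroup 2 Q) (h : Q ≤ 𝐂[V]) : Q ≤ V := by
  have h2 := pgroup_sup hV.pgroup hQ (cents_norm h)
  rcases shape' hD h2 hV le_sup_left with e | ⟨f, x, e, r⟩
  · exact le_sup_right.trans e.ge
  · exact (le_inf le_sup_right (r ▸ h)).trans ((d8_cent e).trans r.ge)

theorem odd_cent (hD : Dih G) (hQ : IsPGroup 2 Q) (hn : n ∈ 𝐍[Q]) (ho : Odd (orderOf n))
    (hK : Klein Q → n ∈ 𝐂[Q]) : n ∈ 𝐂[Q] := by
  have hc : (Nat.card Q).Coprime (Nat.card ⟪n⟫) :=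
    coprime_pgroup hQ (by rw [Nat.card_zpowers]; exact nd2 ho)
  rcases shape hD hQ with h | h | ⟨f, x, h⟩
  · refine zpowers_le.1 (cents_cyclic_pgroup h hQ (zpowers_le.2 hn) fun q hq hd => ⟨?_, ?_⟩)
    · exact ne_two_of_odd_of_dvd ho (Nat.card_zpowers n ▸ hd)
    · exact hq.not_dvd_one
  · exact hK h
  · have h1 : n ∈ 𝐍[⟪f ^ 2⟫ ⊔ ⟪x⟫] := conj_eq_iff_mem_norm.1
      (d8_conj_eq h (d8_syl hD h (normG Q)) hn (conj_le_of_mem_norm hn (d8_TA h)))
    have h2 : n * f ^ 2 * n⁻¹ = f ^ 2 := (d8_center h ((memJ_norm hn).2 (d8_TA h d8_cT))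
      ((memJ_norm (cent_norm Q hn)).2 (d8_cA h))).resolve_left fun e => d8_c_ne h (by
        simpa using e)
    exact zpowers_le.1 (coprime_cent_selfcent (zpowers_le.2 hn) hc ⟨d8_TA h, d8_AN h⟩ (d8_cent h)
      (zpowers_le.2 (klein_fix (d8_klein h) h1 ho d8_cT (d8_c_ne h) (mul_inv_eq_iff_eq_mul.1 h2))))

theorem fus_of_sq (hV : Klein V) (hn : n ∈ X ⊓ 𝐍[V]) (h : n ^ 2 ∉ 𝐂[V]) : Fus X V := by
  intro a ha b hb h1 h2
  by_cases e : a = b
  · exact ⟨1, one_mem _, by simp [e]⟩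
  have k : ∀ m ∈ X ⊓ 𝐍[V], m ^ 2 ∉ 𝐂[V] → m * a * m⁻¹ = b ∨ m * a * m⁻¹ = b * a := fun m hm h => by
    rcases Cj.klein_mem hV ha hb h1 h2 e ((memJ_norm hm.2).2 ha) with r | r | r | r
    · exact absurd (by simpa using r) h1
    · exact absurd (klein_fix2 hV hm.2 ha h1 (mul_inv_eq_iff_eq_mul.1 r)) h
    · exact .inl r
    · exact .inr r
  rcases k n hn h with r | r
  · exact ⟨n, hn, r⟩
  rcases k n⁻¹ (inv_mem hn) (by rwa [inv_pow, inv_mem_iff]) with r' | r'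
  · exact ⟨n⁻¹, inv_mem hn, r'⟩
  have h4 := klein_fix2 hV (pow_mem hn.2 2) ha h1 (show n ^ 2 * a = a * n ^ 2 by
    calc n ^ 2 * a = n * (n * a * n⁻¹) * n := by rw [pow_two]; group
      _ = a * n ^ 2 := by rw [r, ← r', pow_two]; group)
  have h3 := (klein_or hV hn.2).resolve_left h
  rw [← pow_mul] at h4
  exact absurd (pow_mem (mem_of_pow_coprime h4 h3 (by norm_num)) 2) h

theorem fus_of_odd (hV : Klein V) (hn : n ∈ X ⊓ 𝐍[V]) (ho : Odd (orderOf n)) (h : n ∉ 𝐂[V]) :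
    Fus X V := fus_of_sq hV hn fun e => h (mem_of_sq_odd ho e)

/-- an involution fixed by `N_X(V)` prevents fusion -/
theorem not_fus (hV : Klein V) (ht : t ∈ V) (h1 : t ≠ 1) (h : X ⊓ 𝐍[V] ≤ 𝐂₁[t]) : ¬ Fus X V :=
  fun hF => hV.not_cyclic (cyclicS (B := ⟪t⟫) (fun b hb => by
    by_cases e : b = 1
    · rw [e]; exact one_mem _
    obtain ⟨y, hy, r⟩ := hF t ht b hb h1 e
    rw [← r, mem_cent1.1 (h hy), mul_inv_cancel_right]
    exact mem_zpowers t) (cycle_cyclic t))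

theorem not_fus_pgroup (hV : Klein V) (h : IsPGroup 2 ↥(X ⊓ 𝐍[V])) : ¬ Fus X V :=
  let ⟨_, ht, h1⟩ := exists_ne_one (nontrivial_cent_pgroup h hV.pgroup inf_le_right hV.ne_bot)
  not_fus hV ht.1 h1 (le_cent1.2 ht.2)

/-- a fused four-group has an element of odd order acting non-trivially -/
theorem Fus.exists_odd (hV : Klein V) (h : Fus X V) :
    ∃ n ∈ X ⊓ 𝐍[V], Odd (orderOf n) ∧ n ∉ 𝐂[V] := by
  by_contra hn
  push Not at hn
  obtain ⟨P, hP⟩ := Sylow_exists 2 (X ⊓ 𝐍[V])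
  obtain ⟨t, ht, h1⟩ := exists_ne_one (nontrivial_cent_pgroup hP.pgroup hV.pgroup
    (hP.le.trans inf_le_right) hV.ne_bot)
  refine not_fus hV ht.1 h1 (le_of_exists_syl fun p hp _ => ?_) h
  haveI := Fact.mk hp
  by_cases e : p = 2
  · subst e; exact ⟨P, hP, le_cent1.2 ht.2⟩
  · obtain ⟨R, hR⟩ := Sylow_exists p (X ⊓ 𝐍[V])
    exact ⟨R, hR, fun y hy => cent_le_cent1 ht.1 (hn y (hR.le hy)
      ((odd_card_of_pgroup hR.pgroup e).of_dvd_nat (orderOf_dvd_natCard R hy)))⟩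

theorem pnil (hD : Dih G) (h : ∀ V, Klein V → V ≤ X → ¬ Fus X V) : PNil 2 X :=
  Frobenius_normal_complement fun P hP h2 _ _ hx e =>
    odd_cent hD h2 hx.2 (odd_nd2 (piElt_compl.1 e)) fun hK => by_contra fun c =>
      h P hK hP (fus_of_odd hK hx (odd_nd2 (piElt_compl.1 e)) c)

theorem pnil' (hD : Dih G) (hS : Syl 2 S X) (h : ∀ V, Klein V → V ≤ S → ¬ Fus X V) : PNil 2 X :=
  pnil hD fun V hV hX hF =>
    let ⟨g, hg, e⟩ := Sylow_Jsub hS hX hV.pgroup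
    h _ (klein_conj hV g) e (fus_conj' hF hg)

/-- the centralizer of an involution is 2-nilpotent -/
theorem cent1_pnil (hD : Dih G) (ht : orderOf t = 2) : PNil 2 𝐂₁[t] :=
  pnil hD fun V hV h => not_fus hV (zpowers_le.1 (klein_self hD hV
    (prime_pgroup ((Nat.card_zpowers t).trans ht)) (zpowers_le.2 (le_cent1.1 h))))
    (fun e => by simp [e] at ht) inf_le_left

theorem cent1_sol (hD : Dih G) (ht : orderOf t = 2) : Group.IsSolvable 𝐂₁[t] :=
  pnil_sol (cent1_pnil hD ht)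

/-- an odd-order subgroup centralizing the involution `t` lies in `O(C(t))` -/
theorem le_oc (hD : Dih G) (ht : orderOf t = 2) (hY : Y ≤ 𝐂₁[t]) (ho : Odd (Nat.card Y)) :
    Y ≤ oc t := (sub_Hall_pcore (cent1_pnil hD ht) hY).2 (piSub_compl.2 (nd2 ho))

theorem norm_sol (hD : Dih G) (hV : Klein V) : Group.IsSolvable 𝐍[V] := by
  obtain ⟨t, ht, h1⟩ := exists_ne_one hV.ne_bot
  obtain ⟨P, hP⟩ := Sylow_exists 2 𝐍[V]
  have hn := hP.le.trans (cent_norm V)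
  refine sol_of_quo (solvableS (cent_le_cent1 ht) (cent1_sol hD (hV.orderOf ht h1))) (cent_norm V)
    (Core.sol_of_cyclic (hP.quo hn) ?_)
  have := index_cent_p2group_dvd hP.pgroup hP.le hV.pgroup hV.1.le
  rw [← card_quotient hn] at this
  rcases (Nat.dvd_prime Nat.prime_two).1 this with e | e
  · exact Subgroup.card_eq_one.1 e ▸ zpowers_one_eq_bot (G := FT.Q 𝐂[V]) ▸ cycle_cyclic 1
  · exact prime_cyclic (e ▸ Nat.prime_two)

/-- 2-local subgroups are solvable -/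
theorem loc_sol (hD : Dih G) (hQ : IsPGroup 2 Q) (h1 : Q ≠ ⊥) : Group.IsSolvable 𝐍[Q] := by
  obtain ⟨B, hB, hl⟩ := minnormal_exists h1 (le_refl 𝐍[Q])
  have h2 := hQ.to_le hl
  have ha := hB.abelem h2
  rcases shape hD h2 with h | h | ⟨f, x, h⟩
  · have hc := cyclic_abelem_prime ha h hB.ne_bot
    obtain ⟨t, ht, ot⟩ := exists_order_p h2 hB.ne_bot
    exact solvableS ((cents_prime_of_coprime (hc ▸ Nat.prime_two) hB.norm (by simp [hc])).trans
      (cent_le_cent1 ht)) (cent1_sol hD ot)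
  · exact solvableS hB.norm (norm_sol hD h)
  · exact absurd ha.1 (d8_nab h)

theorem d8_quo (h : D8 A f x) (hn : A ≤ 𝐍[K]) (ho : Odd (Nat.card K)) :
    D8 (A ⁄ K) (coset K f) (coset K x) := by
  have hi : K ⊓ A = ⊥ := coprime_TIg (coprime_pgroup (d8_pgroup h) (nd2 ho)).symm
  have hf := hn (d8_fA h)
  have hx := hn (d8_xA h)
  have o : ∀ a ∈ A, orderOf (coset K a) = orderOf a := fun a ha => by
    have hz := zpowers_le.2 ha
    rw [← Nat.card_zpowers, ← Nat.card_zpowers, ← quotient_cycle (hn ha),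
      card_quotient_of_TI (hz.trans hn) (eq_bot_iff.2 (hi ▸ inf_le_inf_left K hz))]
  refine ⟨(o f (d8_fA h)).trans h.of, (o x (d8_xA h)).trans h.ox, ?_, ?_, ?_⟩
  · rw [← coset_conj hx hf, h.inv, coset_inv]
  · rw [← quotient_cycle hf, ← quotient_cycle hx, ← quotientY (zpowers_le.2 hf) (zpowers_le.2 hx),
      ← h.gen]
  · rw [card_quotient_of_TI hn hi, h.card]

theorem dih_quo (hD : Dih G) (ho : Odd (Nat.card K)) : Dih (FT.Q K) := fun R hR => by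
  obtain ⟨T, hT⟩ := Sylow_exists 2 (pre K R)
  have hn := hT.le.trans (pre_le_norm R)
  have e := hT.quo hn
  rw [cosetpreK] at e
  rw [← e.eq_self hR]
  exact (hD T hT.pgroup).imp (Nat.le_of_dvd Nat.card_pos (dvdn_quotient T K)).trans
    fun ⟨f, x, h⟩ => ⟨_, _, d8_quo h hn ho⟩

theorem fus_quo (h : Fus X V) (hX : X ≤ 𝐍[K]) : Fus (X ⁄ K) (V ⁄ K) := by
  intro a ha b hb h1 h2
  obtain ⟨c, hc, na, rfl⟩ := mem_quo.1 ha
  obtain ⟨d, hd, -, rfl⟩ := mem_quo.1 hb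
  obtain ⟨y, hy, e⟩ := h c hc d hd (fun e => h1 (e ▸ coset_one K)) (fun e => h2 (e ▸ coset_one K))
  exact ⟨_, quotient_subnorm X V K (mem_quotient K hy), by rw [← coset_conj (hX hy.1) na, e]⟩

theorem sol0 (hD : Dih G) (hs : Group.IsSolvable X) (h0 : od X = ⊥) (hV : Klein V) (hX : V ≤ X) :
    (∀ Y : Subgroup G, Y ≤ X → Odd (Nat.card Y) → V ≤ 𝐍[Y] → Y = ⊥) ∧ (Fus X V → V ⊴ X) := by
  have hQ := pcore_pgroup' 2 X
  have hn := pcore_normal {2} X
  have k : ∀ y ∈ X, Odd (orderOf y) → y ∈ 𝐂[core {2} X] → y = 1 := fun y hy ho c =>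
    ((pcore_pgroup _ X).piElt (cent_sub_pcore hs h0 ⟨hy, c⟩)).eq_one (piElt_compl.2 (nd2 ho))
  have m : Klein (core {2} X) → ∃ v ∈ core {2} X ⊓ V, v ≠ 1 := fun hK =>
    klein_meet hD (pgroup_sup hQ hV.pgroup (hX.trans hn.norm)) hK hV le_sup_left le_sup_right
  refine ⟨fun Y hY ho hN => (eq_bot_iff_forall _).2 fun y hy => ?_, fun hF => ?_⟩
  · have oy := ho.of_dvd_nat (orderOf_dvd_natCard Y hy)
    refine k y (hY hy) oy (odd_cent hD hQ (hn.norm (hY hy)) oy fun hK => ?_)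
    obtain ⟨v, hv, h1⟩ := m hK
    refine klein_fix hK (hn.norm (hY hy)) oy hv.1 h1 (commutatorElement_eq_one_iff_commute.1
      (mem_bot.1 (coprime_TIg (coprime_pgroup hQ (nd2 ho)) ▸ mem_inf.2 ⟨?_, ?_⟩)))
    · exact commg_subr.2 (hY.trans hn.norm) (mem_commg hy hv.1)
    · exact commg_subl.2 hN (mem_commg hy hv.2)
  · obtain ⟨y, hy, oy, c⟩ := Fus.exists_odd hV hF
    have hK : Klein (core {2} X) := by_contra fun hK => c (by
      rw [k y hy.1 oy (odd_cent hD hQ (hn.norm hy.1) oy fun e => absurd e hK)]; exact one_mem _)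
    obtain ⟨v, hv, h1⟩ := m hK
    rwa [card_eq_of_le (H := V) (K := core {2} X) (fun b hb => by
      by_cases e : b = 1
      · rw [e]; exact one_mem _
      obtain ⟨z, hz, r⟩ := hF v hv.2 b hb h1 e
      exact r ▸ hn.conj_mem hz.1 hv.1) (hK.1.trans hV.1.symm).le]

end Fr

open Cfsg.FT Cfsg.Gag Fr

universe u

theorem stFrob : StFrob.{u} := fun _ _ _ _ _ hD hS h => ((pnil' hD hS h).sdprod hS).sup_eq

theorem stSol : StSol.{u} := by
  intro G _ _ X V hD hs hV hX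
  have hn := pcore_normal {2}ᶜ X
  have := sol0 (dih_quo hD (odd_od X)) (quotient_sol (od X) hs) (trivg_pcore_quotient _ X)
    (hV.quo (hX.trans hn.norm) (odd_od X)) (quotientS _ hX)
  refine ⟨fun Y hY ho hN => (quotient_sub1 (hY.trans hn.norm)).1
    (this.1 _ (quotientS _ hY) (quotient_odd _ ho) (quotient_norms _ hN)), fun hF => ?_⟩
  rw [sup_comm, ← quotientK (hX.trans hn.norm)]
  exact (this.2 (fus_quo hF hn.norm)).pre hn

end Cfsg.GW
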