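import Cfsg.Agent.GW.L2

/-! Automorphisms of `PSL₂(F)` are semilinear. -/

set_option autoImplicit false
set_option linter.unusedSectionVars false

namespace Cfsg.GW.L2

open Subgroup Cfsg.FT
open scoped Pointwise MatrixGroups

variable {F : Type*} [Field F] {B C : SL(2, F)} {a b c : F}

/-- upper unitriangular matrix -/
def U (a : F) : SL(2, F) := mobMk 1 a 0 1 (by simp)

/-- lower unitriangular matrix -/
def Lo (a : F) : SL(2, F) := mobMk 1 0 a 1 (by simp)

theorem U_add (a b : F) : U a * U b = U (a + b) := by simp [ext2, mul2, U, add_comm]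

theorem Lo_add (a b : F) : Lo a * Lo b = Lo (a + b) := by simp [ext2, mul2, Lo]

theorem U_zero : U (0 : F) = 1 := by simp [ext2, U]

theorem Lo_zero : Lo (0 : F) = 1 := by simp [ext2, Lo]

theorem U_pow (a : F) (n : ℕ) : U a ^ n = U (n * a) := by
  induction n with
  | zero => simp [U_zero]
  | succ n ih => rw [pow_succ, ih, U_add, Nat.cast_succ, add_mul, one_mul]

theorem U_inv (a : F) : (U a)⁻¹ = U (-a) :=
  inv_eq_of_mul_eq_one_right (by rw [U_add, add_neg_cancel, U_zero])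

theorem T_Lo (a : F) : T F * Lo a * (T F)⁻¹ = U (-a) := by
  rw [mul_inv_eq_iff_eq_mul]; simp [ext2, mul2, U, Lo, T]

theorem gen {P : SL(2, F) → Prop} (hm : ∀ A B, P A → P B → P (A * B)) (hu : ∀ a, P (U a))
    (hl : ∀ a, P (Lo a)) (B : SL(2, F)) : P B := by
  have k : ∀ B : SL(2, F), B 1 0 ≠ 0 → P B := fun B h => by
    convert hm _ _ (hm _ _ (hu ((B 0 0 - 1) / B 1 0)) (hl (B 1 0))) (hu ((B 1 1 - 1) / B 1 0))
    have d := det2 B
    simp only [ext2, mul2, U, Lo, mobMk_00, mobMk_01, mobMk_10, mobMk_11]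
    refine ⟨?_, ?_, ?_, ?_⟩ <;> field_simp
    · ring
    · linear_combination -d
    · ring
    · ring
  by_cases h : B 1 0 = 0
  · convert hm _ _ (k (B * Lo 1) fun e => by
      have d := det2 B
      simp [mul2, Lo, h] at e
      simp [e, h] at d) (hl (-1))
    rw [mul_assoc, Lo_add, add_neg_cancel, Lo_zero, mul_one]
  · exact k B h

theorem eq_U (h : B 0 0 + B 1 1 = 2) (e : B 1 0 = 0) : B = U (B 0 1) := by
  have d := det2 B
  have : (B 0 0 - 1) ^ 2 = 0 := by linear_combination B 0 0 * h - d - B 0 1 * e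
  have := sub_eq_zero.1 (pow_eq_zero_iff two_ne_zero |>.1 this)
  simp only [ext2, U, mobMk_00, mobMk_01, mobMk_10, mobMk_11, this, e, true_and]
  linear_combination h - this

theorem conj_Lo (h : B 0 0 + B 1 1 = 2) (e : B 1 0 ≠ 0) :
    ∃ s, U s * B * (U s)⁻¹ = Lo (B 1 0) := by
  have d := det2 B
  refine ⟨(1 - B 0 0) / B 1 0, mul_inv_eq_iff_eq_mul.2 ?_⟩
  simp only [ext2, mul2, U, Lo, mobMk_00, mobMk_01, mobMk_10, mobMk_11]
  refine ⟨?_, ?_, ?_, ?_⟩ <;> field_simp
  · ring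
  · linear_combination h - d
  · ring
  · linear_combination h

variable {G : Type*} [Group G] {π : SL(2, F) →* G} {x y : G} {A A' : Matrix (Fin 2) (Fin 2) F}
  {σ σ' : F ≃+* F}

/-- `x` acts on the image of `π` as the semilinear map `(A, σ)` -/
def Rep (π : SL(2, F) →* G) (x : G) (A : Matrix (Fin 2) (Fin 2) F) (σ : F ≃+* F) : Prop :=
  A.det ≠ 0 ∧ ∀ B : SL(2, F), ∃ B' : SL(2, F), x * π B * x⁻¹ = π B' ∧ B'.1 * A = A * B.1.map σ

theorem Rep.mul (h : Rep π x A σ) (h' : Rep π y A' σ') :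
    Rep π (x * y) (A * A'.map σ) (σ * σ') := by
  refine ⟨?_, fun B => ?_⟩
  · rw [Matrix.det_mul]
    exact mul_ne_zero h.1 (by rw [← RingEquiv.mapMatrix_apply, ← RingEquiv.map_det]; simpa using h'.1)
  obtain ⟨B', e, f⟩ := h'.2 B
  obtain ⟨B'', e', f'⟩ := h.2 B'
  refine ⟨B'', by rw [← e', ← e]; group, ?_⟩
  rw [← mul_assoc, f', mul_assoc, mul_assoc, ← Matrix.map_mul, f, Matrix.map_mul, Matrix.map_map]
  rfl

theorem rep_pi (C : SL(2, F)) : Rep π (π C) C.1 1 :=
  ⟨by simp, fun B => ⟨C * B * C⁻¹, by simp, by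
    rw [← Matrix.SpecialLinearGroup.coe_mul, inv_mul_cancel_right]; rfl⟩⟩

theorem Rep.pow (h : Rep π x A σ) (n : ℕ) : ∃ A', Rep π (x ^ n) A' (σ ^ n) := by
  induction n with
  | zero => exact ⟨_, by simpa using rep_pi (π := π) 1⟩
  | succ n ih => exact ⟨_, pow_succ x n ▸ pow_succ σ n ▸ ih.choose_spec.mul h⟩

theorem Rep.inner (h : Rep π x A 1) (hc : c * c = A.det) :
    ∃ C : SL(2, F), c • C.1 = A ∧ (π C)⁻¹ * x ∈ 𝐂[π.range] := by
  have c0 : c ≠ 0 := fun e => h.1 (by rw [← hc, e, mul_zero])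
  obtain ⟨C, hC⟩ : ∃ C : SL(2, F), C.1 = c⁻¹ • A :=
    ⟨⟨_, by rw [Matrix.det_smul, ← hc]; simp; field_simp⟩, rfl⟩
  refine ⟨C, hC ▸ smul_inv_smul₀ c0 A, ?_⟩
  rintro _ ⟨B, rfl⟩
  obtain ⟨B', e, f⟩ := h.2 B
  rw [mul_inv_eq_iff_eq_mul] at e
  rw [mul_assoc, e, ← mul_assoc, ← mul_assoc, mul_left_inj, mul_inv_eq_iff_eq_mul, mul_assoc,
    eq_inv_mul_iff_mul_eq, ← map_mul, ← map_mul]
  exact congrArg π (Subtype.ext (by simpa [hC] using congrArg (c⁻¹ • ·) f.symm))

theorem aut_comm [Finite F] (σ σ' : F ≃+* F) : σ * σ' = σ' * σ := by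
  obtain ⟨g, hg⟩ := IsCyclic.exists_monoid_generator (α := Fˣ)
  have k : ∀ τ : F ≃+* F, ∃ n : ℕ, ∀ c, τ c = c ^ (n + 1) := fun τ => by
    obtain ⟨n, hn⟩ := hg (Units.map (τ : F →* F) g * g⁻¹)
    refine ⟨n, fun c => (eq_or_ne c 0).elim (by rintro rfl; simp) fun c0 => ?_⟩
    obtain ⟨m, hm⟩ := hg (Units.mk0 c c0)
    have hm : (g : F) ^ m = c := by simpa using congrArg Units.val hm
    have hn : (g : F) ^ (n + 1) = τ g := by
      simpa [pow_succ, eq_mul_inv_iff_mul_eq₀] using congrArg Units.val hn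
    rw [← hm, map_pow, ← hn, ← pow_mul, ← pow_mul, mul_comm]
  obtain ⟨n, hn⟩ := k σ
  obtain ⟨m, hm⟩ := k σ'
  ext c
  simp only [RingAut.mul_apply, hn, hm, ← pow_mul, mul_comm]

theorem card_fix [Fintype F] (σ : F ≃+* F) :
    Fintype.card F = Nat.card {c // σ c = c} ^ orderOf σ ∧ 1 < Nat.card {c // σ c = c} := by
  classical
  have : Finite (F ≃+* F) := Finite.of_injective _ DFunLike.coe_injective
  have := Fintype.ofFinite (zpowers σ)
  have := Fintype.ofFinite (FixedPoints.subfield (zpowers σ) F)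
  have e : Nat.card {c // σ c = c} = Fintype.card (FixedPoints.subfield (zpowers σ) F) := by
    rw [← Nat.card_eq_fintype_card]
    refine Nat.card_congr (Equiv.subtypeEquivRight fun c => ⟨fun h g => ?_, fun h => h ⟨σ, mem_zpowers σ⟩⟩)
    exact (zpowers_le (g := σ) (H := MulAction.stabilizer _ c)).2 h g.2
  rw [e, ← Nat.card_zpowers, Nat.card_eq_fintype_card, ← FixedPoints.finrank_eq_card (zpowers σ) F]
  exact ⟨Module.card_eq_pow_finrank, Fintype.one_lt_card⟩

variable (hk : ∀ A, π A = 1 ↔ A = 1 ∨ A = -1) (h2 : (2 : F) ≠ 0)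
include hk

theorem pi_eq : π B = π C ↔ B = C ∨ B = -C := by
  rw [← mul_inv_eq_one, ← map_inv, ← map_mul, hk, mul_inv_eq_one, mul_inv_eq_iff_eq_mul,
    neg_mul, one_mul]

theorem pi_neg (B : SL(2, F)) : π (-B) = π B := (pi_eq hk).2 (Or.inr rfl)

theorem unip {p : ℕ} [Fact p.Prime] [CharP F p] (hp : Odd p) (h : π B ^ p = 1) :
    ∃ B' : SL(2, F), π B' = π B ∧ B' 0 0 + B' 1 1 = 2 := by
  have k : ∀ B : SL(2, F), B ^ p = 1 → B 0 0 + B 1 1 = 2 := fun B e => by
    have := sub_pow_char_of_commute p (Commute.one_right B.1)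
    rw [← Matrix.SpecialLinearGroup.coe_pow, e, one_pow, Matrix.SpecialLinearGroup.coe_one,
      sub_self] at this
    have := congrArg Matrix.det this
    rw [Matrix.det_pow, Matrix.det_zero, pow_eq_zero_iff hp.pos.ne', Matrix.det_fin_two] at this
    simp at this
    linear_combination det2 B - this
  rcases (hk _).1 ((map_pow π B p).trans h) with e | e
  · exact ⟨B, rfl, k B e⟩
  · exact ⟨-B, pi_neg hk B, k _ (by rw [hp.neg_pow, e, neg_neg])⟩

include h2

theorem comm_U (hb : b ≠ 0) (h : π B * π (U b) = π (U b) * π B) : ∃ a, π B = π (U a) := by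
  have d := det2 B
  rw [← map_mul, ← map_mul, pi_eq hk] at h
  simp only [ext2, mul2, neg2, U, mobMk_00, mobMk_01, mobMk_10, mobMk_11] at h
  rcases h with h | h
  · have e : B 1 0 = 0 := mul_left_cancel₀ hb (by linear_combination -h.1)
    have e' : B 1 1 = B 0 0 := mul_left_cancel₀ hb (by linear_combination -h.2.1)
    rw [e, e', mul_zero, sub_zero, mul_self_eq_one_iff] at d
    rcases d with d | d
    · exact ⟨_, congrArg π (eq_U (by rw [e', d]; ring) e)⟩
    · exact ⟨_, (pi_neg hk B).symm.trans (congrArg π (eq_U (by rw [neg2, neg2, e', d]; ring)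
        (by rw [neg2, e, neg_zero])))⟩
  have e : B 1 0 = 0 := mul_left_cancel₀ h2 (by linear_combination h.2.2.1)
  have e' : B 0 0 = 0 := mul_left_cancel₀ h2 (by linear_combination h.1 - b * e)
  simp [e, e'] at d

theorem U_inj (h : π (U a) = π (U b)) : a = b := by
  rcases (pi_eq hk).1 h with h | h <;>
    simp only [ext2, neg2, U, mobMk_00, mobMk_01, mobMk_10, mobMk_11] at h
  · exact h.2.1
  · exact absurd (by linear_combination h.1) h2

theorem rep_of_fix [Finite F] (hx : ∀ B, ∃ B', x * π B * x⁻¹ = π B') (hb : b ≠ 0) (hc : c ≠ 0)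
    (e1 : x * π (U 1) * x⁻¹ = π (U b)) (e2 : x * π (Lo 1) * x⁻¹ = π (Lo c)) :
    ∃ A σ, Rep π x A σ := by
  have : ∀ a, ∃ a', x * π (U a) * x⁻¹ = π (U a') := fun a => by
    obtain ⟨B, e⟩ := hx (U a)
    rw [e]
    exact comm_U hk h2 hb (by
      rw [← e, ← e1, conj_mul, conj_mul, ← map_mul, ← map_mul, U_add, U_add, add_comm])
  choose φ hφ using this
  have : ∀ a, ∃ a', x * π (Lo a) * x⁻¹ = π (Lo a') := fun a => by
    obtain ⟨B, e⟩ := hx (Lo a)
    obtain ⟨a', e'⟩ := comm_U hk h2 (B := T F * B * (T F)⁻¹) (neg_ne_zero.2 hc) (by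
      simp only [← T_Lo, map_mul, map_inv, conj_mul, ← e, ← e2]
      rw [← map_mul, ← map_mul, Lo_add, Lo_add, add_comm])
    refine ⟨-a', ?_⟩
    rw [← neg_neg a', ← T_Lo] at e'
    simpa [e] using e'
  choose ψ hψ using this
  have φ1 : φ 1 = b := U_inj hk h2 ((hφ 1).symm.trans e1)
  have add : ∀ a a', φ (a + a') = φ a + φ a' := fun a a' => U_inj hk h2 (by
    rw [← hφ, ← U_add, ← U_add, map_mul, map_mul, ← hφ, ← hφ, conj_mul])
  have φ0 : φ 0 = 0 := by simpa using add 0 0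
  have key : ∀ a z, a ≠ 0 → ψ (-z / a ^ 2) * φ a ^ 2 = -φ z := fun a z ha => by
    have e : U a * Lo (-a⁻¹) * U a * U z = Lo (-z / a ^ 2) * (U a * Lo (-a⁻¹) * U a) := by
      simp only [ext2, mul2, U, Lo, mobMk_00, mobMk_01, mobMk_10, mobMk_11]
      refine ⟨?_, ?_, ?_, ?_⟩ <;> field_simp <;> ring
    have e' := congrArg (fun g => x * π g * x⁻¹) e
    simp only [map_mul, ← conj_mul, hφ, hψ] at e'
    simp only [← map_mul, pi_eq hk, ext2, mul2, neg2, U, Lo, mobMk_00, mobMk_01, mobMk_10,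
      mobMk_11] at e'
    rcases e' with ⟨-, h1, h3, h4⟩ | ⟨h1, h3, -⟩
    · linear_combination h1 - φ a * h4 + φ a ^ 2 * h3
    have m : 1 + φ a * ψ (-a⁻¹) = 0 := mul_left_cancel₀ h2 (by linear_combination h1)
    have : φ a = 0 := mul_left_cancel₀ h2 (by linear_combination h3 - (2 * φ a + φ z) * m)
    simp [this] at m
  have sq : ∀ a, φ (a ^ 2) * b = φ a ^ 2 := fun a => by
    by_cases ha : a = 0
    · simp [ha, φ0]
    have k1 := key a (a ^ 2) ha
    have k2 := key 1 1 one_ne_zero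
    rw [neg_div, div_self (pow_ne_zero 2 ha)] at k1
    rw [neg_div, one_pow, div_one, φ1] at k2
    exact mul_left_cancel₀ hb (by linear_combination b ^ 2 * k1 - φ a ^ 2 * k2)
  let σ₀ : F →+* F :=
    { toFun := fun a => φ a / b
      map_one' := by rw [φ1, div_self hb]
      map_zero' := by rw [φ0, zero_div]
      map_add' := fun a a' => by rw [add, add_div]
      map_mul' := fun a a' => by
        have := sq (a + a')
        rw [add_sq, two_mul, add_mul, add, add, add, add] at this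
        field_simp
        exact mul_left_cancel₀ h2 (by linear_combination this - sq a - sq a') }
  let σ := RingEquiv.ofBijective σ₀ (Finite.injective_iff_bijective.1 σ₀.injective)
  have hσ : ∀ a, σ a = φ a / b := fun _ => rfl
  refine ⟨!![b, 0; 0, 1], σ, by simpa using hb, gen ?_ (fun a => ⟨_, hφ a, ?_⟩) fun a => ⟨_, hψ a, ?_⟩⟩
  · rintro A B ⟨A', e, f⟩ ⟨B', e', f'⟩
    refine ⟨A' * B', by rw [map_mul, map_mul, ← e, ← e', conj_mul], ?_⟩
    rw [Matrix.SpecialLinearGroup.coe_mul, Matrix.SpecialLinearGroup.coe_mul, mul_assoc, f',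
      ← mul_assoc, f, mul_assoc, Matrix.map_mul]
  · ext i j
    fin_cases i <;> fin_cases j <;> simp [U, mobMk, Matrix.mul_apply, hσ, φ0, φ1, hb]
    field_simp
  · have := key 1 (-a) one_ne_zero
    ext i j
    fin_cases i <;> fin_cases j <;> simp [Lo, mobMk, Matrix.mul_apply, hσ, φ0, φ1, hb]
    have n := add a (-a)
    rw [add_neg_cancel, φ0] at n
    rw [neg_neg, one_pow, div_one, φ1] at this
    field_simp
    linear_combination this + n

theorem exists_rep [Finite F] (hx : ∀ B, ∃ B', x * π B * x⁻¹ = π B') : ∃ A σ, Rep π x A σ := by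
  obtain ⟨p, _⟩ := CharP.exists F
  have := Fact.mk (CharP.char_is_prime F p)
  have hp : Odd p := this.out.odd_of_ne_two (by rintro rfl; exact h2 (CharP.cast_eq_zero F 2))
  have k : ∀ C B : SL(2, F), B ^ p = 1 → ∃ B' : SL(2, F),
      π C * x * π B * (π C * x)⁻¹ = π B' ∧ B' 0 0 + B' 1 1 = 2 := fun C B e => by
    obtain ⟨B', e'⟩ := hx B
    have e' : π C * x * π B * (π C * x)⁻¹ = π (C * B' * C⁻¹) := by simp [← e', mul_assoc]
    simp only [e', eq_comm (a := π (C * B' * C⁻¹))]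
    exact unip hk hp (by rw [← e', conj_pow, ← map_pow, e]; simp)
  obtain ⟨C, b, e1⟩ : ∃ C b, π C * x * π (U 1) * (π C * x)⁻¹ = π (U b) := by
    obtain ⟨B, e, tr⟩ := k 1 (U 1) (by simp [U_pow, U_zero])
    by_cases h : B 1 0 = 0
    · exact ⟨1, _, e.trans (congrArg π (eq_U tr h))⟩
    obtain ⟨s, hs⟩ := conj_Lo tr h
    exact ⟨T F * U s, _, by rw [← T_Lo, ← hs]; simp [← e, mul_assoc]⟩
  obtain ⟨B, e2, tr⟩ := k C (Lo 1) (by
    rw [← conj_eq_one_iff (a := T F), ← conj_pow, T_Lo, U_pow]; simp [U_zero])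
  have h : B 1 0 ≠ 0 := fun h => by
    have : π (U 1) * π (Lo 1) = π (Lo 1) * π (U 1) := by
      refine (MulAut.conj (π C * x)).injective ?_
      simp only [map_mul (MulAut.conj _), MulAut.conj_apply, e1, e2]
      rw [eq_U tr h, ← map_mul, ← map_mul, U_add, U_add, add_comm]
    rw [← map_mul, ← map_mul, pi_eq hk] at this
    simp only [ext2, mul2, neg2, U, Lo, mobMk_00, mobMk_01, mobMk_10, mobMk_11] at this
    rcases this with e | e
    · exact one_ne_zero (α := F) (by linear_combination e.1)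
    · exact h2 (by linear_combination e.2.1)
  obtain ⟨s, hs⟩ := conj_Lo tr h
  have hb : b ≠ 0 := by
    rintro rfl
    rw [U_zero, map_one, conj_eq_one_iff, ← map_one π, ← U_zero] at e1
    exact one_ne_zero (U_inj hk h2 e1)
  obtain ⟨A, σ, r⟩ := rep_of_fix hk h2 (x := π (U s * C) * x) (fun B => by
    obtain ⟨B', e⟩ := hx B
    exact ⟨U s * C * B' * (U s * C)⁻¹, by simp [← e, mul_assoc]⟩) hb h (by
    rw [map_mul, mul_assoc (π _), mul_inv_rev (π _), mul_assoc (π _), mul_assoc (π _),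
      ← mul_assoc (_ * _), e1, ← map_inv, ← map_mul, ← map_mul, U_inv, U_add, U_add]
    simp) (by rw [← hs]; simp [← e2, mul_assoc])
  exact ⟨_, _, inv_mul_cancel_left (π (U s * C)) x ▸ map_inv π _ ▸ (rep_pi (U s * C)⁻¹).mul r⟩

theorem Rep.trace (h : Rep π x A σ) (e : x * π B * x⁻¹ = π B) :
    σ (B 0 0 + B 1 1) = B 0 0 + B 1 1 ∨ σ (B 0 0 + B 1 1) = -(B 0 0 + B 1 1) := by
  obtain ⟨B', e', f⟩ := h.2 B
  have : B' 0 0 + B' 1 1 = σ (B 0 0 + B 1 1) := by
    have := congrArg (fun M => (M * A⁻¹).trace) f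
    simp only [Matrix.mul_nonsing_inv_cancel_right _ _ h.1.isUnit] at this
    rw [Matrix.trace_mul_cycle, Matrix.nonsing_inv_mul _ h.1.isUnit, one_mul] at this
    simpa [Matrix.trace_fin_two] using this
  rcases (pi_eq hk).1 (e'.symm.trans e) with rfl | rfl
  · exact Or.inl this.symm
  · exact Or.inr (by rw [← this, neg2, neg2, neg_add])

theorem Rep.one (h : Rep π 1 A σ) : σ = 1 := by
  have k : ∀ c, σ c = c ∨ σ c = -c := fun c => by
    simpa using h.trace hk h2 (B := mobMk c (-1) 1 0 (by simp)) (by simp)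
  ext c
  refine (k c).elim id fun e => (k (c + 1)).elim (fun e' => by simpa using e') fun e' => ?_
  rw [map_add, e, map_one] at e'
  exact absurd (by linear_combination e') h2

end Cfsg.GW.L2
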