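import Cfsg.Agent.GW.Defs2
import Cfsg.Agent.Gag.Conj

/-!
# S4594 core: basic facts on the minimal counterexample, lemmas (α1), (Syl), (Ob), (Loc)
-/

set_option autoImplicit false
set_option linter.unusedSectionVars false

namespace Cfsg.GW

open Subgroup Cfsg.FT Cfsg.Gag Cfsg.Gag.Fin5
open scoped Pointwise

universe u

variable {G : Type u} [Group G] [Finite G] {S A M V X Y Z R P D E : Subgroup G} {t s v g x : G}
  {p : ℕ}

theorem od_odd (X : Subgroup G) : Odd (Nat.card (od X)) :=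
  Nat.odd_iff.2 (Nat.two_dvd_ne_zero.1 (p'core_not_dvd 2 X))

theorem le_od (ho : Odd (Nat.card Y)) (hn : Y ⊴ X) : Y ≤ od X := p'core_max ho.not_two_dvd_nat hn

theorem od_sol (X : Subgroup G) : Group.IsSolvable (od X) := feit_thompson (od_odd X)

theorem cop_two (ho : Odd (Nat.card Y)) (hS : IsPGroup 2 S) : (Nat.card Y).Coprime (Nat.card S) :=
  (coprime_pgroup hS ho.not_two_dvd_nat).symm

theorem inv_pgroup (ht : orderOf t = 2) : IsPGroup 2 ⟪t⟫ :=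
  IsPGroup.of_card (n := 1) (by rw [Nat.card_zpowers, ht, pow_one])

theorem cop_inv (ho : Odd (Nat.card Y)) (ht : orderOf t = 2) :
    (Nat.card Y).Coprime (Nat.card ⟪t⟫) := cop_two ho (inv_pgroup ht)

theorem not_mem_of_odd (ho : Odd (Nat.card Y)) (ht : orderOf t = 2) : t ∉ Y := fun h =>
  ho.not_two_dvd_nat (ht ▸ orderOf_dvd_natCard Y h)

theorem odd_inf_two (ho : Odd (Nat.card Y)) (hS : IsPGroup 2 S) : Y ⊓ S = ⊥ :=
  coprime_TIg (cop_two ho hS)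

omit [Finite G] in
theorem inv_sq (ht : orderOf t = 2) : t * t = 1 := by rw [← pow_two, ← ht, pow_orderOf_eq_one]

omit [Finite G] in
theorem inv_ne_one (ht : orderOf t = 2) : t ≠ 1 := fun e => by
  rw [e, orderOf_one] at ht; omega

omit [Finite G] in
theorem inv_inv' (ht : orderOf t = 2) : t⁻¹ = t := inv_eq_of_mul_eq_one_right (inv_sq ht)

omit [Finite G] in
theorem orderOf_conj' (g x : G) : orderOf (g * x * g⁻¹) = orderOf x :=
  (MulAut.conj g).orderOf_eq x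

omit [Finite G] in
theorem norm_ne_top [IsSimpleGroup G] (h1 : X ≠ ⊥) (h2 : X ≠ ⊤) : 𝐍[X] ≠ ⊤ := fun e =>
  (norm_eq_top.1 e).eq_bot_or_eq_top.elim h1 h2

omit [Finite G] in
theorem cent_pair (t s : G) : 𝐂[⟪t⟫ ⊔ ⟪s⟫] = 𝐂₁[t] ⊓ 𝐂₁[s] := by
  rw [centY, cent_cycle, cent_cycle]

theorem klein_pair (ht : orderOf t = 2) (hs : orderOf s = 2) (hc : s ∈ 𝐂₁[t]) (hne : s ≠ t) :
    Klein (⟪t⟫ ⊔ ⟪s⟫) :=
  klein_of_inv (A := ⟪t⟫ ⊔ ⟪s⟫) (abelianY.2 ⟨inferInstance, inferInstance, by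
    rwa [cent_cycle, zpowers_le]⟩) ⟨mem_sup_left (mem_zpowers t), ht⟩
    ⟨mem_sup_right (mem_zpowers s), hs⟩ hne

theorem klein_cent (hV : Klein V) (ht : t ∈ V) (hs : s ∈ V) (h1 : t ≠ 1) (h2 : s ≠ 1) (h3 : s ≠ t) :
    𝐂[V] = 𝐂₁[t] ⊓ 𝐂₁[s] := by rw [hV.gen hs ht h2 h1 h3, cent_pair]

theorem klein_other (hV : Klein V) (t : G) : ∃ s ∈ V, s ≠ 1 ∧ s ≠ t := by
  by_contra! h
  have h1 : V ≤ ⟪t⟫ := fun s hs => by
    by_cases e : s = 1
    · exact e ▸ one_mem _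
    · exact h s hs e ▸ mem_zpowers _
  exact hV.not_cyclic (cyclicS h1 inferInstance)

/-- a prime dividing an odd group is odd -/
theorem ne_two_of_le (ho : Odd (Nat.card Y)) [Fact p.Prime] (hR : IsPGroup p R) (h : R ≤ Y)
    (hn : R ≠ ⊥) : p ≠ 2 := ne_two_of_odd_of_dvd (oddSg h ho) (pgroup_pdiv hR hn)

/-- an involution acting fixed-point-freely inverts -/
theorem inverts_of_fpf (ho : Odd (Nat.card Y)) (hs : orderOf s = 2) (hn : s ∈ 𝐍[Y])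
    (h : Y ⊓ 𝐂₁[s] = ⊥) (hx : x ∈ Y) : s * x * s = x⁻¹ := by
  have hi := inv_inv' hs
  have ha : x⁻¹ * (s * x * s⁻¹) ∈ Y := mul_mem (inv_mem hx) ((memJ_norm hn).2 hx)
  obtain ⟨k, hk⟩ := ho.of_dvd_nat (orderOf_dvd_natCard Y ha)
  have e : s * x * s⁻¹ = x * (x⁻¹ * (s * x * s⁻¹)) := by group
  have h1 : s * (x⁻¹ * (s * x * s⁻¹)) * s⁻¹ = (x⁻¹ * (s * x * s⁻¹))⁻¹ := by
    rw [hi]; simp only [mul_inv_rev, hi, inv_inv, mul_assoc, inv_sq hs, mul_one]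
  generalize x⁻¹ * (s * x * s⁻¹) = a at ha hk e h1
  have h2 : s * a ^ (k + 1) * s⁻¹ = (a ^ (k + 1))⁻¹ := by rw [← conj_pow, h1, inv_pow]
  have h3 : a ^ (k + 1) * a ^ (k + 1) = a := by
    rw [← pow_add, show k + 1 + (k + 1) = orderOf a + 1 by omega, pow_succ, pow_orderOf_eq_one,
      one_mul]
  have hb := pow_mem ha (k + 1)
  generalize a ^ (k + 1) = b at h2 h3 hb
  have h4 : x * b = 1 := mem_bot.1 (h ▸ mem_inf.2 ⟨mul_mem hx hb, mem_cent1.2 (by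
    rw [eq_comm, ← mul_inv_eq_iff_eq_mul, ← conj_mul, e, h2, ← h3]; group)⟩)
  have h5 : s * b⁻¹ * s⁻¹ = b := by rw [← conj_inv, h2, inv_inv]
  rwa [eq_inv_of_mul_eq_one_left h4, inv_inv, ← congrArg (s * b⁻¹ * ·) hi]

namespace Ctx

variable [IsSimpleGroup G] (c : Ctx S t)
include c

theorem dg (h : X ≠ ⊤) : DG X := ⟨c.dih, fun L _ _ _ hL => c.ih L (lt_of_lt_of_le hL (by
  rw [← card_top (G := G)]; exact card_lt_of_lt (lt_top_iff_ne_top.2 h)))⟩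

theorem t1 : t ≠ 1 := inv_ne_one c.ot

theorem S2 : IsPGroup 2 S := c.syl.pgroup

theorem SU : S ≤ 𝐍[oc t] := c.cen.trans (oc_norm t)

theorem cent_ne (hx : x ≠ 1) : 𝐂₁[x] ≠ ⊤ := fun e => by
  have h1 : ⟪x⟫ = ⊤ := (norm_eq_top.1 (top_le_iff.1 (e ▸ norms_cycle le_rfl))).eq_bot_or_eq_top.resolve_left
    (by simpa using hx)
  exact c.nab ⟨⟨fun a b => comm_of_abelian (cycle_abelian x) (h1 ▸ mem_top a) (h1 ▸ mem_top b)⟩⟩

theorem H_ne : 𝐂₁[t] ≠ ⊤ := c.cent_ne c.t1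

theorem ne_top_of_odd (ho : Odd (Nat.card X)) : X ≠ ⊤ := fun e =>
  not_mem_of_odd ho c.ot (e ▸ mem_top t)

theorem norm_ne (ho : Odd (Nat.card X)) (h : X ≠ ⊥) : 𝐍[X] ≠ ⊤ :=
  norm_ne_top h (c.ne_top_of_odd ho)

theorem normV_ne (hV : Klein V) : 𝐍[V] ≠ ⊤ := norm_ne_top hV.ne_bot fun e =>
  c.nab ⟨⟨fun a b => comm_of_abelian hV.ab (e ▸ mem_top a) (e ▸ mem_top b)⟩⟩

theorem hall : Hall {2}ᶜ (oc t) 𝐂₁[t] := by
  have := (hall_sup_of_norm c.SU (pcore_pgroup _ _)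
    (by rw [compl_compl]; exact piSub_singleton.2 c.S2)).1
  rwa [c.sup] at this

theorem exists_conj (hv : orderOf v = 2) : ∃ g : G, g * t * g⁻¹ = v := isConj_iff.1 (c.conj t v c.ot hv)

theorem hall' (hv : orderOf v = 2) : Hall {2}ᶜ (oc v) 𝐂₁[v] := by
  obtain ⟨g, rfl⟩ := c.exists_conj hv
  rw [oc_conj, cent1_conj]
  exact c.hall.conj g

/-- centralizers of involutions are 2-nilpotent -/
theorem odd_le (hv : orderOf v = 2) (h : Y ≤ 𝐂₁[v]) (ho : Odd (Nat.card Y)) : Y ≤ oc v :=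
  (sub_Hall_pcore (c.hall' hv) h).2 (piSub_compl.2 ho.not_two_dvd_nat)

theorem odd_mem (hv : orderOf v = 2) (h : x ∈ 𝐂₁[v]) (ho : Odd (orderOf x)) : x ∈ oc v :=
  zpowers_le.1 (c.odd_le hv (zpowers_le.2 h) (by rwa [Nat.card_zpowers]))

theorem cent_sol (hv : orderOf v = 2) : Group.IsSolvable 𝐂₁[v] := by
  obtain ⟨g, rfl⟩ := c.exists_conj hv
  rw [cent1_conj, isSolvable_conj, ← c.sup]
  exact sol_sup c.SU (od_sol _) (pgroup_sol c.S2)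

theorem od_cent (hV : Klein V) (hv : v ∈ V) (h1 : v ≠ 1) : od 𝐂[V] = oc v ⊓ 𝐂[V] :=
  le_antisymm (le_inf (c.odd_le (hV.orderOf hv h1) ((pcore_sub _ _).trans (cent_le_cent1 hv))
    (od_odd _)) (pcore_sub _ _)) (le_od (oddSg inf_le_left (oc_odd v))
      (normalIG (cent_le_cent1 hv) (pcore_normal _ _)))

theorem odd_le_W (hV : Klein V) (h : Y ≤ 𝐂[V]) (ho : Odd (Nat.card Y)) : Y ≤ od 𝐂[V] := by
  obtain ⟨v, hv, h1, -⟩ := klein_other hV 1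
  rw [c.od_cent hV hv h1]
  exact le_inf (c.odd_le (hV.orderOf hv h1) (h.trans (cent_le_cent1 hv)) ho) h

theorem W_eq (hV : Klein V) (ht : v ∈ V) (hs : s ∈ V) (h1 : v ≠ 1) (h2 : s ≠ 1) (h3 : s ≠ v) :
    od 𝐂[V] = oc v ⊓ 𝐂₁[s] := by
  rw [c.od_cent hV ht h1, klein_cent hV ht hs h1 h2 h3, ← inf_assoc, inf_eq_left.2 (oc_le v)]

theorem tV (hV : Klein V) (h : V ≤ S) : t ∈ V := by
  rcases c.shape with hS | ⟨f, x, hS, e⟩
  · exact card_eq_of_le h (by rw [hS.1, hV.1]) ▸ c.tS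
  · rcases d8_klein_eq hS hV h with rfl | rfl <;> exact e ▸ d8_cT

theorem SV (hV : Klein V) (h : V ≤ S) : S ≤ 𝐍[V] := by
  rcases c.shape with hS | ⟨f, x, hS, e⟩
  · exact sub_abelian_norm hS.ab h
  · rcases d8_klein_eq hS hV h with rfl | rfl
    exacts [d8_AN hS, d8_AN (d8_swap hS)]

theorem klein (hs : s ∈ S) (os : orderOf s = 2) (st : s ≠ t) : Klein (⟪t⟫ ⊔ ⟪s⟫) :=
  klein_pair c.ot os (c.cen hs) st

theorem pairS (hs : s ∈ S) : ⟪t⟫ ⊔ ⟪s⟫ ≤ S := sup_le (zpowers_le.2 c.tS) (zpowers_le.2 hs)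

theorem exists_klein : ∃ V : Subgroup G, Klein V ∧ V ≤ S := by
  rcases c.shape with hS | ⟨f, x, hS, -⟩
  exacts [⟨S, hS, le_rfl⟩, ⟨_, d8_klein hS, d8_TA hS⟩]

/-- Frattini: `V` is fused in the normalizer of a Sylow subgroup of `O(C(V))` -/
theorem fus_syl [Fact p.Prime] (hV : Klein V) (hD : Syl p D (od 𝐂[V])) : Fus 𝐍[D] V := by
  intro a ha b hb a1 b1
  obtain ⟨y, hy, e⟩ := c.fus V hV a ha b hb a1 b1
  obtain ⟨w, hw, n, hn, rfl⟩ := (Frattini_arg ((cent_normal V).core {2}ᶜ) hD).symm.exists_mul hy.2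
  refine ⟨w, ⟨hw.2, hw.1⟩, ?_⟩
  rw [← e, mul_inv_rev, ← mul_assoc, mul_assoc w n a, ← pcore_sub _ _ hn a ha]
  group

end Ctx

omit [Finite G] in
theorem Fus.mono (h : Fus X V) (hX : X ≤ Y) : Fus Y V := fun a ha b hb a1 b1 =>
  let ⟨y, hy, e⟩ := h a ha b hb a1 b1; ⟨y, ⟨hX hy.1, hy.2⟩, e⟩

/-- `A` is a maximal subgroup over `C(t)` normalizing `U` (`A = C(t)` or `A = N(V₁)`) -/
structure Al (t : G) (A : Subgroup G) : Prop where
  co : IsCoatom A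
  le : 𝐂₁[t] ≤ A
  nU : A ≤ 𝐍[oc t]
  fix : ∀ Y : Subgroup G, Y ≤ A → Odd (Nat.card Y) → t ∈ 𝐍[Y] → Y ≤ 𝐂₁[t]

theorem al_H (h : IsCoatom 𝐂₁[t]) : Al t 𝐂₁[t] := ⟨h, le_rfl, oc_norm t, fun _ h _ _ => h⟩

theorem cent_of_norm (hV : IsPGroup 2 V) (ho : Odd (Nat.card Y)) (h : Y ≤ 𝐍[V]) (hX : X ≤ V)
    (hn : X ≤ 𝐍[Y]) : Y ≤ 𝐂[X] := commG1P.1 (eq_bot_iff.2 ((le_inf (commg_subl.2 hn)
      ((commgS Y hX).trans (commg_subr.2 h))).trans (odd_inf_two ho hV).le))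

namespace Ctx

variable [IsSimpleGroup G] (c : Ctx S t)
include c

theorem U_eq (hV : Klein V) (h : V ≤ S) (hH : 𝐂₁[t] ≤ 𝐍[V]) : oc t = od 𝐂[V] := by
  rw [c.od_cent hV (c.tV hV h) c.t1]
  exact (inf_eq_left.2 (cent_of_norm hV.pgroup (oc_odd t) ((oc_le t).trans hH) le_rfl
    (h.trans c.SU))).symm

theorem al_V (hV : Klein V) (h : V ≤ S) (hA : IsCoatom 𝐍[V]) (hH : 𝐂₁[t] ≤ 𝐍[V]) : Al t 𝐍[V] :=
  ⟨hA, hH, c.U_eq hV h hH ▸ norms_pcore _ (cent_norm V), fun Y hY ho hn => by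
    rw [← cent_cycle]
    exact cent_of_norm hV.pgroup ho hY (zpowers_le.2 (c.tV hV h)) (zpowers_le.2 hn)⟩

theorem norm_eq (hA : IsCoatom A) (ho : Odd (Nat.card X)) (h1 : X ≠ ⊥) (hn : A ≤ 𝐍[X]) :
    𝐍[X] = A := (hA.le_iff.1 hn).resolve_left (c.norm_ne ho h1)

theorem normZ [Fact p.Prime] (a : Al t A) (hp : core {p} (oc t) ≠ ⊥) :
    𝐍[𝐙[core {p} (oc t)]] = A :=
  c.norm_eq a.co (oddSg (inf_le_left.trans (pcore_sub _ _)) (oc_odd t))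
    (center_nil_ne_bot (pgroup_nil (pcore_pgroup' p _)) hp) (norms_center (norms_pcore _ a.nU))

/-- (α1), general form -/
theorem alpha0 [Fact p.Prime] (a : Al t A) (p2 : p ≠ 2) (hZ : IsPGroup p Z) (hZt : Z ≤ 𝐂₁[t])
    (hC : 𝐂[Z] ≤ A) (hR : IsPGroup p R) (h1 : t ∈ 𝐍[R]) (h2 : Z ≤ 𝐍[R]) : R ≤ oc t := by
  have ho := odd_card_of_pgroup hR p2
  refine c.odd_le c.ot ?_ ho
  rw [← cent_cycle] at hZt ⊢
  refine centsC.1 (PxQ_lemma hR hZ (not_dvd_card_of_pgroup (inv_pgroup c.ot) p2.symm) h2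
    (zpowers_le.2 h1) (centsC.1 hZt) ?_)
  rw [cent_cycle]
  exact a.fix _ (inf_le_right.trans hC) (oddSg inf_le_left ho) (zpowers_le.1 (normsI
    (zpowers_le.2 h1) (norms_cent (cents_norm (centsC.1 hZt)))))

theorem p_ne [Fact p.Prime] (hp : core {p} (oc t) ≠ ⊥) : p ≠ 2 :=
  ne_two_of_le (oc_odd t) (pcore_pgroup' p _) (pcore_sub _ _) hp

/-- (α1) -/
theorem alpha1 [Fact p.Prime] (a : Al t A) (hp : core {p} (oc t) ≠ ⊥) (hR : IsPGroup p R)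
    (h1 : t ∈ 𝐍[R]) (h2 : 𝐙[core {p} (oc t)] ≤ 𝐍[R]) : R ≤ oc t :=
  c.alpha0 a (c.p_ne hp) ((pcore_pgroup' p _).to_le inf_le_left)
    (inf_le_left.trans ((pcore_sub _ _).trans (oc_le t))) ((cent_sub _).trans (c.normZ a hp).le) hR h1 h2

theorem alpha1' [Fact p.Prime] (a : Al t A) (hp : core {p} (oc t) ≠ ⊥) (hP : Syl p P (oc t))
    (hR : IsPGroup p R) (h1 : t ∈ 𝐍[R]) (h2 : P ≤ R) : R = P :=
  hP.eq_of_le hR h2 (c.alpha1 a hp hR h1 (normsG (inf_le_left.trans ((pcore_sub_Sylow hP).trans h2))))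

theorem exists_syl (p : ℕ) [Fact p.Prime] (hX : IsPGroup 2 X) (ho : Odd (Nat.card Y))
    (hn : X ≤ 𝐍[Y]) (hR : IsPGroup p R) (h : R ≤ Y) (hn' : X ≤ 𝐍[R]) :
    ∃ P, Syl p P Y ∧ X ≤ 𝐍[P] ∧ R ≤ P :=
  sol_coprime_Sylow_subset (.inr (pgroup_sol hX)) hn (cop_two ho hX) h hR hn'

/-- (α2): a `V`-invariant `p`-subgroup lies in some `U_v` -/
theorem alpha2 [hp' : Fact p.Prime] (a : Al t A) (hp : core {p} (oc t) ≠ ⊥) (hV : Klein V)
    (ht : t ∈ V) (hR : IsPGroup p R) (h : V ≤ 𝐍[R]) : ∃ v ∈ V, v ≠ 1 ∧ R ≤ oc v := by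
  have hVt : V ≤ 𝐂₁[t] := le_cent1.2 (abelian_iff.1 hV.ab ht)
  obtain ⟨P, hP, h1, -⟩ := c.exists_syl p hV.pgroup (oc_odd t) (hVt.trans (oc_norm t))
    IsPGroup.of_bot bot_le (norms1 V)
  have m1 : MaxInv ⊤ V p P := ⟨⟨le_top, hP.pgroup, h1⟩, fun P' h' e =>
    c.alpha1' a hp hP h'.2.1 (h'.2.2 ht) e⟩
  obtain ⟨R', hR', hm⟩ := Finite.exists_le_maximal (p := InvP ⊤ V p) (a := R) ⟨le_top, hR, h⟩
  obtain ⟨n, hn, e⟩ := c.tr V P R' p hV hp'.out (c.p_ne hp) m1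
    ⟨hm.1, fun P' h' e => le_antisymm (hm.2 h' e) e⟩
  refine ⟨n * t * n⁻¹, (memJ_norm hn).2 ht, by simpa using c.t1, ?_⟩
  rw [oc_conj]
  exact hR'.trans (e ▸ conj_le_conj.2 hP.le)

/-- (Syl) -/
theorem syl_top [Fact p.Prime] (hF : StFrob.{u}) (a : Al t A) (hp : core {p} (oc t) ≠ ⊥)
    (hR : Syl p R (oc t)) (hS : S ≤ 𝐍[R])
    (h : ∀ s ∈ S, orderOf s = 2 → s ≠ t → ¬ R ≤ 𝐂₁[s]) : Syl p R ⊤ := by
  have hs : Syl 2 S 𝐍[R] := c.syl.subl hS le_top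
  have e := hF G 𝐍[R] S c.dih hs fun V hV hVS hf => by
    obtain ⟨s, hs, s1, st⟩ := klein_other hV t
    obtain ⟨y, hy, e⟩ := hf t (c.tV hV hVS) s hs c.t1 s1
    refine h s (hVS hs) (hV.orderOf hs s1) st ?_
    rw [← e, cent1_conj, ← conj_eq_of_mem_norm hy.1, conj_le_conj]
    exact hR.le.trans (oc_le t)
  have hR1 : R ≤ od 𝐍[R] := le_od (oddSg hR.le (oc_odd t)) (normalG R)
  obtain ⟨P, hP, h1, h2⟩ := c.exists_syl p c.S2 (od_odd 𝐍[R]) (hS.trans (pcore_normal _ _).2)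
    hR.pgroup hR1 hS
  obtain rfl := c.alpha1' a hp hR hP.pgroup (h1 c.tS) h2
  rw [← Sylow_subnorm le_top, top_inf_eq]
  refine hP.trans_index (pcore_sub _ _) fun hd => ?_
  rw [(mulEq_of_sup (hS.trans (pcore_normal _ _).2) e).relIndex_eq] at hd
  exact not_dvd_card_of_pgroup c.S2 (c.p_ne hp).symm (hd.trans (FT.relIndex_dvd_card _ _))

/-- (Syl) -/
theorem not_dvd_ii [Fact p.Prime] (hF : StFrob.{u}) (a : Al t A)
    (h : ∀ s ∈ S, orderOf s = 2 → s ≠ t → ¬ core {p} (oc t) ≤ 𝐂₁[s]) : ¬ p ∣ ii t := by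
  have hp : core {p} (oc t) ≠ ⊥ := fun e => by
    obtain ⟨V, hV, hVS⟩ := c.exists_klein
    obtain ⟨s, hs, s1, st⟩ := klein_other hV t
    exact h s (hVS hs) (hV.orderOf hs s1) st (e ▸ bot_le)
  obtain ⟨R, hR, h1, -⟩ := c.exists_syl p c.S2 (oc_odd t) c.SU IsPGroup.of_bot bot_le (norms1 S)
  have := (c.syl_top hF a hp hR h1 fun s hs os st e =>
    h s hs os st ((pcore_sub_Sylow hR).trans e)).index
  rw [relIndex_top_right] at this
  exact fun hd => this (hd.trans (index_dvd_of_le (hR.le.trans (oc_le t))))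

/-- (Ob), first part -/
theorem ob_syl [Fact p.Prime] (a : Al t A) (hp : core {p} (oc t) ≠ ⊥) (hV : Klein V) (ht : t ∈ V)
    (hD : Syl p D (od 𝐂[V])) : Syl p D (od 𝐍[D]) := by
  have hVD : V ≤ 𝐍[D] := cents_norm (centsC.1 (hD.le.trans (pcore_sub _ _)))
  have hVO : V ≤ 𝐍[od 𝐍[D]] := hVD.trans (pcore_normal _ _).2
  obtain ⟨R, hR, h1, h2⟩ := c.exists_syl p hV.pgroup (od_odd 𝐍[D]) hVO hD.pgroup
    (le_od (oddSg hD.le (od_odd _)) (normalG D)) hVD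
  obtain ⟨v, hv, v1, h3⟩ := c.alpha2 a hp hV ht hR.pgroup h1
  obtain ⟨s, hs, s1, sv⟩ := klein_other hV v
  obtain ⟨y, hy, e⟩ := c.fus_syl hV hD v hv s hs v1 s1
  obtain ⟨w, hw, e'⟩ := sol_coprime_Sylow_trans (.inr (pgroup_sol hV.pgroup)) hVO
    (cop_two (od_odd _) hV.pgroup) hR h1 ((sylJnorm ((pcore_normal _ _).2 hy.1)).2 hR)
    (conj_eq_of_mem_norm hy.2 ▸ conj_norms y h1)
  have h4 : w •ᶜ R ≤ w •ᶜ od 𝐂[V] := by
    rw [conj_eq_of_mem_norm ((pcore_normal _ _).2 hw.2)]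
    refine le_trans ?_ (c.W_eq hV hv hs v1 s1 sv).ge
    refine le_inf (conj_le_of_mem_norm (oc_norm v (cent_le_cent1 hv hw.2)) h3) ?_
    rw [← e', ← e, cent1_conj, conj_le_conj]
    exact h3.trans (oc_le v)
  exact hD.eq_of_le hR.pgroup h2 (conj_le_conj.1 h4) ▸ hR

/-- (Ob), second part -/
theorem ob_nsol [Fact p.Prime] (hS : StSol.{u}) (a : Al t A) (hp : core {p} (oc t) ≠ ⊥)
    (hV : Klein V) (ht : t ∈ V) (hD : Syl p D (od 𝐂[V])) (hk : p ∣ 𝐂[V].relIndex (oc t)) :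
    ¬ Group.IsSolvable 𝐍[D] := fun hs => by
  have hVD : V ≤ 𝐍[D] := cents_norm (centsC.1 (hD.le.trans (pcore_sub _ _)))
  have hVt : V ≤ 𝐂₁[t] := le_cent1.2 (abelian_iff.1 hV.ab ht)
  have hW := c.od_cent hV ht c.t1
  obtain ⟨P, hP, h1, h2⟩ := c.exists_syl p hV.pgroup (oc_odd t) (hVt.trans (oc_norm t))
    hD.pgroup (hD.le.trans (hW.le.trans inf_le_left)) hVD
  have h3 := (hS G 𝐍[D] V c.dih hs hV hVD).1 (P ⊓ 𝐍[D]) inf_le_right
    (oddSg (inf_le_left.trans hP.le) (oc_odd t)) (normsI h1 (normsG hVD))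
  have h4 := (c.ob_syl a hp hV ht hD).eq_of_le (hP.pgroup.to_le inf_le_left)
    (le_inf h2 (normG D)) h3
  obtain rfl := nilpotent_sub_norm (pgroup_nil hP.pgroup) h2 h4.le
  exact hP.index (hk.trans (indexgS _ (hD.le.trans (pcore_sub _ _))))

end Ctx

/-- a normal subgroup of even order contains the residual -/
theorem ResF.le_of_inv (r : ResF E X) (hN : Y ⊴ X) (hv : v ∈ Y) (ov : orderOf v = 2) : E ≤ Y :=
  (r.min Y hN).resolve_left fun h => not_mem_of_odd (od_odd X) ov (h hv)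

/-- the residual centralizes a normal subgroup centralized by an involution -/
theorem ResF.le_cent (r : ResF E X) (hN : X ≤ 𝐍[D]) (hv : v ∈ X) (hc : v ∈ 𝐂[D])
    (ov : orderOf v = 2) : E ≤ 𝐂[D] :=
  (r.le_of_inv (subcent_normal' hN) ⟨hv, hc⟩ ov).trans inf_le_right

theorem ResF.le_of_fus (r : ResF E X) (hV : Klein V) (h : V ≤ X) (hf : Fus X V) : V ≤ E := by
  obtain ⟨a, ha, a1⟩ := (bot_or_exists_ne_one _).resolve_left (r.meet V hV h)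
  intro b hb
  by_cases b1 : b = 1
  · exact b1 ▸ one_mem _
  obtain ⟨y, hy, e⟩ := hf a ha.1 b hb a1 b1
  exact e ▸ r.nrm.conj_mem hy.1 ha.2

theorem ResF.not_sol (r : ResF E X) : ¬ Group.IsSolvable E := fun h =>
  (sol_der1_proper h r.ne).ne r.perf

/-- an involution centralizing all `O_p(X)`, `p` odd, centralizes `O(X)` -/
theorem cent_od (hv : orderOf v = 2) (hX : v ∈ 𝐍[X])
    (h : ∀ p : ℕ, p.Prime → p ≠ 2 → core {p} X ≤ 𝐂₁[v]) : od X ≤ 𝐂₁[v] := by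
  rw [← cent_cycle]
  refine centsC.1 (le_trans (le_inf le_rfl ?_) (coprime_cent_Fitting
    (norms_pcore _ (zpowers_le.2 hX)) (cop_inv (od_odd X) hv) (od_sol X)))
  rw [centsC, cent_cycle]
  refine Fitting_le_of_forall fun p hp => ?_
  by_cases p2 : p = 2
  · rw [p2, core_eq_bot_of_compl (pcore_pgroup _ _)]; exact bot_le
  · exact ((pcore_normal _ _).core_le _).trans (h p hp p2)

namespace Ctx

variable [IsSimpleGroup G] (c : Ctx S t)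
include c

theorem U_sol : Group.IsSolvable (oc t) := od_sol _

/-- (Loc), the primes dividing `|F(U)|` -/
theorem loc1 [Fact p.Prime] (a : Al t A) (hX : X ≤ fit (oc t)) (hM : 𝐂[X] ≤ M)
    (hp : core {p} (oc t) ≠ ⊥) : core {p} M ≤ oc t := by
  have hn := (pcore_normal {p} M).2
  refine c.alpha1 a hp (pcore_pgroup' p M)
    (hn (hM (le_cent1.1 (hX.trans ((Fitting_sub _).trans (oc_le t)))))) (le_trans ?_ (hM.trans hn))
  refine centsS hX (centsS (Fitting_dprod {p} (oc t)).sup_eq.ge (centsY ?_ ?_))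
  · rw [p_core_Fitting]; exact inf_le_right
  · exact inf_le_left.trans ((p_core_Fitting p _).ge.trans (Fitting_dprod {p} (oc t)).cent')

/-- (Loc), the other primes -/
theorem loc2 [Fact p.Prime] (hX : X ≤ fit (oc t)) (hM : 𝐍[X] ≤ M)
    (hp : core {p} (oc t) = ⊥) : core {p} M ⊓ oc t = ⊥ := by
  set L := core {p} M ⊓ oc t
  have hL : IsPGroup p L := (pcore_pgroup' p M).to_le inf_le_left
  have hc : (Nat.card (fit (oc t))).Coprime (Nat.card L) := (coprime_pgroup hL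
    ((Sylow_Fitting p (oc t)).eq_bot_iff.1 hp)).symm
  have hn : L ≤ 𝐍[fit (oc t)] := inf_le_right.trans (Fitting_normal _).2
  have h1 : fit (oc t) ⊓ 𝐍[X] ≤ 𝐂[L] := commG1P.1 (eq_bot_iff.2 ((le_inf
    ((commSg L inf_le_left).trans (commg_subl.2 hn)) (commg_subr.2 (normsI
      (inf_le_right.trans (hM.trans (pcore_normal _ _).2))
      (normsG (inf_le_left.trans (Fitting_sub _)))))).trans (coprime_TIg hc).le))
  have h2 := coprime_nil_faithful_cent_stab hn hc (Fitting_nil _) ((inf_le_inf_left _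
    ((centS ((le_inf hX (normG X)).trans (le_inf inf_le_left h1))).trans (cent_sub X))).trans h1)
  exact eq_bot_iff.2 ((pgroup_le_Fitting hL ((le_inf inf_le_right h2).trans
    (cent_sub_Fitting c.U_sol))).trans hp.le)

/-- (Loc) -/
theorem loc (a : Al t A) (hX : X ≤ fit (oc t)) (hM : 𝐍[X] ≤ M) (hV : Klein V) (hVM : V ≤ M)
    (h : ∀ v ∈ V, v ≠ 1 → (∃ g ∈ M, g * t * g⁻¹ = v) ∨ oc v = oc t) : od M ≤ 𝐂[V] := by
  have key : ∀ (p : ℕ) [Fact p.Prime], p ≠ 2 → ∀ v ∈ V, v ≠ 1 → core {p} M ≤ 𝐂₁[v] := by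
    intro p _ p2 v hv v1
    have hn := (pcore_normal {p} M).2
    by_cases hp : core {p} (oc t) = ⊥
    · refine le_trans (coprime_abelian_gen_cent1_le hV.ab hV.not_cyclic (hVM.trans hn)
        (cop_two (odd_card_of_pgroup (pcore_pgroup' p M) p2) hV.pgroup) fun w hw w1 => ?_) bot_le
      have h1 : core {p} M ⊓ 𝐂₁[w] ≤ core {p} M ⊓ oc w := le_inf inf_le_left (c.odd_le
        (hV.orderOf hw w1) inf_le_right (oddSg inf_le_left (odd_card_of_pgroup (pcore_pgroup' p M) p2)))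
      refine h1.trans (le_of_eq ?_)
      rcases h w hw w1 with ⟨g, hg, rfl⟩ | e
      · rw [oc_conj, ← conj_eq_of_mem_norm (hn hg), ← conj_inf, c.loc2 hX hM hp, conj_bot]
      · rw [e, c.loc2 hX hM hp]
    · have h1 := c.loc1 a hX ((cent_sub X).trans hM) hp
      rcases h v hv v1 with ⟨g, hg, rfl⟩ | e
      · rw [cent1_conj, ← conj_eq_of_mem_norm (hn hg), conj_le_conj]
        exact h1.trans (oc_le t)
      · exact h1.trans (e ▸ oc_le v)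
  refine centsC.1 fun v hv => ?_
  by_cases v1 : v = 1
  · exact v1 ▸ one_mem _
  exact le_cent1.1 (cent_od (hV.orderOf hv v1) (normG M (hVM hv)) fun p hp p2 =>
    haveI := Fact.mk hp; key p p2 v hv v1)

/-- (Loc) for a fused four-group -/
theorem loc_fus (a : Al t A) (hX : X ≤ fit (oc t)) (hM : 𝐍[X] ≤ M) (hV : Klein V) (ht : t ∈ V)
    (hVM : V ≤ M) (h : Fus M V) : od M ≤ 𝐂[V] :=
  c.loc a hX hM hV hVM fun v hv v1 =>
    let ⟨g, hg, e⟩ := h t ht v hv c.t1 v1; .inl ⟨g, hg.1, e⟩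

end Ctx

/-- `V × O(M)` normal gives `V` normal -/
theorem norm_of_sup (hV : IsPGroup 2 V) (h : od M ≤ 𝐂[V]) (hn : (V ⊔ od M) ⊴ M) : M ≤ 𝐍[V] := by
  have h1 : V ⊴ V ⊔ od M := normalYl (cents_norm h)
  have h2 : Syl 2 V (V ⊔ od M) := (hall_sup_of_norm (cents_norm h) (piSub_singleton.2 hV)
    (pcore_pgroup _ _)).1.syl
  exact (char_normal_trans (h2.char h1) hn).2

end Cfsg.GW
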