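import Mathlib.Tactic

/-!
# S4594 core: numerical consequences of the order formulas for a dihedral Sylow subgroup of order 8
-/

set_option autoImplicit false

namespace Cfsg.GW.Num

/-- the two order formulas of `StOD` -/
structure OD (i k l y a b : ℤ) : Prop where
  hy : y % 8 = 2
  ha : a % 8 = 3
  hb : b % 8 = 3
  sum : a + b = -y
  e1 : i * (y - 2) ^ 2 = 8 * (k + l) ^ 2 * (y * (y - 1))
  e2 : i * (a - b) ^ 2 = 8 * (k - l) ^ 2 * (a * b * y)

variable {i k l y a b : ℤ}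

theorem OD.symm (h : OD i k l y a b) : OD i l k y a b :=
  ⟨h.hy, h.ha, h.hb, h.sum, by rw [h.e1]; ring, by rw [h.e2]; ring⟩

theorem OD.swap (h : OD i k l y a b) : OD i k l y b a :=
  ⟨h.hy, h.hb, h.ha, by rw [← h.sum]; ring, h.e1, by rw [← sub_eq_zero]; linear_combination h.e2⟩

theorem OD.range (h : OD i k l y a b) (hk : 0 < k) (hl : 0 < l) : 10 ≤ y ∨ y ≤ -6 := by
  have h1 := h.hy
  have : y ≠ 2 := by
    rintro rfl
    have := h.e1
    nlinarith
  omega

theorem OD.upper (h : OD i k l y a b) (hk : 0 < k) (hl : 0 < l) : 4 * i ≤ 45 * (k + l) ^ 2 := by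
  have hs : 0 < (k + l) ^ 2 := by positivity
  have hr := h.range hk hl
  have h2 : 0 < (y - 2) ^ 2 := by rcases hr with h | h <;> nlinarith
  have h3 : 32 * (y * (y - 1)) ≤ 45 * (y - 2) ^ 2 := by rcases hr with h | h <;> nlinarith
  refine le_of_mul_le_mul_right ?_ h2
  calc 4 * i * (y - 2) ^ 2 = (k + l) ^ 2 * (32 * (y * (y - 1))) := by linear_combination 4 * h.e1
    _ ≤ (k + l) ^ 2 * (45 * (y - 2) ^ 2) := mul_le_mul_of_nonneg_left h3 hs.le
    _ = _ := by ring

theorem OD.lower (h : OD i k l y a b) (hk : 0 < k) (hl : 0 < l) : 21 * (k + l) ^ 2 ≤ 4 * i := by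
  have hs : 0 < (k + l) ^ 2 := by positivity
  have hr := h.range hk hl
  have h2 : 0 < (y - 2) ^ 2 := by rcases hr with h | h <;> nlinarith
  have h3 : 21 * (y - 2) ^ 2 ≤ 32 * (y * (y - 1)) := by rcases hr with h | h <;> nlinarith
  refine le_of_mul_le_mul_right ?_ h2
  calc 21 * (k + l) ^ 2 * (y - 2) ^ 2 = (k + l) ^ 2 * (21 * (y - 2) ^ 2) := by ring
    _ ≤ (k + l) ^ 2 * (32 * (y * (y - 1))) := mul_le_mul_of_nonneg_left h3 hs.le
    _ = 4 * i * (y - 2) ^ 2 := by linear_combination -4 * h.e1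

/-- the quotient of the two formulas -/
theorem OD.quot (h : OD i k l y a b) (hk : 0 < k) (hl : 0 < l) :
    (k + l) ^ 2 * (y - 1) * (a - b) ^ 2 = (k - l) ^ 2 * (a * b) * (y - 2) ^ 2 := by
  have hr := h.range hk hl
  have h0 : (8 * y) ≠ 0 := by omega
  refine mul_left_cancel₀ h0 ?_
  linear_combination (y - 2) ^ 2 * h.e2 - (a - b) ^ 2 * h.e1

/-- bound for the ratio `ρ = (y-1)(a-b)² / (a b (y-2)²)` in terms of `u/v` -/
theorem aux (h : OD i k l y a b) (hk : 0 < k) (hl : 0 < l) (hab : a ≤ b) {u v : ℤ} (hv : 0 < v)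
    (hu : u * (k + l) ^ 2 ≤ v * (k - l) ^ 2) (hu0 : 0 < u) :
    (0 < a * b ∧ u * (a * b) * (y - 2) ^ 2 ≤ v * ((y - 1) * (a - b) ^ 2)) ∨
    (a * b < 0 ∧ v * ((y - 1) * (a - b) ^ 2) ≤ u * (a * b) * (y - 2) ^ 2) := by
  have hq := h.quot hk hl
  have hs : 0 < (k + l) ^ 2 := by positivity
  have ha := h.ha
  have hb := h.hb
  have h0 : a * b ≠ 0 := mul_ne_zero (by omega) (by omega)
  have h2 : 0 ≤ (y - 2) ^ 2 := by positivity
  rcases lt_or_gt_of_ne h0 with h1 | h1
  · refine Or.inr ⟨h1, le_of_mul_le_mul_left ?_ hs⟩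
    have : 0 ≤ (v * (k - l) ^ 2 - u * (k + l) ^ 2) * (-(a * b) * (y - 2) ^ 2) :=
      mul_nonneg (by linarith) (mul_nonneg (by linarith) h2)
    nlinarith
  · refine Or.inl ⟨h1, le_of_mul_le_mul_left ?_ hs⟩
    have : 0 ≤ (v * (k - l) ^ 2 - u * (k + l) ^ 2) * ((a * b) * (y - 2) ^ 2) :=
      mul_nonneg (by linarith) (mul_nonneg (by linarith) h2)
    nlinarith

theorem neg_of (h : OD i k l y a b) (hk : 0 < k) (hl : 0 < l) (hab : a ≤ b)
    (hu : (k + l) ^ 2 ≤ 4 * (k - l) ^ 2) : y ≤ -6 := by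
  have ha := h.ha
  have hb := h.hb
  have hs := h.sum
  rcases h.range hk hl with hy | hy
  · exfalso
    rcases aux h hk hl hab (u := 1) (v := 4) (by norm_num) (by linarith) (by norm_num) with
      ⟨h1, h2⟩ | ⟨h1, h2⟩
    · have hb0 : b ≤ -5 := by
        by_contra hc
        have : 3 ≤ b := by omega
        have : a < 0 := by omega
        nlinarith
      obtain ⟨c, rfl⟩ : ∃ c, b = -5 - c := ⟨-5 - b, by ring⟩
      obtain ⟨e, rfl⟩ : ∃ e, a = -5 - c - e := ⟨-5 - c - a, by ring⟩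
      obtain rfl : y = 10 + 2 * c + e := by omega
      have hc : 0 ≤ c := by omega
      have he : 0 ≤ e := by omega
      have : 0 ≤ c * e := mul_nonneg hc he
      have : 0 ≤ c * e * e := by positivity
      have : 0 ≤ c * c * e := by positivity
      have : 0 ≤ c * c * c * e := by positivity
      have : 0 ≤ c * c * e * e := by positivity
      have : 0 ≤ c * e * e * e := by positivity
      have : 0 ≤ c * c * c * c := by positivity
      have : 0 ≤ c * c * c := by positivity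
      have : 0 ≤ e * e * e := by positivity
      nlinarith
    · have : 0 ≤ (y - 1) * (a - b) ^ 2 := mul_nonneg (by omega) (by positivity)
      have : 0 < (y - 2) ^ 2 := by nlinarith
      nlinarith
  · exact hy

/-- for `y < 0` the ratio is at most `(1-y)(6-y)² / (3 (3-y) ...)`; here in the forms needed -/
theorem neg_shape (h : OD i k l y a b) (hk : 0 < k) (hl : 0 < l) (hab : a ≤ b) (hy : y ≤ -6)
    {u v : ℤ} (hv : 0 < v) (hu : u * (k + l) ^ 2 ≤ v * (k - l) ^ 2) (hu0 : 0 < u) :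
    a ≤ -5 ∧ u * (-(a * b)) * (y - 2) ^ 2 ≤ v * ((1 - y) * (a - b) ^ 2) := by
  have ha := h.ha
  have hb := h.hb
  have hs := h.sum
  rcases aux h hk hl hab hv hu hu0 with ⟨h1, h2⟩ | ⟨h1, h2⟩
  · exfalso
    have : 0 < (y - 2) ^ 2 := by nlinarith
    have : 0 < u * (a * b) * (y - 2) ^ 2 := by positivity
    have : 0 ≤ v * ((1 - y) * (a - b) ^ 2) :=
      mul_nonneg hv.le (mul_nonneg (by omega) (by positivity))
    nlinarith
  · refine ⟨?_, by nlinarith⟩
    by_contra hc
    have : 3 ≤ a := by omega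
    have : 0 < b := by omega
    nlinarith

theorem ratio_aux (h : OD i k l y a b) (hk : 0 < k) (hl : 0 < l) (hab : a ≤ b) :
    (l < 9 * k) ∧ (5 * k ≤ l → y = -6 ∧ l < 7 * k) := by
  have ha := h.ha
  have hb := h.hb
  have hs := h.sum
  have hy := h.hy
  have key : ∀ u v : ℤ, 0 < v → 0 < u → u * (k + l) ^ 2 ≤ v * (k - l) ^ 2 → v ≤ 4 * u →
      ∃ c e : ℤ, 0 ≤ c ∧ 0 ≤ e ∧ y = -6 - e ∧
        u * ((5 + c) * (11 + c + e)) * (8 + e) ^ 2 ≤ v * ((7 + e) * (16 + 2 * c + e) ^ 2) := by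
    intro u v hv hu h1 h2
    have hn := neg_of h hk hl hab (by
      have : 0 ≤ (k - l) ^ 2 := by positivity
      refine le_of_mul_le_mul_left ?_ hu
      nlinarith)
    obtain ⟨h3, h4⟩ := neg_shape h hk hl hab hn hv h1 hu
    refine ⟨-5 - a, -6 - y, by omega, by omega, by ring, ?_⟩
    obtain rfl : b = -y - a := by omega
    nlinarith
  have five : 5 * k ≤ l → y = -6 := by
    intro h5
    obtain ⟨c, e, hc, he, rfl, h1⟩ := key 4 9 (by norm_num) (by norm_num) (by nlinarith) (by norm_num)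
    by_contra hne
    obtain ⟨d, rfl⟩ : ∃ d, e = 8 + d := ⟨e - 8, by ring⟩
    have hd : 0 ≤ d := by omega
    have : 0 ≤ c * d := by positivity
    have : 0 ≤ c * d * d := by positivity
    have : 0 ≤ c * c * d := by positivity
    have : 0 ≤ c * c * d * d := by positivity
    have : 0 ≤ c * d * d * d := by positivity
    have : 0 ≤ d * d * d := by positivity
    nlinarith
  have seven : 7 * k ≤ l → False := by
    intro h7
    have h6 := five (by omega)
    obtain ⟨c, e, hc, he, h2, h1⟩ := key 9 16 (by norm_num) (by norm_num) (by nlinarith) (by norm_num)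
    obtain rfl : e = 0 := by omega
    nlinarith
  refine ⟨?_, fun h5 => ⟨five h5, ?_⟩⟩ <;> by_contra hc <;> exact seven (by omega)

theorem OD.ratio (h : OD i k l y a b) (hk : 0 < k) (hl : 0 < l) :
    l < 7 * k ∧ (5 * k ≤ l → y = -6) := by
  have : (l < 9 * k) ∧ (5 * k ≤ l → y = -6 ∧ l < 7 * k) := by
    rcases le_total a b with hab | hab
    · exact ratio_aux h hk hl hab
    · exact ratio_aux h.swap hk hl hab
  refine ⟨?_, fun h5 => (this.2 h5).1⟩
  by_contra hc
  exact hc (this.2 (by omega)).2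

/-- `i ≤ 720 k²` for both indices -/
theorem OD.upper' (h : OD i k l y a b) (hk : 0 < k) (hl : 0 < l) : i ≤ 720 * k ^ 2 := by
  have h1 := h.upper hk hl
  have h2 := (h.ratio hk hl).1
  nlinarith

theorem three_aux (h : OD i k (3 * k) y a b) (hk : 0 < k) (hab : a ≤ b) : y = -14 := by
  have ha := h.ha
  have hb := h.hb
  have hs := h.sum
  have hy := h.hy
  have hn := neg_of h hk (by omega) hab (by nlinarith)
  have hq := h.quot hk (by omega)
  have h1 : 4 * (y - 1) * (a - b) ^ 2 = (a * b) * (y - 2) ^ 2 := by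
    have h0 : (4 * k ^ 2) ≠ 0 := by positivity
    refine mul_left_cancel₀ h0 ?_
    linear_combination hq
  have h2 : (a * b) * (y ^ 2 + 12 * y - 12) = 4 * (y - 1) * y ^ 2 := by
    obtain rfl : b = -y - a := by omega
    linear_combination -h1
  have h3 : (y ^ 2 + 12 * y - 12) ∣ 48 := by
    have hd : (y ^ 2 + 12 * y - 12) ∣ 48 * (y - 1) ^ 2 :=
      ⟨4 * (y - 1) - a * b, by linear_combination h2⟩
    have hc : IsCoprime (y ^ 2 + 12 * y - 12) (y - 1) := ⟨1, -(y + 13), by ring⟩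
    exact (hc.pow_right (n := 2)).dvd_of_dvd_mul_right hd
  by_contra hne
  rcases (by omega : y = -6 ∨ y ≤ -22) with rfl | h4
  · obtain rfl : b = 6 - a := by omega
    nlinarith [sq_nonneg (a - 3)]
  · have := Int.le_of_dvd (by norm_num) h3
    nlinarith

/-- an odd integral ratio is 1, 3 or 5 -/
theorem OD.odd_ratio {d : ℤ} (h : OD i k (d * k) y a b) (hk : 0 < k) (hd : 0 < d) (ho : Odd d) :
    d = 1 ∨ (d = 3 ∧ y = -14 ∧ i = 105 * k ^ 2) ∨ (d = 5 ∧ y = -6 ∧ i = 189 * k ^ 2) := by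
  have hl : 0 < d * k := mul_pos hd hk
  obtain ⟨h1, h2⟩ := h.ratio hk hl
  have h3 : d < 7 := lt_of_mul_lt_mul_right h1 hk.le
  obtain ⟨c, hc⟩ := ho
  rcases (by omega : d = 1 ∨ d = 3 ∨ d = 5) with rfl | rfl | rfl
  · exact Or.inl rfl
  · have hy : y = -14 := by
      rcases le_total a b with hab | hab
      · exact three_aux h hk hab
      · exact three_aux h.swap hk hab
    have := h.e1
    rw [hy] at this
    exact Or.inr (Or.inl ⟨rfl, hy, by linarith⟩)
  · have hy := h2 le_rfl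
    have := h.e1
    rw [hy] at this
    exact Or.inr (Or.inr ⟨rfl, hy, by linarith⟩)

end Cfsg.GW.Num
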