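import Cfsg.Agent.GW.Res
import Cfsg.Agent.GW.Num

/-! # The piece `StBase` -/

set_option autoImplicit false

namespace Cfsg.GW

namespace Fr

open Subgroup Cfsg.FT Cfsg.Gag Cfsg.Gag.Fin5
open scoped Pointwise

universe u

variable {G : Type u} [Group G] [Finite G] {D M N P P' R R' S V X : Subgroup G} {f s t x : G} {r : ℕ}

omit [Finite G] in
theorem cent1_sub (a : M) : 𝐂₁[a] = 𝐂₁[(a : G)].subgroupOf M := by
  ext y
  rw [mem_subgroupOf, mem_cent1, mem_cent1, Subtype.ext_iff, coe_mul, coe_mul]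

theorem kk_sub (a b : M) (h : 𝐂₁[(a : G)] ≤ M) : kk a b = kk (a : G) (b : G) := by
  rw [kk, oc, cent1_sub, cent1_sub, core_subgroupOf _ h, relIndex_subgroupOf ((oc_le _).trans h)]

omit [Finite G] in
theorem ii_sub (a : M) (h : 𝐂₁[(a : G)] ≤ M) : ii a * M.index = ii (a : G) := by
  rw [ii, cent1_sub]; exact relIndex_mul_index h

omit [Finite G] in
theorem fus_sub (h : Fus M V) (hV : V ≤ M) : Fus ⊤ (V.subgroupOf M) := fun a ha b hb h1 h2 =>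
  let ⟨y, hy, e⟩ := h a ha b hb (fun e => h1 (Subtype.ext e)) fun e => h2 (Subtype.ext e)
  ⟨⟨y, hy.1⟩, ⟨mem_top _, norm_subgroupOf hV ▸ hy.2⟩, Subtype.ext e⟩

theorem syl_sub (h : Syl 2 S ⊤) (hS : S ≤ M) : Syl 2 (S.subgroupOf M) ⊤ :=
  subgroupOf_self M ▸ (h.subl hS le_top).subgroupOf le_rfl

theorem kk_pos (t s : G) : 0 < kk t s := relIndex_pos _ _

/-- all four-groups of the dihedral Sylow subgroup fused: one class of involutions -/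
theorem conj_of_fus (h : D8 S f x) (hS : Syl 2 S M) (hF : ∀ V, Klein V → V ≤ S → Fus M V)
    (hs : s ∈ M) (os : orderOf s = 2) : ∃ g ∈ M, g * s * g⁻¹ = f ^ 2 := by
  obtain ⟨g, hg, e⟩ := Sylow_Jsub hS (zpowers_le.2 hs)
    (prime_pgroup ((Nat.card_zpowers s).trans os))
  rw [conj_zpowers, zpowers_le] at e
  have h1 : g * s * g⁻¹ ≠ 1 := fun e => by simp [show s = 1 by simpa using e] at os
  have h2 : g * s * g⁻¹ * (g * s * g⁻¹) = 1 := by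
    rw [← pow_two, conj_pow, ← os, pow_orderOf_eq_one, mul_one, mul_inv_cancel]
  obtain ⟨y, hy, e⟩ : ∃ y ∈ M, y * (g * s * g⁻¹) * y⁻¹ = f ^ 2 := by
    rcases d8_invol h e h2 with e | e
    · exact (hF _ (d8_klein h) (d8_TA h) _ e _ d8_cT h1 (d8_c_ne h)).imp fun _ h => ⟨h.1.1, h.2⟩
    · exact (hF _ (d8_klein (d8_swap h)) (d8_TA (d8_swap h)) _ e _ d8_cT h1 (d8_c_ne h)).imp
        fun _ h => ⟨h.1.1, h.2⟩
  exact ⟨y * g, mul_mem hy hg, by rw [← e]; group⟩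

section
variable [IsSimpleGroup G]

theorem card_le_fact (hM : M ≠ ⊤) : Nat.card G ≤ M.index.factorial := by
  have : M.normalCore.index ∣ M.index.factorial := by
    rw [normalCore_eq_ker, index_ker, index_eq_card, ← Nat.card_perm]
    exact card_subgroup_dvd_card _
  rw [M.normalCore_normal.eq_bot_or_eq_top.resolve_right fun e =>
    hM (top_le_iff.1 (e.ge.trans M.normalCore_le)), index_bot] at this
  exact Nat.le_of_dvd (Nat.factorial_pos _) this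

theorem i1_klein (hK : StOK.{u}) (hS : Syl 2 S ⊤) (h : Klein S) (hF : Fus ⊤ S) (ht : t ∈ S)
    (h1 : t ≠ 1) (hc : 12 ≤ Nat.card 𝐂₁[t]) (hM : M ≠ ⊤) (hl : 𝐂₁[t] ≤ M) : ¬ Fus M S := fun hf => by
  have hSM : S ≤ M := (le_cent1.2 (abelian_iff.1 h.ab ht)).trans hl
  obtain ⟨s, hs, s1, st⟩ : ∃ s ∈ S, s ≠ 1 ∧ s ≠ t := by
    by_contra c
    push Not at c
    exact h.not_cyclic (cyclicS (B := ⟪t⟫) (fun s hs => by
      by_cases e : s = 1
      · rw [e]; exact one_mem _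
      · rw [c s hs e]; exact mem_zpowers t) (cycle_cyclic t))
  have a := (hK G S t s hS h hF ht hs h1 s1 st).2
  have b := (hK M _ ⟨t, hSM ht⟩ ⟨s, hSM hs⟩ (syl_sub hS hSM) (Core.klein_sub h hSM)
    (fus_sub hf hSM) ht hs (mt Subtype.ext_iff.1 h1) (mt Subtype.ext_iff.1 s1)
    (mt Subtype.ext_iff.1 st)).1
  have c := ii_sub ⟨t, hSM ht⟩ hl
  rw [kk_sub _ _ hl] at b
  have d := card_le_fact hM
  have e : ii t * Nat.card 𝐂₁[t] = Nat.card G := index_mul_card _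
  have k : 0 < kk t s ^ 2 := pow_pos (kk_pos t s) 2
  have n0 : 0 < M.index := Nat.pos_of_ne_zero index_ne_zero_of_finite
  dsimp only at b c
  generalize kk t s ^ 2 = q at *
  generalize M.index = n at *
  have n5 : n ≤ 5 := by nlinarith
  have : 36 * n ≤ n.factorial := by
    calc 36 * n = 3 * n * 12 := by ring
      _ ≤ ii (⟨t, hSM ht⟩ : M) * n * Nat.card 𝐂₁[t] := by gcongr; omega
      _ ≤ _ := by rw [c, e]; exact d
  interval_cases n <;> simp [Nat.factorial] at this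

theorem i1_d8 (hO : StOD.{u}) (hS : Syl 2 S ⊤) (h : D8 S f x)
    (hc : ∀ a b : G, orderOf a = 2 → orderOf b = 2 → IsConj a b) (hM : M ≠ ⊤) (hl : 𝐂₁[f ^ 2] ≤ M)
    (hF : ∀ V, Klein V → V ≤ S → Fus M V) : False := by
  have hSM : S ≤ M := (le_cent1.2 (d8_cA h)).trans hl
  obtain ⟨y, a, b, h1, h2, h3, h4, h5, h6⟩ := hO G S f x hS h hc
  obtain ⟨y', a', b', k1, k2, k3, k4, k5, k6⟩ := hO M _ _ _ (syl_sub hS hSM) (Core.d8_sub h hSM)
    fun a b oa ob => by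
      obtain ⟨g, hg, e⟩ := conj_of_fus h (hS.subl hSM le_top) hF a.2 (by rwa [orderOf_coe])
      obtain ⟨g', hg', e'⟩ := conj_of_fus h (hS.subl hSM le_top) hF b.2 (by rwa [orderOf_coe])
      exact isConj_iff.2 ⟨⟨g', hg'⟩⁻¹ * ⟨g, hg⟩, Subtype.ext (by
        show g'⁻¹ * g * a * (g'⁻¹ * g)⁻¹ = b
        calc _ = g'⁻¹ * (g * a * g⁻¹) * g' := by group
          _ = b := by rw [e, ← e']; group)⟩
  rw [kk_sub _ _ hl, kk_sub _ _ hl] at k5 k6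
  have u := (⟨h1, h2, h3, h4, h5, h6⟩ : Num.OD _ _ _ y a b).upper (mod_cast kk_pos _ _)
    (mod_cast kk_pos _ _)
  have l := (⟨k1, k2, k3, k4, k5, k6⟩ : Num.OD _ _ _ y' a' b').lower (mod_cast kk_pos _ _)
    (mod_cast kk_pos _ _)
  have c := congrArg (Nat.cast : ℕ → ℤ) (ii_sub (⟨f, hSM (d8_fA h)⟩ ^ 2) hl)
  have p : (0 : ℤ) < ((kk (f ^ 2) x : ℤ) + kk (f ^ 2) (x * f)) ^ 2 :=
    pow_pos (add_pos (mod_cast kk_pos _ _) (mod_cast kk_pos _ _)) 2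
  simp only [Nat.cast_mul, SubmonoidClass.coe_pow, coe_mul] at c l
  have n3 : (M.index : ℤ) < 3 := by nlinarith
  have n0 : M.index ≠ 0 := index_ne_zero_of_finite
  have n1 : M.index ≠ 1 := mt index_eq_one.1 hM
  rcases (normal_of_index_eq_two (by omega : M.index = 2)).eq_bot_or_eq_top with e | e
  · exact d8_c_ne h (mem_bot.1 (e ▸ hSM (d8_TA h d8_cT)))
  · exact hM e

end

theorem exists_maxInv (h : InvP X V r R) : ∃ P, MaxInv X V r P ∧ R ≤ P :=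
  let ⟨P, hP, hm⟩ := wellFounded_gt.has_min {P | InvP X V r P ∧ R ≤ P} ⟨R, h, le_rfl⟩
  ⟨P, ⟨hP.1, fun _ h1 h2 => (h2.eq_or_lt.resolve_right (hm _ ⟨h1, hP.2.trans h2⟩)).symm⟩, hP.2⟩

omit [Finite G] in
theorem invP_conj {g : G} (h : InvP X V r P) (hg : g ∈ X ⊓ 𝐍[V]) : InvP X V r (g •ᶜ P) :=
  ⟨conj_le_of_mem hg.1 h.1, isPGroup_conj.2 h.2.1,
    conj_eq_of_mem_norm hg.2 ▸ conj_norms g h.2.2⟩

omit [Finite G] in
theorem maxInv_conj {g : G} (h : MaxInv X V r P) (hg : g ∈ X ⊓ 𝐍[V]) : MaxInv X V r (g •ᶜ P) :=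
  ⟨invP_conj h.1 hg, fun _ h1 h2 =>
    (conj_eq_iff.2 (h.2 _ (invP_conj h1 (inv_mem hg)) (conj_le_iff.1 h2)).symm).symm⟩

theorem tr_step (hT : StTrX.{u}) (hN : DG N) (hV : Klein V) (hVN : V ≤ N) (hr : r.Prime)
    (r2 : r ≠ 2) (h : InvP N V r R) (h' : InvP N V r R') :
    ∃ n ∈ N ⊓ 𝐍[V], ∃ P, MaxInv ⊤ V r P ∧ n •ᶜ R ≤ P ∧ R' ≤ P := by
  obtain ⟨A, hA, l⟩ := exists_maxInv h
  obtain ⟨B, hB, l'⟩ := exists_maxInv h'
  obtain ⟨n, hn, e⟩ := hT G N V A B r hN hV hVN hr r2 hA hB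
  obtain ⟨P, hP, k⟩ := exists_maxInv (⟨le_top, hB.1.2⟩ : InvP ⊤ V r B)
  exact ⟨n, hn, P, hP, (conj_le_conj.2 l).trans (e.le.trans k), l'.trans k⟩

variable [IsSimpleGroup G]

theorem dg_of (hD : Dih G) (ih : IH.{u} (Nat.card G)) (h : X ≠ ⊤) : DG X :=
  ⟨hD, fun L _ _ _ hL => ih L (lt_of_lt_of_le hL (Nat.succ_le_of_lt (lt_of_le_of_ne
    (card_le_card_group X) (mt (card_eq_iff_eq_top X).1 h))))⟩

theorem tr_meet (hT : StTrX.{u}) (hD : Dih G) (ih : IH.{u} (Nat.card G)) (hV : Klein V)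
    (hr : r.Prime) (r2 : r ≠ 2) (D : Subgroup G) : D ≠ ⊥ → ∀ P P', MaxInv ⊤ V r P →
    MaxInv ⊤ V r P' → D ≤ P → D ≤ P' → ∃ n ∈ 𝐍[V], n •ᶜ P = P' := by
  haveI := Fact.mk hr
  induction D using WellFoundedGT.induction with | _ D H => ?_
  intro D1 P P' hP hP' l l'
  rcases (le_inf l l').eq_or_lt with rfl | c
  swap
  · exact H _ c (ne_bot_of_gt c) P P' hP hP' inf_le_left inf_le_right
  rcases l.eq_or_lt with e | l
  · exact ⟨1, one_mem _, by rw [one_conj, hP.2 P' hP'.1 (inf_eq_left.1 e)]⟩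
  rcases l'.eq_or_lt with e | l'
  · exact ⟨1, one_mem _, by rw [one_conj, hP'.2 P hP.1 (inf_eq_right.1 e)]⟩
  have hn := normsI hP.1.2.2 hP'.1.2.2
  have a := nilpotent_proper_norm (pgroup_nil hP.1.2.1) l
  have b := nilpotent_proper_norm (pgroup_nil hP'.1.2.1) l'
  obtain ⟨n, hn', T, hT', k, k'⟩ := tr_step hT (dg_of hD ih fun e => l.ne (le_antisymm l.le
      (le_top.trans ((norm_eq_top.1 e).eq_bot_or_eq_top.resolve_left D1).ge))) hV hn hr r2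
    ⟨inf_le_right, hP.1.2.1.to_inf_left, normsI hP.1.2.2 (norms_norm hn)⟩
    ⟨inf_le_right, hP'.1.2.1.to_inf_left, normsI hP'.1.2.2 (norms_norm hn)⟩
  have a' := conj_lt_conj (g := n).2 a
  rw [conj_eq_of_mem_norm hn'.1] at a'
  obtain ⟨m, hm, e⟩ := H _ a' (ne_bot_of_gt a') _ T (maxInv_conj hP ⟨mem_top n, hn'.2⟩) hT'
    (conj_le_conj.2 inf_le_left) k
  obtain ⟨m', hm', e'⟩ := H _ b (ne_bot_of_gt b) T P' hT' hP' k' inf_le_left
  exact ⟨m' * m * n, mul_mem (mul_mem hm' hm) hn'.2, by rw [← conj_conj, ← conj_conj, e, e']⟩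

theorem tr_all (hT : StTrX.{u}) (hD : Dih G) (ih : IH.{u} (Nat.card G))
    (nab : ¬ IsMulCommutative G) (hV : Klein V) (hF : Fus ⊤ V) (hr : r.Prime) (r2 : r ≠ 2)
    (hP : MaxInv ⊤ V r P) (hP' : MaxInv ⊤ V r P') : ∃ n ∈ 𝐍[V], n •ᶜ P = P' := by
  haveI := Fact.mk hr
  by_cases e : P = ⊥
  · exact ⟨1, one_mem _, by rw [one_conj, hP.2 P' hP'.1 (e ▸ bot_le)]⟩
  by_cases e' : P' = ⊥
  · exact ⟨1, one_mem _, by rw [one_conj, hP'.2 P hP.1 (e' ▸ bot_le)]⟩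
  have k : ∀ P, InvP ⊤ V r P → P ≠ ⊥ → ∃ v ∈ V, v ≠ 1 ∧ P ⊓ 𝐂₁[v] ≠ ⊥ := fun P h h1 =>
    (coprime_abelian_exists_cent1 hV.ab hV.not_cyclic h.2.2
      (hV.coprime (odd_card_of_pgroup h.2.1 r2)) (mt le_bot_iff.1 h1)).imp fun _ h =>
        ⟨h.1, h.2.1, mt le_bot_iff.2 h.2.2⟩
  obtain ⟨v, hv, v1, c⟩ := k P hP.1 e
  obtain ⟨w, hw, w1, c'⟩ := k P' hP'.1 e'
  obtain ⟨y, hy, rfl⟩ := hF v hv w hw v1 w1
  have hQ := maxInv_conj hP hy
  rw [← conj_ne_bot (g := y), conj_inf, ← cent1_conj] at c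
  have hc := le_cent1.2 (abelian_iff.1 hV.ab hw)
  obtain ⟨n, hn, T, hT', l, l'⟩ := tr_step hT (dg_of hD ih fun e => nab ⟨⟨fun a b => by
      have : center G = ⊤ := (center G).normal_of_characteristic.eq_bot_or_eq_top.resolve_left
        fun z => w1 (mem_bot.1 (z ▸ mem_center_iff.2 fun g => mem_cent1.1 (e.ge (mem_top g))))
      exact mem_center_iff.1 (this.ge (mem_top b)) a⟩⟩) hV hc hr r2
    ⟨inf_le_right, hQ.1.2.1.to_inf_left, normsI hQ.1.2.2 (normsG hc)⟩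
    ⟨inf_le_right, hP'.1.2.1.to_inf_left, normsI hP'.1.2.2 (normsG hc)⟩
  obtain ⟨m, hm, a⟩ := tr_meet hT hD ih hV hr r2 _ (conj_ne_bot.2 c) _ T
    (maxInv_conj hQ ⟨mem_top n, hn.2⟩) hT' (conj_le_conj.2 inf_le_left) l
  obtain ⟨m', hm', a'⟩ := tr_meet hT hD ih hV hr r2 _ c' T P' hT' hP' l' inf_le_left
  exact ⟨m' * m * n * y, mul_mem (mul_mem (mul_mem hm' hm) hn.2) hy.2, by
    rw [← conj_conj, ← conj_conj, ← conj_conj, a, a']⟩

end Fr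

open Subgroup Cfsg.FT Cfsg.Gag Cfsg.Gag.Fin5 Fr

universe u

theorem stBase (hK : StOK.{u}) (hO : StOD.{u}) (hT : StTrX.{u}) : StBase.{u} := by
  intro G _ _ _ hD ih nab
  have hp : ⁅(⊤ : Subgroup G), ⊤⁆ = ⊤ := (commutator G).normal_of_characteristic.eq_bot_or_eq_top
    |>.resolve_left fun e => nab ⟨⟨fun a b =>
      comm_of_abelian (derG1P.1 e) (mem_top a) (mem_top b)⟩⟩
  have hc : ∀ a b : G, orderOf a = 2 → orderOf b = 2 → IsConj a b := fun a b oa ob =>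
    let ⟨g, _, e⟩ := conj_of_perf hD hp top_ne_bot a (mem_top a) b (mem_top b) oa ob
    isConj_iff.2 ⟨g, e⟩
  have hF : ∀ V : Subgroup G, Klein V → Fus ⊤ V := fun V h => fus_of_perf hD hp h le_top
  obtain ⟨S, hS⟩ := Sylow_exists 2 (⊤ : Subgroup G)
  have sh := syl_shape hD (fun hs => (sol_der1_proper hs top_ne_bot).ne hp) hS
  obtain ⟨t, tS, ot, cen, sh', K, s, hKs, tK, h2, hb⟩ : ∃ t ∈ S, orderOf t = 2 ∧ S ≤ 𝐂₁[t] ∧
      (Klein S ∨ ∃ f x : G, D8 S f x ∧ f ^ 2 = t) ∧ ∃ (K : Subgroup G) (s : G), S = K ⊔ ⟪s⟫ ∧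
      t ∈ K ∧ (∀ v ∈ K, v ≠ 1 → t ∈ ⟪v⟫) ∧ IsMulCommutative K ∧ s ∉ K ∧ s * s = 1 ∧
      ∀ x ∈ K, s * x * s = x⁻¹ := by
    rcases sh with h | ⟨f, x, h⟩
    · obtain ⟨t, ht, t1⟩ := exists_ne_one h.ne_bot
      obtain ⟨s, hs, st⟩ := SetLike.not_le_iff_exists.1 fun e : S ≤ ⟪t⟫ =>
        h.not_cyclic (cyclicS e (cycle_cyclic t))
      refine ⟨t, ht, h.orderOf ht t1, le_cent1.2 (abelian_iff.1 h.ab ht), .inl h, ⟪t⟫, s,
        h.gen hs ht (fun e => st (e ▸ one_mem _)) t1 (fun e => st (e ▸ mem_zpowers s)),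
        mem_zpowers t, fun v hv v1 => ?_, cycle_abelian t, st, h.2 s hs, fun x hx => ?_⟩
      · rw [(mem_cycle2 (h.2 t ht) hv).resolve_left v1]; exact mem_zpowers t
      · have hx' := zpowers_le.2 ht hx
        rw [comm_of_abelian h.ab hs hx', mul_assoc, h.2 s hs, mul_one,
          inv_eq_of_mul_eq_one_right (h.2 x hx')]
    · refine ⟨f ^ 2, d8_TA h d8_cT, d8_oc h, le_cent1.2 (d8_cA h), .inr ⟨f, x, h, rfl⟩, ⟪f⟫, x,
        h.gen, pow_mem (mem_zpowers f) 2, fun v hv v1 => ?_, cycle_abelian f,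
        fun e => d8_nc h (comm_of_abelian (cycle_abelian f) (mem_zpowers f) e), d8_xx h,
        fun y hy => ?_⟩
      · have h4 : IsPGroup 2 ⟪f⟫ := (d8_pgroup h).to_le (zpowers_le.2 (d8_fA h))
        exact Ohm1_cyclic_le (cycle_cyclic f) h4 (zpowers_le.2 hv) (zpowers_ne_bot.2 v1)
          (mem_Ohm1 (pow_mem (mem_zpowers f) 2) (by rw [pow_two, d8_f4 h]))
      · obtain ⟨k, rfl⟩ := hy
        have := congrArg (· ^ k) h.inv
        simp only [conj_zpow, inv_zpow] at this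
        rwa [d8_xinv h] at this
  have sd := (cent1_pnil hD ot).sdprod (hS.subl cen le_top)
  have t1 : t ≠ 1 := fun e => by simp [e] at ot
  by_cases h0 : oc t = ⊥
  · refine .inl ⟨K, t, s, hb.1, tK, ot, fun v hv e => or_iff_not_imp_left.2 fun v1 =>
      ((mem_cycle2 e (h2 v hv v1)).resolve_left t1).symm, hb.2.1, hb.2.2.1, hb.2.2.2,
      fun v hv v1 => (cent1_le_cent1_of_mem (h2 v hv v1)).trans ?_, hc⟩
    rw [← sd.sup_eq, ← hKs]
    exact sup_le (h0.le.trans bot_le) le_rfl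
  refine .inr ⟨S, t, hD, ih, nab, hS, tS, ot, cen, h0, sh', hc, hF, sd.sup_eq, fun M hM hl => ?_,
    fun V P P' r hV hr r2 => tr_all hT hD ih nab hV (hF V hV) hr r2⟩
  rcases sh' with h | ⟨f, x, h, rfl⟩
  · refine ⟨S, h, le_rfl, i1_klein hK hS h (hF S h) tS t1 ?_ hM hl⟩
    have h1 := sdprod_card sd
    have h3 : Nat.card (oc t) ≠ 1 := mt Subgroup.card_eq_one.1 h0
    obtain ⟨m, hm⟩ := oc_odd t
    rw [h.1, hm] at h1
    omega
  · by_contra c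
    push Not at c
    exact i1_d8 hO hS h hc hM hl c

end Cfsg.GW
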