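import Cfsg.Agent.Blk.FiveComb

/-! Integer combinatorics for the Brauer-Suzuki-Wall theorem. -/

set_option autoImplicit false

namespace Cfsg.GW

variable {ι L : Type*} [DecidableEq ι] {s : Finset ι}

omit [DecidableEq ι] in
theorem bsw_sq_le {w : ι → ℤ} (hw : ∑ i ∈ s, w i ^ 2 = 3) {i : ι} (hi : i ∈ s) :
    w i = 0 ∨ w i = 1 ∨ w i = -1 := by
  have h1 := Finset.single_le_sum (f := fun i => w i ^ 2) (fun _ _ => sq_nonneg _) hi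
  obtain ⟨h2, h3⟩ : -1 ≤ w i ∧ w i ≤ 1 := by constructor <;> nlinarith
  omega

theorem bsw_pair {v w : ι → ℤ} (hw : ∑ i ∈ s, w i ^ 2 = 3) (hv : ∑ i ∈ s, v i ^ 2 = 2)
    (h : ∑ i ∈ s, v i * w i = 1) : ∃ a ∈ s, ∃ b ∈ s, ∃ y : ℤ, w a ^ 2 = 1 ∧ w b = 0 ∧ y ^ 2 = 1 ∧
      ∀ i ∈ s, v i = (if i = a then w a else 0) + if i = b then y else 0 := by
  obtain ⟨b, hb, b1, b2⟩ := exists_single_of_sum_eq_one (s := s) (f := fun i => v i * (v i - w i))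
    (fun i hi => by rcases bsw_sq_le hw hi with h | h | h <;> rw [h] <;>
      rcases lt_trichotomy (v i) 0 with h | h | h <;> nlinarith)
    (by simp only [mul_sub, ← sq, Finset.sum_sub_distrib, hv, h]; rfl)
  have b3 : v b ^ 2 = 1 ∧ w b = 0 := by
    rcases Int.eq_one_or_neg_one_of_mul_eq_one' b1 with ⟨h, h'⟩ | ⟨h, h'⟩ <;> rw [h] <;> omega
  rw [← Finset.add_sum_erase _ _ hb] at hv
  obtain ⟨a, ha, a1, a2⟩ := exists_single_of_sum_eq_one (s := s.erase b) (f := fun i => v i ^ 2)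
    (fun i _ => sq_nonneg _) (by omega)
  obtain ⟨a3, a4⟩ := Finset.mem_erase.1 ha
  have a5 : v a = w a := sub_eq_zero.1 ((mul_eq_zero.1 (b2 a a4 a3)).resolve_left fun h => by
    rw [h] at a1; omega)
  refine ⟨a, a4, b, hb, v b, a5 ▸ a1, b3.2, b3.1, fun i hi => ?_⟩
  by_cases h1 : i = b
  · simp [h1, a3.symm]
  by_cases h2 : i = a
  · simp [h2, a3, a5]
  simpa [h1, h2] using a2 i (Finset.mem_erase.2 ⟨h1, hi⟩) h2

theorem bsw_three {w : ι → ℤ} (hw : ∑ i ∈ s, w i ^ 2 = 3) {a : ι} (ha : a ∈ s) (h : w a ^ 2 = 1) :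
    ∃ b ∈ s, ∃ c ∈ s, a ≠ b ∧ a ≠ c ∧ b ≠ c ∧ w b ^ 2 = 1 ∧ w c ^ 2 = 1 ∧
      ∀ {R : Type} [CommRing R] (F : ι → R),
        ∑ i ∈ s, w i * F i = w a * F a + w b * F b + w c * F c := by
  have h1 := hw
  rw [← Finset.add_sum_erase _ _ ha] at h1
  obtain ⟨b, hb, b1⟩ := Finset.exists_ne_zero_of_sum_ne_zero (s := s.erase a)
    (f := fun i => w i ^ 2) (by omega)
  obtain ⟨b2, b3⟩ := Finset.mem_erase.1 hb
  have b4 : w b ^ 2 = 1 := by rcases bsw_sq_le hw b3 with h | h | h <;> simp_all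
  rw [← Finset.add_sum_erase _ _ hb] at h1
  obtain ⟨c, hc, c1, c2⟩ := exists_single_of_sum_eq_one (s := (s.erase a).erase b)
    (f := fun i => w i ^ 2) (fun i _ => sq_nonneg _) (by omega)
  obtain ⟨c3, c4⟩ := Finset.mem_erase.1 hc
  refine ⟨b, b3, c, (Finset.mem_erase.1 c4).2, b2.symm, (Finset.mem_erase.1 c4).1.symm, c3.symm,
    b4, c1, fun F => ?_⟩
  rw [← Finset.add_sum_erase _ _ ha, ← Finset.add_sum_erase _ _ hb, Finset.sum_eq_single_of_mem c hc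
    fun i hi h => by rw [pow_eq_zero_iff two_ne_zero |>.1 (c2 i hi h), Int.cast_zero, zero_mul],
    add_assoc]

theorem bsw_two {a b c N : ℤ} (ha : Odd a) (hb : Odd b) (hc : Odd c) (a2 : 2 ≤ |a|) (b2 : 2 ≤ |b|)
    (c2 : 2 ≤ |c|) (h : a + b + c = -1) (hN : 1 + a ^ 2 + b ^ 2 + c ^ 2 ≤ N)
    (hk : N * (1 + (a : ℚ)⁻¹ + (b : ℚ)⁻¹ + (c : ℚ)⁻¹) = 32) : a = b ∨ a = c ∨ b = c := by
  have h1 : ∀ {x : ℤ}, Odd x → 2 ≤ |x| → x ≠ 0 ∧ -1 / 3 ≤ (x : ℚ)⁻¹ ∧ (0 < x → 0 < (x : ℚ)⁻¹) :=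
    fun {x} hx h2 => by
    obtain ⟨y, hy⟩ := hx
    refine ⟨by omega, ?_, fun h => by positivity⟩
    rcases le_or_gt 0 x with h | h
    · have : (0 : ℚ) ≤ (x : ℚ)⁻¹ := by positivity
      linarith
    · rw [abs_of_neg h] at h2
      have h3 : (x : ℚ) ≤ -3 := by exact_mod_cast (by omega : x ≤ -3)
      rw [← neg_le_neg_iff, neg_inv, neg_div, neg_neg, one_div]
      exact inv_anti₀ (by norm_num) (by linarith)
  obtain ⟨a3, a4, a5⟩ := h1 ha a2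
  obtain ⟨b3, b4, b5⟩ := h1 hb b2
  obtain ⟨c3, c4, c5⟩ := h1 hc c2
  have h2 : 1 / 3 < 1 + (a : ℚ)⁻¹ + (b : ℚ)⁻¹ + (c : ℚ)⁻¹ := by
    by_cases h2 : 0 < a
    · linarith [a5 h2]
    by_cases h3 : 0 < b
    · linarith [b5 h3]
    linarith [c5 (by omega)]
  have h3 : (0 : ℚ) < N := by exact_mod_cast (by nlinarith : 0 < N)
  have h4 : N < 96 := by exact_mod_cast (by nlinarith : (N : ℚ) < 96)
  have h5 : N * (a * b * c + b * c + a * c + a * b) = 32 * (a * b * c) := by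
    apply Int.cast_injective (α := ℚ)
    push_cast
    rw [← hk]
    field_simp
  obtain rfl : c = -1 - a - b := by omega
  obtain ⟨h6, h7⟩ : -9 ≤ a ∧ a ≤ 9 := by constructor <;> nlinarith [sq_nonneg b, sq_nonneg (-1 - a - b)]
  obtain ⟨h8, h9⟩ : -9 ≤ b ∧ b ≤ 9 := by constructor <;> nlinarith [sq_nonneg a, sq_nonneg (-1 - a - b)]
  rw [Int.odd_iff] at ha hb
  clear h1 hk a4 a5 b4 b5 c4 c5 h2 h3 hc a3 b3 c3
  interval_cases a <;> (try omega) <;> interval_cases b <;> omega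

theorem bsw_comb [Nonempty ι] [Group L] {T : Finset L} {v : L → ι → ℤ} {w d τ : ι → ℤ}
    {e : L → ℤ} {e₀ N : ℤ} {κ : ℚ} (hT : ∀ l ∈ T, l⁻¹ ∈ T ∧ l⁻¹ ≠ l) (hv : ∀ l, v l⁻¹ = v l) (he : ∀ l, e l⁻¹ = e l)
    (he' : ∀ l, e l ^ 2 = 1) (he₀ : e₀ ^ 2 = 1) (hs : 1 + e₀ + ∑ l ∈ T, e l = 0)
    (hw : ∑ i ∈ s, w i ^ 2 = 3) (hvv : ∀ l ∈ T, ∑ i ∈ s, v l i ^ 2 = 2)
    (hvw : ∀ l ∈ T, ∑ i ∈ s, v l i * w i = 1)
    (hlm : ∀ l ∈ T, ∀ m ∈ T, m ≠ l → m ≠ l⁻¹ → ∑ i ∈ s, v l i * v m i = 1)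
    (hτ : ∀ i ∈ s, τ i = -(w i * e₀ + ∑ l ∈ T, v l i * e l)) (hd : ∀ i ∈ s, 2 ≤ d i)
    (hwd : ∑ i ∈ s, w i * d i = -1) (hvd : ∀ l ∈ T, ∑ i ∈ s, v l i * d i = -1)
    (hwκ : 1 + ∑ i ∈ s, w i * ((τ i : ℚ) ^ 2 / d i) = κ)
    (hvκ : ∀ l ∈ T, 1 + ∑ i ∈ s, v l i * ((τ i : ℚ) ^ 2 / d i) = κ)
    (h2 : T = ∅ → N * κ = 32) (hN : 1 + ∑ i ∈ s, d i ^ 2 = N) (hp : ∀ i ∈ s, Even (d i - τ i)) :
    ∃ a ∈ s, ∃ b ∈ s, ∃ c ∈ s, w a ^ 2 = 1 ∧ w b ^ 2 = 1 ∧ w c ^ 2 = 1 ∧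
      (∀ {R : Type} [CommRing R] (F : ι → R),
        ∑ i ∈ s, w i * F i = w a * F a + w b * F b + w c * F c) ∧
      (∀ l ∈ T, v l a = w a ∧ v l b = 0) ∧ w b * d b = w c * d c ∧
      1 + ((w a * d a : ℤ) : ℚ)⁻¹ + 2 * ((w b * d b : ℤ) : ℚ)⁻¹ = κ := by
  classical
  have hq : ∀ {x : ℤ} {i : ι}, x ^ 2 = 1 → ∀ y : ℚ, x * (y / d i) = y * ((x * d i : ℤ) : ℚ)⁻¹ :=
    fun h y => by rcases sq_eq_one_iff.1 h with h | h <;> simp [h, div_eq_mul_inv, inv_neg]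
  have hwd' : ∑ i ∈ s, (w i : ℚ) * d i = -1 := by exact_mod_cast hwd
  rcases T.eq_empty_or_nonempty with rfl | ⟨l₀, hl₀⟩
  · obtain ⟨a, ha, a1⟩ := Finset.exists_ne_zero_of_sum_ne_zero (hw ▸ three_ne_zero)
    have a2 : w a ^ 2 = 1 := by rcases bsw_sq_le hw ha with h | h | h <;> simp_all
    obtain ⟨b, hb, c, hc, hab, hac, hbc, b2, c2, hF⟩ := bsw_three hw ha a2
    have h1 : ∀ i ∈ s, w i ^ 2 = 1 → (τ i : ℚ) ^ 2 = 1 ∧ Odd (w i * d i) ∧ 2 ≤ |w i * d i| ∧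
        (w i * d i) ^ 2 = d i ^ 2 := fun i hi h => by
      have h1 := hτ i hi
      have h2 := hp i hi
      have h3 := hd i hi
      rw [Int.even_iff] at h2
      rcases sq_eq_one_iff.1 h with h | h <;> rcases sq_eq_one_iff.1 he₀ with h' | h' <;>
        simp [h, h'] at h1 <;> simp [h, h1, Int.odd_iff, abs_of_pos (by omega : 0 < d i)] <;> omega
    obtain ⟨a3, a4, a5, a6⟩ := h1 a ha a2
    obtain ⟨b3, b4, b5, b6⟩ := h1 b hb b2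
    obtain ⟨c3, c4, c5, c6⟩ := h1 c hc c2
    rw [hF, hq a2, hq b2, hq c2, a3, b3, c3] at hwκ
    rw [hF] at hwd'
    have h3 := Finset.sum_le_sum_of_subset_of_nonneg (s := {a, b, c}) (t := s) (f := fun i => d i ^ 2)
      (by simp [Finset.insert_subset_iff, ha, hb, hc]) fun _ _ _ => sq_nonneg _
    rw [Finset.sum_insert (by simp [hab, hac]), Finset.sum_pair hbc] at h3
    rcases bsw_two a4 b4 c4 a5 b5 c5 (by exact_mod_cast hwd') (N := N) (by omega)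
      (by rw [← h2 rfl, ← hwκ]; ring) with h | h | h
    · exact ⟨c, hc, a, ha, b, hb, c2, a2, b2, fun F => by rw [hF]; ring, by simp, h,
        by rw [← hwκ, h]; ring⟩
    · exact ⟨b, hb, a, ha, c, hc, b2, a2, c2, fun F => by rw [hF]; ring, by simp, h,
        by rw [← hwκ, h]; ring⟩
    · exact ⟨a, ha, b, hb, c, hc, a2, b2, c2, hF, by simp, h, by rw [← hwκ, h]; ring⟩
  choose! a ha b hb y a1 b1 y1 hab using fun l hl => bsw_pair hw (hvv l hl) (hvw l hl)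
  have ne : ∀ l ∈ T, ∀ m ∈ T, a l ≠ b m := fun l hl m hm h => by
    have := a1 l hl; rw [h, b1 m hm] at this; omega
  have hF : ∀ l ∈ T, ∀ F : ι → ℤ,
      ∑ i ∈ s, v l i * F i = w (a l) * F (a l) + y l * F (b l) := fun l hl F => by
    rw [Finset.sum_congr rfl fun i hi => by rw [hab l hl i hi]]
    simp [add_mul, Finset.sum_add_distrib, ha l hl, hb l hl]
  have hQ : ∀ l ∈ T, ∀ F : ι → ℚ,
      ∑ i ∈ s, v l i * F i = w (a l) * F (a l) + y l * F (b l) := fun l hl F => by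
    rw [Finset.sum_congr rfl fun i hi => by rw [hab l hl i hi]]
    simp [add_mul, Finset.sum_add_distrib, ha l hl, hb l hl]
  have d0 : ∀ {x : ℤ}, ∀ i ∈ s, x ^ 2 = 1 → ((x * d i : ℤ) : ℚ) ≠ 0 := fun i hi h =>
    Int.cast_ne_zero.2 (mul_ne_zero (by rintro rfl; omega) (by have := hd i hi; omega))
  have va : ∀ l ∈ T, ∀ m ∈ T, v m (a l) = if a l = a m then w (a l) else 0 := fun l hl m hm => by
    rw [hab m hm _ (ha l hl), if_neg (ne l hl m hm), add_zero]; split_ifs with h <;> simp [h]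
  have vb : ∀ l ∈ T, ∀ m ∈ T, v m (b l) = if b l = b m then y m else 0 := fun l hl m hm => by
    rw [hab m hm _ (hb l hl), if_neg (ne m hm l hl).symm, zero_add]
  have ai : ∀ l ∈ T, a l = a l⁻¹ ∧ b l = b l⁻¹ ∧ y l⁻¹ = y l := fun l hl => by
    have h1 := va l hl _ (hT l hl).1
    have h2 := vb l hl _ (hT l hl).1
    have h3 := a1 l hl
    have h4 := y1 l hl
    rw [hv, va l hl l hl, if_pos rfl] at h1
    rw [hv, vb l hl l hl, if_pos rfl] at h2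
    split_ifs at h1 h2 with h h' <;> simp_all
  have alt : ∀ l ∈ T, ∀ m ∈ T, m ≠ l → m ≠ l⁻¹ →
      a l = a m ∧ b l ≠ b m ∨ a l ≠ a m ∧ b l = b m ∧ y l = y m := fun l hl m hm h h' => by
    have h1 := hlm l hl m hm h h'
    rw [hF l hl, va l hl m hm, vb l hl m hm] at h1
    rcases sq_eq_one_iff.1 (a1 l hl) with h2 | h2 <;> rcases sq_eq_one_iff.1 (y1 l hl) with h3 | h3 <;>
      rcases sq_eq_one_iff.1 (y1 m hm) with h4 | h4 <;> rw [h2, h3, h4] at h1 <;> split_ifs at h1 with h5 h6 h6 <;>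
      first | omega | exact Or.inl ⟨h5, h6⟩ | exact Or.inr ⟨h5, h6, h3.trans h4.symm⟩
  have two : ∀ l ∈ T, ∀ F : L → ℤ, (∀ m ∈ T, m ≠ l → m ≠ l⁻¹ → F m = 0) →
      ∑ m ∈ T, F m = F l + F l⁻¹ := fun l hl F h =>
    Finset.sum_eq_add_of_mem _ _ hl (hT l hl).1 (hT l hl).2.symm fun m hm h' => h m hm h'.1 h'.2
  have key : ∀ l ∈ T, ∀ m ∈ T, a l = a m := by
    by_contra! h
    obtain ⟨l, hl, m, hm, h⟩ := h
    have k0 : ∀ l ∈ T, ∀ m ∈ T, a l ≠ a m → b l = b m ∧ y l = y m := fun l hl m hm h =>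
      ((alt l hl m hm (fun e => h (e ▸ rfl)) fun e => h (e ▸ (ai l hl).1)).resolve_left
        fun e => h e.1).2
    have k1 : ∀ l ∈ T, ∀ m ∈ T, a l ≠ a m → τ (a l) ^ 2 = 5 + 4 * e₀ * e l ∧
        ∀ n ∈ T, a l = a n → e n = e l := fun l hl m hm h => by
      have k1 : ∀ n ∈ T, n ≠ l → n ≠ l⁻¹ → a l ≠ a n := fun n hn h1 h2 h3 =>
        ((alt l hl n hn h1 h2).resolve_right fun e => e.1 h3).2
          ((k0 l hl m hm h).1.trans (k0 n hn m hm (h3 ▸ h)).1.symm)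
      refine ⟨?_, fun n hn h1 => ?_⟩
      · rw [hτ _ (ha l hl), two l hl _ fun n hn h1 h2 => by
          rw [va l hl n hn, if_neg (k1 n hn h1 h2), zero_mul], hv, he, va l hl l hl, if_pos rfl]
        linear_combination (e₀ + 2 * e l) ^ 2 * a1 l hl + he₀ + 4 * he' l
      · by_contra h2
        exact k1 n hn (fun e => h2 (e ▸ rfl)) (fun e' => h2 (e' ▸ he l)) h1
    have k2 : ∀ n ∈ T, e n = e l := fun n hn => by
      by_cases h1 : a l = a n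
      · exact (k1 l hl m hm h).2 n hn h1
      obtain ⟨h2, h3⟩ := k0 l hl n hn h1
      have h4 := (hvd l hl).trans (hvd n hn).symm
      have h5 := (hvκ l hl).trans (hvκ n hn).symm
      rw [hF l hl, hF n hn, h2, h3, add_left_inj] at h4
      rw [hQ l hl, hQ n hn, h2, h3, add_right_inj, add_left_inj, hq (a1 l hl), hq (a1 n hn), h4,
        mul_left_inj' (inv_ne_zero (d0 _ (ha n hn) (a1 n hn)))] at h5
      have h6 : τ (a l) ^ 2 = τ (a n) ^ 2 := by exact_mod_cast h5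
      rw [(k1 l hl n hn h1).1, (k1 n hn l hl (Ne.symm h1)).1] at h6
      rcases sq_eq_one_iff.1 he₀ with h7 | h7 <;> rw [h7] at h6 <;> omega
    have h3 := Finset.card_le_card (s := {l, l⁻¹, m}) (t := T)
      (by simp [Finset.insert_subset_iff, hl, hm, (hT l hl).1])
    rw [Finset.card_eq_three.2 ⟨l, l⁻¹, m, (hT l hl).2.symm, fun e => h (e ▸ rfl),
      fun e => h (e ▸ (ai l hl).1), rfl⟩] at h3
    rw [Finset.sum_congr rfl k2, Finset.sum_const, nsmul_eq_mul] at hs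
    rcases sq_eq_one_iff.1 he₀ with h1 | h1 <;> rcases sq_eq_one_iff.1 (he' l) with h2 | h2 <;>
      rw [h1, h2] at hs <;> omega
  obtain ⟨b', hb', c, hc, hab', hac, -, b2, c2, hW⟩ := bsw_three hw (ha l₀ hl₀) (a1 l₀ hl₀)
  have v0 : ∀ i ∈ s, w i ^ 2 = 1 → a l₀ ≠ i → ∀ l ∈ T, v l i = 0 := fun i hi h1 h2 l hl => by
    rw [hab l hl i hi, if_neg (key l₀ hl₀ l hl ▸ h2.symm), if_neg fun h => by
      rw [h, b1 l hl] at h1; omega, add_zero]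
  have t0 : ∀ i ∈ s, w i ^ 2 = 1 → a l₀ ≠ i → (τ i : ℚ) ^ 2 = 1 := fun i hi h1 h2 => by
    rw [hτ i hi, Finset.sum_eq_zero fun l hl => by rw [v0 i hi h1 h2 l hl, zero_mul]]
    exact_mod_cast (by linear_combination e₀ ^ 2 * h1 + he₀ : (-(w i * e₀ + 0)) ^ 2 = 1)
  have v1 : ∀ l ∈ T, v l (a l₀) = w (a l₀) := fun l hl => by
    rw [va l₀ hl₀ l hl, if_pos (key l₀ hl₀ l hl)]
  have t1 : (τ (a l₀) : ℚ) ^ 2 = 1 := by
    rw [hτ _ (ha l₀ hl₀), Finset.sum_congr rfl fun l hl => by rw [v1 l hl], ← Finset.mul_sum,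
      show ∑ l ∈ T, e l = -1 - e₀ by omega]
    exact_mod_cast (by linear_combination a1 l₀ hl₀ : (-(w (a l₀) * e₀ + w (a l₀) * (-1 - e₀))) ^ 2 = 1)
  have t2 : (τ (b l₀) : ℚ) ^ 2 = 4 := by
    rw [hτ _ (hb l₀ hl₀), two l₀ hl₀ _ fun n hn h1 h2 => by
      rw [vb l₀ hl₀ n hn, if_neg ((alt l₀ hl₀ n hn h1 h2).resolve_right
        fun e => e.1 (key _ hl₀ n hn)).2, zero_mul], hv, he, vb l₀ hl₀ l₀ hl₀, if_pos rfl, b1 l₀ hl₀]
    exact_mod_cast (by linear_combination 4 * e l₀ ^ 2 * y1 l₀ hl₀ + 4 * he' l₀ :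
      (-(0 * e₀ + (y l₀ * e l₀ + y l₀ * e l₀))) ^ 2 = 4)
  have e1 := hvκ l₀ hl₀
  have e2 : ∑ i ∈ s, (v l₀ i : ℚ) * d i = -1 := by exact_mod_cast hvd l₀ hl₀
  rw [hQ l₀ hl₀, hq (a1 l₀ hl₀), hq (y1 l₀ hl₀), t1, t2] at e1
  rw [hW, hq (a1 l₀ hl₀), hq b2, hq c2, t1, t0 b' hb' b2 hab', t0 c hc c2 hac] at hwκ
  rw [hQ l₀ hl₀] at e2
  rw [hW] at hwd'
  have e3 := d0 _ hb' b2
  have e4 := d0 _ hc c2
  have e5 := d0 _ (hb l₀ hl₀) (y1 l₀ hl₀)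
  have e6 : ((w b' * d b' : ℤ) : ℚ) = (w c * d c : ℤ) := by
    have e6 : ((y l₀ * d (b l₀) : ℤ) : ℚ) = (w b' * d b' : ℤ) + (w c * d c : ℤ) := by
      push_cast; linarith
    have e7 : 4 * ((y l₀ * d (b l₀) : ℤ) : ℚ)⁻¹ =
        ((w b' * d b' : ℤ) : ℚ)⁻¹ + ((w c * d c : ℤ) : ℚ)⁻¹ := by linarith
    rw [e6] at e5 e7
    generalize ((w b' * d b' : ℤ) : ℚ) = X at *
    generalize ((w c * d c : ℤ) : ℚ) = Y at *
    field_simp at e7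
    exact sub_eq_zero.1 (pow_eq_zero_iff two_ne_zero |>.1 (by linear_combination -e7))
  exact ⟨_, ha l₀ hl₀, b', hb', c, hc, a1 l₀ hl₀, b2, c2, hW,
    fun l hl => ⟨v1 l hl, v0 b' hb' b2 hab' l hl⟩, by exact_mod_cast e6, by rw [← hwκ, e6]; ring⟩

end Cfsg.GW
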