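import Cfsg.Agent.GW.Defs
import Cfsg.Agent.Gag.WA

/-!
# S4594 core (Gorenstein-Walter for Sylow 2-subgroups of order at most 8): vocabulary and pieces

FROZEN: do not edit the definitions (plan: `docs/GW2.md`).
-/

set_option autoImplicit false

namespace Cfsg.GW

open Subgroup Cfsg.FT Cfsg.Gag
open scoped Pointwise

universe u

variable {G : Type u} [Group G]

/-- every 2-subgroup has order at most 4 or is dihedral of order 8 -/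
def Dih (G : Type u) [Group G] : Prop :=
  ∀ Q : Subgroup G, IsPGroup 2 Q → Nat.card Q ≤ 4 ∨ ∃ f x : G, D8 Q f x

/-- the theorem for simple groups of order less than `n` -/
def IH (n : ℕ) : Prop := ∀ (L : Type u) [Group L] [Finite L] [IsSimpleGroup L],
  Nat.card L < n → Dih L → ¬ IsMulCommutative L → IsL2 L ∨ IsA7 L

/-- `X` is a subgroup all of whose simple sections are known -/
structure DG (X : Subgroup G) : Prop where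
  dih : Dih G
  ih : IH.{u} (Nat.card X + 1)

/-- `O(X)` -/
abbrev od (X : Subgroup G) : Subgroup G := core {2}ᶜ X

/-- `N_X(V)` is transitive on `V#` -/
def Fus (X V : Subgroup G) : Prop :=
  ∀ a ∈ V, ∀ b ∈ V, a ≠ 1 → b ≠ 1 → ∃ y ∈ X ⊓ 𝐍[V], y * a * y⁻¹ = b

/-- `P` is a `V`-invariant `r`-subgroup of `X` -/
def InvP (X V : Subgroup G) (r : ℕ) (P : Subgroup G) : Prop :=
  P ≤ X ∧ IsPGroup r P ∧ V ≤ 𝐍[P]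

/-- `P` is a maximal `V`-invariant `r`-subgroup of `X` -/
def MaxInv (X V : Subgroup G) (r : ℕ) (P : Subgroup G) : Prop :=
  InvP X V r P ∧ ∀ P', InvP X V r P' → P ≤ P' → P' = P

/-- `E` is the solvable residual of the non-solvable D-group `X` -/
structure ResF (E X : Subgroup G) : Prop where
  nrm : E ⊴ X
  perf : ⁅E, E⁆ = E
  ne : E ≠ ⊥
  max : ∀ L : Subgroup G, L ≤ X → ⁅L, L⁆ = L → L ≤ E
  min : ∀ N : Subgroup G, N ⊴ X → N ≤ od X ∨ E ≤ N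
  minE : ∀ N : Subgroup G, N ⊴ E → N ≤ od X ∨ N = E
  meet : ∀ V : Subgroup G, Klein V → V ≤ X → V ⊓ E ≠ ⊥
  fus : ∀ V : Subgroup G, Klein V → V ≤ E → Fus E V
  conj : ∀ a ∈ E, ∀ b ∈ E, orderOf a = 2 → orderOf b = 2 → ∃ g ∈ E, g * a * g⁻¹ = b
  cent : X ⊓ 𝐂[E] ≤ od X
  con : E ≤ 𝐂[od X] ∨ X ⊓ 𝐂[fit X] ≤ fit X

/-- local data of a component `E ≅ L₂(q)`, `q = 2|K| + ε`, at the involution `t` -/
structure LT (X E : Subgroup G) (t : G) (K : Subgroup G) (ε : ℤ) : Prop where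
  le : K ≤ E ⊓ 𝐂₁[t]
  cyc : IsCyclic K
  tK : t ∈ K
  idx : Nat.card ↥(E ⊓ 𝐂₁[t]) = 2 * Nat.card K
  inv : ∀ s ∈ E ⊓ 𝐂₁[t], s ∉ K → s * s = 1 ∧ ∀ x ∈ K, s * x * s = x⁻¹
  cent : ∀ x ∈ K, x * x ≠ 1 → E ⊓ 𝐂₁[x] = K
  eps : ε = 1 ∨ ε = -1
  pp : IsPrimePow (2 * (Nat.card K : ℤ) + ε).toNat
  card : (Nat.card E : ℤ) = 2 * Nat.card K * (2 * Nat.card K + ε) * (Nat.card K + ε)
  kf : ∀ (r : ℕ) (Y : Subgroup G), r.Prime → r ≠ 2 → IsPGroup r Y → Y ≤ X ⊓ 𝐂₁[t] → K ≤ 𝐍[Y] →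
    Y ≤ K ⊔ od X
  small : IsPGroup 2 K → ∀ Y : Subgroup G, Y ≤ X ⊓ 𝐂₁[t] → Odd (Nat.card Y) → Y ≤ od X
  out : ∀ s ∈ X ⊓ 𝐂₁[t], s ∉ E → s * s = 1 → (∀ x ∈ K, s * x * s = x⁻¹) ∧
    ∃ A : Subgroup G, IsCyclic A ∧ (Nat.card A : ℤ) = Nat.card K + ε ∧ 1 < Nat.card A ∧
      (∀ x ∈ A, t * x * t = x⁻¹) ∧ E ⊓ 𝐂₁[s] = A ⊔ ⟪t⟫ ∧
      Nat.card ↥(E ⊓ 𝐍[A]) = 2 * Nat.card A ∧ ∀ x ∈ A, x ≠ 1 → E ⊓ 𝐂₁[x] = A

/-- component `A₆` or `3A₆` -/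
structure T1 (X E : Subgroup G) : Prop where
  d8 : ∃ (D : Subgroup G) (f x : G), D ≤ E ∧ D8 D f x
  small : ∀ t ∈ E, orderOf t = 2 → ∀ Y : Subgroup G, Y ≤ X ⊓ 𝐂₁[t] → Odd (Nat.card Y) → Y ≤ od X
  sig : ∀ V Y : Subgroup G, Klein V → V ≤ X → Y ≤ X → Odd (Nat.card Y) → V ≤ 𝐍[Y] → Y ≤ od X

/-- component `L₂(q)`, `q ≠ 9` -/
structure T2 (X E : Subgroup G) : Prop where
  simple : E ⊓ od X = ⊥
  lt : ∀ t ∈ E, orderOf t = 2 → ∃ (K : Subgroup G) (ε : ℤ), LT X E t K ε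
  kw : ∀ V R : Subgroup G, Klein V → V ≤ X → IsPGroup 2 R → R ≤ X ⊓ 𝐍[V] →
    ⁅od (X ⊓ 𝐂[V]), R⁆ ≤ od X

/-- component `A₇` or `3A₇` -/
structure T3 (X E : Subgroup G) : Prop where
  sup : E ⊔ od X = X
  card : (od X).relIndex E = 2520
  d8 : ∃ (D : Subgroup G) (f x : G), D ≤ E ∧ D8 D f x
  v1 : ∀ t ∈ E, orderOf t = 2 → ∃ V : Subgroup G, Klein V ∧ t ∈ V ∧ V ≤ E ∧
    ∀ Y : Subgroup G, Y ≤ X ⊓ 𝐂₁[t] → Odd (Nat.card Y) → Y ≤ 𝐂[V]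
  three : ∀ t ∈ E, orderOf t = 2 → ∀ Y : Subgroup G, Y ≤ X ⊓ 𝐂₁[t] → Odd (Nat.card Y) →
    (od X).relIndex Y ∣ 3
  ex3 : ∀ t ∈ E, orderOf t = 2 → ∃ c ∈ E ⊓ 𝐂₁[t], orderOf c = 3 ∧ c ∉ od X
  sig : ∀ V Y : Subgroup G, Klein V → V ≤ X → Y ≤ X → Odd (Nat.card Y) → V ≤ 𝐍[Y] →
    ∃ v ∈ V, v ≠ 1 ∧ Y ≤ od X ⊔ od (X ⊓ 𝐂₁[v])

/-! ## D-groups -/

/-- Frobenius -/
def StFrob : Prop := ∀ (G : Type u) [Group G] [Finite G] (X S : Subgroup G), Dih G → Syl 2 S X →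
  (∀ V : Subgroup G, Klein V → V ≤ S → ¬ Fus X V) → od X ⊔ S = X

/-- solvable D-groups -/
def StSol : Prop := ∀ (G : Type u) [Group G] [Finite G] (X V : Subgroup G), Dih G →
  Group.IsSolvable X → Klein V → V ≤ X →
  (∀ Y : Subgroup G, Y ≤ X → Odd (Nat.card Y) → V ≤ 𝐍[Y] → Y ≤ od X) ∧
    (Fus X V → (V ⊔ od X) ⊴ X)

/-- non-solvable D-groups -/
def StRes : Prop := ∀ (G : Type u) [Group G] [Finite G] (X : Subgroup G), DG X →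
  ¬ Group.IsSolvable X → ∃ E : Subgroup G, ResF E X

/-- components -/
def StComp : Prop := ∀ (G : Type u) [Group G] [Finite G] (X E : Subgroup G), DG X → ResF E X →
  E ≤ 𝐂[od X] → T1 X E ∨ T2 X E ∨ T3 X E

def StL1 : Prop := ∀ (G : Type u) [Group G] [Finite G] (X Q : Subgroup G) (t : G) (r : ℕ), DG X →
  t ∈ X → orderOf t = 2 → r.Prime → r ≠ 2 → Q ≤ X → IsPGroup r Q → X ⊓ 𝐂₁[t] ≤ 𝐍[Q] →
  ⁅Q, ⟪t⟫⁆ ≤ core {r} X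

def StTrX : Prop := ∀ (G : Type u) [Group G] [Finite G] (X V P P' : Subgroup G) (r : ℕ), DG X →
  Klein V → V ≤ X → r.Prime → r ≠ 2 → MaxInv X V r P → MaxInv X V r P' →
  ∃ n ∈ X ⊓ 𝐍[V], n •ᶜ P = P'

def StKW : Prop := ∀ (G : Type u) [Group G] [Finite G] (X V : Subgroup G) (c s : G) (p : ℕ), DG X →
  Klein V → V ≤ X → p.Prime → p ≠ 2 → orderOf c = p → c ∈ X ⊓ 𝐂[V] → c ∉ od X →
  s ∈ X ⊓ 𝐍[V] → s * s = 1 → s * c * s = c⁻¹ → p = 3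

def StZL : Prop := ∀ (G : Type u) [Group G] [Finite G] (X V P : Subgroup G) (r : ℕ), DG X →
  Klein V → V ≤ X → r.Prime → r ≠ 2 → X ⊓ 𝐂[core {r} X] ≤ core {r} X → MaxInv X V r P →
  𝐙[puig P] ⊴ X

/-! ## characters -/

/-- `|O(C(t)) : C_{O(C(t))}(s)|` -/
noncomputable abbrev kk (t s : G) : ℕ := 𝐂₁[s].relIndex (oc t)

/-- the number of conjugates of `t` -/
noncomputable abbrev ii (t : G) : ℕ := 𝐂₁[t].index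

def StOK : Prop := ∀ (G : Type u) [Group G] [Finite G] (T : Subgroup G) (t s : G), Syl 2 T ⊤ →
  Klein T → Fus ⊤ T → t ∈ T → s ∈ T → t ≠ 1 → s ≠ 1 → s ≠ t →
  3 * kk t s ^ 2 ≤ ii t ∧ ii t ≤ 15 * kk t s ^ 2

def StOD : Prop := ∀ (G : Type u) [Group G] [Finite G] (S : Subgroup G) (f x : G), Syl 2 S ⊤ →
  D8 S f x → (∀ a b : G, orderOf a = 2 → orderOf b = 2 → IsConj a b) →
  ∃ y a b : ℤ, y % 8 = 2 ∧ a % 8 = 3 ∧ b % 8 = 3 ∧ a + b = -y ∧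
    ii (f ^ 2) * (y - 2) ^ 2 = 8 * (kk (f ^ 2) x + kk (f ^ 2) (x * f) : ℤ) ^ 2 * (y * (y - 1)) ∧
    ii (f ^ 2) * (a - b) ^ 2 = 8 * (kk (f ^ 2) x - kk (f ^ 2) (x * f) : ℤ) ^ 2 * (a * b * y)

def StC1K : Prop := ∀ (G : Type u) [Group G] [Finite G] [IsSimpleGroup G] (T : Subgroup G)
  (t s : G), Syl 2 T ⊤ → Klein T → t ∈ T → s ∈ T → t ≠ 1 → s ≠ 1 → s ≠ t → ⁅oc t, T⁆ ≠ oc t →
  ¬ ⁅od 𝐂[T], 𝐍[T]⁆ ≤ ⁅od 𝐂[T], od 𝐂[T]⁆ ∧ (⁅oc t, T⁆ ⊓ 𝐂[T] = ⊥ → kk t s ∣ ii t)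

def StC1D : Prop := ∀ (G : Type u) [Group G] [Finite G] [IsSimpleGroup G] (S : Subgroup G)
  (f x : G), Syl 2 S ⊤ → D8 S f x → ⁅oc (f ^ 2), S⁆ ≠ oc (f ^ 2) →
  (¬ ∀ V : Subgroup G, Klein V → V ≤ S → ⁅od 𝐂[V], 𝐍[V]⁆ ≤ ⁅od 𝐂[V], od 𝐂[V]⁆) ∧
    ((∀ V : Subgroup G, Klein V → V ≤ S → ⁅oc (f ^ 2), V⁆ ⊓ 𝐂[V] = ⊥) →
      kk (f ^ 2) x ∣ ii (f ^ 2) ∨ kk (f ^ 2) (x * f) ∣ ii (f ^ 2))

/-- Brauer-Suzuki-Wall configuration modulo `N` -/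
structure GB (H N A : Subgroup G) (t σ : G) : Prop where
  conj : ∀ a b : G, orderOf a = 2 → orderOf b = 2 → IsConj a b
  ot : orderOf t = 2
  le : H ≤ 𝐂₁[t]
  idx : H.relIndex 𝐂₁[t] = 2
  cen : H ≤ 𝐂₁[σ]
  tσ : t ∈ ⟪σ⟫
  syl : Syl 2 ⟪σ⟫ H
  invσ : ∀ s ∈ 𝐂₁[t], s ∉ H → s * σ * s⁻¹ = σ⁻¹
  nrm : N ⊴ 𝐂₁[t]
  NH : N ≤ H
  odd : Odd (Nat.card N)
  inv : ∀ s ∈ 𝐂₁[t], s ∉ H → ∀ x ∈ H, s * x * s⁻¹ * x ∈ N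
  ab : IsMulCommutative A
  sup : A ⊔ N = H
  ti : ∀ x ∈ H, x ∉ N → ∀ g : G, g * x * g⁻¹ ∈ H → g * x * g⁻¹ ∉ N → g ∈ 𝐂₁[t]
  big : 6 ≤ N.relIndex H

def StGB : Prop := ∀ (G : Type u) [Group G] [Finite G] [IsSimpleGroup G] (H N A : Subgroup G)
  (t σ : G), GB H N A t σ → ∃ c : ℤ, c ≠ 0 ∧
    ii t * (N.relIndex H * c) ^ 2 = ({s : G | s ∈ 𝐂₁[t] ∧ s ∉ H ∧ s * s = 1}.ncard : ℤ) ^ 2 *
      ((1 + N.relIndex H * c) * (1 + 2 * N.relIndex H * c))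

/-- recognition of `A₇` -/
def StA7 : Prop := ∀ (G : Type u) [Group G] [Finite G] [IsSimpleGroup G] (S : Subgroup G) (f x : G),
  Syl 2 S ⊤ → D8 S f x → Nat.card (oc (f ^ 2)) = 3 → x ∈ 𝐂[oc (f ^ 2)] → f ∉ 𝐂[oc (f ^ 2)] →
  Nat.card G = 2520 → IsA7 G

/-! ## the minimal counterexample -/

structure Ctx (S : Subgroup G) (t : G) : Prop where
  dih : Dih G
  ih : IH.{u} (Nat.card G)
  nab : ¬ IsMulCommutative G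
  syl : Syl 2 S ⊤
  tS : t ∈ S
  ot : orderOf t = 2
  cen : S ≤ 𝐂₁[t]
  une : oc t ≠ ⊥
  /- the remaining fields are consequences (piece `StBase`) -/
  shape : Klein S ∨ ∃ f x : G, D8 S f x ∧ f ^ 2 = t
  conj : ∀ a b : G, orderOf a = 2 → orderOf b = 2 → IsConj a b
  fus : ∀ V : Subgroup G, Klein V → Fus ⊤ V
  sup : oc t ⊔ S = 𝐂₁[t]
  i1 : ∀ M : Subgroup G, M ≠ ⊤ → 𝐂₁[t] ≤ M → ∃ V : Subgroup G, Klein V ∧ V ≤ S ∧ ¬ Fus M V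
  tr : ∀ (V P P' : Subgroup G) (r : ℕ), Klein V → r.Prime → r ≠ 2 → MaxInv ⊤ V r P →
    MaxInv ⊤ V r P' → ∃ n ∈ 𝐍[V], n •ᶜ P = P'

/-- uses `StFrob`, `StOK`, `StOD`, `StTrX`, `stConj` -/
def StBase : Prop := ∀ (G : Type u) [Group G] [Finite G] [IsSimpleGroup G], Dih G →
  IH.{u} (Nat.card G) → ¬ IsMulCommutative G →
  (∃ (K : Subgroup G) (t s : G), BSWH K t s) ∨ ∃ (S : Subgroup G) (t : G), Ctx S t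

/-- Bender's uniqueness lemma -/
def StBen : Prop := ∀ (G : Type u) [Group G] [Finite G] [IsSimpleGroup G] (A M X : Subgroup G),
  IsCoatom A → A ⊓ 𝐂[fit A] ≤ fit A → (∀ p : ℕ, fit A ≠ core {p} A) → X ≤ fit A ⊓ M →
  fit A ⊓ 𝐂[X] ≤ X →
  core {p | p ∣ Nat.card (fit A)} (fit M) ≤ A ∧ core {p | p ∣ Nat.card (fit A)}ᶜ (fit M) ⊓ A = ⊥ ∧
    (IsCoatom M → M ⊓ 𝐂[fit M] ≤ fit M → core {p | p ∣ Nat.card (fit A)}ᶜ (fit M) = ⊥ → M = A)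

structure Beta (t : G) (A : Subgroup G) (r : ℕ) : Prop where
  co : IsCoatom A
  le : 𝐂₁[t] ≤ A
  pr : r.Prime
  r2 : r ≠ 2
  ne : ⁅core {r} A, ⟪t⟫⁆ ≠ ⊥
  norm : 𝐍[⁅core {r} A, ⟪t⟫⁆] ≤ A

def StB1 : Prop := ∀ (G : Type u) [Group G] [Finite G] [IsSimpleGroup G] (S A : Subgroup G) (t : G)
  (r : ℕ), Ctx S t → Beta t A r → fit A = core {r} A → False

def StB2 : Prop := ∀ (G : Type u) [Group G] [Finite G] [IsSimpleGroup G] (S A : Subgroup G) (t : G)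
  (r : ℕ), Ctx S t → Beta t A r → fit A ≠ core {r} A → False

/-- `C(t)` maximal, no mixed prime -/
def StAn : Prop := ∀ (G : Type u) [Group G] [Finite G] [IsSimpleGroup G] (S : Subgroup G) (t : G),
  Ctx S t → IsCoatom 𝐂₁[t] →
  (∀ (p : ℕ) (s : G), p.Prime → s ∈ S → orderOf s = 2 → s ≠ t →
    core {p} (oc t) ≤ 𝐂₁[s] ∨ core {p} (oc t) ⊓ 𝐂₁[s] = ⊥) →
  ∃ (K : Subgroup G) (s : G), BSWH K t s

/-- the obstacle: a component `E ≅ L₂(q)` in the centralizer of `C_{O_p(U)}(s)` -/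
structure Obs (S : Subgroup G) (t s : G) (E K : Subgroup G) (ε : ℤ) (p : ℕ) : Prop where
  co : IsCoatom 𝐂₁[t]
  sS : s ∈ S
  os : orderOf s = 2
  st : s ≠ t
  sE : s ∈ E
  tE : t ∈ E
  ne : 𝐍[E] ≠ ⊤
  res : ResF E 𝐍[E]
  t2 : T2 𝐍[E] E
  lt : LT 𝐍[E] E t K ε
  pr : p.Prime
  X0 : core {p} (oc t) ⊓ 𝐂₁[s] ≠ ⊥
  XE : core {p} (oc t) ⊓ 𝐂₁[s] ≤ 𝐂[E]
  mix : ¬ core {p} (oc t) ≤ 𝐂₁[s]
  uniq : ∀ X : Subgroup G, X ≠ ⊥ → X ≤ fit (oc t) ⊓ 𝐂[E] → 𝐍[X] ≤ 𝐍[E]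

def StAo1 : Prop := ∀ (G : Type u) [Group G] [Finite G] [IsSimpleGroup G] (S : Subgroup G)
  (t s : G) (p : ℕ), Ctx S t → IsCoatom 𝐂₁[t] → p.Prime → s ∈ S → orderOf s = 2 → s ≠ t →
  ¬ core {p} (oc t) ≤ 𝐂₁[s] → core {p} (oc t) ⊓ 𝐂₁[s] ≠ ⊥ →
  ∃ (E K : Subgroup G) (ε : ℤ) (p' : ℕ), Obs S t s E K ε p'

def StAo2 : Prop := ∀ (G : Type u) [Group G] [Finite G] [IsSimpleGroup G] (S E K : Subgroup G)
  (t s : G) (ε : ℤ) (p : ℕ), Ctx S t → Obs S t s E K ε p → S ≤ E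

/-- the counting argument -/
def StAo3 : Prop := ∀ (G : Type u) [Group G] [Finite G] [IsSimpleGroup G] (S E K : Subgroup G)
  (t s : G) (ε : ℤ) (p : ℕ), Ctx S t → Obs S t s E K ε p → S ≤ E →
  Nat.card K < 2 * 𝐍[E].relIndex (oc t)

def StAo4 : Prop := ∀ (G : Type u) [Group G] [Finite G] [IsSimpleGroup G] (S E K : Subgroup G)
  (t s : G) (ε : ℤ) (p : ℕ), Ctx S t → Obs S t s E K ε p → S ≤ E →
  Nat.card K < 2 * 𝐍[E].relIndex (oc t) → False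

def StG1 : Prop := ∀ (G : Type u) [Group G] [Finite G] [IsSimpleGroup G] (S V : Subgroup G) (t : G),
  Ctx S t → Klein V → V ≤ S → IsCoatom 𝐍[V] → 𝐂₁[t] ≤ 𝐍[V] → IsA7 G

def StG2 : Prop := ∀ (G : Type u) [Group G] [Finite G] [IsSimpleGroup G] (S A : Subgroup G) (t : G),
  Ctx S t → IsCoatom A → 𝐂₁[t] ≤ A → ¬ Group.IsSolvable A → od A ≤ 𝐂₁[t] → False

end Cfsg.GW
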