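import Cfsg.Agent.Gag.VB
import Cfsg.Agent.GW.BSWb
import Cfsg.Agent.GW.Defs2

/-! Brauer's order formulas for dihedral Sylow 2-subgroups of order 4 and 8. -/

set_option autoImplicit false

namespace Cfsg.GW

open Subgroup Cfsg.FT Cfsg.Gag Cfsg.Gag.V
open scoped ComplexConjugate

universe u

variable {G : Type u} [Group G] [Finite G] {t τ : G} {P : Sylow 2 G}

theorem ord_cong (χ : IrrCharacter G) (Q : Subgroup G) {ε : ℤ}
    (hχ : ∀ g ∈ Q, g ≠ 1 → χ.1 g = ε) : (charDegree χ.1 : ℤ) ≡ ε [ZMOD Nat.card Q] := by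
  classical
  have := Fintype.ofFinite Q
  obtain ⟨n, hn⟩ := (χ.isCharacter.res Q).exists_classInner_eq_nat (IrrCharacter.triv Q).isCharacter
  rw [classInner_def, ← Finset.add_sum_erase _ _ (Finset.mem_univ 1), Finset.sum_congr rfl
    (g := fun _ => (ε : ℂ)) fun x hx => by
      rw [hχ x x.2 fun e => (Finset.mem_erase.1 hx).1 (Subtype.ext e)]; simp,
    inv_mul_eq_iff_eq_mul₀ (Nat.cast_ne_zero.2 Nat.card_pos.ne'), Finset.sum_const,
    Finset.card_erase_of_mem (Finset.mem_univ _), Finset.card_univ, ← Nat.card_eq_fintype_card,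
    nsmul_eq_mul, Nat.cast_pred Nat.card_pos] at hn
  simp only [OneMemClass.coe_one, IrrCharacter.one_eq_charDegree, IrrCharacter.triv_apply,
    map_one, mul_one] at hn
  refine Int.modEq_iff_dvd.2 ⟨ε - n, Int.cast_injective (α := ℂ) ?_⟩
  push_cast
  linear_combination -hn

theorem ord_inv {ε d : ℤ} (h : ε ^ 2 = 1) : ((ε * d : ℤ) : ℂ)⁻¹ = ε * (ε ^ 2 / d) := by
  rcases sq_eq_one_iff.1 h with rfl | rfl <;> simp [inv_neg]

theorem ordK_raw (h : IsDih (P : Subgroup G) t τ 1) (hinv : ∀ s, orderOf s = 2 → IsConj t s) :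
    ∃ (χ₁ χ₂ χ₃ : IrrCharacter G) (ε₁ ε₂ ε₃ : ℤ), χ₁ ≠ .triv G ∧ χ₂ ≠ .triv G ∧ χ₃ ≠ .triv G ∧
      ε₁ ^ 2 = 1 ∧ ε₂ ^ 2 = 1 ∧ ε₃ ^ 2 = 1 ∧
      (∀ g, 2 ∣ orderOf g → χ₁.1 g = ε₁ ∧ χ₂.1 g = ε₂ ∧ χ₃.1 g = ε₃) ∧
      1 + ε₁ * charDegree χ₁.1 + ε₂ * charDegree χ₂.1 + ε₃ * charDegree χ₃.1 = 0 ∧
      (centralizer {t}).index * (1 + ((ε₁ * charDegree χ₁.1 : ℤ) : ℚ)⁻¹ +
        ((ε₂ * charDegree χ₂.1 : ℤ) : ℚ)⁻¹ + ((ε₃ * charDegree χ₃.1 : ℤ) : ℚ)⁻¹) =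
        8 * ((centralizer ((P : Subgroup G) : Set G)).relIndex (centralizer {t}) : ℚ) ^ 2 := by
  classical
  have := Fintype.ofFinite G
  obtain ⟨M, hM⟩ := exists_isPModular Nat.prime_two
  have ht := dih_ord h
  have ht2 := mul_self_eq_one_of_orderOf_two ht
  have ht1 : t ≠ 1 := fun e => by rw [e, orderOf_one] at ht; omega
  choose b hb using fun χ : IrrCharacter G => χ.exists_int_apply_of_mul_self ht2
  set B := irrFinset (principalBlock M G) with hB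
  have h4 : ∑ χ ∈ B, (b χ : ℂ) * b χ = 4 := by
    have := h.sum_mul_conj hM ⟨t, mem_zpowers t⟩ ⟨t, mem_zpowers t⟩
      fun e => ht1 (congrArg Subtype.val e)
    rw [if_pos rfl, if_pos (Subtype.ext (eq_inv_of_mul_eq_one_right ht2)), Nat.card_zpowers,
      ht] at this
    simp only [fun χ => (hb χ).1, map_intCast] at this
    rw [this]; norm_num
  set Θ : G → ℂ := fun g => ∑ χ ∈ B, b χ * χ.1 g with hΘ
  have h0 : ∀ g, ¬ 2 ∣ orderOf g → Θ g = 0 := fun g hg => by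
    have := isPBlock_principalBlock.sum_mul_conj_eq_zero hM
      (not_isConj_pPart_of_regular_singular hg ht.symm.dvd)
    simpa only [fun χ => (hb χ).1, map_intCast, mul_comm] using this
  have hJ4 : Θ t = 4 := by simpa only [hΘ, fun χ => (hb χ).1] using h4
  set C := centralizer ({t} : Set G) with hC
  have key := h.sum_sum_isConj (by simpa using hinv) (C := C) (by rw [pow_one]) (Θ := Θ)
    (fun x y => Finset.sum_congr rfl fun χ _ => by rw [χ.isClassFunction x y])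
    (fun g hg => Finset.sum_congr rfl fun χ hχ => by
      rw [← h.apply_pPart hM (mem_irrFinset.1 hχ) hg]) h0
  have hs : ∀ f : zpowers t → ℂ, ∑ s, f s = f 1 + f ⟨t, mem_zpowers t⟩ :=
    fun f => Fintype.sum_eq_add _ _ (fun e => ht1 (congrArg Subtype.val e).symm) fun x hx => by
      refine absurd (Subtype.ext ((h.eq_J x.2 (orderOf_eq_prime ?_ fun e => hx.1
        (Subtype.ext e))).trans (pow_one t))) hx.2
      rw [← orderOf_dvd_iff_pow_eq_one, ← ht]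
      exact orderOf_dvd_of_mem_zpowers x.2
  have hτ' := h.mul_τ_notMem (mem_zpowers t)
  have hm := Subgroup.mul_mem _ h.mem_σ h.mem_τ
  have d1 : C ⊓ centralizer {τ} = _ := dih_cent h h.mem_τ h.notMem
  have d2 : C ⊓ centralizer {t * τ} = _ := dih_cent h hm hτ'
  simp only [hs, Subgroup.coe_one, one_mul, inv_one, mul_one, pow_one,
    inv_eq_of_mul_eq_one_right ht2, hJ4, h0 1 (by simp), ht2, h.invW_eq C h.mem_τ h.notMem,
    h.invW_eq C hm hτ', d1, d2, Nat.cast_one] at key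
  simp only [hΘ] at key
  rw [Finset.sum_congr rfl fun s _ => Finset.sum_comm, Finset.sum_comm] at key
  simp only [← Finset.mul_sum, IrrCharacter.sum_sum_isConj, fun χ => (hb χ).1, ← hC] at key
  have hB1 : IrrCharacter.triv G ∈ B := mem_irrFinset.2 hM.triv_mem_principalBlock
  have b1 : b (IrrCharacter.triv G) = 1 := by
    have : (1 : ℂ) = _ := (hb (IrrCharacter.triv G)).1
    exact_mod_cast this.symm
  have h4' : ∑ χ ∈ B, b χ * b χ = 4 := by exact_mod_cast h4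
  have h01 := h0 1 (by simp)
  simp only [hΘ] at h01
  rw [← Finset.add_sum_erase _ _ hB1, b1] at key h4' h01
  have hw : ∑ χ ∈ B.erase (.triv G), b χ ^ 2 = 3 := by simp only [sq]; omega
  obtain ⟨x, hx, a1⟩ := Finset.exists_ne_zero_of_sum_ne_zero (hw ▸ three_ne_zero)
  have a2 : b x ^ 2 = 1 := by rcases bsw_sq_le hw hx with h | h | h <;> simp_all
  obtain ⟨y, hy, z, hz, -, -, -, b2, c2, hF⟩ := bsw_three hw hx a2
  rw [hF] at key h01
  have hv : ∀ χ ∈ B.erase (.triv G), ∀ g, 2 ∣ orderOf g → χ.1 g = b χ := fun χ hχ g hg => by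
    rw [h.apply_pPart hM (mem_irrFinset.1 (Finset.mem_erase.1 hχ).2) hg, ← (hb χ).1]
    obtain ⟨c, hc⟩ := isConj_iff.1 (hinv (pPart 2 g) (orderOf_eq_prime
      (by rw [sq, dih_sq h (exists_orderOf_pPart g)]) (pPart_ne_one_iff.2 hg)))
    rw [← hc, χ.isClassFunction]
  refine ⟨x, y, z, _, _, _, (Finset.mem_erase.1 hx).1, (Finset.mem_erase.1 hy).1,
    (Finset.mem_erase.1 hz).1, a2, b2, c2, fun g hg => ⟨hv x hx g hg, hv y hy g hg, hv z hz g hg⟩,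
    ?_, ?_⟩
  · simp only [IrrCharacter.one_eq_charDegree, IrrCharacter.charDegree_triv] at h01
    have : 1 * 1 + (b x * charDegree x.1 + b y * charDegree y.1 + b z * charDegree z.1) = 0 := by
      exact_mod_cast h01
    omega
  · apply Rat.cast_injective (α := ℂ)
    have i0 : (C.index : ℂ) ≠ 0 := Nat.cast_ne_zero.2 index_ne_zero_of_finite
    have c1 : (Nat.card (centralizer ((P : Subgroup G) : Set G)) : ℂ) ≠ 0 :=
      Nat.cast_ne_zero.2 Nat.card_pos.ne'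
    have e := congrArg (Nat.cast : ℕ → ℂ) (card_mul_relIndex (d1 ▸ inf_le_left :
      centralizer ((P : Subgroup G) : Set G) ≤ C))
    simp only [Rat.cast_mul, Rat.cast_add, Rat.cast_inv, Rat.cast_intCast, ord_inv a2, ord_inv b2,
      ord_inv c2, IrrCharacter.charDegree_triv] at key ⊢
    push_cast at key e ⊢
    rw [← e, mul_div_cancel_left₀ _ c1] at key
    apply mul_left_cancel₀ i0
    linear_combination key

theorem dih_sd {σ : G} {m : ℕ} (h : IsDih (P : Subgroup G) σ τ m) :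
    SDProd (oc (σ ^ m)) P 𝐂₁[σ ^ m] :=
  (pNil_iff.2 h.hasNormalPComplement_centralizer_J).sdprod
    ⟨h.le_centralizer_J, P.isPGroup', IsDih.not_dvd_relIndex P h.le_centralizer_J⟩

theorem dih_kk {σ x : G} {m : ℕ} (h : IsDih (P : Subgroup G) σ τ m) (hx : x ∈ (P : Subgroup G))
    (hx' : x ∉ zpowers σ) : 𝐂₁[x].relIndex 𝐂₁[σ ^ m] = m * kk (σ ^ m) x := by
  have h1 := sdprod_card (dih_sd h)
  have h2 := sdprod_card (subcent_sdprod (A := ⟪x⟫) (dih_sd h)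
    (zpowers_le.2 (oc_norm _ (h.le_centralizer_J hx))) (zpowers_le.2 (le_normalizer hx)))
  rw [cent_cycle, h.card_inf_centralizer_of_notMem hx hx', inf_comm (oc _),
    inf_comm 𝐂₁[σ ^ m]] at h2
  rw [h.card, ← card_inf_mul_relIndex 𝐂₁[x] (oc _), ← card_inf_mul_relIndex 𝐂₁[x] 𝐂₁[σ ^ m],
    ← h2] at h1
  have : 0 < Nat.card ↥(𝐂₁[x] ⊓ oc (σ ^ m)) * 4 := Nat.mul_pos Nat.card_pos four_pos
  exact Nat.eq_of_mul_eq_mul_left this (by rw [← h1]; ring)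

theorem dih_sum4 {σ : G} (h : orderOf σ = 4) [Fintype (zpowers σ)] (f : G → ℂ) :
    ∑ s : zpowers σ, f s = f 1 + f σ + f (σ ^ 2) + f (σ ^ 3) := by
  rw [← (finEquivZPowers (isOfFinOrder_of_finite σ)).sum_comp]
  simp only [finEquivZPowers_apply]
  rw [Fin.sum_univ_eq_sum_range (fun i => f (σ ^ i)), h]
  simp [Finset.sum_range_succ]

omit [Finite G] in
theorem dih_sumP {σ : G} {m : ℕ} {P : Subgroup G} (h : IsDih P σ τ m) [Fintype (zpowers σ)]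
    [Fintype P] (f : G → ℂ) :
    ∑ x : P, f x = ∑ s : zpowers σ, f s + ∑ s : zpowers σ, f (s * τ) := by
  rw [← Function.Bijective.sum_comp (e := Sum.elim (fun s : zpowers σ => (⟨s, h.zpowers_le s.2⟩ : P))
    fun s : zpowers σ => ⟨s * τ, mul_mem (h.zpowers_le s.2) h.mem_τ⟩) ⟨?_, fun x => ?_⟩,
    Fintype.sum_sum_type]
  · rfl
  · rintro (a | a) (b | b) e <;> replace e := congrArg Subtype.val e
    · exact congrArg _ (Subtype.ext e)
    · exact (h.mul_τ_notMem b.2 (e ▸ a.2 :)).elim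
    · exact (h.mul_τ_notMem a.2 (e.symm ▸ b.2 :)).elim
    · exact congrArg _ (Subtype.ext (mul_right_cancel e))
  · rcases h.cases x x.2 with e | e
    · exact ⟨.inl ⟨x, e⟩, rfl⟩
    · exact ⟨.inr ⟨_, e⟩, Subtype.ext (by simp [mul_assoc, h.sq])⟩

open Classical in
theorem dih_pairs {σ : G} [Fintype G] (h : IsDih (P : Subgroup G) σ τ 2)
    (hinv : ∀ s, orderOf s = 2 → IsConj (σ ^ 2) s) {Θ : G → ℂ} (t1 : IsClassFunction G Θ)
    (t2 : ∀ g, 2 ∣ orderOf g → Θ g = Θ (pPart 2 g)) (t3 : ∀ g, ¬ 2 ∣ orderOf g → Θ g = 0) :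
    ∑ s : G with IsConj (σ ^ 2) s, ∑ t : G with IsConj (σ ^ 2) t, Θ (s * t) = ii (σ ^ 2) *
      (2 * (kk (σ ^ 2) τ ^ 2 + kk (σ ^ 2) (σ * τ) ^ 2) * Θ (σ ^ 2) +
        4 * kk (σ ^ 2) τ * kk (σ ^ 2) (σ * τ) * (Θ σ + Θ (σ ^ 3))) := by
  have o4 : σ ^ 4 = 1 := by rw [show 4 = 2 * 2 from rfl, ← h.ord, pow_orderOf_eq_one]
  set C := centralizer ({σ ^ 2} : Set G) with hC
  have hW : ∀ x ∈ (P : Subgroup G), x ∉ zpowers σ → invW C P x = kk (σ ^ 2) x := fun x hx hx' => by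
    rw [h.invW_eq C hx hx', ← card_inf_mul_relIndex 𝐂₁[x] C, dih_kk h hx hx', inf_comm]
    have : (Nat.card (C ⊓ 𝐂₁[x] : Subgroup G) : ℂ) ≠ 0 := Nat.cast_ne_zero.2 Nat.card_pos.ne'
    push_cast
    field_simp
  have hW2 : ∀ s ∈ zpowers σ, invW C P (σ * σ * s * τ) = invW C P (s * τ) := fun s hs => by
    have e := h.σ_conj hs 1
    simp only [pow_one, mul_one, zpow_ofNat, sq] at e
    simp only [← e, invW, card_inf_centralizer_conj h.mem_σ,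
      card_inf_centralizer_conj (h.le_centralizer_J h.mem_σ), hC]
  have w0 := hW τ h.mem_τ h.notMem
  have w1 := hW _ (mul_mem h.mem_σ h.mem_τ) (h.mul_τ_notMem (mem_zpowers σ))
  have w2 := hW2 1 (one_mem _)
  have w3 := hW2 σ (mem_zpowers σ)
  rw [mul_one, one_mul, ← sq, w0] at w2
  rw [← pow_three', w1] at w3
  have i1 : σ⁻¹ = σ ^ 3 := inv_eq_of_mul_eq_one_right (by rw [← o4]; group)
  have r : ∀ n, 4 ≤ n → σ ^ n = σ ^ (n - 4) := fun n hn => by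
    rw [← mul_one (σ ^ (n - 4)), ← o4, ← pow_add, Nat.sub_add_cancel hn]
  rw [h.sum_sum_isConj hinv hC t1 t2 t3, Finset.sum_congr rfl fun (s : zpowers σ) _ =>
      dih_sum4 h.ord fun t => invW C P (s * τ) * invW C P (t * τ) * Θ (s * t⁻¹),
    dih_sum4 h.ord fun s => invW C P (s * τ) * invW C P (1 * τ) * Θ (s * 1⁻¹) +
      invW C P (s * τ) * invW C P (σ * τ) * Θ (s * σ⁻¹) +
      invW C P (s * τ) * invW C P (σ ^ 2 * τ) * Θ (s * (σ ^ 2)⁻¹) +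
      invW C P (s * τ) * invW C P (σ ^ 3 * τ) * Θ (s * (σ ^ 3)⁻¹)]
  simp only [one_mul, w0, w1, w2, w3, ← inv_pow, i1, ← pow_mul, ← pow_add, ← pow_succ', inv_one,
    mul_one]
  norm_num [r, t3 1 (by simp)]
  ring

theorem dih_four {σ g : G} (h : IsDih (P : Subgroup G) σ τ 2)
    (hinv : ∀ s, orderOf s = 2 → IsConj (σ ^ 2) s) (hg : 2 ∣ orderOf g) :
    IsConj (if 4 ∣ orderOf g then σ else σ ^ 2) (pPart 2 g) := by
  classical
  obtain ⟨c, hc⟩ := exists_conj_mem_sylow P (exists_orderOf_pPart (p := 2) g)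
  have ho : orderOf (c * pPart 2 g * c⁻¹) = 2 ^ (orderOf g).factorization 2 := by
    rw [← orderOf_pPart]; exact (SemiconjBy.orderOf_eq c (by simp [SemiconjBy])).symm
  have h4 : 4 ∣ orderOf g ↔ 2 ≤ (orderOf g).factorization 2 :=
    Nat.prime_two.pow_dvd_iff_le_factorization (k := 2) (orderOf_pos g).ne'
  have h2 := (Nat.prime_two.dvd_iff_one_le_factorization (orderOf_pos g).ne').1 hg
  refine IsConj.trans ?_ (isConj_iff.2 ⟨c, rfl⟩).symm
  generalize c * pPart 2 g * c⁻¹ = x at *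
  split_ifs with e <;> rw [h4] at e
  · have hx : x * x ≠ 1 := fun e' => by
      have := Nat.le_of_dvd two_pos (ho ▸ orderOf_dvd_of_pow_eq_one ((sq x).trans e'))
      have := Nat.pow_le_pow_right two_pos e
      omega
    have o4 : σ ^ 4 = 1 := by rw [show 4 = 2 * 2 from rfl, ← h.ord, pow_orderOf_eq_one]
    obtain ⟨k, hk, rfl⟩ := Finset.mem_image.1 (mem_zpowers_iff_mem_range_orderOf.1
      (by_contra fun e' => hx (h.mul_self_of_notMem hc e')))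
    rw [h.ord, Finset.mem_range] at hk
    interval_cases k
    · simp at hx
    · rw [pow_one]
    · exact (hx (by rw [← pow_add, o4])).elim
    · exact isConj_iff.2 ⟨τ, h.rel.trans (inv_eq_of_mul_eq_one_right (by rw [← o4]; group))⟩
  · exact hinv x (by rw [ho, show (orderOf g).factorization 2 = 1 by omega, pow_one])

theorem ordD_alg {I z a b k l : ℂ} (hz : z ≠ 0) (hy : 1 + z ≠ 0) (ha : a ≠ 0) (hb : b ≠ 0)
    (h : 1 + z = -a - b) (h1 : I * (1 + z⁻¹ - 4 * (1 + z)⁻¹) = 8 * (k + l) ^ 2)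
    (h2 : I * (1 + z⁻¹ + a⁻¹ + b⁻¹) = 32 * k * l) :
    I * (1 + z - 2) ^ 2 = 8 * (k + l) ^ 2 * ((1 + z) * (1 + z - 1)) ∧
      I * (a - b) ^ 2 = 8 * (k - l) ^ 2 * (a * b * (1 + z)) := by
  have h3 : 8 * (k - l) ^ 2 = -I * (a⁻¹ + b⁻¹ + 4 * (1 + z)⁻¹) := by linear_combination h2 - h1
  rw [← h1, h3]
  constructor
  · field_simp; ring
  · rw [h] at hy ⊢; field_simp; ring

theorem ordD_raw {σ : G} (h : IsDih (P : Subgroup G) σ τ 2)
    (hinv : ∀ s, orderOf s = 2 → IsConj (σ ^ 2) s) :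
    ∃ (χ₁ χ₂ χ₃ : IrrCharacter G) (δ₁ δ₂ δ₃ y a b : ℤ), δ₁ ^ 2 = 1 ∧ δ₂ ^ 2 = 1 ∧ δ₃ ^ 2 = 1 ∧
      y = 1 + δ₁ * charDegree χ₁.1 ∧ a = δ₂ * charDegree χ₂.1 ∧ b = δ₃ * charDegree χ₃.1 ∧
      y % 8 = 2 ∧ a % 8 = 3 ∧ b % 8 = 3 ∧ a + b = -y ∧
      ii (σ ^ 2) * (y - 2) ^ 2 = 8 * (kk (σ ^ 2) τ + kk (σ ^ 2) (σ * τ) : ℤ) ^ 2 * (y * (y - 1)) ∧
      ii (σ ^ 2) * (a - b) ^ 2 = 8 * (kk (σ ^ 2) τ - kk (σ ^ 2) (σ * τ) : ℤ) ^ 2 * (a * b * y) := by
  classical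
  have := Fintype.ofFinite G
  obtain ⟨M, hM⟩ := exists_isPModular Nat.prime_two
  obtain ⟨χ₁, χ₂, χ₃, χ', δ₁, δ₂, δ₃, d1, d2, d3, -, -, -, -, -, -, -, -, hB, hv, hρ⟩ :=
    h.principalBlock_eq hM le_rfl Complex.isPrimitiveRoot_I
  set ψ := χ' ⟨0, by omega⟩
  have m1 := (hB χ₁).2 (by simp)
  have m2 := (hB χ₂).2 (by simp)
  have m3 := (hB χ₃).2 (by simp)
  have m4 : ψ ∈ principalBlock M G := (hB _).2 (Or.inr (Or.inr (Or.inr (Or.inr ⟨_, rfl⟩))))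
  replace d1 := sq_eq_one_iff.2 d1
  replace d2 := sq_eq_one_iff.2 d2
  replace d3 := sq_eq_one_iff.2 d3
  have e1 : (δ₁ : ℂ) ^ 2 = 1 := by exact_mod_cast d1
  have e2 : (δ₂ : ℂ) ^ 2 = 1 := by exact_mod_cast d2
  have e3 : (δ₃ : ℂ) ^ 2 = 1 := by exact_mod_cast d3
  obtain ⟨a1, a2, a3, a4⟩ := hv 1 one_pos (by omega)
  obtain ⟨b1, b2, b3, b4⟩ := hv 2 two_pos (by omega)
  obtain ⟨c1, c2, c3, c4⟩ := hv 3 three_pos (by omega)
  replace a4 := a4 ⟨0, by omega⟩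
  replace b4 := b4 ⟨0, by omega⟩
  replace c4 := c4 ⟨0, by omega⟩
  change ψ.1 _ = _ at a4 b4 c4
  norm_num [pow_succ Complex.I] at a2 a3 a4 b2 b3 b4 c2 c3 c4
  rw [pow_one] at a1
  have hsum : ∀ (χ : IrrCharacter G) (u v : ℤ), χ.1 σ = u → χ.1 (σ ^ 2) = v → χ.1 (σ ^ 3) = u →
      8 ∣ charDegree χ.1 + 2 * u + 5 * v := fun χ u v h1 h2 h3 => by
    obtain ⟨n, hn⟩ := (χ.isCharacter.res P).exists_classInner_eq_nat (IrrCharacter.triv P).isCharacter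
    rw [classInner_def, inv_mul_eq_iff_eq_mul₀ (Nat.cast_ne_zero.2 Nat.card_pos.ne'), h.card] at hn
    simp only [IrrCharacter.triv_apply, map_one, mul_one] at hn
    rw [dih_sumP h χ.1, dih_sum4 h.ord, h1, h2, h3, Finset.sum_congr rfl (g := fun _ => (v : ℂ))
      fun s _ => by
        obtain ⟨c, hc⟩ := isConj_iff.1 (hinv _ (h.orderOf_of_notMem
          (mul_mem (h.zpowers_le s.2) h.mem_τ) (h.mul_τ_notMem s.2)))
        rw [← hc, χ.isClassFunction, h2], Finset.sum_const, Finset.card_univ,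
      ← Nat.card_eq_fintype_card, Nat.card_zpowers, h.ord, IrrCharacter.one_eq_charDegree] at hn
    refine ⟨n, Int.cast_injective (α := ℂ) ?_⟩
    rw [nsmul_eq_mul] at hn
    push_cast at hn ⊢
    linear_combination hn
  have s1 := hsum χ₁ δ₁ δ₁ a1 b1 c1
  have s2 := hsum χ₂ δ₂ (-δ₂) a2 (by simpa using b2) c2
  have s3 := hsum χ₃ δ₃ (-δ₃) a3 (by simpa using b3) c3
  have k1 := dih_pairs h hinv (Θ := fun g => 1 + δ₁ * χ₁.1 g - δ₁ * ψ.1 g)
    (fun a b => by simp only [χ₁.isClassFunction a b, ψ.isClassFunction a b])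
    (fun g hg => by simp only [← h.apply_pPart hM m1 hg, ← h.apply_pPart hM m4 hg])
    fun g hg => sub_eq_zero.2 (hρ g hg _).2
  have k2 := dih_pairs h hinv (Θ := fun g => 1 + δ₁ * χ₁.1 g + δ₂ * χ₂.1 g + δ₃ * χ₃.1 g)
    (fun a b => by simp only [χ₁.isClassFunction a b, χ₂.isClassFunction a b, χ₃.isClassFunction a b])
    (fun g hg => by
      simp only [← h.apply_pPart hM m1 hg, ← h.apply_pPart hM m2 hg, ← h.apply_pPart hM m3 hg])
    fun g hg => by linear_combination (hρ g hg ⟨0, by omega⟩).1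
  have t0 := (IrrCharacter.triv G).sum_sum_isConj (σ ^ 2)
  simp only [IrrCharacter.triv_apply, IrrCharacter.charDegree_triv] at t0
  simp only [Finset.sum_add_distrib, Finset.sum_sub_distrib, ← Finset.mul_sum, t0,
    IrrCharacter.sum_sum_isConj, a1, a2, a3, a4, b1, b2, b3, b4, c1, c2, c3, c4] at k1 k2
  obtain ⟨t1, t2⟩ := hρ 1 (by simp) ⟨0, by omega⟩
  simp only [IrrCharacter.one_eq_charDegree] at t1 t2
  have x1 : (charDegree χ₁.1 : ℂ) ≠ 0 := Nat.cast_ne_zero.2 χ₁.charDegree_pos.ne'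
  have x2 : (charDegree χ₂.1 : ℂ) ≠ 0 := Nat.cast_ne_zero.2 χ₂.charDegree_pos.ne'
  have x3 : (charDegree χ₃.1 : ℂ) ≠ 0 := Nat.cast_ne_zero.2 χ₃.charDegree_pos.ne'
  have x4 : (charDegree ψ.1 : ℂ) ≠ 0 := Nat.cast_ne_zero.2 ψ.charDegree_pos.ne'
  have i0 : (ii (σ ^ 2) : ℂ) ≠ 0 := Nat.cast_ne_zero.2 index_ne_zero_of_finite
  have t3 : 1 + δ₁ * charDegree χ₁.1 = -δ₂ * charDegree χ₂.1 - δ₃ * charDegree χ₃.1 := by
    exact_mod_cast t1
  have nz : ∀ {δ x : ℂ}, δ ^ 2 = 1 → x ≠ 0 → δ * x ≠ 0 := fun h hx =>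
    mul_ne_zero (by rintro rfl; simp at h) hx
  have iv : ∀ {δ : ℂ} (x : ℂ), δ ^ 2 = 1 → (δ * x)⁻¹ = δ * x⁻¹ := fun x h => by
    rw [mul_inv, inv_eq_of_mul_eq_one_right ((sq _).symm.trans h)]
  change _ = δ₁ * (charDegree ψ.1 : ℂ) at t2
  obtain ⟨f1, f2⟩ := ordD_alg (I := ii (σ ^ 2)) (k := kk (σ ^ 2) τ) (l := kk (σ ^ 2) (σ * τ))
    (nz e1 x1) (t2 ▸ nz e1 x4) (nz e2 x2) (nz e3 x3) (by linear_combination t1)
    (mul_left_cancel₀ i0 (by
      rw [t2, iv _ e1, iv _ e1]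
      simp only [neg_sq, mul_pow, e1, ← sq, mul_neg, ← mul_assoc (δ₁ : ℂ) δ₁] at k1
      linear_combination k1))
    (mul_left_cancel₀ i0 (by
      rw [iv _ e1, iv _ e2, iv _ e3]
      simp only [neg_sq, e1, e2, e3, ← sq, mul_neg] at k2
      linear_combination k2))
  refine ⟨χ₁, χ₂, χ₃, δ₁, δ₂, δ₃, _, _, _, d1, d2, d3, rfl, rfl, rfl,
    by rcases sq_eq_one_iff.1 d1 with rfl | rfl <;> omega,
    by rcases sq_eq_one_iff.1 d2 with rfl | rfl <;> omega,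
    by rcases sq_eq_one_iff.1 d3 with rfl | rfl <;> omega, by linarith, by exact_mod_cast f1,
    by exact_mod_cast f2⟩

theorem d8_isDih {S : Subgroup G} {f x : G} (h : D8 S f x) :
    IsDih S f (x * f) 2 ∧ f * (x * f) = x := by
  have hx : x * x = 1 := mul_self_eq_one_of_orderOf_two h.ox
  have h1 : x * f = f⁻¹ * x := by rw [← h.inv, inv_mul_cancel_right]
  have hf : f ∈ S := h.gen ▸ mem_sup_left (mem_zpowers f)
  have hxP : x ∈ S := h.gen ▸ mem_sup_right (mem_zpowers x)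
  exact ⟨IsDih.of_card two_pos h.of hf (mul_mem hxP hf)
    (by nth_rw 2 [h1]; rw [mul_assoc, mul_inv_cancel_left, hx])
    (by rw [← h.inv]; group) (fun e => by
      have e' : x ∈ zpowers f := by simpa using mul_mem e (inv_mem (mem_zpowers f))
      have := h.card
      rw [h.gen, sup_eq_left.2 (zpowers_le.2 e'), Nat.card_zpowers, h.of] at this
      omega) h.card, by rw [h1, mul_inv_cancel_left]⟩

theorem stOD : StOD.{u} := by
  intro G _ _ S f x hS h hc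
  obtain ⟨P, rfl⟩ := syl_top_iff.1 hS
  obtain ⟨hd, h1⟩ := d8_isDih h
  obtain ⟨-, -, -, -, -, -, y, a, b, -, -, -, -, -, -, h2, h3, h4, h5, h6, h7⟩ :=
    ordD_raw hd fun s hs => hc _ _ hd.orderOf_J hs
  rw [h1] at h6 h7
  exact ⟨y, a, b, h2, h3, h4, h5, by rw [h6]; ring, by rw [h7]; ring⟩

theorem ordK_arith {a b c : ℤ} (ha : a % 4 = 1) (hb : b % 4 = 1) (hc : c % 4 = 1)
    (h : 1 + a + b + c = 0) : 8 / 15 ≤ 1 + (a : ℚ)⁻¹ + (b : ℚ)⁻¹ + (c : ℚ)⁻¹ ∧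
      1 + (a : ℚ)⁻¹ + (b : ℚ)⁻¹ + (c : ℚ)⁻¹ ≤ 8 / 3 ∧
      (1 + (a : ℚ)⁻¹ + (b : ℚ)⁻¹ + (c : ℚ)⁻¹ = 8 / 15 → a = -3 ∨ b = -3) := by
  have p : ∀ x n : ℤ, 0 < n → n ≤ x → 0 < (x : ℚ)⁻¹ ∧ (x : ℚ)⁻¹ ≤ (n : ℚ)⁻¹ := fun x n h1 h2 =>
    ⟨by have : 0 < x := by omega
        positivity, inv_anti₀ (by exact_mod_cast h1) (by exact_mod_cast h2)⟩
  have q : ∀ x : ℤ, x % 4 = 1 → x = 1 ∨ x = 5 ∨ x = -3 ∨ x = -7 ∨ x = 9 ∨
      13 ≤ x ∧ 0 < (x : ℚ)⁻¹ ∧ (x : ℚ)⁻¹ ≤ 13⁻¹ ∨ x ≤ -11 ∧ (x : ℚ)⁻¹ < 0 ∧ -11⁻¹ ≤ (x : ℚ)⁻¹ :=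
    fun x hx => by
    rcases le_or_gt 13 x with h | h
    · exact .inr (.inr (.inr (.inr (.inr (.inl ⟨h, by simpa using p x 13 (by omega) h⟩)))))
    rcases le_or_gt x (-11) with h' | h'
    · have := p (-x) 11 (by omega) (by omega)
      rw [Int.cast_neg, inv_neg] at this
      exact .inr (.inr (.inr (.inr (.inr (.inr ⟨h', by linarith, by push_cast at this; linarith⟩)))))
    omega
  rcases q a ha with rfl | rfl | rfl | rfl | rfl | ⟨a1, a2, a3⟩ | ⟨a1, a2, a3⟩ <;>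
    rcases q b hb with rfl | rfl | rfl | rfl | rfl | ⟨b1, b2, b3⟩ | ⟨b1, b2, b3⟩ <;>
    rcases q c hc with rfl | rfl | rfl | rfl | rfl | ⟨c1, c2, c3⟩ | ⟨c1, c2, c3⟩ <;>
    first | omega | (push_cast; exact ⟨by linarith, by linarith, fun e => by first | decide | linarith⟩)

theorem klein_isDih {T : Subgroup G} {s : G} (hK : Klein T) (ht : t ∈ T) (hs : s ∈ T) (t1 : t ≠ 1)
    (s1 : s ≠ 1) (st : s ≠ t) : IsDih T t s 1 :=
  IsDih.of_card one_pos (hK.orderOf ht t1) ht hs (hK.2 s hs)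
    (by
      have := hK.ab
      rw [inv_eq_of_mul_eq_one_right (hK.2 t ht), mul_inv_eq_iff_eq_mul]
      exact setLike_mul_comm hs ht)
    (fun e => st (eq_of_mem_zpowers_of_orderOf_two e (mem_zpowers t) (hK.orderOf hs s1)
      (hK.orderOf ht t1))) hK.1

theorem ordK_kk (h : IsDih (P : Subgroup G) t τ 1) :
    𝐂[(P : Subgroup G)].relIndex 𝐂₁[t] = kk t τ := by
  have := dih_kk h h.mem_τ h.notMem
  rwa [pow_one, one_mul, ← inf_relIndex_left, dih_cent h h.mem_τ h.notMem] at this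

theorem ordK_four {χ : IrrCharacter G} {ε : ℤ} (h : IsDih (P : Subgroup G) t τ 1) (he : ε ^ 2 = 1)
    (hχ : ∀ g, 2 ∣ orderOf g → χ.1 g = ε) : (ε * charDegree χ.1) % 4 = 1 := by
  have := ord_cong χ P (ε := ε) fun g hg g1 => hχ g (orderOf_eq_prime (by
    rw [sq, dih_sq h (by
      obtain ⟨k, hk⟩ := (P.isPGroup' ⟨g, hg⟩)
      obtain ⟨j, -, hj⟩ := (Nat.dvd_prime_pow Nat.prime_two).1
        (orderOf_dvd_of_pow_eq_one (congrArg Subtype.val hk))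
      exact ⟨j, hj⟩)]) g1).symm.dvd
  rw [h.card, Int.ModEq] at this
  rcases sq_eq_one_iff.1 he with rfl | rfl <;> omega

theorem stOK : StOK.{u} := by
  intro G _ _ T t s hT hK hF ht hs t1 s1 st
  obtain ⟨P, rfl⟩ := syl_top_iff.1 hT
  have h := klein_isDih hK ht hs t1 s1 st
  have hc : ∀ v ∈ (P : Subgroup G), v ∉ zpowers t → IsConj (t ^ 1) v := fun v hv hv' => by
    obtain ⟨y, -, hy⟩ := hF t ht v hv t1 fun e => hv' (e ▸ one_mem _)
    exact isConj_iff.2 ⟨y, by rw [pow_one, hy]⟩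
  obtain ⟨χ₁, χ₂, χ₃, ε₁, ε₂, ε₃, -, -, -, e1, e2, e3, hv, h0, h1⟩ := ordK_raw h (by
    simpa using h.isConj_J (hc s hs h.notMem) (hc _ (mul_mem ht hs) (h.mul_τ_notMem (mem_zpowers t))))
  obtain ⟨h2, h3, -⟩ := ordK_arith (ordK_four h e1 fun g hg => (hv g hg).1)
    (ordK_four h e2 fun g hg => (hv g hg).2.1) (ordK_four h e3 fun g hg => (hv g hg).2.2) h0
  rw [ordK_kk h] at h1
  have : (0 : ℚ) ≤ ii t := Nat.cast_nonneg _
  constructor <;> qify <;> nlinarith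

end Cfsg.GW
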