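import Cfsg.Agent.Blk.Klein
import Cfsg.Agent.GW.Num
import Cfsg.Agent.GW.OrdA

/-! Arithmetic of the columns of 2-blocks with dihedral defect groups of order 4 and 8. -/

set_option autoImplicit false

namespace Cfsg.GW.C1

open Finset

variable {ι : Type*} [DecidableEq ι] {s X : Finset ι} {d a b c c' T : ι → ℤ} {I k l n : ℤ}

/-- the support of `a` in `s` consists of four signs -/
structure Four (s : Finset ι) (a : ι → ℤ) (X : Finset ι) : Prop where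
  mem : ∀ i, i ∈ X ↔ i ∈ s ∧ a i ≠ 0
  card : #X = 4
  sq : ∀ i ∈ X, a i = 1 ∨ a i = -1

omit [DecidableEq ι] in
theorem exists_four (hd : ∀ i ∈ s, 0 < d i) (aa : ∑ i ∈ s, a i ^ 2 = 4)
    (ad : ∑ i ∈ s, a i * d i = 0) : ∃ X, Four s a X := by
  rw [← sum_filter_of_ne (p := (a · ≠ 0)) fun i _ h e => h (by simp [e])] at aa ad
  have := card_eq_four_of_sum_sq _ a (fun i hi => (mem_filter.1 hi).2) aa (by
    by_contra! h
    obtain h | h : #{i ∈ s | a i ≠ 0} = 0 ∨ #{i ∈ s | a i ≠ 0} = 1 := by omega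
    · rw [card_eq_zero.1 h] at aa; simp at aa
    · obtain ⟨i, hi⟩ := card_eq_one.1 h
      have := mem_filter.1 (hi ▸ mem_singleton_self i)
      rw [hi, sum_singleton] at ad
      exact mul_ne_zero this.2 (hd i this.1).ne' ad)
  exact ⟨_, fun _ => mem_filter, this.1, this.2⟩

namespace Four

variable (h : Four s a X)
include h

omit [DecidableEq ι] in
theorem sum {R : Type*} [AddCommMonoid R] {F : ι → R} (hF : ∀ i ∈ s, a i = 0 → F i = 0) :
    ∑ i ∈ s, F i = ∑ i ∈ X, F i :=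
  (sum_subset (fun i hi => ((h.mem i).1 hi).1) fun i hi hi' =>
    hF i hi (not_not.1 fun e => hi' ((h.mem i).2 ⟨hi, e⟩))).symm

omit [DecidableEq ι] in
theorem sum_mul {R : Type*} [Ring R] (F : ι → R) : ∑ i ∈ s, a i * F i = ∑ i ∈ X, a i * F i :=
  h.sum fun i _ e => by simp [e]

theorem col (hn : n ≤ 8) (cc : ∑ i ∈ s, c i ^ 2 = n) (hc : ∀ i ∈ X, c i ≠ 0 ∧ n ∣ 4 * c i ^ 2) :
    n = 4 ∧ Four s c X := by
  have hX : X ⊆ s := fun i hi => ((h.mem i).1 hi).1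
  have h1 : ∀ i ∈ X, n ≤ 4 * c i ^ 2 := fun i hi =>
    Int.le_of_dvd (by have := (hc i hi).1; positivity) (hc i hi).2
  rw [← sum_sdiff hX] at cc
  have h2 := sum_nonneg (s := s \ X) fun i _ => sq_nonneg (c i)
  have h3 := sum_le_sum h1
  rw [sum_const, h.card, ← mul_sum, nsmul_eq_mul, Nat.cast_ofNat] at h3
  have h4 := (sum_eq_sum_iff_of_le h1).1
    (by rw [sum_const, h.card, ← mul_sum, nsmul_eq_mul, Nat.cast_ofNat]; omega)
  have h5 : ∀ i ∈ X, c i = 1 ∨ c i = -1 := fun i hi => by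
    have := h4 i hi
    have := (hc i hi).1
    have : -2 < c i ∧ c i < 2 := abs_lt.1 (abs_lt_of_sq_lt_sq (by omega) two_pos.le)
    omega
  obtain ⟨x, hx⟩ := card_pos.1 (h.card ▸ four_pos)
  refine ⟨by rw [h4 x hx, sq_eq_one_iff.2 (h5 x hx), mul_one], fun i => ⟨fun hi =>
    ⟨hX hi, (hc i hi).1⟩, fun hi => by_contra fun e => hi.2 ?_⟩, h.card, h5⟩
  exact sq_eq_zero_iff.1 ((sum_eq_zero_iff_of_nonneg fun i _ => sq_nonneg (c i)).1 (by omega) i
    (mem_sdiff.2 ⟨hi.1, e⟩))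

theorem five (bb : ∑ i ∈ s, b i ^ 2 = 8) (par : ∀ i ∈ s, (a i - b i) % 2 = 0) :
    (∀ i ∈ X, b i = 1 ∨ b i = -1) ∧ ∃ x ∈ s, a x = 0 ∧ (b x = 2 ∨ b x = -2) ∧
      ∀ {R : Type} [Ring R] (F : ι → R), ∑ i ∈ s, b i * F i = ∑ i ∈ X, b i * F i + b x * F x := by
  have hX : X ⊆ s := fun i hi => ((h.mem i).1 hi).1
  have h0 : ∀ i ∈ s \ X, a i = 0 := fun i hi =>
    not_not.1 fun e => (mem_sdiff.1 hi).2 ((h.mem i).2 ⟨(mem_sdiff.1 hi).1, e⟩)
  have h1 : ∀ i ∈ X, 1 ≤ b i ^ 2 := fun i hi => by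
    have := par i (hX hi)
    have : b i ≠ 0 := by rcases h.sq i hi with e | e <;> omega
    exact (by positivity : 0 < b i ^ 2)
  rw [← sum_sdiff hX] at bb
  have h2 := sum_nonneg (s := s \ X) fun i _ => sq_nonneg (b i)
  have h5 : ∀ i ∈ X, b i = 1 ∨ b i = -1 := fun i hi => by
    have := par i (hX hi)
    have := single_le_sum (fun i _ => sq_nonneg (b i)) hi
    have : -3 < b i ∧ b i < 3 := abs_lt.1 (abs_lt_of_sq_lt_sq (by omega) three_pos.le)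
    rcases h.sq i hi with e | e <;> omega
  rw [sum_congr rfl fun i hi => sq_eq_one_iff.2 (h5 i hi), sum_const, h.card] at bb
  obtain ⟨x, hx, hx'⟩ := exists_ne_zero_of_sum_ne_zero (s := s \ X) (f := fun i => b i ^ 2)
    (by simp at bb; omega)
  rw [← add_sum_erase _ _ hx] at bb
  have h6 := sum_nonneg (s := (s \ X).erase x) fun i _ => sq_nonneg (b i)
  have h7 : b x = 2 ∨ b x = -2 := by
    have := par x (mem_sdiff.1 hx).1
    have := h0 x hx
    have : b x ≠ 0 := fun e => hx' (by simp [e])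
    have : -3 < b x ∧ b x < 3 := abs_lt.1 (abs_lt_of_sq_lt_sq (by simp at bb; omega) three_pos.le)
    omega
  refine ⟨h5, x, (mem_sdiff.1 hx).1, h0 x hx, h7, fun F => ?_⟩
  rw [← sum_sdiff hX, ← add_sum_erase _ _ hx, add_comm, sum_eq_zero (s := erase _ _) fun i hi => ?_,
    add_zero]
  rw [sq_eq_zero_iff.1 ((sum_eq_zero_iff_of_nonneg fun i _ => sq_nonneg (b i)).1
    (by rcases h7 with e | e <;> simp [e] at bb <;> omega) i hi)]
  simp

theorem norm {p q : ι → ℤ} (hp : ∀ i ∈ X, p i = 1 ∨ p i = -1) (hq : ∀ i ∈ X, q i = 1 ∨ q i = -1)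
    (h1 : ∑ i ∈ X, p i = 0) (h2 : ∑ i ∈ X, q i = 0) (h3 : ∑ i ∈ X, p i * q i = 0) :
    ∃ x ∈ X, ∃ y ∈ X, ∃ z ∈ X, ∃ w ∈ X, (p x = 1 ∧ q x = 1) ∧ (p y = 1 ∧ q y = -1) ∧
      (p z = -1 ∧ q z = 1) ∧ (p w = -1 ∧ q w = -1) ∧
      ∀ {R : Type} [AddCommMonoid R] (F : ι → R), ∑ i ∈ X, F i = F x + F y + F z + F w := by
  have key : ∀ e f : ℤ, e = 1 ∨ e = -1 → f = 1 ∨ f = -1 → ∃ x ∈ X, p x = e ∧ q x = f := by
    intro e f he hf
    obtain ⟨x, hx, h0⟩ := exists_ne_zero_of_sum_ne_zero (s := X)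
      (f := fun i => 1 + e * p i + f * q i + e * f * (p i * q i)) (by
        simp [sum_add_distrib, ← mul_sum, h1, h2, h3, h.card])
    refine ⟨x, hx, ?_⟩
    rcases he with rfl | rfl <;> rcases hf with rfl | rfl <;> rcases hp x hx with e1 | e1 <;>
      rcases hq x hx with e2 | e2 <;> simp [e1, e2] at h0 ⊢
  obtain ⟨x, hx, x1⟩ := key 1 1 (.inl rfl) (.inl rfl)
  obtain ⟨y, hy, y1⟩ := key 1 (-1) (.inl rfl) (.inr rfl)
  obtain ⟨z, hz, z1⟩ := key (-1) 1 (.inr rfl) (.inl rfl)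
  obtain ⟨w, hw, w1⟩ := key (-1) (-1) (.inr rfl) (.inr rfl)
  have n1 : x ∉ ({y, z, w} : Finset ι) := by
    simp only [mem_insert, mem_singleton]; rintro (rfl | rfl | rfl) <;> omega
  have n2 : y ∉ ({z, w} : Finset ι) := by
    simp only [mem_insert, mem_singleton]; rintro (rfl | rfl) <;> omega
  have n3 : z ≠ w := by rintro rfl; omega
  refine ⟨x, hx, y, hy, z, hz, w, hw, x1, y1, z1, w1, fun F => ?_⟩
  rw [← eq_of_subset_of_card_le (s := {x, y, z, w}) (t := X) (by simp [insert_subset_iff, *]) (by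
    rw [card_insert_of_notMem n1, card_insert_of_notMem n2, card_pair n3, h.card]),
    sum_insert n1, sum_insert n2, sum_pair n3, add_assoc, add_assoc]

theorem norm' {p : ι → ℤ} (hp : ∀ i ∈ X, p i = 1 ∨ p i = -1) (h1 : ∑ i ∈ X, p i = 0) :
    ∃ x ∈ X, ∃ y ∈ X, ∃ z ∈ X, ∃ w ∈ X, p x = 1 ∧ p y = 1 ∧ p z = -1 ∧ p w = -1 ∧
      ∀ {R : Type} [AddCommMonoid R] (F : ι → R), ∑ i ∈ X, F i = F x + F y + F z + F w := by
  have h2 := card_filter_add_card_filter_not (s := X) (p · = 1)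
  have h3 : ∀ i ∈ X.filter (¬ p · = 1), p i = -1 := fun i hi =>
    (hp i (mem_filter.1 hi).1).resolve_left (mem_filter.1 hi).2
  rw [← sum_filter_add_sum_filter_not X (p · = 1), sum_congr rfl fun i hi => (mem_filter.1 hi).2,
    sum_congr rfl h3, sum_const, sum_const, nsmul_eq_mul, nsmul_eq_mul] at h1
  rw [h.card] at h2
  obtain ⟨x, y, n1, e1⟩ := card_eq_two.1 (show #(X.filter (p · = 1)) = 2 by omega)
  obtain ⟨z, w, n2, e2⟩ := card_eq_two.1 (show #(X.filter (¬ p · = 1)) = 2 by omega)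
  have x1 := mem_filter.1 (e1 ▸ mem_insert_self x {y})
  have y1 := mem_filter.1 (e1 ▸ mem_insert_of_mem (mem_singleton_self y) : y ∈ _)
  have z1 : z ∈ X.filter (¬ p · = 1) := e2 ▸ mem_insert_self z {w}
  have w1 : w ∈ X.filter (¬ p · = 1) := e2 ▸ mem_insert_of_mem (mem_singleton_self w)
  refine ⟨x, x1.1, y, y1.1, z, (mem_filter.1 z1).1, w, (mem_filter.1 w1).1, x1.2, y1.2, h3 z z1,
    h3 w w1, fun F => ?_⟩
  rw [← sum_filter_add_sum_filter_not X (p · = 1), e1, e2, sum_pair n1, sum_pair n2, add_assoc _ (F z)]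

omit [DecidableEq ι] in
theorem sign (hb : ∀ i ∈ X, b i = 1 ∨ b i = -1) : ∀ i ∈ X, a i * b i = 1 ∨ a i * b i = -1 :=
  fun i hi => by rcases h.sq i hi with e | e <;> rcases hb i hi with e' | e' <;> simp [e, e']

omit [DecidableEq ι] in
/-- normalization of the signs -/
theorem term {i : ι} (hi : i ∈ X) (u v : ℤ) :
    (u : ℚ) * ((v : ℚ) ^ 2 / d i) = (a i * u : ℤ) * (((a i * v : ℤ) : ℚ) ^ 2 / (a i * d i : ℤ)) := by
  rcases h.sq i hi with e | e <;> simp [e, div_neg]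

omit [DecidableEq ι] in
theorem mul_mul {i : ι} (hi : i ∈ X) (u v : ℤ) : u * v = a i * u * (a i * v) := by
  rcases h.sq i hi with e | e <;> simp [e]

omit [DecidableEq ι] in
theorem aa {i : ι} (hi : i ∈ X) : a i * a i = 1 := by rcases h.sq i hi with e | e <;> simp [e]

omit [DecidableEq ι] in
theorem ne (hd : ∀ i ∈ s, 0 < d i) {i : ι} (hi : i ∈ X) : ((a i * d i : ℤ) : ℚ) ≠ 0 :=
  Int.cast_ne_zero.2 (mul_ne_zero ((h.mem i).1 hi).2 (hd i ((h.mem i).1 hi).1).ne')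

omit [DecidableEq ι] in
theorem prod (u v : ι → ℤ) : ∑ i ∈ X, u i * v i = ∑ i ∈ X, a i * u i * (a i * v i) :=
  sum_congr rfl fun _ hi => h.mul_mul hi _ _

omit [DecidableEq ι] in
theorem quo (u : ι → ℤ) : ∑ i ∈ X, (u i : ℚ) * ((T i : ℚ) ^ 2 / d i) =
    ∑ i ∈ X, (a i * u i : ℤ) * (((a i * T i : ℤ) : ℚ) ^ 2 / (a i * d i : ℤ)) :=
  sum_congr rfl fun _ hi => h.term hi _ _

end Four

theorem arithK {x y z w : ℤ} (hx : x % 4 = 1 ∧ x ≠ 1) (hy : y % 4 = 1 ∧ y ≠ 1)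
    (hz : z % 4 = 1 ∧ z ≠ 1) (hw : w % 4 = 1 ∧ w ≠ 1) (h : x + y + z + w = 0) :
    (x : ℚ)⁻¹ + (y : ℚ)⁻¹ + (z : ℚ)⁻¹ + (w : ℚ)⁻¹ ≤ 8 / 15 := by
  have q : ∀ x : ℤ, x % 4 = 1 ∧ x ≠ 1 → x = 5 ∨ x = -15 ∨ 9 ≤ x ∧ (x : ℚ)⁻¹ ≤ 9⁻¹ ∨
      x < 0 ∧ x ≠ -15 ∧ (x : ℚ)⁻¹ < 0 := fun x hx => by
    rcases le_or_gt 9 x with h | h
    · exact .inr (.inr (.inl ⟨h, inv_anti₀ (by norm_num) (by exact_mod_cast h)⟩))
    rcases lt_or_ge x 0 with h' | h'
    · have : (x : ℚ)⁻¹ < 0 := inv_lt_zero.2 (by exact_mod_cast h')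
      tauto
    omega
  rcases q x hx with rfl | rfl | ⟨a1, a2⟩ | ⟨a1, a2, a3⟩ <;>
    rcases q y hy with rfl | rfl | ⟨b1, b2⟩ | ⟨b1, b2, b3⟩ <;>
    rcases q z hz with rfl | rfl | ⟨c1, c2⟩ | ⟨c1, c2, c3⟩ <;>
    rcases q w hw with rfl | rfl | ⟨d1, d2⟩ | ⟨d1, d2, d3⟩ <;>
    first | omega | (push_cast; linarith)

theorem numK0 (h : Four s a X) (ad : ∑ i ∈ s, a i * d i = 0) (h4 : ∀ i ∈ X, a i * d i % 4 = 1)
    (h1 : ∀ i ∈ X, a i * d i ≠ 1) (hI : 0 ≤ I) (hT : ∀ i ∈ X, T i = a i)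
    (e : I * ∑ i ∈ s, (a i : ℚ) * ((T i : ℚ) ^ 2 / d i) = 8 * k ^ 2) : 15 * k ^ 2 ≤ I := by
  rw [h.sum fun i _ e => by simp [e]] at ad
  rw [h.sum_mul, h.quo, sum_congr rfl (g := fun i => ((a i * d i : ℤ) : ℚ)⁻¹) fun i hi => by
    rw [hT i hi, h.aa hi]; simp] at e
  obtain ⟨x, y, z, w, n1, n2, n3, n4, n5, n6, rfl⟩ := card_eq_four.1 h.card
  rw [sum_insert (by simp [*]), sum_insert (by simp [*]), sum_pair n6] at e ad
  have := arithK ⟨h4 x (by simp), h1 x (by simp)⟩ ⟨h4 y (by simp), h1 y (by simp)⟩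
    ⟨h4 z (by simp), h1 z (by simp)⟩ ⟨h4 w (by simp), h1 w (by simp)⟩ (by omega)
  have hI' : (0 : ℚ) ≤ I := by exact_mod_cast hI
  qify at this e ⊢
  nlinarith

theorem numK1 (h : Four s a X) (hc : Four s c X) (hc' : Four s c' X) (hd : ∀ i ∈ s, 0 < d i)
    (ad : ∑ i ∈ s, a i * d i = 0) (cd : ∑ i ∈ s, c i * d i = 0) (cd' : ∑ i ∈ s, c' i * d i = 0)
    (ac : ∑ i ∈ s, a i * c i = 0) (ac' : ∑ i ∈ s, a i * c' i = 0) (cc : ∑ i ∈ s, c i * c' i = 0)
    (hT : ∀ i ∈ X, T i = a i + c i + c' i)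
    (e : I * ∑ i ∈ s, (a i : ℚ) * ((T i : ℚ) ^ 2 / d i) = 8 * k ^ 2) : k ∣ I := by
  rw [h.sum fun i _ e => by simp [e]] at ad ac ac'
  rw [hc.sum fun i _ e => by simp [e], h.prod] at cd cc
  rw [hc'.sum fun i _ e => by simp [e], h.prod] at cd'
  rw [h.sum_mul, h.quo, sum_congr rfl fun i hi => by
    rw [hT i hi, mul_add (a i), mul_add (a i), h.aa hi]] at e
  obtain ⟨x, hx, y, -, z, -, w, -, x1, y1, z1, w1, hF⟩ :=
    h.norm (h.sign hc.sq) (h.sign hc'.sq) ac ac' cc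
  rw [hF] at ad cd cd' e
  simp only [x1, y1, z1, w1] at cd cd' e
  have := h.ne hd hx
  rw [show a y * d y = -(a x * d x) by omega, show a z * d z = -(a x * d x) by omega,
    show a w * d w = a x * d x by omega] at e
  generalize a x * d x = u at *
  refine ⟨u * k, ?_⟩
  qify
  push_cast at e
  field_simp at e
  linarith

theorem numD2 (h : Four s a X) (hc : Four s c X) (hc' : Four s c' X) (hd : ∀ i ∈ s, 0 < d i)
    (hb : ∀ i ∈ X, b i = 1 ∨ b i = -1) (ab : ∑ i ∈ s, a i * b i = 0)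
    (cb : ∑ i ∈ s, c i * b i = 0) (cb' : ∑ i ∈ s, c' i * b i = 0)
    (ad : ∑ i ∈ s, a i * d i = 0) (cd : ∑ i ∈ s, c i * d i = 0) (cd' : ∑ i ∈ s, c' i * d i = 0)
    (ac : ∑ i ∈ s, a i * c i = 0) (ac' : ∑ i ∈ s, a i * c' i = 0) (cc : ∑ i ∈ s, c i * c' i = 0)
    (hT : ∀ i ∈ X, T i = b i + 2 * c i + 2 * c' i)
    (e : I * ∑ i ∈ s, (a i : ℚ) * ((T i : ℚ) ^ 2 / d i) = 32 * k * l) : k ∣ I := by
  rw [h.sum fun i _ e => by simp [e]] at ad ac ac' ab
  rw [hc.sum fun i _ e => by simp [e], h.prod] at cd cc cb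
  rw [hc'.sum fun i _ e => by simp [e], h.prod] at cd' cb'
  rw [h.sum_mul, h.quo, sum_congr rfl fun i hi => by
    rw [hT i hi, mul_add (a i), mul_add (a i), h.aa hi, mul_left_comm, mul_left_comm (a i)]] at e
  obtain ⟨x, hx, y, -, z, -, w, -, x1, y1, z1, w1, hF⟩ :=
    h.norm (h.sign hc.sq) (h.sign hc'.sq) ac ac' cc
  rw [hF] at ad cd cd' e ab cb cb'
  simp only [x1, y1, z1, w1] at cd cd' e cb cb'
  have := h.ne hd hx
  rw [show a y * d y = -(a x * d x) by omega, show a z * d z = -(a x * d x) by omega,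
    show a w * d w = a x * d x by omega, show a y * b y = -(a x * b x) by omega,
    show a z * b z = -(a x * b x) by omega, show a w * b w = a x * b x by omega] at e
  generalize a x * d x = u at *
  refine ⟨u * l, ?_⟩
  qify
  rcases h.sign hb x hx with e' | e' <;> rw [e'] at e <;> push_cast at e <;> field_simp at e <;>
    linarith

theorem numD1 (h : Four s a X) (hc : Four s c X) (hd : ∀ i ∈ s, 0 < d i)
    (bb : ∑ i ∈ s, b i ^ 2 = 8) (par : ∀ i ∈ s, (a i - b i) % 2 = 0) (ab : ∑ i ∈ s, a i * b i = 0)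
    (cb : ∑ i ∈ s, b i * c i = 0) (ad : ∑ i ∈ s, a i * d i = 0) (bd : ∑ i ∈ s, b i * d i = 0)
    (cd : ∑ i ∈ s, c i * d i = 0) (ac : ∑ i ∈ s, a i * c i = 0)
    (hT : ∀ i ∈ s, T i = b i + 2 * c i)
    (e : I * ∑ i ∈ s, (a i : ℚ) * ((T i : ℚ) ^ 2 / d i) = 32 * k * l)
    (e' : I * ∑ i ∈ s, (b i : ℚ) * ((T i : ℚ) ^ 2 / d i) = 16 * (k ^ 2 + l ^ 2)) :
    k ∣ I ∨ l ∣ I := by
  obtain ⟨hb, v, hv, v1, v2, hG⟩ := h.five bb par
  have v3 : c v = 0 := not_not.1 fun e => ((h.mem v).1 ((hc.mem v).2 ⟨hv, e⟩)).2 v1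
  have hT' : ∀ i ∈ X, a i * T i = a i * b i + 2 * (a i * c i) := fun i hi => by
    rw [hT i ((h.mem i).1 hi).1]; ring
  replace bd := (hG d).symm.trans bd
  simp only [Int.cast_id] at bd
  rw [h.sum fun i _ e => by simp [e]] at ad ac ab
  rw [hc.sum fun i _ e => by simp [e], h.prod] at cd cb
  rw [h.prod] at bd
  rw [h.sum_mul, h.quo, sum_congr rfl fun i hi => by rw [hT' i hi, h.aa hi]] at e
  rw [hG, h.quo, sum_congr rfl fun i hi => by rw [hT' i hi], hT v hv, v3] at e'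
  obtain ⟨x, hx, y, hy, z, -, w, -, x1, y1, z1, w1, hF⟩ :=
    h.norm (h.sign hb) (h.sign hc.sq) ab ac cb
  rw [hF] at ad cd bd e e'
  simp only [x1, y1, z1, w1] at cd bd e e'
  have p0 := h.ne hd hx
  have q0 := h.ne hd hy
  have r0 : (d v : ℚ) ≠ 0 := Int.cast_ne_zero.2 (hd v hv).ne'
  rw [show a z * d z = -(a x * d x) by omega, show a w * d w = -(a y * d y) by omega] at e e' bd
  generalize a x * d x = p at *
  generalize a y * d y = q at *
  have e1 : (I : ℚ) / p - I / q = 4 * k * l := by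
    push_cast at e; field_simp at e ⊢; linarith
  have e2 : ((I : ℚ) / p + I / q - 2 * k ^ 2) * (I / p + I / q - 2 * l ^ 2) = 0 := by
    have r1 : (p : ℚ) + q ≠ 0 := by
      have := hd v hv
      exact_mod_cast (by rcases v2 with e | e <;> rw [e] at bd <;> omega : p + q ≠ 0)
    have r2 : (b v : ℚ) * ((b v : ℚ) ^ 2 / d v) = -8 / (p + q) := by
      rw [show (p : ℚ) + q = -(b v * d v) / 2 by qify at bd; linarith]
      rcases v2 with e | e <;> rw [e] <;> push_cast <;> field_simp <;> norm_num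
    simp only [mul_zero, add_zero, r2] at e'
    have e3 : 10 * ((I : ℚ) / p + I / q) - 8 * I / (p + q) = 16 * (k ^ 2 + l ^ 2) := by
      rw [← e']; push_cast; field_simp; ring
    have e4 : (I : ℚ) / (p + q) * (I / p + I / q) = I / p * (I / q) := by field_simp; ring
    linear_combination (I / p + I / q) / 8 * e3 + e4 - ((I : ℚ) / p - I / q + 4 * k * l) / 4 * e1
  have e5 : (I : ℚ) = p * (I / p) := by field_simp
  rcases mul_eq_zero.1 e2 with e3 | e3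
  · exact .inl ⟨p * (k + 2 * l), by qify; linear_combination e5 + p / 2 * (e1 + e3)⟩
  · exact .inr ⟨p * (l + 2 * k), by qify; linear_combination e5 + p / 2 * (e1 + e3)⟩

theorem arithD {p q : ℤ} (hp : p % 8 = 1 ∧ p ≠ 1) (hq : q % 8 = 1 ∧ q ≠ 1)
    (h : 32 / 45 ≤ (p : ℚ)⁻¹ + (q : ℚ)⁻¹ - 4 * ((p + q : ℤ) : ℚ)⁻¹) :
    p + q = -6 ∧ (p : ℚ)⁻¹ + (q : ℚ)⁻¹ ≤ 2 / 45 := by
  have h1 : ∀ x : ℤ, x % 8 = 1 ∧ x ≠ 1 → (x : ℚ)⁻¹ ≤ 9⁻¹ := fun x hx => by
    rcases le_or_gt 9 x with h | h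
    · exact inv_anti₀ (by norm_num) (by exact_mod_cast h)
    · exact (inv_nonpos.2 (by exact_mod_cast (by omega : x ≤ 0))).trans (by norm_num)
  have h2 : ∀ x y : ℤ, 9 ≤ x → x + y = -6 → (x : ℚ)⁻¹ + (y : ℚ)⁻¹ ≤ 2 / 45 := fun x y hx e => by
    have : (9 : ℚ) ≤ x := by exact_mod_cast hx
    rw [show (y : ℚ) = -(x + 6) by exact_mod_cast (by omega : y = -(x + 6)), inv_neg,
      ← sub_eq_add_neg, inv_sub_inv (by positivity) (by positivity),
      div_le_div_iff₀ (by positivity) (by positivity)]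
    nlinarith
  have := h1 p hp
  have := h1 q hq
  have h3 : p + q = -6 := by
    by_contra e
    rcases le_or_gt 0 (p + q) with h' | h'
    · have : (0 : ℚ) ≤ ((p + q : ℤ) : ℚ)⁻¹ := by positivity
      linarith
    · have : ((-(p + q) : ℤ) : ℚ)⁻¹ ≤ 14⁻¹ :=
        inv_anti₀ (by norm_num) (by exact_mod_cast (by omega : 14 ≤ -(p + q)))
      rw [Int.cast_neg, inv_neg] at this
      linarith
  refine ⟨h3, ?_⟩
  rcases le_or_gt 9 p with h' | h'
  · exact h2 p q h' h3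
  · rw [add_comm]; exact h2 q p (by omega) (by omega)

theorem od_eq {y u v : ℤ} (h : Num.OD I k l y u v) (hk : 0 < k) (hl : 0 < l)
    (e : 4 * I = 45 * (k + l) ^ 2) : k = l := by
  have h0 : 0 < (k + l) ^ 2 := by positivity
  have h1 : (y - 10) * (13 * y - 18) = 0 :=
    mul_left_cancel₀ h0.ne' (by linear_combination 4 * h.e1 - (y - 2) ^ 2 * e)
  have h2 : y = 10 := by rcases mul_eq_zero.1 h1 with e | e <;> omega
  have := h.ha
  have := h.hb
  have := h.sum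
  have h3 := h.e2
  rw [h2] at h3
  by_cases h4 : u = -5
  · rw [h4, show v = -5 by omega] at h3
    nlinarith
  · have : u * v < 0 := by
      rcases lt_or_gt_of_ne h4 with h5 | h5
      · exact mul_neg_of_neg_of_pos (by omega) (by omega)
      · exact mul_neg_of_pos_of_neg (by omega) (by omega)
    have : 0 < (u - v) ^ 2 := by have : u - v ≠ 0 := by omega
                                 positivity
    have : 0 < I * (u - v) ^ 2 := mul_pos (by omega) this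
    nlinarith [sq_nonneg (k - l)]

theorem numD0 {y u u' : ℤ} (ho : Num.OD I k l y u u') (hk : 0 < k) (hl : 0 < l) (h : Four s a X)
    (hd : ∀ i ∈ s, 0 < d i) (bb : ∑ i ∈ s, b i ^ 2 = 8) (par : ∀ i ∈ s, (a i - b i) % 2 = 0)
    (ab : ∑ i ∈ s, a i * b i = 0) (ad : ∑ i ∈ s, a i * d i = 0) (bd : ∑ i ∈ s, b i * d i = 0)
    (h8 : ∀ i ∈ X, 8 ∣ d i + 2 * a i + 5 * b i) (h1 : ∀ i ∈ X, d i ≠ 1)
    (e : I * ∑ i ∈ s, (a i : ℚ) * ((b i : ℚ) ^ 2 / d i) = 32 * k * l)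
    (e' : I * ∑ i ∈ s, (b i : ℚ) * ((b i : ℚ) ^ 2 / d i) = 16 * (k ^ 2 + l ^ 2)) :
    k ∣ I ∧ ∃ i ∈ s, d i = 3 ∧ b i = -1 := by
  obtain ⟨hb, v, hv, -, v2, hG⟩ := h.five bb par
  replace bd := (hG d).symm.trans bd
  simp only [Int.cast_id] at bd
  rw [h.sum fun i _ e => by simp [e]] at ad ab
  rw [h.prod] at bd
  rw [h.sum_mul, h.quo, sum_congr rfl fun i hi => by rw [h.aa hi]] at e
  rw [hG, h.quo] at e'
  obtain ⟨x, hx, y, hy, z, hz, w, hw, x1, y1, z1, w1, hF⟩ := h.norm' (h.sign hb) ab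
  rw [hF] at ad bd e e'
  simp only [x1, y1, z1, w1] at bd e e'
  have c1 : ∀ i ∈ X, a i * b i = 1 → a i * d i % 8 = 1 ∧ a i * d i ≠ 1 := fun i hi e => by
    have h8' := h8 i hi
    have := h1 i hi
    have := hd i ((h.mem i).1 hi).1
    rcases h.sq i hi with e1 | e1 <;> rw [e1] at e h8' ⊢ <;> omega
  have p0 := h.ne hd hx
  have q0 := h.ne hd hy
  have r0 := h.ne hd hz
  have s0 := h.ne hd hw
  have t0 : (d v : ℚ) ≠ 0 := Int.cast_ne_zero.2 (hd v hv).ne'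
  have p1 := c1 x hx x1
  have q1 := c1 y hy y1
  suffices h3 : k ∣ I ∧ a z * d z = 3 by
    have := hd z ((h.mem z).1 hz).1
    refine ⟨h3.1, z, ((h.mem z).1 hz).1, ?_⟩
    rcases h.sq z hz with e1 | e1 <;> rw [e1] at z1 h3 <;> omega
  generalize a x * d x = p at *
  generalize a y * d y = q at *
  generalize a z * d z = r at *
  generalize a w * d w = t at *
  have r2 : (b v : ℚ) * ((b v : ℚ) ^ 2 / d v) = -8 * ((p + q : ℤ) : ℚ)⁻¹ := by
    rw [show ((p + q : ℤ) : ℚ) = -(b v * d v) / 2 by qify at bd ad; push_cast; linarith]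
    rcases v2 with e | e <;> rw [e] <;> push_cast <;> field_simp <;> norm_num
  have hu := ho.upper hk hl
  have hI : (0 : ℚ) < I := by
    have := ho.lower hk hl
    have : 0 < (k + l) ^ 2 := by positivity
    exact_mod_cast (by omega : 0 < I)
  rw [r2] at e'
  simp only [Int.cast_one, Int.cast_neg, one_pow, neg_sq, one_mul, one_div, neg_mul] at e e'
  have hu' : 4 * (I : ℚ) ≤ 45 * (k + l) ^ 2 := by exact_mod_cast hu
  obtain ⟨f1, f2⟩ := arithD p1 q1 (le_of_mul_le_mul_left (by linarith) hI)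
  rw [f1] at e'
  have f0 : 4 * I = 45 * (k + l) ^ 2 := by
    qify; have := mul_le_mul_of_nonneg_left f2 hI.le; push_cast at e'; linarith
  obtain rfl := od_eq ho hk hl f0
  have f3 : (r : ℚ)⁻¹ + (t : ℚ)⁻¹ = 2 / 3 := mul_left_cancel₀ hI.ne' (by push_cast at e'; linarith)
  have f4 : t = 6 - r := by omega
  rw [inv_add_inv r0 s0, div_eq_div_iff (mul_ne_zero r0 s0) three_ne_zero, f4] at f3
  have : (r - 3) ^ 2 = 0 := by qify; push_cast at f3; linarith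
  exact ⟨⟨45 * k, by linarith⟩, sub_eq_zero.1 (sq_eq_zero_iff.1 this)⟩

end Cfsg.GW.C1
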