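import Cfsg.Agent.GW.Alpha

/-!
# S4594 core: assembly of the pieces
-/

set_option autoImplicit false
set_option linter.unusedSectionVars false
set_option linter.style.haveILetI false

namespace Cfsg.GW

open Subgroup Cfsg.FT Cfsg.Gag Cfsg.Gag.Fin5
open scoped Pointwise

universe u

variable {G : Type u} [Group G] [Finite G] {S A Q T : Subgroup G} {t f x : G} {r : ℕ}

/-- no `C(t)`-invariant odd primary subgroup is moved by `t` -/
theorem Ctx.nb [IsSimpleGroup G] (c : Ctx S t) (hL : StL1.{u}) (h1 : StB1.{u}) (h2 : StB2.{u})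
    (hr : r.Prime) (r2 : r ≠ 2) (hQ : IsPGroup r Q) (hn : 𝐂₁[t] ≤ 𝐍[Q]) : Q ≤ 𝐂₁[t] := by
  haveI := Fact.mk hr
  have key : ∀ Q : Subgroup G, IsPGroup r Q → 𝐂₁[t] ≤ 𝐍[Q] → IsPGroup r ↥⁅Q, ⟪t⟫⁆ ∧
      𝐂₁[t] ≤ 𝐍[⁅Q, ⟪t⟫⁆] ∧ ⁅⁅Q, ⟪t⟫⁆, ⟪t⟫⁆ = ⁅Q, ⟪t⟫⁆ := fun Q hQ hn =>
    have h := zpowers_le.2 (hn (cent1id t))
    ⟨hQ.to_le (commg_subl.2 h), normsR hn (norms_cycle le_rfl),
      coprime_commGid h (cop_inv (odd_card_of_pgroup hQ r2) c.ot)⟩
  by_contra h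
  obtain ⟨Q', hl, hm⟩ := Finite.exists_le_maximal (p := fun Q : Subgroup G => IsPGroup r Q ∧
    𝐂₁[t] ≤ 𝐍[Q] ∧ ⁅Q, ⟪t⟫⁆ = Q) (key Q hQ hn)
  obtain ⟨q1, q2, q3⟩ := hm.1
  have q0 : Q' ≠ ⊥ := fun e => h (by
    rw [← cent_cycle, ← commG1P]; exact eq_bot_iff.2 (e ▸ hl))
  obtain ⟨A, hA, hNA⟩ := (eq_top_or_exists_le_coatom 𝐍[Q']).resolve_left
    (c.norm_ne (odd_card_of_pgroup q1 r2) q0)
  have hH := q2.trans hNA
  have h3 := hL G A Q' t r (c.dg hA.1) (hH (cent1id t)) c.ot hr r2 ((normG _).trans hNA) q1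
    (inf_le_right.trans q2)
  have h4 : Q' ≤ ⁅core {r} A, ⟪t⟫⁆ := q3.ge.trans (commSg _ (q3.ge.trans h3))
  have h5 := le_antisymm h4 (hm.2 (key _ (pcore_pgroup' r A) (hH.trans (pcore_normal _ _).2)) h4)
  have b : Beta t A r := ⟨hA, hH, hr, r2, h5 ▸ q0, h5 ▸ hNA⟩
  exact (em _).elim (h1 G S A t r c b) (h2 G S A t r c b)

/-- all the pieces of the core -/
structure Pieces : Prop where
  frob : StFrob.{u}
  sol : StSol.{u}
  l1 : StL1.{u}
  base : StBase.{u}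
  b1 : StB1.{u}
  b2 : StB2.{u}
  an : StAn.{u}
  ao1 : StAo1.{u}
  ao2 : StAo2.{u}
  ao3 : StAo3.{u}
  ao4 : StAo4.{u}
  g1 : StG1.{u}
  g2 : StG2.{u}
  bsw : StBSW.{u}

theorem Pieces.step (h : Pieces.{u}) [IsSimpleGroup G] (hD : Dih G) (ih : IH.{u} (Nat.card G))
    (hn : ¬ IsMulCommutative G) : IsL2 G ∨ IsA7 G := by
  obtain ⟨K, t, s, b⟩ | ⟨S, t, c⟩ := h.base G hD ih hn
  · exact .inl (h.bsw G K t s b)
  obtain ⟨A, hA, hH⟩ := (eq_top_or_exists_le_coatom 𝐂₁[t]).resolve_left c.H_ne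
  have hO : od A ≤ 𝐂₁[t] := cent_od c.ot (normG A (hH (cent1id t))) fun p hp p2 =>
    haveI := Fact.mk hp
    c.nb h.l1 h.b1 h.b2 hp p2 (pcore_pgroup' p A) (hH.trans (pcore_normal _ _).2)
  have hs : Group.IsSolvable A := by_contra fun hs => h.g2 G S A t c hA hH hs hO
  have hS := c.cen.trans hH
  by_cases hf : ∃ V : Subgroup G, Klein V ∧ V ≤ S ∧ Fus A V
  · obtain ⟨V, hV, hVS, hf⟩ := hf
    have h1 : od A ≤ 𝐂[V] := centsC.1 fun v hv => by
      by_cases v1 : v = 1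
      · exact v1 ▸ one_mem _
      obtain ⟨g, hg, rfl⟩ := hf t (c.tV hV hVS) v hv c.t1 v1
      rw [← le_cent1, cent1_conj]
      exact (conj_eq_of_mem_norm ((pcore_normal _ A).2 hg.1)).ge.trans (conj_le_conj.2 hO)
    have h2 := norm_of_sup hV.pgroup h1 ((h.sol G A V c.dih hs hV (hVS.trans hS)).2 hf)
    obtain rfl := (hA.le_iff.1 h2).resolve_left (c.normV_ne hV)
    exact .inr (h.g1 G S V t c hV hVS hA hH)
  have e := h.frob G A S c.dih (c.syl.subl hS le_top) fun V hV hVS h => hf ⟨V, hV, hVS, h⟩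
  obtain rfl : 𝐂₁[t] = A := le_antisymm hH (e ▸ sup_le hO c.cen)
  by_cases hm : ∀ (p : ℕ) (s : G), p.Prime → s ∈ S → orderOf s = 2 → s ≠ t →
      core {p} (oc t) ≤ 𝐂₁[s] ∨ core {p} (oc t) ⊓ 𝐂₁[s] = ⊥
  · obtain ⟨K, s, b⟩ := h.an G S t c hA hm
    exact .inl (h.bsw G K t s b)
  push Not at hm
  obtain ⟨p, s, hp, h1, h2, h3, h4, h5⟩ := hm
  obtain ⟨E, K, ε, q, o⟩ := h.ao1 G S t s p c hA hp h1 h2 h3 h4 h5
  have h6 := h.ao2 G S E K t s ε q c o
  exact (h.ao4 G S E K t s ε q c o h6 (h.ao3 G S E K t s ε q c o h6)).elim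

theorem Pieces.ih (h : Pieces.{u}) (n : ℕ) : IH.{u} n := by
  induction n with
  | zero => exact fun L _ _ _ hL => absurd hL (Nat.not_lt_zero _)
  | succ n ih =>
    exact fun L _ _ _ hL hD hn => h.step hD (fun M _ _ _ hM => ih M (by omega)) hn

omit [Finite G] in
theorem d8_conj (h : D8 S f x) (g : G) : D8 (g •ᶜ S) (g * f * g⁻¹) (g * x * g⁻¹) where
  of := (orderOf_conj' g f).trans h.of
  ox := (orderOf_conj' g x).trans h.ox
  inv := by rw [conj_inv, conj_inv, ← h.inv]; group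
  gen := by rw [h.gen, conj_sup, conj_zpowers, conj_zpowers]
  card := (card_conj g S).trans h.card

theorem dih_of_klein (hS : Syl 2 T ⊤) (h : Klein T) : Dih G := fun _ hQ =>
  .inl (h.1 ▸ Nat.le_of_dvd Nat.card_pos (hS.card_dvd le_top hQ))

theorem dih_of_d8 (hS : Syl 2 S ⊤) (h : D8 S f x) : Dih G := fun Q hQ => by
  obtain ⟨g, -, hg⟩ := Sylow_subJ hS le_top hQ
  rcases hg.eq_or_lt with rfl | hl
  · exact .inr ⟨_, _, d8_conj h g⟩
  · have := card_mul_le_of_lt (hS.conj_top g).pgroup hl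
    rw [card_conj, h.card] at this
    exact .inl (by omega)

theorem nab_of_four [IsSimpleGroup G] (h : 4 ∣ Nat.card S) : ¬ IsMulCommutative G := fun hc => by
  letI : CommGroup G := { (inferInstance : Group G) with mul_comm := hc.1.1 }
  have h1 := IsSimpleGroup.prime_card (α := G)
  have := (Nat.dvd_prime h1).1 (h.trans (card_subgroup_dvd_card S))
  rcases this with e | e
  · omega
  · rw [← e] at h1; exact absurd h1 (by decide)

theorem Pieces.gwd (h : Pieces.{u}) : StGWD.{u} := fun G _ _ _ S _ _ hS hD =>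
  h.ih _ G (Nat.lt_succ_self _) (dih_of_d8 hS hD) (nab_of_four (S := S) (by rw [hD.card]; decide))

theorem Pieces.gwk (h : Pieces.{u}) : StGWK.{u} := fun G _ _ _ T hS hT =>
  (h.ih _ G (Nat.lt_succ_self _) (dih_of_klein hS hT) (nab_of_four hT.1.symm.dvd)).resolve_right
    fun ⟨e⟩ => by
  have h1 : Nat.card G = 2520 := by
    have := two_mul_nat_card_alternatingGroup (α := Fin 7)
    rw [Nat.card_perm, Nat.card_fin, ← Nat.card_congr e.toEquiv] at this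
    have e7 : Nat.factorial 7 = 5040 := rfl
    omega
  have h2 := hS.index
  have h3 := card_mul_index T
  rw [relIndex_top_right] at h2
  rw [hT.1] at h3
  omega

end Cfsg.GW
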