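import Cfsg.Agent.GW.Frob

/-! # The piece `StRes` -/

set_option autoImplicit false

namespace Cfsg.GW

namespace Fr

open Subgroup Cfsg.FT Cfsg.Gag Cfsg.Gag.Fin5
open scoped Pointwise

universe u

variable {G : Type u} [Group G] [Finite G] {D E K L N S V X : Subgroup G}

theorem perf_le (hE : ⁅E, E⁆ = E) (hn : E ≤ 𝐍[N]) (hs : Group.IsSolvable (E ⁄ N)) : E ≤ N :=
  (quotient_sub1 hn).1 (by_contra fun h =>
    (sol_der1_proper hs h).ne (by rw [← quotient_der hn, hE]))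

theorem perf_le' (hE : ⁅E, E⁆ = E) (hn : E ≤ 𝐍[N]) (hK : K ≤ 𝐍[N]) (hs : Group.IsSolvable K)
    (h : E ≤ K ⊔ N) : E ≤ N :=
  perf_le hE hn (solvableS ((quotientS N h).trans (quotientYidr hK).le) (quotient_sol N hs))

theorem nsol_normal (hD : Dih G) (h0 : od X = ⊥) (hX : ¬ Group.IsSolvable X) (hN : N ⊴ X)
    (h1 : N ≠ ⊥) : ¬ Group.IsSolvable N := fun hs => by
  obtain ⟨p, A, hp, hA, hm, hl⟩ := sol_exists_normal_abelem hs h1 hN.norm
  haveI := Fact.mk hp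
  by_cases e : p = 2
  · subst e
    exact hX (solvableS hm.norm (loc_sol hD (abelem_pgroup hA) hm.ne_bot))
  · exact hm.ne_bot (eq_bot_iff.2 (h0 ▸ p'core_max (nd2 (odd_card_of_pgroup (abelem_pgroup hA) e))
      ⟨hl.trans hN.le, hm.norm⟩))

theorem cent_odd (hD : Dih G) (hL : ¬ Group.IsSolvable L) : Odd (Nat.card 𝐂[L]) :=
  odd_nd2 fun h =>
    let ⟨_, ht, ot⟩ := Cauchy Nat.prime_two h
    hL (solvableS (le_cent1.2 ht) (cent1_sol hD ot))

theorem min_le (hD : Dih G) (h0 : od X = ⊥) (hX : ¬ Group.IsSolvable X) (hm : MinNormalIn D X)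
    (hl : D ≤ X) (hN : N ⊴ X) (h1 : N ≠ ⊥) : D ≤ N := by
  refine (hm.TI_or_le hN.norm).resolve_left fun e => h1 (eq_bot_iff.2 (h0 ▸ p'core_max (nd2 ?_) hN))
  exact oddSg (hN.cents_of_TI ⟨hl, hm.norm⟩ (inf_comm D N ▸ e))
    (cent_odd hD (nsol_normal hD h0 hX ⟨hl, hm.norm⟩ hm.ne_bot))

theorem syl_shape (hD : Dih G) (hL : ¬ Group.IsSolvable L) (hS : Syl 2 S L) :
    Klein S ∨ ∃ f x, D8 S f x :=
  (shape hD hS.pgroup).resolve_left fun h => hL (Core.sol_of_cyclic hS h)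

theorem res0 (hD : Dih G) (h0 : od X = ⊥) (hX : ¬ Group.IsSolvable X) : ∃ D, D ⊴ X ∧ D ≠ ⊥ ∧
    ⁅D, D⁆ = D ∧ (∀ N, N ⊴ X → N ≠ ⊥ → D ≤ N) ∧ (∀ N, N ⊴ D → N ≠ ⊥ → D ≤ N) ∧
    Group.IsSolvable (X ⁄ D) := by
  obtain ⟨D, hm, hl⟩ := minnormal_exists (U := X) (fun e => hX (e ▸ solvable1)) (normG X)
  have hn : D ⊴ X := ⟨hl, hm.norm⟩
  have hs := nsol_normal hD h0 hX hn hm.ne_bot
  have h0' : od D = ⊥ := eq_bot_iff.2 (h0 ▸ hn.core_le _)
  obtain ⟨L, hL, hLD⟩ := minnormal_exists hm.ne_bot (normG D)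
  have e : L = D := hm.eq hLD (fun g hg => mem_norm_of_le_conj (min_le hD h0' hs hL hLD
    (hn.conj_eq hg ▸ NormalIn.conj ⟨hLD, hL.norm⟩ g) (conj_ne_bot.2 hL.ne_bot))) hL.ne_bot
  refine ⟨D, hn, hm.ne_bot, hm.eq (der_sub D) hn.der.norm fun e => hs (abelian_sol (derG1P.1 e)),
    fun N => min_le hD h0 hX hm hl, fun N hN h1 => e ▸ min_le hD h0' hs hL hLD hN h1, ?_⟩
  obtain ⟨S, hS⟩ := Sylow_exists 2 X
  have hSn := hS.le.trans hn.norm
  refine Core.sol_of_cyclic (hS.quo hSn) ?_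
  have h4 : 4 ≤ Nat.card ↥(S ⊓ D) := by
    rcases syl_shape hD hs (Sylow_setI_normal hn hS) with h | ⟨f, x, h⟩
    · exact h.1.ge
    · rw [h.card]; norm_num
  have h8 := card_le8 hD hS.pgroup
  rw [← card_quo_mul' hSn, inf_comm] at h8
  have h2 : Nat.card (S ⁄ D) ≤ 2 ^ 1 := by nlinarith
  rcases (Nat.dvd_prime Nat.prime_two).1 (card_dvd_of_le_pow (quotient_pgroup D hS.pgroup) h2)
    with e | e
  · exact Subgroup.card_eq_one.1 e ▸ zpowers_one_eq_bot (G := Q D) ▸ cycle_cyclic 1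
  · exact prime_cyclic (e ▸ Nat.prime_two)

theorem conj_of_perf (hD : Dih G) (hE : ⁅E, E⁆ = E) (h1 : E ≠ ⊥) :
    ∀ a ∈ E, ∀ b ∈ E, orderOf a = 2 → orderOf b = 2 → ∃ g ∈ E, g * a * g⁻¹ = b :=
  let ⟨_, hS⟩ := Sylow_exists 2 E
  (Core.conj_sub stConj hE hS (syl_shape hD (fun hs => (sol_der1_proper hs h1).ne hE) hS)).1

/-- one class of involutions and a Sylow 2-subgroup of order 8: all four-groups are fused -/
theorem fus_d8 (hD : Dih G) {f x : G} (h : D8 S f x) (hS : S ≤ X)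
    (hc : ∃ g ∈ X, g * f ^ 2 * g⁻¹ = x) : Fus X (⟪f ^ 2⟫ ⊔ ⟪x⟫) :=
  let ⟨_, hg, e⟩ := hc
  let ⟨_, hn, c⟩ := d8_exists_three h (d8_syl hD h hS) hg e
  fus_of_sq (d8_klein h) hn c

theorem fus_of_perf (hD : Dih G) (hE : ⁅E, E⁆ = E) (hV : Klein V) (h : V ≤ E) : Fus E V := by
  have h1 : E ≠ ⊥ := fun e => hV.ne_bot (eq_bot_iff.2 (e ▸ h))
  obtain ⟨S, hS, hl⟩ := Sylow_superset h hV.pgroup
  rcases shape' hD hS.pgroup hV hl with rfl | ⟨f, x, e, rfl⟩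
  · by_contra c
    exact (sol_der1_proper (pnil_sol (pnil' hD hS fun W hW hl =>
      card_eq_of_le hl (hV.1.trans hW.1.symm).le ▸ c)) h1).ne hE
  · exact fus_d8 hD e hS.le (conj_of_perf hD hE h1 _ (h d8_cT) _ (h d8_xT) (d8_oc e) e.ox)

theorem meet_of_nsol (hD : Dih G) (hE : E ⊴ X) (hs : ¬ Group.IsSolvable E) (hV : Klein V)
    (h : V ≤ X) : V ⊓ E ≠ ⊥ := by
  obtain ⟨S, hS, hl⟩ := Sylow_superset h hV.pgroup
  rcases syl_shape hD hs (Sylow_setI_normal hE hS) with e | ⟨f, x, e⟩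
  · obtain ⟨v, hv, h1⟩ := klein_meet hD hS.pgroup hV e hl inf_le_left
    exact ne_bot_of_mem ⟨hv.1, hv.2.2⟩ h1
  · have := card_eq_of_le (inf_le_left : S ⊓ E ≤ S) (e.card ▸ card_le8 hD hS.pgroup)
    rw [inf_eq_left.2 (hl.trans (this.ge.trans inf_le_right))]
    exact hV.ne_bot

theorem res (hD : Dih G) (hX : ¬ Group.IsSolvable X) : ∃ E, ResF E X := by
  have hO := pcore_normal {2}ᶜ X
  obtain ⟨D, hn, h1, hp, hm, hs, hq⟩ := res0 (dih_quo hD (odd_od X)) (trivg_pcore_quotient _ X)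
    fun e => hX (sol_of_quo (sol_od X) hO.norm e)
  set E := sSup {L : Subgroup G | L ≤ X ∧ ⁅L, L⁆ = L}
  have hEX : E ≤ X := sSup_le fun _ h => h.1
  have hE : ⁅E, E⁆ = E := le_antisymm (der_sub E) (sSup_le fun L h => h.2.ge.trans
    (dergS (le_sSup h)))
  have hN : E ⊴ X := ⟨hEX, norms_sSup fun a ha L h =>
    ⟨conj_le_of_mem ha h.1, by rw [← conj_commutator, h.2]⟩⟩
  have hEn := hEX.trans hO.norm
  have e : E ⁄ od X = D := by
    refine le_antisymm (perf_le (by rw [← quotient_der hEn, hE]) ((quotientS _ hEX).trans hn.norm)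
      (solvableS (quotientS _ (quotientS _ hEX)) hq)) ?_
    obtain ⟨L, hL, hmin⟩ := wellFounded_lt.has_min {L : Subgroup G | L ≤ X ∧ L ⁄ od X = D}
      ⟨_, (hn.pre hO).le, cosetpreK D⟩
    refine hL.2 ▸ quotientS _ (le_sSup ⟨hL.1, (der_sub L).eq_or_lt.resolve_right (hmin _
      ⟨(der_sub L).trans hL.1, ?_⟩)⟩)
    rw [quotient_der (hL.1.trans hO.norm), hL.2, hp]
  have hne : E ≠ ⊥ := fun r => h1 (by rw [← e, r, quotient1])
  have hmin : ∀ N, N ⊴ X → N ≤ od X ∨ E ≤ N := fun N h => by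
    refine or_iff_not_imp_left.2 fun c => perf_le' hE (hEX.trans h.norm) (hO.le.trans h.norm)
      (sol_od X) ((quotientSK hEn (h.le.trans hO.norm)).1 ?_)
    exact e ▸ hm _ (h.quo _) (mt (quotient_sub1 (h.le.trans hO.norm)).1 c)
  refine ⟨E, hN, hE, hne, fun L h h' => le_sSup ⟨h, h'⟩, hmin, fun N h => ?_,
    fun V => meet_of_nsol hD hN fun r => (sol_der1_proper r hne).ne hE, fun V => fus_of_perf hD hE,
    conj_of_perf hD hE hne, (hmin _ (subcent_normal' hN.norm)).resolve_right fun r =>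
      hne (hE ▸ commG1P.2 (r.trans inf_le_right)), ?_⟩
  · have hNn := h.le.trans hEn
    refine or_iff_not_imp_left.2 fun c => le_antisymm h.le (perf_le' hE h.norm
      ((inf_le_right : od X ⊓ E ≤ E).trans h.norm) (solvableS inf_le_left (sol_od X)) ?_)
    rw [← group_modr hNn h.le]
    exact le_inf ((quotientSK hEn hNn).1 (e ▸ hs _ (e ▸ h.quo _) (mt (quotient_sub1 hNn).1 c)))
      le_rfl
  · have hF := (pcore_normal {2}ᶜ X).fit_le
    refine (hmin _ (subcent_normal' (Fitting_normal X).norm)).symm.imp (fun r => ?_) fun r =>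
      (le_inf r (inf_le_right.trans (centS hF))).trans ((cent_sub_Fitting (sol_od X)).trans hF)
    have k : ⁅⁅od X, E⁆, E⁆ = ⊥ := commG1P'.2 (centsS ((le_inf (commg_subl.2 hEn)
      ((commg_subr.2 (hO.le.trans hN.norm)).trans (r.trans (inf_le_right.trans (centS hF))))).trans
      ((cent_sub_Fitting (sol_od X)).trans hF)) (r.trans inf_le_right))
    exact commG1P.1 (hE ▸ three_subgroup (X := E) (Y := od X) (Z := E) (commGC (od X) E ▸ k) k)

end Fr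

universe u

theorem stRes : StRes.{u} := fun _ _ _ _ h => Fr.res h.dih

end Cfsg.GW
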