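import Cfsg.Agent.GW.C1a
import Cfsg.Agent.GW.C1b
import Cfsg.Agent.GW.Main
import Cfsg.Agent.GW.Res
import Cfsg.Agent.Gag.Conj
import Cfsg.Agent.Blk.ConstDiff
import Cfsg.Agent.Blk.PrinBrauer

/-! The block of a linear character of `O(C(t))`: common part, and the four-group case. -/

set_option autoImplicit false

namespace Cfsg.GW.C1

open Subgroup Cfsg.FT Cfsg.Gag Cfsg.Gag.V
open scoped ComplexConjugate MonoidAlgebra Pointwise commutatorElement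

universe u

variable {G : Type u} [Group G] {M : Ideal AlgInt} {O O' U R V P : Subgroup G} {μ ν : G → ℂ}
  {v t s x y : G} {e : (resK M)[G]}

/-- a non-trivial invariant linear character of `O(C(t))` -/
structure Mu (t : G) (μ : G → ℂ) : Prop where
  lin : Lin t (oc t) μ
  inv : Inv 𝐂₁[t] (oc t) μ
  ne : ∃ x ∈ oc t, μ x ≠ 1

theorem Lin.mem_ker (h : Lin v O μ) : x ∈ h.hom.ker.map O.subtype ↔ x ∈ O ∧ μ x = 1 :=
  ⟨by rintro ⟨y, hy, rfl⟩; exact ⟨y.2, by rw [subtype_apply, ← h.hom_apply, hy]; rfl⟩,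
    fun e => ⟨⟨x, e.1⟩, Units.ext e.2, rfl⟩⟩

theorem Lin.mul_inv (h : Lin v O μ) (hx : x ∈ O) : μ x * μ x⁻¹ = 1 := by
  rw [← h.mul x hx _ (inv_mem hx), mul_inv_cancel, h.one]

theorem Lin.comm (h : Lin v O μ) (hi : Inv R O μ) (hR : R ≤ 𝐍[O]) (hx : x ∈ ⁅O, R⁆) : μ x = 1 := by
  refine (h.mem_ker.1 (commg_le_iff.2 (fun a ha b hb => h.mem_ker.2 ?_) hx)).2
  have := (mem_normalizer_iff.1 (hR hb) _).1 (inv_mem ha)
  rw [mul_assoc, mul_assoc, ← mul_assoc b, h.mul _ ha _ this, hi b hb _ (inv_mem ha)]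
  exact ⟨mul_mem ha this, h.mul_inv ha⟩

theorem Lin.inv_self (h : Lin v O μ) : Inv O O μ := fun g hg x hx => by
  rw [h.mul _ (mul_mem hg hx) _ (inv_mem hg), h.mul _ hg _ hx, mul_right_comm, h.mul_inv hg,
    one_mul]

theorem Lin.norm_eq [Finite G] (h : Lin v O μ) (hx : x ∈ O) : ‖μ x‖ = 1 :=
  Complex.norm_eq_one_of_pow_eq_one (h.pow_order hx) (orderOf_pos x).ne'

theorem Lin.conj (h : Lin t O μ) (y : G) : Lin (y * t * y⁻¹) (y •ᶜ O) fun x => μ (y⁻¹ * x * y) where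
  mem x := by
    rw [cent1_conj, mem_conj, mem_conj, h.mem, ← orderOf_conj' y⁻¹ x, inv_inv]
  one := by simpa using h.one
  mul a ha b hb := by
    rw [← h.mul _ (mem_conj.1 ha) _ (mem_conj.1 hb)]
    congr 1; group

section
variable [Finite G]

theorem mem_oc (hD : Dih G) (hv : orderOf v = 2) : x ∈ oc v ↔ x ∈ 𝐂₁[v] ∧ ¬ 2 ∣ orderOf x :=
  ⟨fun h => ⟨oc_le v h, fun e => Fr.nd2 (oc_odd v) (e.trans (orderOf_dvd_natCard _ h))⟩,
    fun h => Fr.le_oc hD hv (zpowers_le.2 h.1) (by rw [Nat.card_zpowers]; exact Fr.odd_nd2 h.2)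
      (mem_zpowers x)⟩

theorem exists_mu (hD : Dih G) (ht : orderOf t = 2) (h : SDProd (oc t) R 𝐂₁[t])
    (hn : ⁅oc t, R⁆ ≠ oc t) : ∃ μ, Mu t μ := by
  classical
  have h1 : ¬ oc t ≤ ⁅oc t, R⁆ ⊔ ⁅oc t, oc t⁆ := fun e => hn (le_antisymm (commg_subl.2 h.norm) (by
    by_contra e'
    have := sol_der1_proper (quotient_sol (K := ⁅oc t, R⁆) (od_sol 𝐂₁[t]))
      fun e2 => e' (quotient_sub1 (commg_norml _ _) |>.1 e2)
    rw [← quotientR (commg_norml _ _) (commg_norml _ _), ← quotientYidl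
      ((comm_subG le_rfl le_rfl).trans (commg_norml _ _))] at this
    exact this.not_ge (quotientS _ e)))
  obtain ⟨x, hx, hx'⟩ := SetLike.not_le_iff_exists.1 h1
  obtain ⟨φ, h2, h3⟩ := exists_unitsHom_le_ker_ne_one
    (N := (⁅oc t, R⁆ ⊔ ⁅oc t, oc t⁆).subgroupOf (oc t))
    (commutator_le.2 fun a _ b _ => mem_sup_right (mem_commg a.2 b.2)) (g := ⟨x, hx⟩) hx'
  have hl : Lin t (oc t) (extendByZero (oc t) fun u => φ u) := ⟨fun _ => mem_oc hD ht,
    by rw [extendByZero_of_mem _ _ (one_mem _)]; exact congrArg _ (map_one φ), fun a ha b hb => by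
      rw [extendByZero_of_mem _ _ ha, extendByZero_of_mem _ _ hb,
        extendByZero_of_mem _ _ (mul_mem ha hb), ← Units.val_mul, ← map_mul]; rfl⟩
  refine ⟨_, hl, fun g hg u hu => ?_, x, hx, by
    rw [extendByZero_of_mem _ _ hx]; exact fun e => h3 (Units.ext e)⟩
  obtain ⟨a, ha, b, hb, rfl⟩ := h.mulEq.exists_mul hg
  have h4 := commg_subl.2 h.norm (mem_commg hu hb)
  rw [show a * b * u * (a * b)⁻¹ = a * (⁅u, b⁆⁻¹ * u) * a⁻¹ by rw [commutatorElement_def]; group,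
    hl.inv_self a ha _ (mul_mem (inv_mem h4) hu), hl.mul _ (inv_mem h4) _ hu,
    extendByZero_of_mem _ _ (inv_mem h4), h2 (mem_sup_left (inv_mem (mem_commg hu hb))), Units.val_one,
    one_mul]

theorem Mu.ne_W (h : Mu t μ) (hV : IsPGroup 2 V) (hc : V ≤ 𝐂₁[t]) :
    ∃ w ∈ oc t ⊓ 𝐂[V], μ w ≠ 1 := by
  by_contra! e
  obtain ⟨x, hx, hx'⟩ := h.ne
  have hn := hc.trans (oc_norm t)
  obtain ⟨a, ha, b, hb, rfl⟩ :=
    (coprime_cent_mulEq hn (cop_two (oc_odd t) hV) (.inl (od_sol _))).exists_mul hx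
  rw [h.lin.mul _ (commg_subl.2 hn ha) _ hb.1, h.lin.comm (fun g hg => h.inv g (hc hg)) hn ha,
    e b hb, mul_one] at hx'
  exact hx' rfl

theorem od_cent (hD : Dih G) (ht : orderOf t = 2) (hV : t ∈ V) : od 𝐂[V] = oc t ⊓ 𝐂[V] :=
  le_antisymm (le_inf (Fr.le_oc hD ht ((pcore_sub _ _).trans (cent_le_cent1 hV)) (od_odd _))
    (pcore_sub _ _)) (le_od ((oc_odd t).of_dvd_nat (card_dvd_of_le inf_le_left))
      ⟨inf_le_right, normsI ((cent_le_cent1 hV).trans (oc_norm t)) le_normalizer⟩)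

theorem W_conj (hD : Dih G) (ht : orderOf t = 2) (hV : t ∈ V) (hy : y ∈ 𝐍[V])
    (hx : x ∈ oc t ⊓ 𝐂[V]) : y * x * y⁻¹ ∈ oc t ⊓ 𝐂[V] := by
  rw [← od_cent hD ht hV] at hx ⊢
  rw [← conj_eq_of_mem_norm hy, cent_conj, od, pcoreJ]
  exact conj_mem_conj.2 hx

theorem Mu.W_inv (h : Mu t μ) (hD : Dih G) (ht : orderOf t = 2) (htV : t ∈ V)
    (ha : ⁅od 𝐂[V], 𝐍[V]⁆ ≤ ⁅od 𝐂[V], od 𝐂[V]⁆) (hy : y ∈ 𝐍[V]) (hx : x ∈ oc t ⊓ 𝐂[V]) :
    μ (y⁻¹ * x * y) = μ x := by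
  rw [od_cent hD ht htV] at ha
  have h1 := commutator_mono inf_le_left inf_le_left (ha (mem_commg (inv_mem hx) (inv_mem hy)))
  rw [show y⁻¹ * x * y = x * ⁅x⁻¹, y⁻¹⁆ by rw [commutatorElement_def]; group,
    h.lin.mul _ hx.1 _ (comm_subG le_rfl le_rfl h1), h.lin.comm h.lin.inv_self le_normalizer h1,
    mul_one]

/-- extension of `μ` from `C_U(V)` to a `V`-invariant character of `O(C(s))` -/
theorem Mu.exists_nu (h : Mu t μ) (hD : Dih G) (ht : orderOf t = 2) (hV : IsPGroup 2 V)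
    (htV : t ∈ V) (hc : V ≤ 𝐂₁[t]) (h0 : ⁅oc t, V⁆ ⊓ 𝐂[V] = ⊥) (hy : y ∈ 𝐍[V]) :
    ∃ ν, Lin (y * t * y⁻¹) (oc (y * t * y⁻¹)) ν ∧ Inv V (oc (y * t * y⁻¹)) ν ∧
      ∀ x ∈ oc t ⊓ 𝐂[V], ν x = μ x := by
  have hn := hc.trans (oc_norm t)
  have h1 : ∀ x, ∃ w, x ∈ oc t → w ∈ oc t ⊓ 𝐂[V] ∧ x * w⁻¹ ∈ ⁅oc t, V⁆ := fun x => by
    by_cases hx : x ∈ oc t
    · obtain ⟨a, ha, b, hb, rfl⟩ :=
        (coprime_cent_mulEq hn (cop_two (oc_odd t) hV) (.inl (od_sol _))).exists_mul hx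
      exact ⟨b, fun _ => ⟨hb, by simpa using ha⟩⟩
    · exact ⟨1, fun e => absurd e hx⟩
  choose π hπ using h1
  have h2 : ∀ x ∈ oc t, ∀ w ∈ oc t ⊓ 𝐂[V], x * w⁻¹ ∈ ⁅oc t, V⁆ → π x = w := fun x hx w hw e => by
    have : π x * w⁻¹ ∈ ⁅oc t, V⁆ ⊓ 𝐂[V] := ⟨by simpa using mul_mem (inv_mem (hπ x hx).2) e,
      Subgroup.mul_mem _ (hπ x hx).1.2 (Subgroup.inv_mem _ hw.2)⟩
    rwa [h0, mem_bot, mul_inv_eq_one] at this
  have h3 : Lin t (oc t) fun x => μ (y * π x * y⁻¹) := ⟨h.lin.mem,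
    by rw [h2 1 (one_mem _) 1 (one_mem _) (by simp [one_mem])]; simpa using h.lin.one,
    fun a ha b hb => by
      rw [h2 _ (mul_mem ha hb) _ (mul_mem (hπ a ha).1 (hπ b hb).1) (by
        have := mul_mem ((mem_normalizer_iff.1 (commg_norml _ V ha) _).1 (hπ b hb).2) (hπ a ha).2
        simpa [mul_assoc] using this), ← conj_mul,
        h.lin.mul _ (W_conj hD ht htV hy (hπ a ha).1).1 _ (W_conj hD ht htV hy (hπ b hb).1).1]⟩
  rw [oc_conj]
  refine ⟨_, h3.conj y, fun g hg x hx => ?_, fun x hx => ?_⟩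
  · have hx := mem_conj.1 hx
    have hg : y⁻¹ * g * y ∈ V := by simpa using (mem_normalizer_iff.1 (inv_mem hy) g).1 hg
    beta_reduce
    rw [h2 (y⁻¹ * (g * x * g⁻¹) * y) (by simpa [mul_assoc] using (mem_normalizer_iff.1 (hn hg) _).1 hx) _ (hπ _ hx).1 (by
      simpa [commutatorElement_def, mul_assoc] using
        mul_mem (inv_mem (mem_commg hx hg)) (hπ _ hx).2)]
  · have := W_conj hD ht htV (inv_mem hy) hx
    rw [inv_inv] at this
    rw [h2 _ this.1 _ this (by simp [one_mem])]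
    simp [mul_assoc]

theorem three [IsSimpleGroup G] {χ : IrrCharacter G} (hd : charDegree χ.1 = 3) (hV : Klein V)
    {c : ℂ} (hc : ‖c‖ = 1) (h1 : ∀ v ∈ V, v ≠ 1 → χ.1 v = -1)
    (h2 : ∀ v ∈ V, v ≠ 1 → χ.1 (v * x) = -c) : x = 1 := by
  have := Fintype.ofFinite V
  have h3 := χ.isCharacter.card_mul_fixDim_of_const h1
  rw [hV.1, χ.one_eq_charDegree, hd] at h3
  have h4 := χ.isCharacter.sum_mul_eq_zero_of_fixDim (P := V) (by
    exact_mod_cast (by push_cast at h3; linear_combination h3 / 4 : (fixDim V χ.1 : ℂ) = 0)) x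
  rw [sum_subgroup_of_const (f := fun u => χ.1 (u * x)) h2, hV.1, one_mul] at h4
  have h5 := χ.isCharacter.mem_charCenter_of_eq_mul (g := x) hc (by
    rw [χ.one_eq_charDegree, hd]; push_cast at h4 ⊢; linear_combination h4)
  rcases IsSimpleGroup.eq_bot_or_eq_top_of_normal (charCenter χ.1) inferInstance with e | e
  · rwa [e] at h5
  · rw [χ.charCenter_eq_top_iff.1 e] at hd; omega

end

variable [Fintype G] {B : Set (IrrCharacter G)}

section
variable (S : StarSetup 2 M B P e)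
include S

theorem below_ne (h : Lin t U μ) (hi : Inv P U μ) (h0 : lamF M μ e ≠ 0) (hVP : V ≤ P)
    (hN : P ≤ 𝐍[V]) (ht : t ∈ V) {s : P} (hs : (s : G) ∈ V) (hc : V ≤ 𝐂₁[(s : G)])
    (h' : Lin (s : G) O ν) (hi' : Inv V O ν) (ha : ∀ x ∈ U ⊓ 𝐂[V], ν x = μ x) :
    lamF M ν (subIdem M _ (S.below s)) ≠ 0 := by
  have := S.hM.charP
  obtain ⟨f, hf⟩ := exists_pairLE S.isPair hVP
  have hp := hf.isPair_left S.isPair
  refine h'.step S.hM hi' (cent_cycle _).le (((S.below_le s).of_le_of_le S.isPair hf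
    (zpowers_le.2 hs)).nsub hp (norms_cycle hc)) ?_
  rw [lamF_congr (ν := μ) fun x hx => ha x ⟨by_contra fun e => hx (mem_suppGA.1 (h.supp S.hM
    (cent_le_cent1 ht) (isPair_top_iff.1 hp).2) x e), by_contra fun e => hx (mem_suppGA.1 hp.supp x e)⟩]
  exact h.step S.hM hi (cent_le_cent1 ht) (hf.nsub S.isPair hN) h0

theorem Mu.conj_ne (h : Mu t μ) (hD : Dih G) (ht : orderOf t = 2) (h0 : lamF M μ e ≠ 0)
    (hP : P ≤ 𝐂₁[t]) (hVP : V ≤ P) (hN : P ≤ 𝐍[V]) (htV : t ∈ V) (hV : V ≤ 𝐂[V])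
    (ha : ⁅od 𝐂[V], 𝐍[V]⁆ ≤ ⁅od 𝐂[V], od 𝐂[V]⁆) (hy : y ∈ 𝐍[V]) {s : P}
    (hs : (s : G) = y * t * y⁻¹) :
    lamF M (fun x => μ (y⁻¹ * x * y)) (subIdem M _ (S.below s)) ≠ 0 := by
  have hsV : (s : G) ∈ V := hs ▸ (mem_normalizer_iff.1 hy t).1 htV
  refine below_ne S h.lin (fun g hg => h.inv g (hP hg)) h0 hVP hN htV hsV
    (hV.trans (cent_le_cent1 hsV)) (hs ▸ h.lin.conj y : Lin (s : G) _ _) (fun g hg x hx => ?_)
    fun x hx => h.W_inv hD ht htV ha hy hx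
  have := h.inv _ (cent_le_cent1 htV (hV ((mem_normalizer_iff.1 (inv_mem hy) g).1 hg))) _
    (mem_conj.1 hx)
  simpa [mul_assoc] using this

theorem fuse_of {t s : P} (hy : (s : G) = y * t * y⁻¹) (h : Lin (t : G) U μ)
    (h0 : lamF M μ (subIdem M _ (S.below t)) ≠ 0)
    (h1 : lamF M (fun x => μ (y⁻¹ * x * y)) (subIdem M _ (S.below s)) ≠ 0) :
    PairFuse 2 P e (t : G) s := by
  have hb := (S.below_le s).isPair_left S.isPair
  have h2 := ((S.below_le t).isPair_left S.isPair).conj_of_normalizer (x := y)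
    (by rw [normalizer_eq_top]; trivial)
  rw [conjSub_zpowers, ← hy] at h2
  rw [isPair_top_iff, cent_cycle] at hb h2
  refine ⟨y, _, hy, S.below_le t, ?_⟩
  rw [(hy ▸ h.conj y : Lin (s : G) _ _).blk_eq S.hM h2.2 hb.2 (by rwa [lamF_conj]) h1]
  exact S.below_le s

theorem sum_fuse {R : Finset P} (hR : (R : Set P).Pairwise fun a b => ¬ PairFuse 2 P e (a : G) b)
    {v : P} (hv : ∃ r ∈ R, PairFuse 2 P e (r : G) v) : ∑ r ∈ R, fuseInd 2 P e r v = 1 := by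
  obtain ⟨r, hr, h⟩ := hv
  exact (Finset.sum_eq_single_of_mem r hr fun a ha e' =>
    if_neg fun h' => hR ha hr e' (S.fuse_trans h' h.symm)).trans (if_pos h)

end

variable {S : StarSetup 2 M B P e} {σ : G → ℂ} {n : ℕ} {r : P} {χ : IrrCharacter G}

theorem Col.apply_mul (h : Col S r O μ σ n) (hl : Lin (r : G) O μ) (hi : Inv 𝐂₁[(r : G)] O μ)
    (hf : ∀ w : P, IsConj (r : G) w → PairFuse 2 P e (r : G) w) (hχ : χ ∈ B) (hx : x ∈ O) :
    χ.1 (r * x) = classInner χ.1 σ * μ x := by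
  have e1 := pPart_mul_of_commute (mem_cent1.1 (hl.le hx)).symm (S.orderOf_eq r) ((hl.mem x).1 hx).2
  rw [sec_sum S {r} (fun w hw => sum_fuse S (by simp) ⟨r, by simp, hf w (e1 ▸ hw).symm⟩) hχ,
    Finset.sum_singleton, h.proj _ χ.isClassFunction, Pi.smul_apply, (h.inv hi).2 x hx,
    ← (h.inv hi).1, smul_eq_mul, ← mul_assoc, div_mul_cancel₀ _ h.n0]

theorem Col.deg_ne (h : Col S r (oc (r : G)) μ σ n) (hm : Mu (r : G) μ) (hG : commutator G = ⊤)
    (hf : ∀ w : P, IsConj (r : G) w → PairFuse 2 P e (r : G) w) (hχ : χ ∈ B) :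
    charDegree χ.1 ≠ 1 := fun e => by
  obtain ⟨x, hx, hx'⟩ := hm.ne
  have h1 := h.apply_mul hm.lin hm.inv hf hχ hx
  have h2 := h.apply_mul hm.lin hm.inv hf hχ (one_mem _)
  rw [hm.lin.one, mul_one _, mul_one] at h2
  rw [← h2, IrrCharacter.eq_triv_of_perfect hG e] at h1
  exact hx' (by simpa using h1.symm)

theorem Col.four (h : Col S r O ν σ n) (hr : (r : G) * r = 1)
    (hd : 2 ^ blockDefect 2 (S.below r) = 4) (hn : O.relIndex 𝐂₁[(r : G)] ≤ 8)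
    {a : IrrCharacter G → ℤ} {X : Finset (IrrCharacter G)} (hX : Four (irrFinset B) a X)
    (h0 : ∀ χ ∈ X, classInner χ.1 σ ≠ 0) : ∃ c : IrrCharacter G → ℤ,
      (∀ χ ∈ B, classInner χ.1 σ = c χ) ∧ n = 4 ∧ Four (irrFinset B) c X := by
  choose c hc using h.int hr
  have := hX.col (n := n) (by exact_mod_cast h.le.trans hn) (h.sum_sq fun χ _ => hc χ) fun χ hχ =>
    ⟨fun e => h0 χ hχ (by rw [hc, e, Int.cast_zero]),
      h.four_mul hr hd (fun χ _ => hc χ) (mem_irrFinset.1 ((hX.mem χ).1 hχ).1)⟩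
  exact ⟨c, fun χ _ => hc χ, by exact_mod_cast this.1, this.2⟩

open Classical in
theorem Col.pairsQ (h : Col S r O μ σ n) (hl : Lin (r : G) O μ) {H : Subgroup G} (hi : Inv H O μ)
    (hH : 𝐂₁[(r : G)] ≤ H) (hH' : ∀ y : G, y * r * y⁻¹ = (r : G)⁻¹ → y ∈ H) (ht : t * t = 1)
    {m T : IrrCharacter G → ℤ} (hm : ∀ χ ∈ B, classInner χ.1 σ = m χ) (hT : ∀ χ ∈ B, χ.1 t = T χ)
    {c : ℚ} (hc : O.relIndex 𝐂₁[(r : G)] * ∑ a : G with IsConj t a, ∑ b : G with IsConj t b,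
      ind (r : G) (a * b) = ii t * c) :
    ((ii t : ℤ) : ℚ) * ∑ χ ∈ irrFinset B, (m χ : ℚ) * ((T χ : ℚ) ^ 2 / (charDegree χ.1 : ℤ)) = c := by
  rw [h.pairs hl hi hH hH' ht hm, sq, mul_assoc] at hc
  apply Rat.cast_injective (α := ℂ)
  rw [← mul_left_cancel₀ (Nat.cast_ne_zero.2 index_ne_zero_of_finite) hc]
  push_cast
  exact congrArg _ (Finset.sum_congr rfl fun χ hχ => by rw [hT χ (mem_irrFinset.1 hχ)])

omit [Fintype G] in
theorem perf_of_four [Finite G] [IsSimpleGroup G] (h : 4 ∣ Nat.card P) : commutator G = ⊤ :=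
  (inferInstance : (commutator G).Normal).eq_bot_or_eq_top.resolve_left fun e =>
    nab_of_four h ((commutator_eq_bot_iff G).1 e)

omit [Fintype G] in
theorem oc_idx [Finite G] {P : Sylow 2 G} {a τ : G} {m : ℕ} (h : IsDih (P : Subgroup G) a τ m)
    (hs : IsConj (a ^ m) s) : (oc s).relIndex 𝐂₁[s] = 4 * m := by
  obtain ⟨y, rfl⟩ := isConj_iff.1 hs
  rw [oc_conj, cent1_conj, relIndex_conj, index_sdprod (dih_sd h), h.card]

section klein
variable {P : Sylow 2 G} {τ : G}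

open Classical in
theorem klein_pairs (h : IsDih (P : Subgroup G) t τ 1) (hinv : ∀ s, orderOf s = 2 → IsConj t s) :
    ∑ a : G with IsConj t a, ∑ b : G with IsConj t b, ind t (a * b) = ii t * (2 * kk t τ ^ 2) := by
  have ht := dih_ord h
  have ht2 := inv_sq ht
  have ht1 := inv_ne_one ht
  have key := h.sum_sum_isConj (by simpa using hinv) (C := 𝐂₁[t]) (by rw [pow_one]) (ind_cls t)
    (fun g _ => ind_pPart t g) fun g => ind_odd ht1
  have hs : ∀ f : zpowers t → ℂ, ∑ s, f s = f 1 + f ⟨t, mem_zpowers t⟩ :=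
    fun f => Fintype.sum_eq_add _ _ (fun e => ht1 (congrArg Subtype.val e).symm) fun x hx => by
      rcases Two.cyc2 ht2 x.2 with e | e
      exacts [absurd (Subtype.ext e) hx.1, absurd (Subtype.ext e) hx.2]
  have hW : ∀ x ∈ (P : Subgroup G), x ∉ zpowers t → invW 𝐂₁[t] P x = kk t τ := fun x hx hx' => by
    rw [h.invW_eq _ hx hx', dih_cent h hx hx', ← ordK_kk h, ← card_mul_relIndex
      (cent_le_cent1 h.mem_σ)]
    have : (Nat.card 𝐂[(P : Subgroup G)] : ℂ) ≠ 0 := Nat.cast_ne_zero.2 Nat.card_pos.ne'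
    push_cast
    field_simp
  simp only [hs, Subgroup.coe_one, one_mul, inv_one, mul_one, pow_one, inv_inv' ht, ht2,
    ind_odd ht1 (g := 1) (by simp), ind_two (v := t) ⟨1, ht⟩, IsConj.refl, if_true,
    hW τ h.mem_τ h.notMem, hW _ (mul_mem h.mem_σ h.mem_τ) (h.mul_τ_notMem (mem_zpowers t))] at key
  rw [key]; ring

variable [IsSimpleGroup G]

omit [Fintype G] in
theorem klein_three [Finite G] (hK : Klein (P : Subgroup G)) (h : IsDih (P : Subgroup G) t τ 1)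
    (hinv : ∀ s, orderOf s = 2 → IsConj t s) (hi : 15 * (kk t τ : ℤ) ^ 2 ≤ ii t)
    (hx : x ∈ oc t ⊓ 𝐂[(P : Subgroup G)]) : x = 1 := by
  obtain ⟨χ₁, χ₂, χ₃, ε₁, ε₂, ε₃, -, -, -, e1, e2, e3, hv, h0, h1⟩ := ordK_raw h hinv
  obtain ⟨h2, -, h3⟩ := ordK_arith (ordK_four h e1 fun g hg => (hv g hg).1)
    (ordK_four h e2 fun g hg => (hv g hg).2.1) (ordK_four h e3 fun g hg => (hv g hg).2.2) h0
  rw [ordK_kk h] at h1
  have h4 : (0 : ℚ) < ii t := Nat.cast_pos.2 (Nat.pos_of_ne_zero index_ne_zero_of_finite)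
  have key : ∀ (χ : IrrCharacter G) (ε : ℤ), ε ^ 2 = 1 → (∀ g, 2 ∣ orderOf g → χ.1 g = ε) →
      ε * charDegree χ.1 = -3 → x = 1 := fun χ ε he hχ e => by
    obtain ⟨rfl, hd⟩ : ε = -1 ∧ charDegree χ.1 = 3 := by
      rcases sq_eq_one_iff.1 he with rfl | rfl <;> omega
    refine three hd hK norm_one (fun v hv v1 => by simpa using hχ v (hK.orderOf hv v1).symm.dvd)
      fun v hv v1 => ?_
    simpa using hχ (v * x) (pPart_ne_one_iff.1 (by
      rwa [pPart_mul_of_commute (hx.2 v hv) ⟨1, hK.orderOf hv v1⟩ fun e =>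
        Fr.nd2 (oc_odd t) (e.trans (orderOf_dvd_natCard _ hx.1))]))
  qify at hi
  rcases h3 (le_antisymm (le_of_mul_le_mul_left (by linarith) h4) h2) with e | e
  exacts [key χ₁ ε₁ e1 (fun g hg => (hv g hg).1) e, key χ₂ ε₂ e2 (fun g hg => (hv g hg).2.1) e]

theorem coreK (hK : Klein (P : Subgroup G)) {t s : (P : Subgroup G)} (t1 : t ≠ 1) (s1 : s ≠ 1)
    (st : s ≠ t) (hm : Mu (t : G) μ) (S : StarSetup 2 M B P e) (h0 : lamF M μ e ≠ 0) :
    ¬ PairFuse 2 (P : Subgroup G) e (t : G) s ∧ ((∀ r : (P : Subgroup G), r ≠ 1 → ∃ ν,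
      Lin (r : G) (oc (r : G)) ν ∧ lamF M ν (subIdem M _ (S.below r)) ≠ 0) →
        kk (t : G) s ∣ ii (t : G)) := by
  classical
  have := S.hM.charP
  have hG := perf_of_four hK.1.symm.dvd
  have ne : ∀ {a b : (P : Subgroup G)}, a ≠ b → (a : G) ≠ b := fun h e => h (Subtype.ext e)
  have h := klein_isDih hK t.2 s.2 (ne t1) (ne s1) (ne st)
  have ht := dih_ord h
  have hinv : ∀ r, orderOf r = 2 → IsConj (t : G) r := fun r hr =>
    (stConj G P hG (syl_top_iff.2 ⟨P, rfl⟩) (.inl hK)).1 _ _ ht hr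
  have hab := abelian_iff.1 hK.ab
  have hc : ∀ r : (P : Subgroup G), (P : Subgroup G) ≤ 𝐂₁[(r : G)] := fun r =>
    hab.trans (cent_le_cent1 r.2)
  have idx : ∀ r : (P : Subgroup G), r ≠ 1 → (oc (r : G)).relIndex 𝐂₁[(r : G)] = 4 := fun r hr =>
    oc_idx h (by rw [pow_one]; exact hinv r (hK.orderOf r.2 (ne hr)))
  have hi : Inv P (oc (t : G)) μ := fun g hg => hm.inv g (hc t hg)
  obtain ⟨σ, n, C⟩ := exists_col S hm.lin (below_ne S hm.lin hi h0 le_rfl le_normalizer t.2 t.2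
    (hc t) hm.lin hi fun _ _ => rfl)
  have hn := (C.inv hm.inv).1.trans (idx t t1)
  choose a ha using C.int (hK.2 t t.2)
  choose T hT using fun χ : IrrCharacter G => χ.exists_int_apply_of_mul_self (hK.2 t t.2)
  have hd : ∀ χ ∈ irrFinset B, (0 : ℤ) < charDegree χ.1 := fun χ _ => by
    exact_mod_cast χ.charDegree_pos
  have ad := C.sum_deg t1 fun χ _ => ha χ
  obtain ⟨X, hX⟩ := exists_four hd ((C.sum_sq fun χ _ => ha χ).trans (by rw [hn]; rfl)) ad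
  have hB : ∀ χ ∈ X, χ ∈ B := fun χ hχ => mem_irrFinset.1 ((hX.mem χ).1 hχ).1
  have e1 := C.pairsQ hm.lin hm.inv le_rfl (fun y hy => mem_cent1.2 (by
      rw [inv_inv' ht] at hy; exact (mul_inv_eq_iff_eq_mul.1 hy))) (hK.2 t t.2) (fun χ _ => ha χ)
    (fun χ _ => (hT χ).1) (c := 8 * ((kk (t : G) s : ℤ) : ℚ) ^ 2)
    (by rw [klein_pairs h hinv, idx t t1]; push_cast; ring)
  have hV : IsKleinFour (P : Subgroup G) := ⟨hK.1, by
    have := (P : Subgroup G).nontrivial_iff_ne_bot.2 hK.ne_bot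
    exact (Monoid.exponent_eq_prime_iff Nat.prime_two).2 fun g hg => by
      rw [← orderOf_coe]; exact hK.orderOf g.2 (ne hg)⟩
  have hf : ∀ u v : (P : Subgroup G), PairFuse 2 (P : Subgroup G) e (u : G) v → u = v := by
    refine fun u v huv => (S.klein_inertialIndex hV).elim (fun h1 => ?_) fun h3 => ?_
    · obtain ⟨y, hy, e2⟩ := (S.pairFuse_iff hab).1 huv
      exact Subtype.ext (by rw [e2, ← relIndex_eq_one.1 h1 hy u u.2, mul_inv_cancel_right])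
    have hf : ∀ w : (P : Subgroup G), IsConj (t : G) w → PairFuse 2 (P : Subgroup G) e (t : G) w :=
      fun w hw => S.klein_fuse hV h3 t1 fun e => t1 (Subtype.ext (by simpa [e] using hw))
    have hT' : ∀ χ ∈ X, T χ = a χ := fun χ hχ => by
      have := C.apply_mul hm.lin hm.inv hf (hB χ hχ) (one_mem _)
      rw [mul_one, hm.lin.one, mul_one, ha, (hT χ).1] at this
      exact_mod_cast this
    obtain ⟨w, hw, hw'⟩ := hm.ne_W P.isPGroup' (hc t)
    refine absurd (klein_three hK h hinv (numK0 hX ad (fun χ hχ => ?_) (fun χ hχ e => ?_)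
      (Int.natCast_nonneg _) hT' e1) hw ▸ hm.lin.one) hw'
    · have := ord_cong χ P (ε := T χ) fun g hg g1 => by
        obtain ⟨c, rfl⟩ := isConj_iff.1 (hinv g (hK.orderOf hg g1))
        rw [χ.isClassFunction, (hT χ).1]
      rw [hK.1, hT' χ hχ, Int.ModEq] at this
      rcases hX.sq χ hχ with e | e <;> rw [e] at this ⊢ <;> omega
    · have := C.deg_ne hm hG hf (hB χ hχ)
      rcases hX.sq χ hχ with e' | e' <;> rw [e'] at e <;> omega
  refine ⟨fun e => st (hf _ _ e).symm, fun hν => ?_⟩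
  have col : ∀ r : (P : Subgroup G), r ≠ 1 → ∃ ν σ c, Col S r (oc (r : G)) ν σ 4 ∧
      (∀ χ ∈ B, classInner χ.1 σ = (c χ : ℤ)) ∧ Four (irrFinset B) c X := fun r hr => by
    obtain ⟨ν, hl, h1⟩ := hν r hr
    obtain ⟨σ, n, C⟩ := exists_col S hl h1
    obtain ⟨c, hc', rfl, h4⟩ := C.four (hK.2 r r.2) (by
      rw [S.pow_blockDefect_below fun w _ => by rw [inf_eq_left.2 (hc w), inf_eq_left.2 (hc r)],
        inf_eq_left.2 (hc r), hK.1]) (by rw [idx r hr]; omega) hX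
      fun χ hχ => C.ne_of_central (hB χ hχ) (hab r.2)
    exact ⟨ν, σ, c, C, hc', h4⟩
  have u1 : s * t ≠ 1 := fun e => st (Subtype.ext (by
    rw [← inv_inv' ht]; exact eq_inv_of_mul_eq_one_left (congrArg Subtype.val e)))
  have ut : t ≠ s * t := by simpa using s1
  have us : s ≠ s * t := by simpa using t1
  obtain ⟨ν, σ', c, C', hc1, h4⟩ := col s s1
  obtain ⟨ν', σ'', c', C'', hc2, h4'⟩ := col _ u1
  refine Int.natCast_dvd_natCast.1 (numK1 hX h4 h4' hd ad (C'.sum_deg s1 hc1) (C''.sum_deg u1 hc2)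
    (C.orth C' (fun e => st (hf _ _ e).symm) (fun χ _ => ha χ) hc1)
    (C.orth C'' (fun e => ut (hf _ _ e)) (fun χ _ => ha χ) hc2)
    (C'.orth C'' (fun e => us (hf _ _ e)) hc1 hc2) (fun χ hχ => ?_) e1)
  have := sec_sum S {t, s, s * t} (g := t) (fun v hv => sum_fuse S
    (fun a _ b _ hab e => hab (hf _ _ e)) ⟨v, ?_, pairFuse_refl S.isPair v.2⟩) (hB χ hχ)
  · rw [Finset.sum_insert (by simp [st.symm, s1]), Finset.sum_pair us, C.apply_conj (.refl _),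
      C'.apply_conj (hinv _ (hK.orderOf s.2 (ne s1))).symm,
      C''.apply_conj (hinv _ (hK.orderOf (s * t).2 (ne u1))).symm, ha, hc1 χ (hB χ hχ),
      hc2 χ (hB χ hχ), idx t t1, idx s s1, idx _ u1, hn, (hT χ).1] at this
    exact Int.cast_injective (α := ℂ) (by push_cast at this ⊢; linear_combination this)
  · rw [pPart_eq_self_iff.2 ⟨1, ht⟩] at hv
    rcases Cj.klein_mem hK t.2 s.2 (ne t1) (ne s1) (ne st.symm) v.2 with e | e | e | e
    · exact absurd (by simpa [e] using hv.symm) (ne t1)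
    · simp [show v = t from Subtype.ext e]
    · simp [show v = s from Subtype.ext e]
    · simp [show v = s * t from Subtype.ext e]

end klein

end Cfsg.GW.C1

namespace Cfsg.GW

open Subgroup Cfsg.FT Cfsg.Gag C1

universe u

theorem stC1K : StC1K.{u} := by
  intro G _ _ _ T t s hT hK ht hs t1 s1 st hU
  have := Fintype.ofFinite G
  have hD := dih_of_klein hT hK
  obtain ⟨P, rfl⟩ := syl_top_iff.1 hT
  have h := klein_isDih hK ht hs t1 s1 st
  have ot := hK.orderOf ht t1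
  have hF := Fr.fus_of_perf hD (E := ⊤) (perf_of_four hK.1.symm.dvd) hK le_top
  have hc : ∀ r ∈ (P : Subgroup G), (P : Subgroup G) ≤ 𝐂₁[r] := fun r hr =>
    (abelian_iff.1 hK.ab).trans (cent_le_cent1 hr)
  obtain ⟨μ, hm⟩ := exists_mu hD ot (by simpa using dih_sd h) hU
  obtain ⟨M, hM⟩ := exists_isPModular Nat.prime_two
  obtain ⟨B, e, S, h0⟩ := exists_setup hM P hm.lin.one
  have hi : Inv P (oc t) μ := fun g hg => hm.inv g (hc t ht hg)
  obtain ⟨h1, h2⟩ := coreK hK (t := ⟨t, ht⟩) (s := ⟨s, hs⟩) (by simpa) (by simpa) (by simpa) hm S h0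
  refine ⟨fun ha => h1 ?_, fun hb => h2 fun r hr => ?_⟩
  · obtain ⟨y, hy, rfl⟩ := hF t ht s hs t1 s1
    exact fuse_of S rfl hm.lin (below_ne S hm.lin hi h0 le_rfl le_normalizer ht (s := ⟨t, ht⟩) ht
      (hc t ht) hm.lin hi fun _ _ => rfl) (hm.conj_ne S hD ot h0 (hc t ht) le_rfl le_normalizer ht
        (abelian_iff.1 hK.ab) ha hy.2 rfl)
  · obtain ⟨y, hy, e⟩ := hF t ht r r.2 t1 fun e => hr (Subtype.ext e)
    obtain ⟨ν, h3, h4, h5⟩ := hm.exists_nu hD ot P.isPGroup' ht (hc t ht) hb hy.2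
    rw [e] at h3 h4
    exact ⟨ν, h3, below_ne S hm.lin hi h0 le_rfl le_normalizer ht r.2 (hc r r.2) h3 h4 h5⟩

end Cfsg.GW
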