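import Cfsg.Agent.Grp.PSL2Rec

/-! The Weyl element of a Zassenhaus group of type `PSL₂(q)`, `q` odd. -/

set_option autoImplicit false

namespace Cfsg.GW

open OnePoint Polynomial

variable {F : Type*} [Field F] [Fintype F] [DecidableEq F]

/-- The key computation: the Weyl element is `x ↦ -s² / x`. -/
theorem exists_eq_mobW' (hchar : ringChar F ≠ 2)
    {K : Subgroup (Equiv.Perm (OnePoint F))} {w : Equiv.Perm (OnePoint F)}
    (hT : ∀ a, mobT a ∈ K) (hwK : w ∈ K) (hw : w ∞ = ((0 : F) : OnePoint F))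
    (hw2 : w * w = 1) (hwD : ∀ s : Fˣ, w * mobD s * w = mobD s⁻¹)
    (h : ∀ g ∈ K, g ∞ = ∞ → g ((0 : F) : OnePoint F) =
      ((0 : F) : OnePoint F) → ∃ s, g = mobD s) :
    ∃ s, w = mobW s := by
  have hww : ∀ x, w (w x) = x := fun x => by
    rw [← Equiv.Perm.mul_apply, hw2]; rfl
  have hw0 : w ((0 : F) : OnePoint F) = ∞ := by rw [← hw, hww]
  have hex : ∀ x : F, ∃ y : F, x ≠ 0 → w x = y := by
    intro x
    by_cases hx : x = 0
    · exact ⟨0, fun h => (h hx).elim⟩
    · have : w x ≠ ∞ := by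
        intro hc
        rw [← hw0] at hc
        exact hx (OnePoint.coe_injective (w.injective hc))
      obtain ⟨y, hy⟩ := OnePoint.ne_infty_iff_exists.1 this
      exact ⟨y, fun _ => hy.symm⟩
  choose f hf using hex
  have hf0 : ∀ x, x ≠ 0 → f x ≠ 0 := by
    intro x hx hc
    have := hf x hx
    rw [hc, ← hw] at this
    exact OnePoint.coe_ne_infty _ (w.injective this)
  have hff : ∀ x, x ≠ 0 → f (f x) = x := by
    intro x hx
    have := hww x
    rw [hf x hx, hf _ (hf0 x hx)] at this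
    exact OnePoint.coe_injective this
  have hfs : ∀ (s : F) (x : F), s ≠ 0 → x ≠ 0 → f (s ^ 2 * x) = f x / s ^ 2 := by
    intro s x hs hx
    have h1 := congrArg (fun g : Equiv.Perm (OnePoint F) => g (f x))
      (hwD (Units.mk0 s hs))
    simp only [Equiv.Perm.mul_apply] at h1
    rw [hf _ (hf0 x hx), hff x hx, mobD_coe, mobD_coe,
      hf _ (mul_ne_zero (pow_ne_zero _ (Units.ne_zero _)) hx)] at h1
    have h2 := OnePoint.coe_injective h1
    simp only [Units.val_mk0, Units.val_inv_eq_inv_val] at h2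
    rw [h2]
    field_simp
  have hm1 : (-1 : F) ≠ 0 := neg_ne_zero.2 one_ne_zero
  set c := f 1 with hc
  set x₀ := f (-1) with hx₀
  have hc0 : c ≠ 0 := hf0 _ one_ne_zero
  have hx00 : x₀ ≠ 0 := hf0 _ hm1
  obtain ⟨s, hs⟩ := h (mobT (-c) * w * mobT 1 * w * mobT x₀ * w)
    (K.mul_mem (K.mul_mem (K.mul_mem (K.mul_mem (K.mul_mem (hT _) hwK) (hT _)) hwK) (hT _)) hwK)
    (by
      simp only [Equiv.Perm.mul_apply, hw, mobT_coe, zero_add]
      rw [hf _ hx00, hff _ hm1]
      simp [hw0])
    (by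
      simp only [Equiv.Perm.mul_apply, hw0, mobT_infty, hw, mobT_coe, zero_add]
      rw [hf _ one_ne_zero]
      simp [hc])
  have hs' : ∀ z : F, z - x₀ ≠ 0 →
      mobT (-c) (w (mobT 1 (w z))) = (((s : F) ^ 2 * f (z - x₀) : F) : OnePoint _) := by
    intro z hz
    have h1 := congrArg (fun g : Equiv.Perm (OnePoint F) => g (f (z - x₀))) hs
    simp only [Equiv.Perm.mul_apply] at h1
    rw [hf _ (hf0 _ hz), hff _ hz, mobT_coe, sub_add_cancel, mobD_coe] at h1
    exact h1
  have e0 : -c = (s : F) ^ 2 * f (-x₀) := by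
    have := hs' 0 (by simpa using hx00)
    rw [hw0, mobT_infty, hw, mobT_coe, zero_add, zero_sub] at this
    exact OnePoint.coe_injective this
  have hsq : ∀ y : F, y ≠ 0 → IsSquare y → f y = c / y := by
    rintro y hy ⟨r, rfl⟩
    have hr : r ≠ 0 := left_ne_zero_of_mul hy
    have := hfs r 1 hr one_ne_zero
    rwa [mul_one, pow_two] at this
  have hquot : ∀ a b : F, a ≠ 0 → b ≠ 0 → ¬ IsSquare a → ¬ IsSquare b → IsSquare (a / b) := by
    intro a b ha hb h1 h2
    have h3 : quadraticChar F (a * b) = 1 := by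
      rw [map_mul, quadraticChar_neg_one_iff_not_isSquare.2 h1,
        quadraticChar_neg_one_iff_not_isSquare.2 h2]
      norm_num
    obtain ⟨r, hr⟩ := (quadraticChar_one_iff_isSquare (mul_ne_zero ha hb)).1 h3
    refine ⟨r / b, ?_⟩
    field_simp
    rw [pow_two, ← hr]
  have key : (∀ x : F, x ≠ 0 → f x = c / x) ∧ f (-x₀) = 1 := by
    by_cases hcs : IsSquare c
    · -- `w` preserves squares
      have hns : ∀ x : F, x ≠ 0 → ¬ IsSquare x → ¬ IsSquare (f x) := by
        intro x hx h1 h2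
        apply h1
        rw [← hff x hx, hsq _ (hf0 x hx) h2]
        exact hcs.div h2
      have hneg : IsSquare (-1 : F) := by
        by_contra hn
        have h1 : IsSquare (-x₀) := by
          have := hquot x₀ (-1) hx00 hm1 (hns _ hm1 hn) hn
          rwa [div_neg, div_one] at this
        have h2 : IsSquare (-c) := by
          rw [e0, hsq _ (neg_ne_zero.2 hx00) h1]
          exact (IsSquare.sq _).mul (hcs.div h1)
        apply hn
        have := h2.div hcs
        rwa [neg_div, div_self hc0] at this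
      have hx0c : x₀ = -c := by rw [hx₀, hsq _ hm1 hneg, div_neg, div_one]
      have hfc : f (-x₀) = 1 := by rw [hx0c, neg_neg, hc, hff _ one_ne_zero]
      refine ⟨?_, hfc⟩
      rw [hfc, mul_one] at e0
      -- the key relation
      have hrel : ∀ z : F, z ≠ 0 → IsSquare z → z + c ≠ 0 → f (z + c) = c / (z + c) := by
        intro z hz hzs hzc
        have h1 := hs' z (by rwa [hx0c, sub_neg_eq_add])
        have h2 : c / z + 1 ≠ 0 := by
          have : c / z + 1 = (z + c) / z := by field_simp; ring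
          rw [this]
          exact div_ne_zero hzc hz
        rw [hf _ hz, hsq _ hz hzs, mobT_coe, hf _ h2, mobT_coe, hx0c, sub_neg_eq_add, ← e0] at h1
        have h3 := OnePoint.coe_injective h1
        obtain ⟨r, hr⟩ := hzs
        have hr0 : r ≠ 0 := left_ne_zero_of_mul (hr ▸ hz)
        have h4 : c / z + 1 = r⁻¹ ^ 2 * (z + c) := by rw [hr]; field_simp; ring
        rw [h4, hfs _ _ (inv_ne_zero hr0) hzc] at h3
        have h5 : f (z + c) / r⁻¹ ^ 2 = f (z + c) * z := by rw [hr]; field_simp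
        rw [h5] at h3
        field_simp
        linear_combination h3
      by_contra hcon
      push Not at hcon
      obtain ⟨x, hx, hxc⟩ := hcon
      have hxs : ¬ IsSquare x := fun h => hxc (hsq x hx h)
      have hall : ∀ y : F, y ≠ 0 → f y = c / y → IsSquare y := by
        intro y hy hyc
        by_contra hys
        obtain ⟨r, hr⟩ := hquot x y hx hy hxs hys
        have hr0 : r ≠ 0 := left_ne_zero_of_mul (hr ▸ div_ne_zero hx hy)
        have h1 : x = r ^ 2 * y := by rw [pow_two, ← hr]; field_simp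
        apply hxc
        rw [h1, hfs _ _ hr0 hy, hyc]
        field_simp
      obtain ⟨a, b, hab⟩ := FiniteField.exists_root_sum_quadratic (f := X ^ 2) (g := X ^ 2 - C x)
        (degree_X_pow 2) (degree_X_pow_sub_C (by decide) _)
        (FiniteField.odd_card_of_char_ne_two hchar)
      simp only [eval_C, eval_X, eval_pow, eval_sub] at hab
      have a0 : a ≠ 0 := fun e => hxs ⟨b, by rw [e] at hab; linear_combination -hab⟩
      have b0 : b ≠ 0 := fun e => hxs ⟨a, by rw [e] at hab; linear_combination -hab⟩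
      have e : c * (a / b) ^ 2 + c = c * x / b ^ 2 := by field_simp; linear_combination hab
      have e' : c * (a / b) ^ 2 + c ≠ 0 := e ▸ div_ne_zero (mul_ne_zero hc0 hx) (pow_ne_zero _ b0)
      have := hall _ e' (hrel _ (mul_ne_zero hc0 (pow_ne_zero _ (div_ne_zero a0 b0)))
        (hcs.mul (IsSquare.sq _)) e')
      rw [show x = (c * (a / b) ^ 2 + c) * b ^ 2 / c by rw [e]; field_simp] at hxs
      exact hxs ((this.mul (IsSquare.sq _)).div hcs)
    · have h1 : ∀ x : F, x ≠ 0 → f x = c / x := by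
        intro x hx
        by_cases hxs : IsSquare x
        · exact hsq x hx hxs
        · have h2 := hquot c x hc0 hx hcs hxs
          have h3 := hsq _ (div_ne_zero hc0 hx) h2
          have h4 : c / (c / x) = x := by field_simp
          rw [h4] at h3
          rw [← hff (c / x) (div_ne_zero hc0 hx), h3]
      refine ⟨h1, ?_⟩
      rw [hx₀, h1 _ hm1, div_neg, div_one, neg_neg, h1 _ hc0, div_self hc0]
  refine ⟨s, ?_⟩
  rw [key.2, mul_one] at e0
  ext x
  induction x using OnePoint.rec with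
  | infty => rw [hw, mobW_infty]
  | coe k =>
    by_cases hk : k = 0
    · rw [hk, hw0, mobW_zero]
    · rw [hf k hk, mobW_coe _ hk, key.1 k hk, ← e0, neg_neg]

theorem eq_range_mobPerm' (hchar : ringChar F ≠ 2)
    {K : Subgroup (Equiv.Perm (OnePoint F))} {w : Equiv.Perm (OnePoint F)}
    (hT : ∀ a, mobT a ∈ K) (hD : ∀ s, mobD s ∈ K) (hwK : w ∈ K)
    (hw : w ∞ = ((0 : F) : OnePoint F))
    (hw2 : w * w = 1) (hwD : ∀ s : Fˣ, w * mobD s * w = mobD s⁻¹)
    (h : ∀ g ∈ K, g ∞ = ∞ → g ((0 : F) : OnePoint F) =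
      ((0 : F) : OnePoint F) → ∃ s, g = mobD s) :
    K = (mobPerm F).range := by
  obtain ⟨s, rfl⟩ := exists_eq_mobW' hchar hT hwK hw hw2 hwD h
  apply le_antisymm
  · refine le_of_bruhat hT (fun a => ⟨_, rfl⟩) hwK ⟨_, rfl⟩ (mobW_zero s) ?_
    intro g hg h1 h2
    obtain ⟨t, rfl⟩ := h g hg h1 h2
    exact ⟨_, rfl⟩
  · refine le_of_bruhat (fun a => ⟨_, rfl⟩) hT ⟨_, rfl⟩ hwK (mobW_zero s) ?_
    intro g hg h1 h2
    obtain ⟨t, rfl⟩ := exists_mobD_of_range hg h1 h2
    exact hD t

end Cfsg.GW
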