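import Cfsg.Agent.GW.Defs
import Cfsg.Agent.GW.ZasW
import Cfsg.Agent.FT.Main

/-! Zassenhaus' recognition of `PSL₂(q)`, `q` odd. -/

set_option autoImplicit false

namespace Cfsg.GW

open Subgroup Cfsg.FT
open scoped Pointwise OnePoint

universe u

variable {G : Type u} [Group G] [Finite G] {P L : Subgroup G}

theorem zas_field (hP : IsMulCommutative P) (hL : IsMulCommutative L) (h : MinNormalIn P L) :
    ∃ (F : Type) (_ : Field F) (_ : Fintype F) (c : F ≃ P) (ψ : L →* Fˣ),
      (∀ a b, (c (a + b) : G) = c a * c b) ∧ ∀ (l : L) a, (l : G) * c a * (l : G)⁻¹ = c (ψ l * a) := by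
  obtain ⟨V, _, _, ⟨e⟩⟩ := Finite.exists_type_univ_nonempty_mulEquiv.{u, 0} P
  obtain ⟨U, _, _, ⟨f⟩⟩ := Finite.exists_type_univ_nonempty_mulEquiv.{u, 0} L
  let φ : U →* MulAut V := (MulAut.congr e).toMonoidHom.comp
    ((P.normalizerMonoidHom.comp (inclusion h.norm)).comp f.symm.toMonoidHom)
  have hφ : ∀ u x, (e.symm (φ u x) : G) = f.symm u * e.symm x * (f.symm u : G)⁻¹ := fun u x => by
    simp [φ, MulAut.congr]
  obtain ⟨s, hs, s1⟩ := exists_ne_one h.ne_bot
  obtain ⟨F, _, _, k, ψ, -, h2⟩ := pf9_field_mul (V := V) ⟨⟨fun a b => e.symm.injective (by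
      rw [map_mul, map_mul, hP.is_comm.comm])⟩⟩ φ (fun u v => by
      rw [← map_mul, ← map_mul]
      exact congrArg φ (f.symm.injective (by rw [map_mul, map_mul, hL.is_comm.comm])))
    (fun X hX => by
      rcases h.eq_or (X := X.map (P.subtype.comp e.symm.toMonoidHom)) (by
        rintro _ ⟨x, -, rfl⟩; exact (e.symm x).2) (normsP.2 (by
        rintro a ha _ ⟨x, hx, rfl⟩
        exact ⟨_, hX (f ⟨a, ha⟩) x hx, by simpa using hφ (f ⟨a, ha⟩) x⟩)) with e1 | e1
      · exact Or.inl ((map_eq_bot_iff_of_injective _ fun a b e2 =>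
          e.symm.injective (Subtype.ext e2)).1 e1)
      · refine Or.inr (eq_top_iff.2 fun x _ => ?_)
        obtain ⟨y, hy, e2⟩ := e1.ge (e.symm x).2
        rwa [← e.symm.injective (Subtype.ext e2)]) (s := e ⟨s, hs⟩) (by simpa using s1)
  refine ⟨F, inferInstance, inferInstance, Multiplicative.ofAdd.trans (e.trans k).symm.toEquiv,
    ψ.comp f.toMonoidHom, fun a b => by simp [ofAdd_add], fun l a => ?_⟩
  have := hφ (f l) (k.symm (Multiplicative.ofAdd a))
  rw [f.symm_apply_apply] at this
  refine this.symm.trans (congrArg (fun x => (e.symm x : G)) (k.injective ?_))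
  refine Multiplicative.toAdd.injective ((h2 _ _).trans ?_)
  simp

theorem stZas : StZas.{u} := by
  intro G _ _ _ P L w hP hc hL hn hr hw hi hT hB hG
  classical
  have L0 : 0 < Nat.card L := Nat.card_pos
  have hm : MinNormalIn P L := ⟨(one_lt_card_iff_ne_bot P).1 (by omega), hn, fun X hX hN =>
    or_iff_not_imp_left.2 fun X1 => eq_of_le_of_card_ge hX (by
      obtain ⟨j, hj⟩ := regular_norm_dvd_pred hN (semiregularS hX le_rfl hr)
      have h1 := (one_lt_card_iff_ne_bot X).2 X1
      have h2 := card_dvd_of_le hX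
      rcases j with _ | _ | j
      · omega
      · rw [← hc, show 2 * Nat.card L + 1 = Nat.card X + Nat.card L by omega,
          Nat.dvd_add_right dvd_rfl] at h2
        have := Nat.le_of_dvd L0 h2
        omega
      · rw [mul_add, mul_add] at hj
        omega)⟩
  obtain ⟨F, _, _, c, ψ, ha, hψ⟩ := zas_field (hm.abelian (feit_thompson hP)) hL hm
  have cF : Fintype.card F = Nat.card P := by rw [← Nat.card_eq_fintype_card, Nat.card_congr c]
  have ch : ringChar F ≠ 2 := fun e => by
    have := FiniteField.even_card_iff_char_two.1 e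
    omega
  refine ⟨F, inferInstance, inferInstance, cF ▸ hP, ?_⟩
  have sd := sdprodEY hn (Semiregular.TI hr)
  set B := P ⊔ L
  have hu' : w⁻¹ = w := inv_eq_of_mul_eq_one_right hw
  have c0 : (c 0 : G) = 1 := left_eq_mul.1 (by rw [← ha 0 0, add_zero])
  have hTI : ∀ t ∈ P, w * t * w ∈ B → t = 1 := fun t ht e => by
    have : w •ᶜ ⟪t⟫ ≤ P := le_of_coprime_relIndex' sd.normal.norm (by
      rwa [conj_zpowers, zpowers_le, hu']) (by
      rw [index_sdprod sd, card_conj]
      exact (regular_norm_coprime hn hr).coprime_dvd_left (card_dvd_of_le (zpowers_le.2 ht)))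
    exact conj_eq_one_iff.1 (mem_bot.1 ((hT w hB).le
      ⟨this (conj_mem_conj.2 (mem_zpowers t)), conj_mem_conj.2 ht⟩))
  have ψi : Function.Injective ψ := (injective_iff_map_eq_one ψ).2 fun l e => by_contra fun l1 => by
    have := hψ l 1
    rw [e, Units.val_one, one_mul, mul_inv_eq_iff_eq_mul] at this
    have := mem_bot.1 ((hr l l.2 fun e => l1 (Subtype.ext e)).le ⟨(c 1).2, mem_cent1.2 this.symm⟩)
    exact one_ne_zero (c.injective (Subtype.ext (this.trans c0.symm)))
  have h1 : ∀ l : L, ∃ r : Fˣ, (r : F) ^ 2 = ψ l := fun l => by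
    obtain ⟨r, hr⟩ := (FiniteField.isSquare_iff ch (ψ l).ne_zero).2 (by
      rw [show Fintype.card F / 2 = Nat.card L by omega, ← Units.val_pow_eq_pow_val, ← map_pow,
        pow_card_eq_one', map_one, Units.val_one])
    exact ⟨Units.mk0 r (left_ne_zero_of_mul (hr ▸ (ψ l).ne_zero)), (pow_two r).trans hr.symm⟩
  have h3 : ∀ r : Fˣ, ∃ l : L, (r : F) ^ 2 = ψ l := fun r => by
    have := ψ.range.card_mul_index
    rw [← Nat.card_congr (MonoidHom.ofInjective ψi).toEquiv, Nat.card_units,
      Nat.card_eq_fintype_card (α := F), show Fintype.card F - 1 = Nat.card L * 2 by omega] at this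
    obtain ⟨l, e⟩ := sq_mem_of_index_two (Nat.eq_of_mul_eq_mul_left L0 this) r
    exact ⟨l, by rw [e, Units.val_pow_eq_pow_val]⟩
  let f : OnePoint F → G ⧸ B := fun x => x.elim ((1 : G) : G ⧸ B) fun a => ((c a * w : G) : G ⧸ B)
  have fc : ∀ a : F, f a = ((c a * w : G) : G ⧸ B) := fun _ => rfl
  have hne : ∀ a : F, f ∞ ≠ f a := fun a h => hB (by
    have := QuotientGroup.eq.1 h
    rwa [inv_one, one_mul, B.mul_mem_cancel_left (sd.left_le (c a).2)] at this)
  have hbij : Function.Bijective f := by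
    refine (Nat.bijective_iff_injective_and_card f).2 ⟨fun x y h => ?_, ?_⟩
    · induction x using OnePoint.rec <;> induction y using OnePoint.rec
      · rfl
      · exact absurd h (hne _)
      · exact absurd h.symm (hne _)
      · rename_i a b
        have := hTI ((c a)⁻¹ * c b) (P.mul_mem (P.inv_mem (c a).2) (c b).2) (by
          simpa [hu', mul_assoc] using QuotientGroup.eq.1 h)
        rw [c.injective (Subtype.ext (inv_mul_eq_one.1 this))]
    · have := B.index_mul_card
      rw [hG, ← sdprod_card sd, mul_assoc] at this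
      rw [← index, Nat.eq_of_mul_eq_mul_right (Nat.mul_pos Nat.card_pos L0) this,
        ← Nat.card_congr c]
      exact Finite.card_option
  let E := Equiv.ofBijective f hbij
  let φ : G →* Equiv.Perm (OnePoint F) :=
    E.symm.permCongrHom.toMonoidHom.comp (MulAction.toPermHom G (G ⧸ B))
  have hφ : ∀ g x y, g • f x = f y → φ g x = y := fun g x y h => E.symm_apply_eq.2 h
  have hφ' : ∀ g x, g • f x = f (φ g x) := fun g x => (E.apply_symm_apply _).symm
  have pi : ∀ g ∈ B, φ g ∞ = ∞ := fun g hg => hφ _ _ _ (QuotientGroup.eq.2 (by simpa using hg))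
  have pT : ∀ a, φ (c a) = mobT a := fun a => Equiv.ext fun x => by
    induction x using OnePoint.rec
    · rw [pi _ (sd.left_le (c a).2), mobT_infty]
    · rw [mobT_coe, add_comm]
      exact hφ _ _ _ (by rw [fc, fc, ha, mul_assoc]; rfl)
  have pD : ∀ (l : L) (r : Fˣ), (r : F) ^ 2 = ψ l → φ l = mobD r := fun l r e => Equiv.ext fun x => by
    induction x using OnePoint.rec
    · rw [pi _ (sd.right_le l.2), mobD_infty]
    · rw [mobD_coe, e]
      refine hφ _ _ _ (QuotientGroup.eq.2 ?_)
      rw [← hψ]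
      have := sd.right_le (inv_mem (inv_mem l.2))
      rw [← hi _ (inv_mem l.2)] at this
      simpa [hu', mul_assoc] using this
  have hfix : ∀ g, φ g ∞ = ∞ → φ g (0 : F) = (0 : F) → g ∈ L := fun g a b => by
    have a' := hφ' g ∞
    have b' := hφ' g (0 : F)
    rw [a] at a'
    rw [b] at b'
    obtain ⟨t, ht, l, hl, rfl⟩ := sd.exists_mul (show g ∈ B by simpa using QuotientGroup.eq.1 a'.symm)
    have e : w * (t * l) * w ∈ B := by simpa [c0, hu', mul_assoc] using QuotientGroup.eq.1 b'.symm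
    rw [show w * (t * l) * w = w * t * w⁻¹ * (w * l * w) by group, hi l hl, hu',
      mul_mem_cancel_right (sd.right_le (inv_mem hl))] at e
    rwa [hTI t ht e, one_mul]
  have hinj : Function.Injective φ := (injective_iff_map_eq_one φ).2 fun g hg => by
    have hl := hfix g (by simp [hg]) (by simp [hg])
    obtain ⟨r, e⟩ := h1 ⟨g, hl⟩
    have := congrArg (· (1 : F)) (pD _ r e)
    simp only [hg, Equiv.Perm.one_apply, mobD_coe, mul_one, OnePoint.coe_eq_coe, e] at this
    exact congrArg Subtype.val (ψi (Units.ext (this.symm.trans (by simp))) : (⟨g, hl⟩ : L) = 1)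
  have hr := eq_range_mobPerm' ch (K := φ.range) (w := φ w) (fun a => ⟨_, pT a⟩)
    (fun r => (h3 r).elim fun l e => ⟨_, pD l r e⟩) ⟨w, rfl⟩
    (hφ _ _ _ (QuotientGroup.eq.2 (by simp [c0]))) (by rw [← map_mul, hw, map_one]) (fun r => by
      obtain ⟨l, e⟩ := h3 r
      rw [← pD l r e, ← pD l⁻¹ r⁻¹ (by simp [← e]), ← map_mul, ← map_mul, hi l l.2]
      rfl) (by
      rintro _ ⟨g, rfl⟩ a b
      exact (h1 ⟨g, hfix g a b⟩).imp fun r e => pD _ r e)
  exact ⟨(MonoidHom.ofInjective hinj).trans ((MulEquiv.subgroupCongr hr).trans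
    (pslEquivRange F).symm)⟩

end Cfsg.GW
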