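import Cfsg.Agent.GW.BSWh
import Cfsg.Agent.GW.Zas

/-! Brauer-Suzuki-Wall, group-theoretic half: the Zassenhaus configuration. -/

set_option autoImplicit false
set_option linter.unusedSectionVars false

namespace Cfsg.GW

open Subgroup Cfsg.FT Cfsg.Acd.DD
open scoped Pointwise

universe u

variable {G : Type u} [Group G] [Finite G] {K L : Subgroup G} {t s w : G} {q m : ℕ}

theorem BSWH.inv_of_card (h : BSWH K t s) (hc : Nat.card L = Nat.card K)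
    (hu : ∀ a ∈ L, ∀ b ∈ L, orderOf a = 2 → orderOf b = 2 → a = b) (hw : w ∈ 𝐍[L]) (wL : w ∉ L) :
    ∀ l ∈ L, w * l * w⁻¹ = l⁻¹ := by
  obtain ⟨j, jL, oj⟩ := Cauchy Nat.prime_two (hc ▸ h.two_dvd)
  obtain ⟨x, rfl⟩ := isConj_iff.1 (h.conj t j h.ot oj)
  replace h := h.cj x
  have c : ∀ g ∈ 𝐍[L], g ∈ x •ᶜ K ∨ g * (x * s * x⁻¹) ∈ x •ᶜ K := fun g hg =>
    h.mem_sup.1 (h.cent_t ▸ mem_cent1.2 (mul_inv_eq_iff_eq_mul.1 (hu _ ((memJ_norm hg).2 jL) _ jL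
      ((orderOf_eq_of_isConj (isConj_iff.2 ⟨g, rfl⟩)).trans oj) oj)))
  obtain rfl : L = x •ᶜ K := card_eq_of_le (fun l hl => (c l (normG _ hl)).resolve_right fun e =>
    h.notMem_of_mul e (hu l hl _ jL (h.orderOf_of_mul e) oj ▸ h.tK)) (by rw [card_conj, hc])
  exact fun l hl => h.conj_of_mul ((c w hw).resolve_left wL) hl

theorem BD.isL2 [IsSimpleGroup G] (h : BD K t s q m) : IsL2 G := by
  obtain ⟨p, hp, P, sP, cP, ab, hg⟩ := h.exists_ab
  have q3 := h.q3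
  have pq : ∀ x ∈ P, x ^ q = 1 := fun x hx =>
    orderOf_dvd_iff_pow_eq_one.1 (cP ▸ orderOf_dvd_natCard P hx)
  have hC : ∀ x ∈ P, x ≠ 1 → P = 𝐂₁[x] := fun x hx x1 =>
    card_eq_of_le (le_cent1.2 (abelian_iff.1 ab hx)) (by rw [cP, (h.cent_q x1 (pq x hx)).1])
  have ti : NormedTI (nz P) ⊤ 𝐍[P] := normedTI_nz_iff.2 ⟨by rintro rfl; simp at cP; omega, le_top,
    le_rfl, fun g _ e => by
      obtain ⟨x, hx, x1⟩ := (bot_or_exists_ne_one _).resolve_left e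
      obtain ⟨y, hy, rfl⟩ := mem_conj_iff_exists.1 hx.2
      exact conj_eq_iff_mem_norm.1 ((hC _ hx.1 x1).trans (by
        rw [cent1_conj, ← hC y hy (mt conj_eq_one_iff.2 x1)])).symm⟩
  have iB : 𝐍[P].index = q + 1 := by
    have := card_support_normedTI ti
    rw [show classSupp (nz P) ⊤ = {g : G | g ≠ 1 ∧ g ^ q = 1} from Set.ext fun g => ⟨by
      rintro ⟨y, hy, x, -, rfl⟩
      exact ⟨mt conj_eq_one_iff.1 hy.2, by rw [conj_pow, pq y hy.1, mul_one, mul_inv_cancel]⟩,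
      fun e => (Sylow_Jsub sP le_top (hg g e.2)).elim fun x hx => ⟨_, ⟨hx.2 (conj_mem_conj.2
        (mem_zpowers g)), mt conj_eq_one_iff.1 e.1⟩, x⁻¹, trivial, by group⟩⟩, h.ncard_q, card_nz,
      relIndex_top_right, cP] at this
    have e := h.arith.1
    obtain ⟨q, rfl⟩ : ∃ n, q = n + 1 := ⟨q - 1, by omega⟩
    rw [Nat.add_sub_cancel] at this
    exact Nat.eq_of_mul_eq_mul_left (show 0 < q by omega) (by nlinarith)
  obtain ⟨w, ow, wB⟩ : ∃ w : G, orderOf w = 2 ∧ w ∉ 𝐍[P] := by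
    by_contra! c
    rcases (𝐍[P]).normalCore_normal.eq_bot_or_eq_top with e | e
    · exact h.t_ne (mem_bot.1 (e ▸ fun b => c _
        ((orderOf_eq_of_isConj (isConj_iff.2 ⟨b, rfl⟩)).trans h.ot)))
    · rw [top_le_iff.1 (e.ge.trans (normalCore_le _)), index_top] at iB
      omega
  have w2 := mul_self_eq_one_of_orderOf_two ow
  have wi := inv_eq_of_mul_eq_one_right w2
  have wL : w ∈ 𝐍[𝐍[P] ⊓ w •ᶜ 𝐍[P]] := by
    rw [← conj_eq_iff_mem_norm, conj_inf, conj_conj, w2, one_conj, inf_comm]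
  have iL : P ⊓ (𝐍[P] ⊓ w •ᶜ 𝐍[P]) = ⊥ := le_bot_iff.1 (ti.TI trivial wB ▸ le_inf inf_le_left
    ((sP.conj_top w).le_of_norms' (sP.pgroup.to_le inf_le_left) le_top
      (norm_conj w P ▸ inf_le_right.trans inf_le_right)))
  have mL : MulEq (𝐍[P] ⊓ w •ᶜ 𝐍[P]) P 𝐍[P] := mulEq_of_relIndex inf_le_left (normG P) (by
    rw [← inf_relIndex_left P, iL, relIndex_bot_left, cP, inf_relIndex_left]
    by_contra! c
    obtain ⟨a, ha, b, hb, e⟩ := (mulEq_of_relIndex (A := w •ᶜ 𝐍[P]) (B := 𝐍[P]) (M := ⊤) le_top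
      le_top (by rw [← conj_top w, relIndex_conj, relIndex_top_right, iB]; exact c)).exists_mul
      (mem_top w)
    refine wB ?_
    have := mul_mem hb (mem_conj.1 ha)
    rwa [show b * (w⁻¹ * a * w) = b * (a * b)⁻¹ * a * w by rw [← e]; group,
      show b * (a * b)⁻¹ * a * w = w by group] at this)
  set L := 𝐍[P] ⊓ w •ᶜ 𝐍[P]
  have eB : P ⊔ L = 𝐍[P] := mL.symm.sup_eq
  have cG : Nat.card G = (q + 1) * q * Nat.card L := by
    rw [← (𝐍[P]).index_mul_card, iB, mul_assoc, ← cP, ← mL.symm.card, iL, card_bot, mul_one]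
  have cL : 2 * Nat.card L + 1 = q := by
    have e := h.arith.1
    rw [h.card, mul_assoc, mul_comm (q + 1), mul_assoc q] at cG
    rw [Nat.eq_of_mul_eq_mul_left (show 0 < q by omega) cG] at e
    exact Nat.eq_of_mul_eq_mul_left (show 0 < q + 1 by omega) (by nlinarith)
  have hi : ∀ l ∈ L, w * l * w⁻¹ = l⁻¹ := by
    rcases h.cases with ⟨e, -⟩ | ⟨e, e', -⟩
    · refine h.inv_of_card (by omega) (fun a ha b hb oa ob => ?_) wL fun e => wB e.1
      obtain ⟨x, hx, x1⟩ := P.bot_or_exists_ne_one.resolve_left ti.ne_bot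
      refine inv_mul_eq_one.1 (mem_bot.1 (iL ▸ ⟨hC x hx x1 ▸ mem_cent1.2 ?_,
        L.mul_mem (L.inv_mem ha) hb⟩))
      rw [mul_assoc, mul_inv_eq_iff_eq_mul.1 (h.inverts ob hb.1 (cP ▸ h.cop.1) hx),
        ← h.inverts oa ha.1 (cP ▸ h.cop.1) hx]
      group
    · exact fun l => h.inverts ow wL (by rw [show Nat.card L = m by omega]; exact h.cop.2.2)
  exact stZas G P L w (cP ▸ h.arith.2.2) (cP ▸ cL) (abelian_iff_forall.2 fun x hx y hy =>
    comm_of_inv (hi x hx) (hi y hy) (hi _ (mul_mem hx hy))) inf_le_left (fun l hl l1 =>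
      eq_bot_iff.2 fun x hx => by_contra fun x1 => l1 (mem_bot.1 (iL ▸
        ⟨hC x hx.1 x1 ▸ cent1C.1 hx.2, hl⟩))) w2 (by rwa [wi] at hi) (fun g e => ti.TI trivial (eB ▸ e))
    (eB ▸ wB) (cP ▸ cG)

end Cfsg.GW
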