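import Cfsg.Agent.GW.BSWc
import Cfsg.Agent.GW.BSWi

/-! The Brauer-Suzuki-Wall theorem. -/

set_option autoImplicit false

namespace Cfsg.GW

universe u

theorem stBSW : StBSW.{u} := fun _ _ _ _ _ _ _ h =>
  have ⟨_, _, a, b, c, d⟩ := bswChar h
  BD.isL2 ⟨h, a, b, c, d⟩

end Cfsg.GW
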