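import Cfsg.Agent.GW.L2Aut

/-! Tori of `SL₂(F)` and centralizers of involutions of `PGL₂(F)` in `PSL₂(F)`. -/

set_option autoImplicit false
set_option linter.unusedSectionVars false

namespace Cfsg.GW.L2

open Subgroup Cfsg.FT
open scoped Pointwise MatrixGroups

variable {F : Type*} [Field F] {A M : Matrix (Fin 2) (Fin 2) F} {B C g : SL(2, F)} {a b a' b' : F}

theorem card_SL [Fintype F] : (Nat.card SL(2, F) : ℤ) =
    Fintype.card F * (Fintype.card F - 1) * (Fintype.card F + 1) := by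
  classical
  have h1 := Subgroup.card_mul_index (Matrix.GeneralLinearGroup.det : GL (Fin 2) F →* Fˣ).ker
  rw [Subgroup.index_ker, MonoidHom.range_eq_top.2 Matrix.GeneralLinearGroup.det_surjective,
    Subgroup.card_top, Matrix.card_GL_field, Fin.prod_univ_two, Nat.card_units,
    Nat.card_eq_fintype_card (α := F), ← Nat.card_eq_of_bijective (fun A : SL(2, F) =>
      (⟨Matrix.SpecialLinearGroup.toGL A, by simp⟩ :
        (Matrix.GeneralLinearGroup.det : GL (Fin 2) F →* Fˣ).ker))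
    ⟨fun A B h => Matrix.SpecialLinearGroup.toGL_injective (congrArg Subtype.val h), fun A =>
      ⟨⟨A.1.1, congrArg Units.val A.2⟩, Subtype.ext (Units.ext rfl)⟩⟩] at h1
  obtain ⟨m, hm⟩ : ∃ m, Fintype.card F = m + 2 :=
    ⟨_, (Nat.sub_add_cancel Fintype.one_lt_card).symm⟩
  rw [hm] at h1 ⊢
  simp only [Fin.val_zero, Fin.val_one, pow_zero, pow_one] at h1
  rw [show (m + 2) ^ 2 - 1 = (m + 1) * (m + 3) from Nat.sub_eq_of_eq_add (by ring),
    show (m + 2) ^ 2 - (m + 2) = (m + 2) * (m + 1) from Nat.sub_eq_of_eq_add (by ring),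
    show m + 2 - 1 = m + 1 from rfl, ← mul_assoc] at h1
  rw [Nat.eq_of_mul_eq_mul_right m.succ_pos h1]
  push_cast
  ring

/-- the elements of `SL₂(F)` commuting with `A` -/
def Tor (A : Matrix (Fin 2) (Fin 2) F) : Subgroup SL(2, F) where
  carrier := {B | Commute B.1 A}
  mul_mem' := Commute.mul_left
  one_mem' := Commute.one_left A
  inv_mem' := fun {B} h => (Commute.units_inv_left (u := Matrix.SpecialLinearGroup.toGL B) h :)

theorem neg_Tor (h : B ∈ Tor A) : -B ∈ Tor A := Commute.neg_left h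

theorem cancel (hd : A.det ≠ 0) (h : B.1 * A = C.1 * A) : B = C :=
  Subtype.ext (((Matrix.isUnit_iff_isUnit_det A).2 hd.isUnit).mul_right_cancel h)

variable (hA : A 1 1 = -A 0 0)
include hA

theorem sq_tz : A * A = -A.det • 1 := by
  ext i j
  fin_cases i <;> fin_cases j <;> simp [Matrix.mul_apply, Matrix.det_fin_two, hA] <;> ring

theorem det_ab : (a • 1 + b • A).det = a ^ 2 + A.det * b ^ 2 := by
  simp [Matrix.det_fin_two, hA]
  ring

theorem inv_ab (h : B.1 = a • 1 + b • A) : (B⁻¹).1 = a • 1 + -b • A := by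
  rw [Matrix.SpecialLinearGroup.coe_inv, Matrix.adjugate_fin_two, h]
  ext i j
  fin_cases i <;> fin_cases j <;> simp [hA]

variable (hd : A.det ≠ 0) (h2 : (2 : F) ≠ 0)
include hd h2

theorem mem_Tor : B ∈ Tor A ↔ ∃ a b : F, B.1 = a • 1 + b • A := by
  refine ⟨fun h => ⟨B.1.trace / 2, -(B.1 * A).trace / (2 * A.det), ?_⟩, fun ⟨a, b, h⟩ => ?_⟩
  · have e := fun i j => congrFun (congrFun h.eq i) j
    have e1 := e 0 0
    have e2 := e 0 1
    have e3 := e 1 0
    simp only [Matrix.mul_apply, Fin.sum_univ_two, hA] at e1 e2 e3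
    ext i j
    fin_cases i <;> fin_cases j <;> simp [Matrix.trace_fin_two, Matrix.mul_apply] <;> field_simp <;>
      simp only [Matrix.det_fin_two, hA]
    · linear_combination -A 0 0 * e1 - A 1 0 * e2
    · linear_combination -A 0 1 * e1 + A 0 0 * e2
    · linear_combination A 1 0 * e1 - A 0 0 * e3
    · linear_combination A 0 0 * e1 + A 1 0 * e2
  · show Commute B.1 A
    rw [h]
    exact ((Commute.one_left A).smul_left a).add_left ((Commute.refl A).smul_left b)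

theorem ab_inj (h : a • 1 + b • A = a' • 1 + b' • A) : a = a' ∧ b = b' := by
  have e : a = a' := by simpa [Matrix.trace_fin_two, hA, h2] using congrArg Matrix.trace h
  rw [e, add_right_inj] at h
  exact ⟨e, smul_left_injective F (by rintro rfl; simp at hd) h⟩

theorem norm_ab (h : B.1 = a • 1 + b • A) : a ^ 2 + A.det * b ^ 2 = 1 := by
  rw [← det_ab hA, ← h, B.2]

theorem Tor_cyc [Finite F] : IsCyclic (Tor A) := by
  obtain ⟨i, hi⟩ := IsAlgClosed.exists_pow_nat_eq (algebraMap F (AlgebraicClosure F) (-A.det)) two_pos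
  set φ := algebraMap F (AlgebraicClosure F)
  choose α β h using fun B : Tor A => (mem_Tor hA hd h2).1 B.2
  refine isCyclic_of_injective_ringHom (R := AlgebraicClosure F)
    ⟨⟨fun B => φ (α B) + φ (β B) * i, ?_⟩, fun B C => ?_⟩ fun B C e => ?_
  · simp [ab_inj hA hd h2 (a' := 1) (b' := 0) ((h 1).symm.trans (by simp))]
  · obtain ⟨e, e'⟩ := ab_inj hA hd h2 (a' := α B * α C - A.det * β B * β C)
      (b' := α B * β C + β B * α C) ((h (B * C)).symm.trans (by
        rw [Subgroup.coe_mul, Matrix.SpecialLinearGroup.coe_mul, h, h]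
        simp only [add_mul, mul_add, smul_mul_smul_comm, sq_tz hA, one_mul, mul_one]
        module))
    simp only [e, e', map_add, map_mul, map_sub, map_neg] at hi ⊢
    linear_combination -(φ (β B) * φ (β C)) * hi
  have a := congrArg φ (norm_ab hA hd h2 (h B))
  have b := congrArg φ (norm_ab hA hd h2 (h C))
  simp only [map_add, map_mul, map_pow, map_neg, map_one, MonoidHom.coe_mk, OneHom.coe_mk]
    at a b e hi
  have t : φ 2 ≠ 0 := (map_ne_zero φ).2 h2
  rw [map_ofNat] at t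
  have i0 : i ≠ 0 := by rintro rfl; simp [hd] at hi
  have e' : φ (α B) - φ (β B) * i = φ (α C) - φ (β C) * i := by
    linear_combination (φ (α B) - φ (β B) * i) * (φ (α C) - φ (β C) * i) * (-e) +
      (φ (α C) - φ (β C) * i) * a - (φ (α B) - φ (β B) * i) * b +
      ((φ (α B) - φ (β B) * i) * φ (β C) ^ 2 - (φ (α C) - φ (β C) * i) * φ (β B) ^ 2) * hi
  have c1 := φ.injective (mul_left_cancel₀ t (show 2 * φ (α B) = 2 * φ (α C) by
    linear_combination e + e'))
  have c2 := φ.injective (mul_left_cancel₀ (mul_ne_zero t i0)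
    (show 2 * i * φ (β B) = 2 * i * φ (β C) by linear_combination e - e'))
  exact Subtype.ext (Subtype.ext (by rw [h, h, c1, c2]))

theorem card_Tor [Fintype F] [DecidableEq F] :
    (Nat.card (Tor A) : ℤ) = Fintype.card F - quadraticChar F (-A.det) := by
  let f : Option {u : F // ¬ u ^ 2 = -A.det} → Tor A := fun o => o.elim 1 fun u =>
    ⟨⟨((u.1 ^ 2 - A.det) / (u.1 ^ 2 + A.det)) • 1 + (2 * u.1 / (u.1 ^ 2 + A.det)) • A, by
      have := add_eq_zero_iff_eq_neg.not.2 u.2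
      rw [det_ab hA]; field_simp; ring⟩, (mem_Tor hA hd h2).2 ⟨_, _, rfl⟩⟩
  have k : ∀ u, f (some u) ≠ 1 := fun u e => by
    have := add_eq_zero_iff_eq_neg.not.2 u.2
    have e := (ab_inj hA hd h2 (a' := 1) (b' := 0) ((congrArg (·.1.1) e).trans (by simp))).1
    field_simp at e
    exact mul_ne_zero h2 hd (by linear_combination -e)
  have := Nat.card_eq_of_bijective f ⟨?_, fun B => ?_⟩
  · rw [← this, Finite.card_option, Nat.card_eq_fintype_card, Fintype.card_subtype_compl,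
      Nat.cast_add, Nat.cast_sub (Fintype.card_subtype_le _), Fintype.card_subtype,
      ← Set.toFinset_ofPred, quadraticChar_card_sqrts (by rintro e; exact h2 (by
        simpa [e] using ringChar.Nat.cast_ringChar (R := F)))]
    push_cast
    ring
  · rintro (_ | u) (_ | v) e
    · rfl
    · exact absurd e.symm (k v)
    · exact absurd e (k u)
    have hu := add_eq_zero_iff_eq_neg.not.2 u.2
    have hv := add_eq_zero_iff_eq_neg.not.2 v.2
    obtain ⟨e1, e2⟩ := ab_inj hA hd h2 (congrArg (·.1.1) e)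
    field_simp at e1 e2
    have e3 : u.1 ^ 2 = v.1 ^ 2 := mul_left_cancel₀ (mul_ne_zero h2 hd) (by linear_combination e1)
    rw [e3] at e2
    exact congrArg some (Subtype.ext (mul_right_cancel₀ hv (by linear_combination e2)))
  obtain ⟨a, b, h⟩ := (mem_Tor hA hd h2).1 B.2
  have n := norm_ab hA hd h2 h
  by_cases c : 1 - a = 0
  · obtain rfl := sub_eq_zero.1 c
    have : b = 0 := by simpa [hd] using n
    exact ⟨none, Subtype.ext (Subtype.ext (by simp [f, h, this]))⟩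
  have e : (A.det * b / (1 - a)) ^ 2 + A.det = 2 * A.det / (1 - a) := by
    field_simp; linear_combination n
  refine ⟨some ⟨A.det * b / (1 - a), fun e' => ?_⟩, Subtype.ext (Subtype.ext ?_)⟩
  · rw [e', neg_add_cancel] at e
    exact div_ne_zero (mul_ne_zero h2 hd) c e.symm
  · simp only [f, Option.elim, h, e]
    congr 2 <;> field_simp
    linear_combination n

theorem anti_inv (hM : M * A = -(A * M)) (h : B ∈ Tor A) : (B⁻¹).1 * M = M * B.1 := by
  obtain ⟨a, b, h⟩ := (mem_Tor hA hd h2).1 h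
  simp [inv_ab hA h, h, add_mul, mul_add, hM]

theorem norm_Tor (h : B ∈ Tor A) (h1 : ¬ (B = 1 ∨ B = -1)) (e : g * B * g⁻¹ ∈ Tor A) :
    g ∈ Tor A ∨ g.1 * A = -(A * g.1) := by
  obtain ⟨a, b, h⟩ := (mem_Tor hA hd h2).1 h
  obtain ⟨a', b', h'⟩ := (mem_Tor hA hd h2).1 e
  have n := norm_ab hA hd h2 h
  have n' := norm_ab hA hd h2 h'
  have b0 : b ≠ 0 := by
    rintro rfl
    exact h1 ((mul_self_eq_one_iff.1 (show a * a = 1 by linear_combination n)).imp (fun e => Subtype.ext (by simp [h, e]))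
      fun e => Subtype.ext (by simp [h, e]))
  have e : a' = a := by
    have := congrArg Matrix.trace h'
    rw [Matrix.SpecialLinearGroup.coe_mul, Matrix.SpecialLinearGroup.coe_mul,
      Matrix.trace_mul_cycle, ← Matrix.SpecialLinearGroup.coe_mul, inv_mul_cancel, h] at this
    simpa [Matrix.trace_fin_two, hA, h2] using this.symm
  have k : b • (g.1 * A) = b' • (A * g.1) := by
    have := congrArg (· * g.1) h'
    simp only [← Matrix.SpecialLinearGroup.coe_mul, inv_mul_cancel_right] at this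
    simpa [h, e, add_mul, mul_add] using this
  rcases sq_eq_sq_iff_eq_or_eq_neg.1 (mul_left_cancel₀ hd
    (show A.det * b' ^ 2 = A.det * b ^ 2 by rw [e] at n'; linear_combination n' - n)) with rfl | rfl
  · exact Or.inl (smul_right_injective _ b0 k)
  · exact Or.inr (smul_right_injective _ b0 (by simpa using k))

theorem sq_of_tz (h : B ∈ Tor A) (e : B 1 1 = -B 0 0) : IsSquare A.det := by
  obtain ⟨a, b, h⟩ := (mem_Tor hA hd h2).1 h
  have n := norm_ab hA hd h2 h
  have : a = 0 := by simpa [Matrix.trace_fin_two, hA, h2, e] using congrArg Matrix.trace h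
  exact ⟨A.det * b, by rw [this] at n; linear_combination -A.det * n⟩

theorem tz_of_anti (e : g.1 * A = -(A * g.1)) : g * g = -1 := by
  have := congrArg (fun M => (M * A⁻¹).trace) e
  simp only [Matrix.mul_nonsing_inv_cancel_right _ _ hd.isUnit, neg_mul, Matrix.trace_neg] at this
  rw [Matrix.trace_mul_cycle, Matrix.nonsing_inv_mul _ hd.isUnit, one_mul,
    Matrix.trace_fin_two] at this
  exact Subtype.ext (by simpa using sq_tz (A := g.1) (mul_left_cancel₀ h2 (by linear_combination this)))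

variable {G : Type*} [Group G] {π : SL(2, F) →* G} {s v x : G}
  (hk : ∀ A, π A = 1 ↔ A = 1 ∨ A = -1)
include hk

omit hA hd in
theorem card_map [Finite F] {H : Subgroup SL(2, F)} (h : -1 ∈ H) : Nat.card H = 2 * Nat.card (H.map π) := by
  have e : π.ker = ⟪-1⟫ := le_antisymm (fun A hA => by
    rcases (hk A).1 hA with rfl | rfl
    exacts [one_mem _, mem_zpowers _]) (zpowers_le.2 ((hk _).2 (Or.inr rfl)))
  rw [← card_mul_relIndex (e.trans_le (zpowers_le.2 h)), relIndex_ker, e, Nat.card_zpowers,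
    Cfsg.Acd.DD.ord_two (fun e => h2 (by simpa [neg2, neg_eq_iff_add_eq_zero, one_add_one_eq_two]
      using (ext2.1 e).1)) (by simp)]

omit hA hd h2 in
theorem mem_map_Tor : π B ∈ (Tor A).map π ↔ B ∈ Tor A :=
  ⟨fun ⟨_, h, e⟩ => by
    rcases (pi_eq hk).1 e.symm with rfl | rfl
    exacts [h, neg_Tor h], fun h => ⟨B, h, rfl⟩⟩

omit hA hd h2 in
theorem Rep.mem_cent1 (r : Rep π v A 1) :
    π B ∈ 𝐂₁[v] ↔ B ∈ Tor A ∨ B.1 * A = -(A * B.1) := by
  obtain ⟨B', e, f⟩ := r.2 B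
  have f : B'.1 * A = A * B.1 := f
  rw [FT.mem_cent1, eq_comm, ← mul_inv_eq_iff_eq_mul, e, pi_eq hk]
  refine or_congr ⟨fun e => e ▸ f, fun e => cancel r.1 (f.trans e.eq.symm)⟩
    ⟨fun e => by rw [← f, e]; simp, fun e => cancel r.1 (by simp [f, e])⟩

theorem Rep.inv (r : Rep π s M 1) (hM : M * A = -(A * M)) (hx : x ∈ (Tor A).map π) :
    s * x * s⁻¹ = x⁻¹ := by
  obtain ⟨B, h, rfl⟩ := hx
  obtain ⟨B', e, f⟩ := r.2 B
  rw [e, ← map_inv, cancel r.1 (f.trans (anti_inv hA hd h2 hM h).symm)]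

omit hA hd h2 hk in
/-- `C_E(v)` is dihedral over `K` -/
structure Dh (E K : Subgroup G) (v : G) : Prop where
  le : K ≤ E ⊓ 𝐂₁[v]
  cyc : IsCyclic K
  idx : Nat.card ↥(E ⊓ 𝐂₁[v]) = 2 * Nat.card K
  inv : ∀ s ∈ E ⊓ 𝐂₁[v], s ∉ K → s * s = 1 ∧ ∀ x ∈ K, s * x * s = x⁻¹
  cent : ∀ x ∈ K, x * x ≠ 1 → E ⊓ 𝐂₁[x] = K
  sup : ∀ s ∈ E ⊓ 𝐂₁[v], s ∉ K → E ⊓ 𝐂₁[v] = K ⊔ ⟪s⟫
  norm : K ≠ ⊥ → E ⊓ 𝐍[K] = E ⊓ 𝐂₁[v]

omit hd in
theorem Rep.dh [Finite F] [Finite G] (r : Rep π v A 1) (hg : g.1 * A = -(A * g.1)) :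
    Dh π.range ((Tor A).map π) v := by
  have hd := r.1
  have le : (Tor A).map π ≤ π.range ⊓ 𝐂₁[v] := by
    rintro _ ⟨B, h, rfl⟩
    exact ⟨⟨B, rfl⟩, (r.mem_cent1 hk).2 (Or.inl h)⟩
  have cy := cyclic_map π (Tor_cyc hA hd h2)
  have anti : ∀ s ∈ π.range ⊓ 𝐂₁[v], s ∉ (Tor A).map π →
      ∃ B, π B = s ∧ B.1 * A = -(A * B.1) := by
    rintro _ ⟨⟨B, rfl⟩, h⟩ n
    exact ⟨B, rfl, ((r.mem_cent1 hk).1 h).resolve_left fun e => n ⟨B, e, rfl⟩⟩
  have inv : ∀ s ∈ π.range ⊓ 𝐂₁[v], s ∉ (Tor A).map π →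
      s * s = 1 ∧ ∀ x ∈ (Tor A).map π, s * x * s = x⁻¹ := fun s hs n => by
    obtain ⟨B, rfl, h⟩ := anti s hs n
    have e : π B * π B = 1 := by rw [← map_mul, tz_of_anti hA hd h2 h, hk]; simp
    exact ⟨e, fun x hx => by
      simpa only [inv_eq_of_mul_eq_one_right e] using (rep_pi B).inv hA hd h2 hk h hx⟩
  have mul : ∀ s ∈ π.range ⊓ 𝐂₁[v], s ∉ (Tor A).map π → ∀ b ∈ π.range ⊓ 𝐂₁[v],
      b * s ∈ (Tor A).map π ∨ b ∈ (Tor A).map π := fun s hs n b hb => by
    refine or_iff_not_imp_right.2 fun m => ?_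
    obtain ⟨B, rfl, h⟩ := anti s hs n
    obtain ⟨C, rfl, h'⟩ := anti b hb m
    refine ⟨C * B, show C.1 * B.1 * A = A * (C.1 * B.1) from ?_, map_mul _ _ _⟩
    rw [mul_assoc, h, mul_neg, ← mul_assoc, h', neg_mul, neg_neg, mul_assoc]
  have nrm : ∀ B ∈ Tor A, π B ≠ 1 → ∀ C, π C * π B * (π C)⁻¹ ∈ (Tor A).map π →
      π C ∈ π.range ⊓ 𝐂₁[v] := fun B h h1 C e => ⟨⟨C, rfl⟩, (r.mem_cent1 hk).2
    (norm_Tor hA hd h2 h (mt (hk B).2 h1) (by rwa [← map_inv, ← map_mul, ← map_mul,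
      mem_map_Tor hk] at e))⟩
  have gK : π g ∉ (Tor A).map π := fun e => by
    have e := ((mem_map_Tor hk).1 e).eq
    rw [e, eq_neg_iff_add_eq_zero, ← two_smul F, smul_eq_zero_iff_right h2] at hg
    simpa [hd] using congrArg Matrix.det hg
  have idx : ((Tor A).map π).relIndex (π.range ⊓ 𝐂₁[v]) = 2 :=
    have := (mem_inf.2 ⟨⟨g, rfl⟩, (r.mem_cent1 hk).2 (Or.inr hg)⟩ : π g ∈ π.range ⊓ 𝐂₁[v])
    relIndex_eq_two_iff_exists_notMem_and.2 ⟨_, this, gK, mul _ this gK⟩
  refine ⟨le, cy, by rw [← card_mul_relIndex le, idx, mul_comm], inv, ?_, fun s hs n =>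
    le_antisymm (fun b hb => ?_) (sup_le le (zpowers_le.2 hs)), fun h => le_antisymm ?_
    (le_inf inf_le_left (normsP.2 fun a ha x hx => ?_))⟩
  · rintro _ ⟨B, h, rfl⟩ h1
    refine le_antisymm ?_ (le_inf (le.trans inf_le_left)
      (le_cent1.2 (abelian_iff.1 (cyclic_abelian cy) ⟨B, h, rfl⟩)))
    rintro _ ⟨⟨C, rfl⟩, e⟩
    have e : π C * π B = π B * π C := FT.mem_cent1.1 e
    by_contra n
    obtain ⟨e1, e2⟩ := inv _ (nrm B h (fun e => h1 (by simp [e])) C (by
      rw [e, mul_inv_cancel_right]; exact ⟨B, h, rfl⟩)) n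
    exact h1 (by simpa [e, mul_assoc, e1, eq_inv_iff_mul_eq_one] using e2 _ ⟨B, h, rfl⟩)
  · rcases mul s hs n b hb with h | h
    · simpa using mul_mem (mem_sup_left h) (mem_sup_right (inv_mem (mem_zpowers s)))
    · exact mem_sup_left h
  · obtain ⟨⟨_, B, hB, rfl⟩, h1⟩ := ne_bot_iff_exists_ne_one.1 h
    rintro _ ⟨⟨C, rfl⟩, e⟩
    exact nrm B hB (fun e => h1 (Subtype.ext e)) C ((memJ_norm e).2 ⟨B, hB, rfl⟩)
  · by_cases n : a ∈ (Tor A).map π
    · exact mul_mem (mul_mem n hx) (inv_mem n)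
    · rw [inv_eq_of_mul_eq_one_right (inv a ha n).1, (inv a ha n).2 x hx]
      exact inv_mem hx

theorem card_K [Fintype F] [DecidableEq F] :
    (Fintype.card F : ℤ) = 2 * Nat.card ((Tor A).map π) + quadraticChar F (-A.det) := by
  have := card_Tor hA hd h2
  rw [card_map h2 hk (neg_Tor (one_mem _))] at this
  push_cast at this
  linear_combination -this

theorem sq_ne (hn : ¬ IsSquare A.det) (hx : x ∈ (Tor A).map π) (h1 : x ≠ 1) : x * x ≠ 1 := by
  obtain ⟨B, h, rfl⟩ := hx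
  exact fun e => (trace_of_sq ((hk _).1 (by rwa [map_mul]))).elim (mt (hk B).2 h1)
    fun e => hn (sq_of_tz hA hd h2 h e)

omit hA hd hk in
theorem exists_anti [Fintype F] (h : Odd (Fintype.card F)) (e : B 1 1 = -B 0 0) :
    ∃ g : SL(2, F), g.1 * B.1 = -(B.1 * g.1) := by
  obtain ⟨g, e1⟩ := conj_T h h2 e
  obtain ⟨g', e2⟩ := conj_T h h2 (A := -B) (by rw [neg2, neg2, e])
  refine ⟨g * g'⁻¹, congrArg Subtype.val (show g * g'⁻¹ * B = -(B * (g * g'⁻¹)) from ?_)⟩
  rw [← mul_assoc, e1, mul_assoc g, mul_assoc g, ← mul_neg, mul_right_inj, ← neg_mul,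
    eq_mul_inv_iff_mul_eq, mul_assoc, inv_mul_eq_iff_eq_mul, mul_neg, ← e2]
  simp

end Cfsg.GW.L2
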