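import Cfsg.Agent.GW.L2
import Cfsg.Agent.Grp.DicksonCA
import Cfsg.Agent.Gag.W3

/-! The odd part of the Schur multiplier of `PSL₂(q)`, `q ≠ 9` odd, is trivial. -/

set_option autoImplicit false
set_option linter.unusedSectionVars false
set_option linter.style.haveILetI false

namespace Cfsg.GW

open Subgroup Cfsg.FT Cfsg.Acd.DD Polynomial
open scoped Pointwise MatrixGroups commutatorElement

namespace L2

variable {F : Type*} [Field F] {A : SL(2, F)} {P : Subgroup SL(2, F)}

theorem nscal (ho : Odd (orderOf A)) (h1 : A ≠ 1) (c : F) : A.1 ≠ c • 1 := fun e => by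
  have d := A.2
  rw [e, Matrix.det_smul, Matrix.det_one, Fintype.card_fin, mul_one] at d
  exact h1 (orderOf_eq_one_iff.1 (ho.coprime_two_right.eq_one_of_dvd (orderOf_dvd_of_pow_eq_one
    (Subtype.ext (by rw [Matrix.SpecialLinearGroup.coe_pow, e, _root_.smul_pow, d]; simp)))))

/-- a subgroup centralizing a semisimple non-central element is cyclic -/
theorem cyc_of_disc [Finite P] (hA : ∀ c : F, A.1 ≠ c • 1) (hd : A.1.trace ^ 2 - 4 * A.1.det ≠ 0)
    (h : P ≤ 𝐂₁[A]) : IsCyclic P := by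
  let φ := algebraMap F (AlgebraicClosure F)
  obtain ⟨l, hl⟩ := IsAlgClosed.exists_root (X ^ 2 - C (φ A.1.trace) * X + 1) (by
    rw [show degree (X ^ 2 - C (φ A.1.trace) * X + 1) = 2 by compute_degree!]; decide)
  simp only [IsRoot, eval_add, eval_sub, eval_pow, eval_X, eval_mul, eval_C, eval_one] at hl
  choose c d e using fun B : P => mat2_eq_of_commute hA
    (show Commute A.1 B.1.1 from congrArg Subtype.val (mem_cent1.1 (h B.2)).symm)
  have uniq : ∀ c d c' d' : F, c • (1 : Matrix _ _ F) + d • A.1 = c' • 1 + d' • A.1 →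
      c = c' ∧ d = d' := fun c d c' d' e => by
    have h1 : d = d' := by_contra fun h1 => hA ((c' - c) / (d - d')) (by
      have := sub_ne_zero.2 h1
      rw [div_eq_inv_mul, mul_smul, eq_inv_smul_iff₀ this]
      linear_combination (norm := module) e)
    subst h1
    exact ⟨by simpa using congrFun (congrFun e 0) 0, rfl⟩
  have dA := det2 A
  have sq : A.1 * A.1 = A.1.trace • A.1 - 1 := by
    ext i j
    fin_cases i <;> fin_cases j <;> simp [Matrix.mul_apply, Matrix.trace_fin_two]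
    · linear_combination -dA
    · ring
    · ring
    · linear_combination -dA
  refine isCyclic_of_injective_ringHom (R := AlgebraicClosure F)
    ⟨⟨fun B => φ (c B) + φ (d B) * l, ?_⟩, fun B D => ?_⟩ ((injective_iff_map_eq_one _).2 fun B hB => ?_)
  · obtain ⟨h1, h2⟩ := uniq _ _ 1 0 ((e 1).symm.trans (by simp))
    simp [h1, h2]
  · obtain ⟨h1, h2⟩ := uniq _ _ (c B * c D - d B * d D)
      (c B * d D + d B * c D + d B * d D * A.1.trace) ((e (B * D)).symm.trans (by
        rw [Subgroup.coe_mul, Matrix.SpecialLinearGroup.coe_mul, e B, e D]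
        simp only [add_mul, mul_add, smul_mul_smul_comm, mul_one, one_mul, sq]
        module))
    simp only [h1, h2, map_add, map_mul, map_sub]
    linear_combination -(φ (d B) * φ (d D)) * hl
  · have h1 : c B ^ 2 + c B * d B * A.1.trace + d B ^ 2 = 1 := by
      have := B.1.2
      rw [e B, Matrix.det_fin_two] at this
      simp at this
      rw [Matrix.trace_fin_two]
      linear_combination this - d B ^ 2 * dA
    have h2 := congrArg φ h1
    simp only [map_add, map_mul, map_pow, map_one, MonoidHom.coe_mk, OneHom.coe_mk] at h2 hB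
    have h3 : φ (d B * (A.1.trace ^ 2 - 4 * A.1.det)) = 0 := by
      simp only [map_mul, map_sub, map_pow, A.2, map_one, map_ofNat]
      linear_combination (φ A.1.trace - 2 * l) * h2 - (φ A.1.trace - 2 * l) *
        (φ (c B) + 1 - φ (d B) * l + φ (d B) * φ A.1.trace) * hB -
        ((φ A.1.trace - 2 * l) * φ (d B) ^ 2 + 4 * φ (d B)) * hl
    have h4 := (mul_eq_zero.1 ((map_eq_zero φ).1 h3)).resolve_right hd
    rw [h4, map_zero, zero_mul, add_zero, map_eq_one_iff φ φ.injective] at hB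
    exact Subtype.ext (Subtype.ext (by simp [e B, h4, hB]))

theorem cyc_pgroup [Finite F] {r : ℕ} [hr : Fact r.Prime] (r2 : r ≠ 2) (h2 : (2 : F) ≠ 0)
    (h : (r : F) ≠ 0) (hP : IsPGroup r P) : IsCyclic P := by
  by_cases h0 : P = ⊥
  · exact h0 ▸ inferInstance
  obtain ⟨A, hA, o⟩ := exists_order_p (hP.to_le inf_le_left) (center_nil_ne_bot (pgroup_nil hP) h0)
  have h1 := nscal (o ▸ hr.out.odd_of_ne_two r2) fun e => hr.out.ne_one (by rw [← o, e, orderOf_one])
  exact cyc_of_disc h1 (mat2_disc_ne_zero h1 h2 h (by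
    rw [← Matrix.SpecialLinearGroup.coe_pow, ← o, pow_orderOf_eq_one]; rfl)) (le_cent1.2 hA.2)

/-- upper unitriangular matrices -/
def uu (x : F) : SL(2, F) := mobMk 1 x 0 1 (by simp)

theorem uu_add (x y : F) : uu (x + y) = uu x * uu y := by simp [uu, ext2, mul2, add_comm]

theorem uu_zero : uu (0 : F) = 1 := by simp [uu, ext2]

theorem uu_conj {a : F} (ha : a ≠ 0) : ∃ d : SL(2, F), ∀ x, d * uu x = uu (a ^ 2 * x) * d :=
  ⟨mobMk a 0 0 a⁻¹ (by simp [ha]), fun x => by
    simp only [uu, ext2, mul2, mobMk_00, mobMk_01, mobMk_10, mobMk_11]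
    exact ⟨by simp, by field_simp; simp, by simp, by simp⟩⟩

/-- a Sylow subgroup in the defining characteristic -/
theorem exists_syl [Finite F] {r : ℕ} [hr : Fact r.Prime] (r2 : r ≠ 2) (h : (r : F) = 0) :
    ∃ P : Subgroup SL(2, F), Syl r P ⊤ ∧ ∀ B ∈ P, ∃ x, B = uu x ∨ B = -uu x := by
  have h1 : ∀ n : ℕ, uu (n : F) = uu 1 ^ n := fun n => by
    induction n with
    | zero => simp [uu_zero]
    | succ n ih => rw [Nat.cast_succ, uu_add, ih, pow_succ]
  have h2 : uu (1 : F) ≠ 1 := by simp [uu, ext2]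
  have o : orderOf (uu (1 : F)) = r := orderOf_eq_prime (by rw [← h1, h, uu_zero]) h2
  obtain ⟨P, hP, hu⟩ := Sylow_superset (H := ⊤) le_top (prime_pgroup ((Nat.card_zpowers _).trans o))
  obtain ⟨A, hA, oA⟩ := exists_order_p (hP.pgroup.to_le inf_le_left)
    (center_nil_ne_bot (pgroup_nil hP.pgroup) (ne_bot_of_mem (zpowers_le.1 hu) h2))
  have h3 := nscal (oA ▸ hr.out.odd_of_ne_two r2) fun e => hr.out.ne_one (by rw [← oA, e, orderOf_one])
  refine ⟨P, hP, fun B hB => ?_⟩
  have h4 : uu 1 * B = B * uu 1 := Subtype.ext (mat2_commute_of_commute h3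
    (congrArg Subtype.val (mem_cent.1 hA.2 _ (zpowers_le.1 hu)).symm)
    (congrArg Subtype.val (mem_cent.1 hA.2 _ hB).symm))
  simp only [uu, ext2, mul2, mobMk_00, mobMk_01, mobMk_10, mobMk_11] at h4
  have h5 : B 1 0 = 0 := by linear_combination h4.1
  have h6 : B 1 1 = B 0 0 := by linear_combination h4.2.1
  have d := det2 B
  rw [h5, h6, mul_zero, sub_zero, mul_self_eq_one_iff] at d
  rcases d with d | d
  · exact ⟨B 0 1, .inl (by simp [uu, ext2, h5, h6, d])⟩
  · exact ⟨-B 0 1, .inr (by simp [uu, ext2, neg2, h5, h6, d])⟩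

/-- an invariant alternating biadditive form vanishes -/
theorem form_zero [Fintype F] (h : Odd (Fintype.card F)) (h9 : Fintype.card F ≠ 9) {M : Type*}
    [AddCommGroup M] (f : F →+ F →+ M) (h1 : ∀ x, f x x = 0)
    (h2 : ∀ a x y, a ≠ 0 → f (a ^ 2 * x) (a ^ 2 * y) = f x y) (x y : F) : f x y = 0 := by
  by_cases hq : Fintype.card F ≤ 9
  · haveI : Fact (Fintype.card F).Prime := ⟨by
      have := Fintype.one_lt_card (α := F)
      obtain ⟨k, hk⟩ := h
      generalize Fintype.card F = n at *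
      interval_cases n <;> first | omega | norm_num⟩
    obtain ⟨g, hg⟩ := (isAddCyclic_of_prime_card (Nat.card_eq_fintype_card (α := F))).exists_generator
    obtain ⟨m, rfl⟩ := hg x
    obtain ⟨n, rfl⟩ := hg y
    simp only [map_zsmul, AddMonoidHom.smul_apply, h1, smul_zero]
  have t : (2 : F) ≠ 0 := Ring.two_ne_zero fun e =>
    absurd (Nat.odd_iff.1 h) (by rw [FiniteField.even_card_of_char_two e]; decide)
  obtain ⟨a, ha⟩ := exists_eval_ne_zero_of_natDegree_lt_card
    (X * (X + 1) * (X - 1) * (X ^ 2 + 1) * (X ^ 2 - X - 1) * (X ^ 2 + X - 1) : F[X])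
    (Monic.ne_zero (by monicity!)) (by
      rw [Cardinal.mk_fintype, Nat.cast_lt]
      exact lt_of_le_of_lt (by compute_degree!) (not_le.1 hq))
  simp only [eval_mul, eval_add, eval_sub, eval_pow, eval_X, eval_one, ne_eq, mul_eq_zero,
    not_or] at ha
  obtain ⟨⟨⟨⟨⟨a0, a1⟩, a2⟩, a3⟩, a4⟩, a5⟩ := ha
  have h3 : ∀ a x y, a ≠ 0 → f (a ^ 2 * x) y = f x (y / a ^ 2) := fun a x y ha => by
    rw [← h2 a x _ ha, mul_div_cancel₀ _ (pow_ne_zero 2 ha)]
  have h4 : ∀ z, f x (z / (a + 1) ^ 2 + z / (a - 1) ^ 2 - z / a ^ 2 - z / a ^ 2 - z - z) = 0 :=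
    fun z => by
      simp only [map_sub, map_add, ← h3 _ _ _ a0, ← h3 _ _ _ a1, ← h3 _ _ _ a2]
      simp only [← AddMonoidHom.add_apply, ← AddMonoidHom.sub_apply, ← map_add, ← map_sub]
      rw [show (a + 1) ^ 2 * x + (a - 1) ^ 2 * x - a ^ 2 * x - a ^ 2 * x - x - x = 0 by ring]
      simp
  obtain ⟨z, rfl⟩ := mul_left_surjective₀ (mul_ne_zero (mul_ne_zero (mul_ne_zero (neg_ne_zero.2 t) a3)
    a4) a5) y
  rw [← h4 (z * (a * (a + 1) * (a - 1)) ^ 2)]
  congr 1
  field_simp
  ring

end L2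

open L2

open scoped IsMulCommutative in
theorem l2_mult {E : Type*} [Group E] [Finite E] {F : Type} [Field F] [Fintype F]
    (h : Odd (Fintype.card F)) (h9 : Fintype.card F ≠ 9)
    (π : E →* Matrix.ProjectiveSpecialLinearGroup (Fin 2) F) (hs : Function.Surjective π)
    (hz : π.ker ≤ center E) (ho : Odd (Nat.card π.ker)) (hp : commutator E = ⊤) : π.ker = ⊥ := by
  by_contra h0
  obtain ⟨r, hr, hd⟩ := exists_prime_dvd_card h0
  haveI := Fact.mk hr
  have r2 := ne_two_of_odd_of_dvd ho hd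
  have t : (2 : F) ≠ 0 := Ring.two_ne_zero fun e =>
    absurd (Nat.odd_iff.1 h) (by rw [FiniteField.even_card_of_char_two e]; decide)
  let mk := QuotientGroup.mk' (center SL(2, F))
  suffices ∃ P : Subgroup SL(2, F), Syl r P ⊤ ∧ IsMulCommutative ((P.map mk).comap π) by
    obtain ⟨P, hP, ha⟩ := this
    obtain ⟨R, hR⟩ := Sylow_exists (p := r) ((P.map mk).comap π)
    have h1 : Syl r R ⊤ := hR.trans_index le_top fun e => hP.index (by
      rw [relIndex_top_right, index_comap_of_surjective _ hs] at e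
      rw [relIndex_top_right]
      exact e.trans (index_map_dvd _ (QuotientGroup.mk'_surjective _)))
    obtain ⟨z, hz1, oz⟩ := Cauchy hr hd
    have h2 : ⟪z⟫ ≤ 𝐙[(⊤ : Subgroup E)] := center_top (G := E) ▸ zpowers_le.2 (hz hz1)
    have h3 := Gag.der_center_syl_le h1 ⟨⟨by rw [← commutator_def, hp]; trivial, zpowers_le.1 h2⟩,
      zpowers_le.1 (h1.le_of_normal (prime_pgroup ((Nat.card_zpowers z).trans oz))
        (sub_center_normal h2))⟩
    rw [derG1P.2 (abelianS hR.le ha), mem_bot] at h3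
    exact hr.ne_one (by rw [← oz, h3, orderOf_one])
  by_cases hc : (r : F) = 0
  · obtain ⟨P, hP, h1⟩ := exists_syl r2 hc
    choose l hl using fun x : F => hs (mk (uu x))
    have c1 : ∀ a a' b : E, π a = π a' → ⁅a, b⁆ = ⁅a', b⁆ := fun a a' b e => by
      have := mem_center_iff.1 (hz (show a'⁻¹ * a ∈ π.ker by simp [e])) b
      calc _ = a' * (a'⁻¹ * a * b) * a⁻¹ * b⁻¹ := by group
        _ = _ := by rw [← this]; group
    have c2 : ∀ a b b' : E, π b = π b' → ⁅a, b⁆ = ⁅a, b'⁆ := fun a b b' e => by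
      rw [← commutatorElement_inv, c1 _ _ a e, commutatorElement_inv]
    have c3 : ∀ x y, ⁅l x, l y⁆ ∈ center E := fun x y => hz (by
      rw [MonoidHom.mem_ker, map_commutatorElement, hl, hl, ← map_commutatorElement,
        commutatorElement_eq_one_iff_mul_comm.2 (by rw [← uu_add, ← uu_add, add_comm]), map_one])
    have c4 : ∀ x y, π (l (x + y)) = π (l x * l y) := fun x y => by simp only [hl, map_mul, uu_add]
    let f : F →+ F →+ Additive (center E) := AddMonoidHom.mk' (fun x => AddMonoidHom.mk'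
      (fun y => Additive.ofMul ⟨_, c3 x y⟩) fun y z => congrArg Additive.ofMul (Subtype.ext (by
        have := mem_center_iff.1 (c3 x z) (l y)
        change ⁅_, _⁆ = ⁅_, _⁆ * ⁅_, _⁆
        calc _ = ⁅l x, l y⁆ * (l y * ⁅l x, l z⁆) * (l y)⁻¹ := by rw [c2 _ _ _ (c4 y z)]; group
          _ = _ := by rw [this]; simp [mul_assoc])))
      fun x y => AddMonoidHom.ext fun z => congrArg Additive.ofMul (Subtype.ext (by
        have := mem_center_iff.1 (c3 y z) (l x)
        have h2 := mem_center_iff.1 (c3 y z) ⁅l x, l z⁆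
        change ⁅_, _⁆ = ⁅_, _⁆ * ⁅_, _⁆
        calc _ = l x * ⁅l y, l z⁆ * (l x)⁻¹ * ⁅l x, l z⁆ := by rw [c1 _ _ _ (c4 x y)]; group
          _ = _ := by rw [this, mul_inv_cancel_right, ← h2]))
    have c5 := form_zero h h9 f (fun x => congrArg Additive.ofMul (Subtype.ext (by simp)))
      fun a x y ha => congrArg Additive.ofMul (Subtype.ext (by
        obtain ⟨d, hd⟩ := uu_conj ha
        obtain ⟨e, he⟩ := hs (mk d)
        have h3 : ∀ x, π (l (a ^ 2 * x)) = π (e * l x * e⁻¹) := fun x => by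
          rw [map_mul, map_mul, map_inv, hl, hl, he, ← map_mul, hd, map_mul, mul_inv_cancel_right]
        change ⁅_, _⁆ = ⁅_, _⁆
        rw [c1 _ _ _ (h3 x), c2 _ _ _ (h3 y), ← conjugate_commutatorElement,
          mem_center_iff.1 (c3 x y) e, mul_inv_cancel_right]))
    have c6 : ∀ a ∈ (P.map mk).comap π, ∃ x, π a = π (l x) := fun a ⟨B, hB, e⟩ => by
      obtain ⟨x, rfl | rfl⟩ := h1 B hB
      · exact ⟨x, e.symm.trans (hl x).symm⟩
      · refine ⟨x, e.symm.trans ((QuotientGroup.eq.2 ?_).trans (hl x).symm)⟩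
        simp [mem_center_iff]
    refine ⟨P, hP, abelian_iff_forall.2 fun a ha b hb => ?_⟩
    obtain ⟨x, hx⟩ := c6 a ha
    obtain ⟨y, hy⟩ := c6 b hb
    rw [← commutatorElement_eq_one_iff_mul_comm, c1 _ _ _ hx, c2 _ _ _ hy]
    exact congrArg Subtype.val (c5 x y)
  · obtain ⟨P, hP⟩ := Sylow_exists (p := r) (⊤ : Subgroup SL(2, F))
    haveI := cyclic_map mk (cyc_pgroup r2 t hc hP.pgroup)
    exact ⟨P, hP, (π.subgroupComap _).isMulCommutative_of_isCyclic_of_ker_le_center fun x hx =>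
      mem_center_iff.2 fun g => Subtype.ext
        (mem_center_iff.1 (hz (show x.1 ∈ π.ker from congrArg Subtype.val hx)) g)⟩

end Cfsg.GW
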