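import Cfsg.Agent.GW.PFr
import Cfsg.Agent.Gag.WL1

/-!
# S4594, piece A1: abelian Sylow `2`-subgroups with an invariant subgroup of index four
-/

set_option autoImplicit false
set_option linter.style.haveILetI false

namespace Cfsg.GW

open Subgroup Cfsg.FT Cfsg.Gag
open scoped Pointwise

universe u

variable {G : Type u} [Group G] [Finite G] {A D R N V : Subgroup G}

theorem sc_of_norm (hS : Syl 2 A ⊤) (ha : IsMulCommutative A) (hD : D ≤ A) (hN : 𝐍[A] ≤ 𝐍[D]) :
    SC D A := ⟨hD, fun d hd g hg => by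
  obtain ⟨n, hn, e⟩ := fusion_norm hS ha (hD hd) hg (isConj_iff.2 ⟨g, rfl⟩)
  exact e ▸ (memJ_norm (hN hn)).2 hd⟩

/-- in a non-abelian simple group an abelian Sylow `2`-subgroup is indecomposable -/
theorem indec [IsSimpleGroup G] (hPF : StPF.{u}) (hab : ¬ IsMulCommutative G) (hS : Syl 2 A ⊤)
    (ha : IsMulCommutative A) (h : DProd D R A) (hD : 𝐍[A] ≤ 𝐍[D]) (hR : 𝐍[A] ≤ 𝐍[R]) :
    D = ⊥ ∨ R = ⊥ := by
  by_contra hn
  push Not at hn
  have h4 : Cl4 G := fun Q hQ => by
    obtain ⟨g, -, hg⟩ := Sylow_subJ hS le_top hQ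
    rw [inf_eq_left.2 (abelian_iff.1 (abelianS hg (isMulCommutative_conj.2 ha)))]
    omega
  have h1 := hPF G h4 A D R ⟨hS, sc_of_norm hS ha h.left_le hD, sc_of_norm hS ha h.right_le hR,
    h.sup_eq, h.inf_eq, h.right_le.trans (abelian_iff.1 ha)⟩
  have ht : ∀ X : Subgroup G, X ≠ ⊥ → ncl X ⊤ = ⊤ := fun X hX =>
    (normalIn_top.1 PFr.ncl_top).eq_bot_or_eq_top.resolve_left fun e =>
      hX (eq_bot_iff.2 (WS.le_ncl.trans e.le))
  rw [ht D hn.1, ht R hn.2] at h1
  rcases (normalIn_top.1 (pcore_normal {2}ᶜ (⊤ : Subgroup G))).eq_bot_or_eq_top with e | e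
  · exact hab ⟨⟨fun a b => commG1P.1 (eq_bot_iff.2 (h1.trans e.le)) (mem_top b) a (mem_top a)⟩⟩
  · exact hn.1 (eq_bot_iff.2 ((le_inf le_rfl (le_top.trans e.ge)).trans (coprime_TIg
      (coprime_pgroup (hS.pgroup.to_le h.left_le) (p'core_not_dvd 2 ⊤))).le))

theorem relIndex_cent_dvd (hN : N ≤ 𝐍[V]) : 𝐂[V].relIndex N ∣ (Nat.card V).factorial := by
  have hk : (WL.act hN).ker = 𝐂[V].subgroupOf N := by
    ext g
    rw [MonoidHom.mem_ker, WL.act_eq_one, mem_subgroupOf]
  rw [relIndex, ← hk, index_ker, ← Nat.card_perm]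
  exact (card_subgroup_dvd_card _).trans
    (card_dvd_of_injective (MulAut.toPerm _) fun _ _ h => MulEquiv.toEquiv_injective h)

theorem stA1 (hPF : StPF.{u}) : StA1.{u} := fun G _ _ _ A B hab hS ha hB hN h4 => by
  obtain ⟨P, rfl⟩ := syl_top_iff.1 hS
  set A := (P : Subgroup G) with hA
  have hcom : commutator G = ⊤ := (IsSimpleGroup.eq_bot_or_eq_top_of_normal _
    inferInstance).resolve_left fun e => hab ⟨⟨fun a b =>
      commutatorElement_eq_one_iff_mul_comm.1 (mem_bot.1 (e ▸ commutator_mem_commutator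
        (mem_top a) (mem_top b)))⟩⟩
  have hns : ¬ Group.IsSolvable G := fun h =>
    (Group.IsSolvable.commutator_lt_top_of_nontrivial G).ne hcom
  have hAB : A ≤ 𝐍[B] := (normG A).trans hN
  have hc4 : Nat.card (A ⁄ B) = 4 := Nat.eq_of_mul_eq_mul_left Nat.card_pos
    ((card_quo_mul ⟨hB, hAB⟩).trans (h4.trans (mul_comm _ _)))
  have hCK : 𝐂[A] ≤ 𝐍[A] ⊓ centSec A B := le_inf (cent_sub A) ((sub_astabQR ((cent_sub A).trans hN)
    hAB).2 ((commG1P.2 le_rfl).le.trans bot_le))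
  have hK : 𝐍[A] ≤ 𝐍[𝐍[A] ⊓ centSec A B] := normsI (normG _) (norms_centSec le_rfl hN)
  have hSK := hS.subl ((abelian_iff.1 ha).trans hCK) le_top
  have hD := abelian_Sylow_dprod hSK ha
  have hKC : 𝐍[A] ⊓ centSec A B = 𝐂[A] := by
    refine le_antisymm ?_ hCK
    rcases indec hPF hab hS ha hD (normsI le_rfl (normsR hK hK))
      (normsI le_rfl (norms_cent (normsI hK (normG _)))) with e | e
    · have := hD.sup_eq
      rw [e, bot_sup_eq, inf_eq_left, inf_eq_left.2 inf_le_left] at this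
      exact centsC.1 this
    · have := hD.sup_eq
      rw [e, sup_bot_eq, abelian_Sylow_focal hSK ha, inf_eq_left.2 inf_le_left, commGC] at this
      have := card_le_of_le (this.ge.trans ((sub_astabQR (inf_le_left.trans hN) hAB).1 inf_le_right))
      have := Nat.card_pos (α := B)
      omega
  set e := (𝐂[A]).relIndex 𝐍[A] with he
  have h1 : e ∣ 24 := by
    rw [he, ← hKC, inf_relIndex_left, centSec, relIndex_pre_left _ hN]
    exact (relIndex_cent_dvd (quotient_norms B le_rfl)).trans (by rw [hc4]; rfl)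
  have h2 : Odd e := (WL.odd_relIndex hS).of_dvd_nat (indexgS _ (abelian_iff.1 ha))
  have hA1 : A ≠ ⊥ := fun e => by
    have := Nat.card_pos (α := B)
    rw [e, card_bot] at h4
    omega
  have h3 : e ≠ 1 := fun h => by
    have := sylow_inf_commutator_inf_centralizer_of_comm P ha
    rw [hcom, inf_top_eq, inf_eq_left.2 (centsC.1 (relIndex_eq_one.1 h))] at this
    exact hA1 this
  have h5 : e = 3 := by
    have h7 := Nat.le_of_dvd (by norm_num) h1
    obtain ⟨k, hk⟩ := h2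
    interval_cases e <;> omega
  obtain ⟨M, hM⟩ := exists_isPModular Nat.prime_two
  have h6 := app4568_card_le P (he ▸ h5 ▸ Nat.prime_three) hM hns
  rw [hcom, inf_top_eq, ← he, h5] at h6
  have h7 : Nat.card A = 4 := by
    have := Nat.card_pos (α := B)
    change Nat.card A ≤ 3 + 1 at h6
    omega
  refine ⟨h7, fun t ht => ?_⟩
  by_contra hne
  have hd : orderOf t ∣ 2 ^ 2 := (A.orderOf_dvd_natCard ht).trans h7.dvd
  obtain ⟨k, hk, e'⟩ := (Nat.dvd_prime_pow Nat.prime_two).1 hd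
  rw [← sq, ← orderOf_dvd_iff_pow_eq_one, e'] at hne
  interval_cases k
  · simp at hne
  · simp at hne
  have h8 : ⟪t⟫ = A := card_eq_of_le (zpowers_le.2 ht) (by rw [Nat.card_zpowers, e', h7]; rfl)
  have h9 := (cyclic_Sylow_pNil hS (h8 ▸ inferInstance) (by simp)).sdprod hS
  rcases (normalIn_top.1 (pcore_normal {2}ᶜ (⊤ : Subgroup G))).eq_bot_or_eq_top with e | e
  · have := h9.sup_eq
    rw [e, bot_sup_eq] at this
    exact hab ⟨⟨fun a b => abelian_iff.1 ha (this.ge (mem_top b)) a (this.ge (mem_top a))⟩⟩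
  · have := h9.inf_eq
    rw [e, top_inf_eq] at this
    exact hA1 this

end Cfsg.GW
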