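import Cfsg.Agent.GW.A2a
import Cfsg.Agent.Gag.WA

/-!
# Piece A2: a simple group whose Sylow 2-subgroup has centre of index 4 has Sylow `D₈`
-/

set_option autoImplicit false
set_option linter.style.haveILetI false

namespace Cfsg.GW

open Subgroup Cfsg.FT Cfsg.Gag
open scoped Pointwise

universe u

variable {G : Type u} [Group G] {P C C' : Subgroup G} {a b c d g h n u v x y z : G}

/-- conjugate into the centre of `P` -/
def InZ (P : Subgroup G) (u : G) : Prop := ∃ c ∈ 𝐙[P], IsConj c u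

theorem InZ.conj (h : InZ P u) (e : IsConj u v) : InZ P v :=
  let ⟨c, hc, h⟩ := h; ⟨c, hc, h.trans e⟩

namespace Cf

variable (E : E4 P z) (F : Cf P z y C)
include E F

theorem fus' (hc : c ∈ C) : IsConj (z * c) (z * (y * c)) := by
  obtain ⟨s, hs, e⟩ : ∃ s ∈ P, s * y ≠ y * s := by
    by_contra hcon
    push Not at hcon
    exact F.yZ hcon
  refine (F.fus c hc).trans (isConj_iff.2 ⟨s, ?_⟩)
  rw [← conj_mul, E.nc hs F.yP e, (F.le hc).2 s hs]; group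

theorem rep (hv : v ∈ P) (e : v * y = y * v) :
    v ∈ 𝐂[P] ∨ ∃ c ∈ C, (v = y * c ∨ v = z * (y * c)) ∧ IsConj (z * c) v := by
  refine (E.cent y F.yP F.yZ v hv e).imp_right fun h => ?_
  have h1 : v = y * (v * y) := by rw [e, ← mul_assoc, F.yy, one_mul]
  rcases F.dec _ (mul_mem hv F.yP) h with h2 | h2
  · exact ⟨_, h2, .inl h1, (F.fus _ h2).trans (by rw [← h1])⟩
  · have h3 : v = z * (y * (z * (v * y))) := by
      rw [← mul_assoc y, E.zc y F.yP, mul_assoc, E.zmul, ← h1]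
    exact ⟨_, h2, .inr h3, (F.fus' E h2).trans (by rw [← h3])⟩

theorem inZ (hv : v ∈ P) (e : v * y = y * v) : InZ P v := by
  rcases F.rep E hv e with h | ⟨c, hc, -, h⟩
  · exact ⟨v, ⟨hv, h⟩, IsConj.refl v⟩
  · exact ⟨_, mul_mem ⟨E.zP, E.zc⟩ (F.le hc), h⟩

theorem conj_z [Finite G] (hS : Syl 2 P ⊤) (hv : v ∈ P) (e : v * y = y * v) (h : IsConj z v) :
    v = z ∨ v = y ∨ v = z * y := by
  refine (F.rep E hv e).imp (fun h1 => E.eq_of_conj hS h1 h) fun ⟨c, hc, h1, h2⟩ => ?_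
  have := E.eq_of_conj hS (mul_mem E.zc (F.le hc).2) (h.trans h2.symm)
  rwa [mul_eq_left.1 this, mul_one] at h1

theorem norm (hn : n ∈ 𝐍[P]) (e : n * y * n⁻¹ = y ∨ n * y * n⁻¹ = z * y) : n ∈ 𝐍[C] := by
  rcases e with e | e
  · exact F.nrm n hn e
  obtain ⟨s, hs, e'⟩ : ∃ s ∈ P, s * y ≠ y * s := by
    by_contra hcon
    push Not at hcon
    exact F.yZ hcon
  have h1 : s ∈ 𝐍[C] := cents_norm (centsC.1 (F.le.trans inf_le_right)) hs
  refine (mul_mem_cancel_left h1).1 (F.nrm _ (mul_mem (normG P hs) hn) ?_)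
  calc s * n * y * (s * n)⁻¹ = s * (n * y * n⁻¹) * s⁻¹ := by group
    _ = y := by rw [e, ← mul_assoc, E.zc s hs, mul_assoc z, E.nc hs F.yP e', E.zmul,
      mul_inv_cancel_right]

theorem sq_mem (hc : c ∈ 𝐙[P]) : c * c ∈ C := by
  rcases F.dec c hc.1 hc.2 with h | h
  · exact mul_mem h h
  · have := mul_mem h h
    rwa [mul_assoc, ← mul_assoc c, E.zc c hc.1, mul_assoc, E.zmul] at this

theorem comm_le (hN : 𝐍[P] ≤ 𝐍[C]) : ⁅𝐙[P], 𝐍[P]⁆ ≤ C := commg_le_iff.2 fun c hc n hn => by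
  have key : ∀ c ∈ C, c * n * c⁻¹ * n⁻¹ ∈ C := fun c hc => by
    simpa only [mul_assoc] using mul_mem hc ((memJ_norm (hN hn)).2 (inv_mem hc))
  rcases F.dec c hc.1 hc.2 with h | h
  · exact key c h
  · have := key _ h
    rwa [show z * c * n * (z * c)⁻¹ * n⁻¹ = z * (c * n * c⁻¹ * n⁻¹) * (n * z * n⁻¹)⁻¹ by group,
      E.norm_fix hn, ← E.zc (c * n * c⁻¹ * n⁻¹) (commg_subl.2 (norms_center le_rfl)
        (commutator_mem_commutator hc hn)).1,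
      mul_inv_cancel_right] at this

end Cf

/-- the dihedral subgroup -/
abbrev dih (z x y : G) : Subgroup G := ⟪z⟫ ⊔ ⟪x⟫ ⊔ ⟪y⟫

/-- the two configurations -/
structure Two4 (P : Subgroup G) (z x y : G) (C C' : Subgroup G) : Prop where
  syl : Syl 2 P ⊤
  c4 : Nat.card P = 4 * Nat.card ↥𝐙[P]
  E : E4 P z
  F : Cf P z y C
  F' : Cf P z x C'
  nc : x * y ≠ y * x

namespace Two4

variable [Finite G] (T : Two4 P z x y C C')
include T

omit [Finite G] in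
theorem symm : Two4 P z y x C' C := ⟨T.syl, T.c4, T.E, T.F', T.F, T.nc.symm⟩

omit [Finite G] in
theorem xy : x * y = z * (y * x) := T.E.nc T.F'.yP T.F.yP T.nc

omit [Finite G] in
theorem xyZ : x * y ∉ 𝐂[P] := fun h => T.nc (mul_left_cancel (h x T.F'.yP |>.trans (mul_assoc _ _ _)))

omit [Finite G] in
theorem sq : x * y * (x * y) = z := by
  conv_lhs => rw [T.xy, mul_assoc, mul_assoc, ← T.xy, ← mul_assoc x, T.F'.yy, one_mul, T.F.yy]
  rw [mul_one]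

omit [Finite G] in
theorem cent_of (hv : v * x = x * v) (hv' : v * y = y * v) (h : v ∈ P) : v ∈ 𝐂[P] := by
  by_contra hc
  exact T.nc (T.E.comm_of h hc T.F'.yP T.F.yP hv.symm hv'.symm)

theorem third (hv : v ∈ P) (h : InZ P v) : v * x = x * v ∨ v * y = y * v := by
  by_contra hcon
  push Not at hcon
  obtain ⟨c, hc, h⟩ := h
  have hv' : v ∉ 𝐂[P] := fun h => hcon.1 (h x T.F'.yP).symm
  obtain ⟨w, C₃, F₃, e⟩ := exists_cf T.syl T.E T.c4 hv hv' hc.2 h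
  have hxy := mul_mem T.F'.yP T.F.yP
  have h1 := T.E.comm_of hv hv' F₃.yP hxy e (T.E.two hv T.F'.yP T.F.yP hcon.1.symm hcon.2.symm)
  have h2 := (T.E.cent _ hxy T.xyZ w F₃.yP h1).resolve_left F₃.yZ
  have h3 := T.F.sq_mem T.E ⟨mul_mem F₃.yP hxy, h2⟩
  rw [mul_assoc, ← mul_assoc (x * y), ← h1, mul_assoc, T.sq, ← mul_assoc, F₃.yy, one_mul] at h3
  exact T.F.zC h3

theorem swap (hn : n ∈ 𝐍[P]) (h : n * y * n⁻¹ * y ≠ y * (n * y * n⁻¹)) :
    n * y * n⁻¹ = x ∨ n * y * n⁻¹ = z * x := by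
  have h1 : IsConj z (n * y * n⁻¹) := T.F.cj.trans (isConj_iff.2 ⟨n, rfl⟩)
  have h2 := (memJ_norm hn).2 T.F.yP
  exact (T.F'.conj_z T.E T.syl h2 ((T.third h2 ⟨z, ⟨T.E.zP, T.E.zc⟩, h1⟩).resolve_right h)
    h1).resolve_left fun e => h (by rw [e, T.E.zc y T.F.yP])

theorem norm_y (hn : n ∈ 𝐍[P]) : n * y * n⁻¹ = y ∨ n * y * n⁻¹ = z * y := by
  have h0 := T.E.norm_fix hn
  by_cases h : n * y * n⁻¹ * y = y * (n * y * n⁻¹)
  · refine (T.F.conj_z T.E T.syl ((memJ_norm hn).2 T.F.yP) h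
      (T.F.cj.trans (isConj_iff.2 ⟨n, rfl⟩))).resolve_left fun e => T.F.yZ ?_
    have : y = z := by simpa using e.trans h0.symm
    exact this ▸ T.E.zc
  have h1 := T.swap hn h
  have h2 := T.symm.swap hn fun e => T.nc (by
    have : n * x * n⁻¹ * (n * y * n⁻¹) = n * y * n⁻¹ * (n * x * n⁻¹) := by
      rcases h1 with h1 | h1 <;> rw [h1]
      · exact e
      · rw [← mul_assoc, T.E.zc _ ((memJ_norm hn).2 T.F'.yP), mul_assoc, e, mul_assoc z]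
    simpa only [conj_mul, mul_left_inj, mul_right_inj] using this)
  have h3 : n ^ 2 ∈ gam ⟪y⟫ T.E.zz := by
    have e : ∀ a, n ^ 2 * a * (n ^ 2)⁻¹ = n * (n * a * n⁻¹) * n⁻¹ := fun a => by
      rw [pow_two]; group
    refine ⟨by rw [e, h0, h0], fun a ha => ?_⟩
    rcases Fin5.mem_cycle2 T.F.yy ha with rfl | rfl
    · exact .inl (by group)
    rw [e]
    rcases h1 with h1 | h1 <;> rw [h1]
    · exact h2
    · rw [← conj_mul, h0]
      exact h2.symm.imp (fun e => by rw [e, T.E.zmul]) fun e => by rw [e]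
  exact (Fin5.mem_of_pow_coprime h3 (T.E.le_gam (zpowers_le.2 T.F.yP) (WL.pow_idx hn))
    (WL.odd_relIndex T.syl).coprime_two_left).2 y (mem_zpowers y)

omit [Finite G] in
theorem zD : z ∈ dih z x y := mem_sup_left (mem_sup_left (mem_zpowers z))
omit [Finite G] in
theorem xD : x ∈ dih z x y := mem_sup_left (mem_sup_right (mem_zpowers x))
omit [Finite G] in
theorem yD : y ∈ dih z x y := mem_sup_right (mem_zpowers y)

omit [Finite G] in
theorem D_le : dih z x y ≤ P :=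
  sup_le (sup_le (zpowers_le.2 T.E.zP) (zpowers_le.2 T.F'.yP)) (zpowers_le.2 T.F.yP)

theorem norm_D : 𝐍[P] ≤ 𝐍[dih z x y] := normsP''.2 fun n hn => by
  simp only [conj_sup, conj_zpowers, sup_le_iff, zpowers_le]
  refine ⟨⟨(T.E.norm_fix hn).symm ▸ T.zD, ?_⟩, ?_⟩
  · rcases T.symm.norm_y hn with e | e <;> rw [e]
    exacts [T.xD, mul_mem T.zD T.xD]
  · rcases T.norm_y hn with e | e <;> rw [e]
    exacts [T.yD, mul_mem T.zD T.yD]

theorem mem_D (hd : d ∈ dih z x y) :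
    ∃ e, (e = 1 ∨ e = z) ∧ (d = e ∨ d = e * x ∨ d = e * y ∨ d = e * (x * y)) := by
  have h1 : ⟪y⟫ ≤ 𝐍[⟪z⟫ ⊔ ⟪x⟫] := zpowers_le.2 (mem_norm_of_conj_le (by
    simp only [conj_sup, conj_zpowers, sup_le_iff, zpowers_le]
    refine ⟨?_, ?_⟩
    · rw [T.E.zc y T.F.yP, mul_inv_cancel_right]; exact mem_sup_left (mem_zpowers z)
    · rw [T.symm.xy, mul_assoc, mul_inv_cancel_right]
      exact mul_mem (mem_sup_left (mem_zpowers z)) (mem_sup_right (mem_zpowers x))))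
  obtain ⟨k, hk, b, hb, rfl⟩ := (mem_join_norm h1).1 hd
  obtain ⟨e, he, a, ha, rfl⟩ := (mem_join_norm (norms_cycle (zpowers_le.2
    (mem_cent1.2 (T.E.zc x T.F'.yP))))).1 hk
  refine ⟨e, Fin5.mem_cycle2 T.E.zz he, ?_⟩
  rcases Fin5.mem_cycle2 T.F'.yy ha with rfl | rfl <;>
    rcases Fin5.mem_cycle2 T.F.yy hb with rfl | rfl <;> simp [mul_assoc]

theorem D_cent (hd : d ∈ dih z x y) (hc : d ∈ 𝐂[P]) : d = 1 ∨ d = z := by
  obtain ⟨e, he, h⟩ := T.mem_D hd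
  have h1 : e ∈ 𝐂[P] := by
    rcases he with rfl | rfl
    exacts [one_mem _, T.E.zc]
  rcases h with rfl | rfl | rfl | rfl
  · exact he
  · exact absurd ((mul_mem_cancel_left h1).1 hc) T.F'.yZ
  · exact absurd ((mul_mem_cancel_left h1).1 hc) T.F.yZ
  · exact absurd ((mul_mem_cancel_left h1).1 hc) T.xyZ

theorem D_inf (hd : d ∈ dih z x y) (hc : d ∈ C) : d = 1 :=
  (T.D_cent hd (T.F.le hc).2).resolve_right fun e => T.F.zC (e ▸ hc)

omit [Finite G] in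
theorem decomp (hu : u ∈ P) : ∃ d ∈ dih z x y, ∃ c ∈ 𝐙[P], u = d * c := by
  have key : ∀ u ∈ P, u * y = y * u → ∃ d ∈ dih z x y, ∃ c ∈ 𝐙[P], u = d * c := fun u hu e => by
    rcases T.F.rep T.E hu e with h | ⟨c, hc, h | h, -⟩
    · exact ⟨1, one_mem _, u, ⟨hu, h⟩, (one_mul u).symm⟩
    · exact ⟨y, T.yD, c, T.F.le hc, h⟩
    · exact ⟨z * y, mul_mem T.zD T.yD, c, T.F.le hc, by rw [h, mul_assoc]⟩
  by_cases e : u * y = y * u
  · exact key u hu e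
  obtain ⟨d, hd, c, hc, h⟩ := key _ (mul_mem T.F'.yP hu) (T.E.two T.F.yP T.F'.yP hu T.nc e)
  exact ⟨x * d, mul_mem T.xD hd, c, hc, by rw [mul_assoc, ← h, ← mul_assoc, T.F'.yy, one_mul]⟩

theorem rep (hu : u ∈ P) (h : InZ P u) : ∃ c ∈ 𝐙[P], IsConj c u ∧ (∃ d ∈ dih z x y, u = d * c) ∧
    (u = c ∨ z * c ∈ C ∨ z * c ∈ C') := by
  have key : ∀ {w : G} {K : Subgroup G}, Cf P z w K → w ∈ dih z x y → u * w = w * u →
      ∃ c ∈ 𝐙[P], IsConj c u ∧ (∃ d ∈ dih z x y, u = d * c) ∧ (u = c ∨ z * c ∈ K) :=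
    fun {w K} F hw e => by
      rcases F.rep T.E hu e with h | ⟨c, hc, h, h'⟩
      · exact ⟨u, ⟨hu, h⟩, IsConj.refl u, ⟨1, one_mem _, (one_mul u).symm⟩, .inl rfl⟩
      refine ⟨z * c, mul_mem ⟨T.E.zP, T.E.zc⟩ (F.le hc), h', ?_, .inr (by rwa [T.E.zmul])⟩
      rcases h with h | h
      · exact ⟨w * z, mul_mem hw T.zD, by rw [h, mul_assoc, T.E.zmul]⟩
      · exact ⟨w, hw, by rw [h, ← mul_assoc, ← mul_assoc, T.E.zc w F.yP]⟩
  rcases T.third hu h with e | e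
  · obtain ⟨c, h1, h2, h3, h4⟩ := key T.F' T.xD e
    exact ⟨c, h1, h2, h3, h4.imp_right .inr⟩
  · obtain ⟨c, h1, h2, h3, h4⟩ := key T.F T.yD e
    exact ⟨c, h1, h2, h3, h4.imp_right .inl⟩

theorem syl_cent (hu : u ∈ P) (h : ¬ InZ P u) : Syl 2 (P ⊓ 𝐂₁[u]) 𝐂₁[u] := by
  haveI := Fact.mk Nat.prime_two
  have hu' : u ∉ 𝐂[P] := fun e => h ⟨u, ⟨hu, e⟩, IsConj.refl u⟩
  refine max_pgroup_Sylow inf_le_right (T.syl.pgroup.to_le inf_le_left) fun X h1 h2 h3 => ?_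
  by_contra hne
  have h4 := card_mul_le_of_lt h3 (lt_of_le_of_ne h1 (Ne.symm hne))
  rw [card_cent_two T.syl.pgroup T.c4 hu hu'] at h4
  obtain ⟨g, -, e⟩ := Sylow_trans (T.syl.of_card_le le_top h3 (by rw [T.c4]; omega)) T.syl
  refine h ⟨g * u * g⁻¹, ?_, (isConj_iff.2 ⟨g, rfl⟩).symm⟩
  rw [e, center_conj, conj_mem_conj]
  exact ⟨h1 ⟨hu, mem_cent1.2 rfl⟩, le_cent1.1 h2⟩

theorem fus3 (hu : u ∈ P) (hv : v ∈ P) (h : ¬ InZ P u) (e : IsConj u v) :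
    ∃ n ∈ 𝐍[P], n * u * n⁻¹ = v := by
  haveI := Fact.mk Nat.prime_two
  have h' : ¬ InZ P v := fun h' => h (h'.conj e.symm)
  have hxy := mul_mem T.F'.yP T.F.yP
  have key : ∀ u ∈ P, ¬ InZ P u → P ⊓ 𝐂₁[u] = P ⊓ 𝐂₁[x * y] := fun u hu h => by
    have h1 := T.E.two hu T.F'.yP T.F.yP (fun e => h (T.F'.inZ T.E hu e.symm))
      fun e => h (T.F.inZ T.E hu e.symm)
    exact le_antisymm (fun a ha => ⟨ha.1, mem_cent1.2 (T.E.comm_of hu
      (fun e => h ⟨u, ⟨hu, e⟩, IsConj.refl u⟩) ha.1 hxy (mem_cent1.1 ha.2) h1)⟩) fun a ha =>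
      ⟨ha.1, mem_cent1.2 (T.E.comm_of hxy T.xyZ ha.1 hu (mem_cent1.1 ha.2) h1.symm)⟩
  obtain ⟨g, e⟩ := isConj_iff.1 e
  have h1 := (T.syl_cent hu h).conj g
  rw [← cent1_conj, e] at h1
  obtain ⟨k, hk, h2⟩ := Sylow_trans h1 (T.syl_cent hv h')
  rw [conj_conj, key u hu h, key v hv h'] at h2
  set A := P ⊓ 𝐂₁[x * y]
  have h3 : k * g * u * (k * g)⁻¹ = v := by
    calc k * g * u * (k * g)⁻¹ = k * (g * u * g⁻¹) * k⁻¹ := by group
      _ = _ := by rw [e, mem_cent1.1 hk, mul_inv_cancel_right]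
  generalize k * g = n at h2 h3
  have hz : n * z * n⁻¹ ∈ A := h2 ▸ conj_mem_conj.2 ⟨T.E.zP, mem_cent1.2 (T.E.zc _ hxy).symm⟩
  have hcj : IsConj z (n * z * n⁻¹) := isConj_iff.2 ⟨n, rfl⟩
  have h4 : n * z * n⁻¹ = z := by
    refine T.E.eq_of_conj T.syl ?_ hcj
    have h5 := mem_cent1.1 hz.2
    generalize n * z * n⁻¹ = t at *
    rcases T.third hz.1 ⟨z, ⟨T.E.zP, T.E.zc⟩, hcj⟩ with h6 | h6
    · refine T.cent_of h6 ?_ hz.1
      rwa [← mul_assoc, h6, mul_assoc, mul_assoc, mul_right_inj] at h5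
    · refine T.cent_of ?_ h6 hz.1
      rwa [mul_assoc, ← h6, ← mul_assoc, ← mul_assoc, mul_left_inj] at h5
  have E₂ := T.E.conj n
  rw [h4] at E₂
  have hP := T.E.le_gam (inf_le_left : A ≤ P)
  have h5 := (E₂.le_gam (h2 ▸ conj_le_conj.2 inf_le_left : A ≤ n •ᶜ P)).trans
    (gam_le T.E.zz T.syl hP)
  obtain ⟨m, hm, h6⟩ := Sylow_trans (T.syl.subl le_sup_right le_top)
    ((T.syl.conj_top n).subl h5 le_top)
  obtain ⟨c, hc, s, hs, rfl⟩ := (mem_join_norm (hP.trans (gam_norm T.E.zz))).1 hm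
  rw [← conj_conj, conj_eq_of_mem hs] at h6
  refine ⟨c⁻¹ * n, mem_norm_of_conj_le (by rw [← conj_conj, h6, conj_conj]; simp), ?_⟩
  calc c⁻¹ * n * u * (c⁻¹ * n)⁻¹ = c⁻¹ * (n * u * n⁻¹ * c) := by group
    _ = v := by rw [h3, hc.1 v ((key v hv h').le ⟨hv, mem_cent1.2 rfl⟩), inv_mul_cancel_left]

theorem R_le : ⁅𝐙[P], 𝐍[P]⁆ ≤ C := T.F.comm_le T.E fun _ hn => T.F.norm T.E hn (T.norm_y hn)

theorem focal (hG : commutator G = ⊤) : P ≤ dih z x y ⊔ ⁅𝐙[P], 𝐍[P]⁆ := by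
  haveI := Fact.mk Nat.prime_two
  have hR : ∀ n ∈ 𝐍[P], ∀ c ∈ 𝐙[P], n * c * n⁻¹ * c⁻¹ ∈ ⁅𝐙[P], 𝐍[P]⁆ := fun n hn c hc => by
    rw [commGC]; exact commutator_mem_commutator hn hc
  obtain ⟨S, hS⟩ := syl_top_iff.1 T.syl
  have := sylow_inf_commutator_le S (K := dih z x y ⊔ ⁅𝐙[P], 𝐍[P]⁆) fun u hu g hv => ?_
  · rwa [hG, inf_top_eq, hS] at this
  rw [hS] at hu hv
  have hcj : IsConj u (g * u * g⁻¹) := isConj_iff.2 ⟨g, rfl⟩
  generalize g * u * g⁻¹ = v at *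
  by_cases h : InZ P u
  · obtain ⟨c, hc, h1, ⟨d, hd, rfl⟩, -⟩ := T.rep hu h
    obtain ⟨c', hc', h2, ⟨d', hd', rfl⟩, -⟩ := T.rep hv (h.conj hcj)
    obtain ⟨n, hn, rfl⟩ := fus_center T.syl hc.2 hc'.2 (h1.trans (hcj.trans h2.symm))
    rw [mul_inv_rev, mul_assoc, ← mul_assoc _ c⁻¹]
    exact mul_mem (mem_sup_left hd') (mul_mem (mem_sup_right (hR n hn c hc))
      (mem_sup_left (inv_mem hd)))
  · obtain ⟨n, hn, rfl⟩ := T.fus3 hu hv h hcj
    obtain ⟨d, hd, c, hc, rfl⟩ := T.decomp hu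
    rw [← conj_mul, mul_inv_rev, mul_assoc, ← mul_assoc _ c⁻¹]
    exact mul_mem (mem_sup_left ((memJ_norm (T.norm_D hn)).2 hd)) (mul_mem
      (mem_sup_right (hR n hn c hc)) (mem_sup_left (inv_mem hd)))

theorem C_eq (hG : commutator G = ⊤) : C = ⁅𝐙[P], 𝐍[P]⁆ := le_antisymm (fun c hc => by
  obtain ⟨d, hd, r, hr, rfl⟩ := (mem_join_norm (cents_norm ((T.R_le.trans (T.F.le.trans
    inf_le_right)).trans (centS T.D_le)))).1 (T.focal hG (T.F.le hc).1)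
  rwa [T.D_inf hd ((mul_mem_cancel_right (T.R_le hr)).1 hc), one_mul]) T.R_le

theorem pfh (hG : commutator G = ⊤) : PFH P (dih z x y) C := by
  have hC := T.C_eq hG
  have hC' : C' = C := (T.symm.C_eq hG).trans hC.symm
  refine ⟨T.syl, ⟨T.D_le, fun d hd g hv => ?_⟩, ⟨T.F.le.trans inf_le_left, fun r hr g hv => ?_⟩,
    le_antisymm (sup_le T.D_le (T.F.le.trans inf_le_left)) (hC ▸ T.focal hG),
    eq_bot_iff.2 fun d hd => T.D_inf hd.1 hd.2, T.F.le.trans inf_le_right⟩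
  · have hcj : IsConj d (g * d * g⁻¹) := isConj_iff.2 ⟨g, rfl⟩
    generalize g * d * g⁻¹ = v at *
    by_cases h : InZ P d
    swap
    · obtain ⟨n, hn, rfl⟩ := T.fus3 (T.D_le hd) hv h hcj
      exact (memJ_norm (T.norm_D hn)).2 hd
    obtain ⟨c, hc, h1, ⟨d₁, hd₁, rfl⟩, -⟩ := T.rep (T.D_le hd) h
    obtain ⟨c', hc', h2, ⟨d', hd', rfl⟩, -⟩ := T.rep hv (h.conj hcj)
    obtain ⟨n, hn, rfl⟩ := fus_center T.syl hc.2 hc'.2 (h1.trans (hcj.trans h2.symm))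
    exact mul_mem hd' ((memJ_norm (T.norm_D hn)).2 ((mul_mem_cancel_left hd₁).1 hd))
  · have hcj : IsConj r (g * r * g⁻¹) := isConj_iff.2 ⟨g, rfl⟩
    generalize g * r * g⁻¹ = v at *
    obtain ⟨c, hc, h1, -, h2⟩ := T.rep hv ⟨r, T.F.le hr, hcj⟩
    obtain ⟨n, hn, rfl⟩ := fus_center T.syl (T.F.le hr).2 hc.2 (hcj.trans h1.symm)
    have h3 := (memJ_norm (T.F.norm T.E hn (T.norm_y hn))).2 hr
    rw [hC', or_self] at h2
    rcases h2 with h2 | h2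
    · exact h2 ▸ h3
    · exact absurd ((mul_mem_cancel_right h3).1 h2) T.F.zC

theorem d8 (hG : commutator G = ⊤) (hC : C = ⊥) : D8 P (x * y) x := by
  haveI := Fact.mk Nat.prime_two
  have h1 : 𝐙[P] = ⟪z⟫ := le_antisymm (fun c hc => by
    rcases T.F.dec c hc.1 hc.2 with h | h <;> rw [hC, mem_bot] at h
    · exact h ▸ one_mem _
    · exact inv_eq_of_mul_eq_one_right h ▸ inv_mem (mem_zpowers z)) (zpowers_le.2 ⟨T.E.zP, T.E.zc⟩)
  have h2 := (T.pfh hG).sup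
  rw [hC, sup_bot_eq] at h2
  refine ⟨orderOf_eq_prime_pow (p := 2) (n := 1) (by rw [pow_one, pow_two, T.sq]; exact T.E.z1)
    (by rw [show 2 ^ (1 + 1) = 2 * 2 from rfl, pow_mul, pow_two (x * y), T.sq, pow_two, T.E.zz]),
    orderOf_eq_prime (by rw [pow_two, T.F'.yy]) fun e => T.F'.yZ (e ▸ one_mem _), ?_, ?_, ?_⟩
  · rw [← mul_assoc, T.F'.yy, one_mul, mul_inv_rev, inv_eq_of_mul_eq_one_right T.F.yy]
  · refine le_antisymm (h2 ▸ sup_le (sup_le (zpowers_le.2 ?_) le_sup_right) (zpowers_le.2 ?_))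
      (sup_le (zpowers_le.2 (mul_mem T.F'.yP T.F.yP)) (zpowers_le.2 T.F'.yP))
    · exact T.sq ▸ mem_sup_left (mul_mem (mem_zpowers _) (mem_zpowers _))
    · simpa using mul_mem (inv_mem (mem_sup_right (mem_zpowers x)))
        (mem_sup_left (mem_zpowers (x * y)) : x * y ∈ ⟪x * y⟫ ⊔ ⟪x⟫)
  · rw [T.c4, h1, Nat.card_zpowers, orderOf_eq_prime (by rw [pow_two, T.E.zz]) T.E.z1]

end Two4

theorem cl4_of [Finite G] (hS : Syl 2 P ⊤) (h : Nat.card P ≤ 4 * Nat.card ↥𝐙[P]) : Cl4 G :=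
  fun Q hQ => by
  haveI := Fact.mk Nat.prime_two
  obtain ⟨g, -, hg⟩ := Sylow_Jsub hS le_top hQ
  rw [← card_conj g Q, ← card_conj g 𝐙[Q], ← center_conj]
  generalize g •ᶜ Q = R at hg
  have h1 := card_mul_relIndex (inf_le_left : 𝐙[P] ≤ P)
  have h2 := card_mul_relIndex (inf_le_left : R ⊓ 𝐙[P] ≤ R)
  have h3 : (R ⊓ 𝐙[P]).relIndex R ≤ (𝐙[P]).relIndex P := by
    rw [inf_relIndex_left]
    exact relIndex_le_of_le_right hg index_ne_zero_of_finite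
  have h4 : (𝐙[P]).relIndex P ≤ 4 :=
    Nat.le_of_mul_le_mul_left (by rw [h1, mul_comm]; exact h) Nat.card_pos
  have h5 : Nat.card ↥(R ⊓ 𝐙[P]) ≤ Nat.card ↥𝐙[R] :=
    card_le_of_le (inf_le_inf_left _ (inf_le_right.trans (centS hg)))
  rw [← h2, mul_comm]
  exact Nat.mul_le_mul (h3.trans h4) h5

theorem stA2 (hZ : StZ4.{u}) (hPF : StPF.{u}) : StA2.{u} := fun G _ _ _ P hS hn hc => by
  haveI := Fact.mk Nat.prime_two
  obtain ⟨z, E⟩ := exists_e4 hS.pgroup hn hc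
  have hcl := cl4_of hS hc.le
  have hcen : center G = ⊥ := (IsSimpleGroup.eq_bot_or_eq_top_of_normal _
    inferInstance).resolve_right fun e => hn (abelian_iff_forall.2 fun a _ b _ =>
      mem_center_iff.1 (e.ge (mem_top b)) a)
  have hcom : commutator G = ⊤ := (IsSimpleGroup.eq_bot_or_eq_top_of_normal _
    inferInstance).resolve_left fun e => hn (abelian_iff_forall.2 fun a _ b _ =>
      commutatorElement_eq_one_iff_mul_comm.1 (mem_bot.1 (e ▸ commutator_mem_commutator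
        (mem_top a) (mem_top b))))
  have oz : orderOf z = 2 := orderOf_eq_prime (by rw [pow_two, E.zz]) E.z1
  have hO : core {2}ᶜ (⊤ : Subgroup G) = ⊥ := (IsSimpleGroup.eq_bot_or_eq_top_of_normal _
    (normalIn_top.1 (pcore_normal _ _))).resolve_right fun e => piSub_compl.1 (pcore_pgroup {2}ᶜ ⊤)
      (oz ▸ Subgroup.orderOf_dvd_natCard _ (e.ge (mem_top z)))
  obtain ⟨t, h1, h2, h3⟩ : ∃ t, IsConj z t ∧ Commute z t ∧ t ≠ z := by
    by_contra h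
    push Not at h
    exact E.z1 (mem_bot.1 (hcen ▸ hZ G z hcl oz h hO))
  obtain ⟨k, hk, h4⟩ := Sylow_Jsub (hS.subl (le_cent1.2 E.zc) le_top)
    (zpowers_le.2 (mem_cent1.2 h2.eq.symm)) (IsPGroup.of_card (n := 1) (by
      obtain ⟨g, e⟩ := isConj_iff.1 h1
      rw [Nat.card_zpowers, ← e, pow_one]
      exact orderOf_eq_prime (by rw [pow_two, (E.conj g).zz]) (E.conj g).z1))
  rw [conj_zpowers, zpowers_le] at h4
  have h5 : IsConj z (k * t * k⁻¹) := h1.trans (isConj_iff.2 ⟨k, rfl⟩)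
  obtain ⟨y, C, F, -⟩ := exists_cf hS E hc h4 (fun h => h3 (by
    have := E.eq_of_conj hS h h5
    rwa [mul_inv_eq_iff_eq_mul, ← mem_cent1.1 hk, mul_right_inj] at this)) E.zc h5
  obtain ⟨u, hu, hy, c, hc', h6⟩ : ∃ u ∈ P, u * y ≠ y * u ∧ InZ P u := by
    by_contra hcon
    push Not at hcon
    obtain ⟨S, rfl⟩ := syl_top_iff.1 hS
    have := sylow_inf_commutator_le S (K := 𝐂₁[y]) fun u hu g hv => ?_
    · rw [hcom, inf_top_eq] at this
      exact F.yZ (le_cent1.1 this)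
    have hcj : IsConj u (g * u * g⁻¹) := isConj_iff.2 ⟨g, rfl⟩
    generalize g * u * g⁻¹ = v at *
    by_cases h : u * y = y * u
    · refine mul_mem (mem_cent1.2 ?_) (inv_mem (mem_cent1.2 h))
      by_contra h'
      exact hcon v hv h' ((F.inZ E hu h).conj hcj)
    · refine mem_cent1.2 (E.two F.yP hv (inv_mem hu) (fun h' => ?_) fun h' => h ?_)
      · exact hcon u hu h ((F.inZ E hv h').conj hcj.symm)
      · exact mem_cent1.1 (inv_mem_iff.1 (mem_cent1.2 h'))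
  have hu' : u ∉ 𝐂[P] := fun h => hy (h y F.yP).symm
  obtain ⟨x, C', F', e⟩ := exists_cf hS E hc hu hu' hc'.2 h6
  have T : Two4 P z x y C C' :=
    ⟨hS, hc, E, F, F', fun h => hy (E.comm_of F'.yP F'.yZ hu F.yP e.symm h.symm)⟩
  refine ⟨_, _, T.d8 hcom (eq_bot_iff.2 ?_)⟩
  have h7 := hPF G hcl P _ C (T.pfh hcom)
  rw [hO, le_bot_iff, (IsSimpleGroup.eq_bot_or_eq_top_of_normal (ncl (dih z x y) ⊤)
    (normalIn_top.1 ⟨le_top, ncl_norm _ _⟩)).resolve_left fun e =>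
      E.z1 (mem_bot.1 (e ▸ le_ncl _ _ T.zD)), commG1P'] at h7
  exact hcen ▸ (le_ncl C ⊤).trans (by rwa [coe_top, centralizer_univ] at h7)

end Cfsg.GW
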