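import Cfsg.Agent.GW.A7a
import Cfsg.Agent.GW.Defs2
import Cfsg.Agent.Gag.Conj
import Cfsg.Agent.Acd.D2
import Cfsg.Agent.Blk.SmallSimple

/-! Recognition of `A₇`. -/

set_option autoImplicit false
set_option linter.unusedSectionVars false

namespace Cfsg.GW

open Subgroup Cfsg.FT Cfsg.Gag Cfsg.Gag.Fin5 Cfsg.Acd.DD
open scoped Pointwise

universe u

variable {G : Type u} [Group G] [Finite G] {S P H T : Subgroup G} {f x u g v y : G}

namespace A7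

theorem syl_mod {p : ℕ} [Fact p.Prime] (h : Syl p P H) : 𝐍[P].relIndex H ≡ 1 [MOD p] := by
  obtain ⟨Q, e⟩ := h.exists_sylow
  have := card_sylow_modEq_one p H
  rwa [Q.card_eq_index_normalizer, ← Sylow.coe_coe, e, norm_subgroupOf h.le] at this

theorem klein_mul_cube (hT : Klein T) (hy : y ∈ 𝐍[T]) (y3 : y ^ 3 = 1) (hc : y ∉ 𝐂[T])
    (hv : v ∈ T) : (y * v) ^ 3 = 1 := by
  have m : (y * v) ^ 3 ∈ T := by
    have b1 := (memJ_norm hy).2 hv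
    have b2 := (memJ_norm hy).2 b1
    convert mul_mem (mul_mem b1 b2) ((memJ_norm hy).2 b2) using 1
    rw [← mul_one (_ * _ * _), ← y3]
    simp only [pow_succ, pow_zero]
    group
  refine by_contra fun e => hc (klein_fix hT hy (Odd.of_dvd_nat (by decide)
    (orderOf_dvd_of_pow_eq_one y3)) m e ?_)
  simpa using ((Commute.refl (y * v)).pow_right 3).mul_left
    (show Commute v⁻¹ _ from comm_of_abelian (klein_ab hT) (inv_mem hv) m)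

theorem d8_dih (h : D8 S f x) : IsDih S f x 2 :=
  IsDih.of_card two_pos h.of (d8_fA h) (d8_xA h) (d8_xx h) h.inv
    (fun e => d8_nc h (comm_of_abelian (cycle_abelian f) (mem_zpowers f) e)) h.card

/-- the local configuration at the involution `f ^ 2` -/
structure Cf (S : Subgroup G) (f x u : G) : Prop where
  syl : Syl 2 S ⊤
  d8 : D8 S f x
  ou : orderOf u = 3
  sd : SDProd ⟪u⟫ S 𝐂₁[f ^ 2]
  xu : x * u = u * x
  fu : f * u * f⁻¹ = u⁻¹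

namespace Cf
variable (h : Cf S f x u)
include h

theorem cj (g : G) : Cf (g •ᶜ S) (g * f * g⁻¹) (g * x * g⁻¹) (g * u * g⁻¹) := by
  have o : ∀ a, orderOf (g * a * g⁻¹) = orderOf a := fun a =>
    orderOf_eq_of_isConj (isConj_iff.2 ⟨g, rfl⟩)
  refine ⟨h.syl.conj_top g, ⟨(o f).trans h.d8.of, (o x).trans h.d8.ox, ?_, ?_,
    (card_conj g S).trans h.d8.card⟩, (o u).trans h.ou, ?_, ?_, ?_⟩
  · rw [conj_mul, conj_inv, conj_mul, h.d8.inv, conj_inv]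
  · rw [h.d8.gen, conj_sup, conj_zpowers, conj_zpowers]
  · rw [conj_pow, cent1_conj, ← conj_zpowers]; exact h.sd.conj g
  · rw [conj_mul, h.xu, conj_mul]
  · rw [conj_mul, conj_inv, conj_mul, h.fu, conj_inv]

theorem cu : Nat.card ⟪u⟫ = 3 := (Nat.card_zpowers u).trans h.ou

theorem u3 : u ^ 3 = 1 := h.ou ▸ pow_orderOf_eq_one u

theorem u1 : u ≠ 1 := by rintro rfl; simpa using h.ou

theorem odd_mem (hg : g ∈ 𝐂₁[f ^ 2]) (ho : Odd (orderOf g)) : g ∈ ⟪u⟫ :=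
  (mem_normal_Hall (h.sd.hall_iff.2 ⟨piSub_compl.2 (by rw [h.cu]; decide), by
    simpa using piSub_singleton.2 h.syl.pgroup⟩) h.sd.normal hg).2 (odd_iff.2 ho)

theorem cardH : Nat.card 𝐂₁[f ^ 2] = 24 := by rw [← sdprod_card h.sd, h.cu, h.d8.card]

theorem uV : u ∈ 𝐂[⟪f ^ 2⟫ ⊔ ⟪x⟫] := by
  rw [centY, cent_cycle, cent_cycle]
  exact ⟨h.sd.left_le (mem_zpowers u), mem_cent1.2 h.xu.symm⟩

theorem odd_mem' (hg : g ∈ 𝐂[⟪f ^ 2⟫ ⊔ ⟪x⟫]) (ho : Odd (orderOf g)) : g ∈ ⟪u⟫ :=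
  h.odd_mem (cent_le_cent1 d8_cT hg) ho

variable [IsSimpleGroup G] (hG : Nat.card G = 2520) (nA : ¬ IsA7 G)
include hG

theorem perf : commutator G = ⊤ := commutator_eq_top_of_simple ⟨f, x, d8_nc h.d8⟩

theorem at_inv (hv : orderOf v = 2) : ∃ S f x u, Cf S f x u ∧ f ^ 2 = v := by
  obtain ⟨g, rfl⟩ := isConj_iff.1 ((stConj G S (h.perf hG) h.syl (Or.inr ⟨f, x, h.d8⟩)).1 _ _
    (d8_oc h.d8) hv)
  exact ⟨_, _, _, _, h.cj g, conj_pow⟩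

theorem cardP (hP : Syl 3 P ⊤) : Nat.card P = 9 := by
  rw [card_Syl hP, card_top, hG]; decide +kernel

include nA

theorem cardM : Nat.card 𝐍[⟪u⟫] = 72 := by
  obtain ⟨P, hP, l⟩ := Sylow_superset (p := 3) (H := ⊤) le_top (IsPGroup.of_card (n := 1) h.cu)
  have c := h.cardP hG hP
  obtain ⟨k, hk⟩ := (show Nat.Coprime 8 9 by decide).mul_dvd_of_dvd_of_dvd
    (h.d8.card ▸ card_dvd_of_le h.sd.norm)
    (c ▸ card_dvd_of_le (sub_abelian_norm (card_p2group_abelian (p := 3) c) l))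
  have i := (𝐍[⟪u⟫]).card_mul_index
  have : ¬ 𝐍[⟪u⟫].index ≤ 7 := fun e => by
    rcases (norm_eq_top.1 ((alt_of_index hG e).resolve_right nA)).eq_bot_or_eq_top with e | e
    · exact h.u1 (zpowers_eq_bot.1 e)
    · have := h.cu
      rw [e, card_top, hG] at this
      omega
  rw [hk, hG] at i
  have : k ≤ 4 := by nlinarith
  interval_cases k <;> omega

theorem normV : 𝐍[⟪f ^ 2⟫ ⊔ ⟪x⟫] = 𝐍[⟪u⟫] := by
  have l : 𝐍[⟪f ^ 2⟫ ⊔ ⟪x⟫] ≤ 𝐍[⟪u⟫] := fun n hn => mem_norm_of_conj_le (by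
    rw [conj_zpowers, zpowers_le]
    exact h.odd_mem' ((memJ_norm (cent_norm _ hn)).2 h.uV) (odd_conj (by rw [h.ou]; decide) n))
  have l' : 𝐂₁[f ^ 2] ≤ 𝐍[⟪f ^ 2⟫ ⊔ ⟪x⟫] :=
    h.sd.sup_eq ▸ sup_le (zpowers_le.2 (cent_sub _ h.uV)) (d8_AN h.d8)
  obtain ⟨g, hg⟩ := isConj_iff.1 (Cj.d8_x (h.perf hG) h.syl h.d8)
  obtain ⟨n, hn, n2⟩ := d8_exists_three h.d8 h.syl (mem_top g) hg
  obtain ⟨k, hk⟩ := h.cardH ▸ card_dvd_of_le l'
  obtain ⟨j, hj⟩ := h.cardM hG nA ▸ card_dvd_of_le l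
  refine card_eq_of_le l ?_
  have : k ≠ 1 := fun e => n2 (by
    obtain ⟨ρ, h1, h2⟩ := klein_rep (d8_klein h.d8)
    obtain ⟨i, hi⟩ := h2 ⟨n, hn.2⟩ _ d8_cT (d8_c_ne h.d8)
      (mem_cent1.1 ((card_eq_of_le l' (by rw [hk, e, h.cardH])).ge hn.2))
    exact (h1 (⟨n, hn.2⟩ ^ 2)).1 (by rw [map_pow]; exact perm3_fix _ i hi))
  rw [hk] at hj
  have : k ≤ 3 := Nat.le_of_dvd (by decide) ⟨j, by nlinarith⟩
  rw [hk, h.cardM hG nA]
  interval_cases k <;> omega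

theorem cardMP (hP : Syl 3 P ⊤) (hu : u ∈ P) : Nat.card ↥(𝐍[P] ⊓ 𝐍[⟪u⟫]) = 18 := by
  have c := h.cardP hG hP
  have l := sub_abelian_norm (card_p2group_abelian (p := 3) c) (zpowers_le.2 hu)
  have m := syl_mod (hP.subl l le_top)
  have e := card_mul_relIndex (inf_le_right (a := 𝐍[P]) (b := 𝐍[⟪u⟫]))
  obtain ⟨k, hk⟩ := c ▸ card_dvd_of_le (le_inf (normG P) l)
  rw [inf_relIndex_right, h.cardM hG nA, hk] at e
  have : 𝐍[P].relIndex 𝐍[⟪u⟫] ≠ 1 := fun e => by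
    have := h.cardH ▸ c ▸ card_dvd_of_le ((cents_of_TI (h.normV hG nA ▸ l)
      ((h.normV hG nA ▸ normG _).trans (relIndex_eq_one.1 e)) (coprime_TIg (by
        rw [c, (d8_klein h.d8).1]; decide))).trans (cent_le_cent1 d8_cT))
    omega
  have : k ≤ 8 := Nat.le_of_dvd (by decide) ⟨𝐍[P].relIndex 𝐍[⟪u⟫], by nlinarith⟩
  rw [hk]
  rw [Nat.ModEq] at m
  interval_cases k <;> omega

theorem inv_syl (hP : Syl 3 P ⊤) (hu : u ∈ P) (hv : v ∈ 𝐍[P] ⊓ 𝐍[⟪u⟫]) (ov : orderOf v = 2) :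
    ∀ z ∈ P, v * z * v⁻¹ = z⁻¹ := fun z => by
  have c := h.cardP hG hP
  have k := d8_klein h.d8
  have v2 := mul_self_eq_one_of_orderOf_two ov
  have eV := h.normV hG nA
  have PV : P ≤ 𝐍[⟪f ^ 2⟫ ⊔ ⟪x⟫] :=
    eV ▸ sub_abelian_norm (card_p2group_abelian (p := 3) c) (zpowers_le.2 hu)
  have n1 : v ∉ ⟪f ^ 2⟫ ⊔ ⟪x⟫ := fun e => by
    obtain ⟨_, f', _, _, h', rfl⟩ := h.at_inv hG ov
    have := h'.cardH ▸ c ▸ card_dvd_of_le (H := P) (K := 𝐂₁[f' ^ 2]) fun y hy => mem_cent1.2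
      (commutatorElement_eq_one_iff_mul_comm.1 (mem_bot.1 ((coprime_TIg (A := P) (by
        rw [c, k.1]; decide)).le ⟨by
          simpa [commutatorElement_def, mul_assoc] using mul_mem hy ((memJ_norm hv.1).2 (inv_mem hy)),
          mul_mem ((memJ_norm (PV hy)).2 e) (Subgroup.inv_mem _ e)⟩)))
    omega
  have n2 : v ∉ 𝐂[⟪f ^ 2⟫ ⊔ ⟪x⟫] := fun e => n1 (zpowers_le.1 ((d8_syl_cent h.d8 h.syl).le_of_norms'
    (two_cycle v2) (zpowers_le.2 ⟨trivial, e⟩) (zpowers_le.2 (cent_sub _ e))))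
  have n3 : v ∉ 𝐂₁[u] := fun e => n1 (zpowers_le.1 (Syl.le_of_norms' (M := 𝐂₁[u])
    ⟨le_cent1.2 h.uV, klein_pgroup k, fun d => ?_⟩ (two_cycle v2) (zpowers_le.2 e)
    (zpowers_le.2 (eV ▸ hv.2))))
  · refine inv_of_fpf hv.1 v2 fun y hy e => by_contra fun y1 => ?_
    have oy : Odd (orderOf y) := odd_of_mem (by rw [c]; decide) hy
    by_cases yc : y ∈ 𝐂[⟪f ^ 2⟫ ⊔ ⟪x⟫]
    · rcases mem_cycle3 h.u3 (h.odd_mem' yc oy) with rfl | rfl | rfl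
      · exact y1 rfl
      · exact n3 (mem_cent1.2 e)
      · exact n3 (cent1_inv u ▸ mem_cent1.2 e)
    · have := klein_inv k (PV hy) (eV ▸ hv.2) oy (by rw [sq v, v2]; exact one_mem _) n2
      rw [e, mul_inv_cancel_right, ← sq] at this
      exact yc (mem_of_sq_odd oy this)
  have a := card_mul_relIndex (le_cent1.2 h.uV)
  have b := card_mul_relIndex (cent_cycle u ▸ cent_sub ⟪u⟫)
  have i := Nat.le_of_dvd (by decide) (h.cu ▸ cent_cycle u ▸ index_cent_prime_dvd (K := ⟪u⟫)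
    (by rw [h.cu]; decide) le_rfl)
  have j : 𝐂₁[u].relIndex 𝐍[⟪u⟫] ≠ 1 := fun e => h.u1 (eq_one_of_inv (by rw [h.ou]; decide) (by
    rw [← h.fu, mem_cent1.1 (relIndex_eq_one.1 e (norm_of_inv h.fu)), mul_inv_cancel_right]))
  rw [h.cardM hG nA, ← a, k.1] at b
  generalize 𝐂₁[u].relIndex 𝐍[⟪u⟫] = r at *
  interval_cases r <;> omega

theorem false : False := by
  obtain ⟨P, hP, l⟩ := Sylow_superset (p := 3) (H := ⊤) le_top (IsPGroup.of_card (n := 1) h.cu)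
  have hu := zpowers_le.1 l
  have c := h.cardP hG hP
  have ab := card_p2group_abelian (p := 3) c
  have k := d8_klein h.d8
  have eV := h.normV hG nA
  have PV : P ≤ 𝐍[⟪f ^ 2⟫ ⊔ ⟪x⟫] := eV ▸ sub_abelian_norm ab l
  have c18 := h.cardMP hG nA hP hu
  obtain ⟨s, hs, os⟩ := Cauchy Nat.prime_two (c18 ▸ (by decide : 2 ∣ 18))
  have s2 := mul_self_eq_one_of_orderOf_two os
  have si := h.inv_syl hG nA hP hu hs os
  have su : s * u ≠ u * s := fun e => h.u1 (eq_one_of_inv (by rw [h.ou]; decide) (by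
    rw [← si u hu, e, mul_inv_cancel_right]))
  have c36 : Nat.card 𝐍[P] = 36 := by
    have e := card_support_normedTI (S := {u}) (H := 𝐍[P]) (L := 𝐍[P] ⊓ 𝐂₁[u])
      ⟨Set.singleton_nonempty u, inf_le_left, by
        rintro _ rfl g hg
        rw [Set.mem_singleton_iff, mul_inv_eq_iff_eq_mul, mem_inf, mem_cent1, and_iff_right hg]⟩
    have e8 : (classSupp {u} 𝐍[P]).ncard ≤ (nz P).ncard := Set.ncard_le_ncard (by
      rintro _ ⟨_, rfl, g, hg, rfl⟩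
      exact ⟨(memJ_norm hg).2 hu, mt conj_eq_one_iff.1 h.u1⟩)
    have l' : 𝐍[P] ⊓ 𝐂₁[u] ≤ 𝐍[P] ⊓ 𝐍[⟪u⟫] := inf_le_inf_left _ (cent_cycle u ▸ cent_sub _)
    obtain ⟨j, hj⟩ := c18 ▸ card_dvd_of_le l'
    have : j ≠ 1 := fun e => su (mem_cent1.1 ((card_eq_of_le l' (by rw [c18, hj, e, mul_one])).ge hs).2)
    have e9 : Nat.card ↥(𝐍[P] ⊓ 𝐂₁[u]) ≤ 9 := by
      rcases j with _ | _ | j
      · omega
      · omega
      · nlinarith
    rw [e, card_nz, c, Set.ncard_singleton, one_mul] at e8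
    have e72 := (card_mul_relIndex (inf_le_left (a := 𝐍[P]))).ge.trans (Nat.mul_le_mul e9 e8)
    obtain ⟨i, hi⟩ := c18 ▸ card_dvd_of_le (inf_le_left (a := 𝐍[P]))
    have m := syl_mod hP
    have n := (𝐍[P]).card_mul_index
    rw [relIndex_top_right, Nat.ModEq] at m
    rw [hi, hG] at n
    have : i ≤ 4 := by omega
    interval_cases i <;> omega
  obtain ⟨R, hR, sR⟩ := Sylow_superset (p := 2) (zpowers_le.2 hs.1) (two_cycle s2)
  have cR : Nat.card R = 2 ^ 2 := by rw [card_Syl hR, c36]; decide +kernel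
  have nR : ∀ {S f x u R}, Cf S f x u → u ∈ P → R ≤ 𝐍[P] → Nat.card R = 4 → ¬ R ≤ 𝐍[⟪u⟫] :=
    fun h hu l c e => by
      have := c ▸ h.cardMP hG nA hP hu ▸ card_dvd_of_le (le_inf l e)
      omega
  obtain ⟨τ, τR, τu⟩ := SetLike.not_le_iff_exists.1 (nR h hu hR.le cR)
  have aR := card_p2group_abelian cR
  have τs : τ * s = s * τ := comm_of_abelian aR τR (zpowers_le.1 sR)
  have hy : τ * u * τ⁻¹ ∈ P := (memJ_norm (hR.le τR)).2 hu
  have yu : τ * u * τ⁻¹ ∉ ⟪u⟫ := fun e => τu (mem_norm_of_conj_le (by rwa [conj_zpowers, zpowers_le]))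
  have op : ∀ z ∈ P, Odd (orderOf z) := fun z => odd_of_mem (by rw [c]; decide)
  have ττ : τ * τ = s := by
    have i := card_mul_relIndex sR
    rw [Nat.card_zpowers, os, cR] at i
    have := pow_relIndex_mem' (sub_abelian_normal aR sR) τR
    rw [show ⟪s⟫.relIndex R = 2 by omega, sq] at this
    refine (mem_cycle2 s2 this).resolve_left fun e => ?_
    have oτ := ord_two (by rintro rfl; exact τu (one_mem _)) e
    obtain ⟨_, f', _, u', h', e'⟩ := h.at_inv hG oτ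
    have hz := mul_mem hu hy
    have z1 : u * (τ * u * τ⁻¹) ≠ 1 := fun e =>
      yu (eq_inv_of_mul_eq_one_right e ▸ inv_mem (mem_zpowers u))
    have hu' : u' ∈ P := by
      rcases mem_cycle3 h'.u3 (h'.odd_mem (e'.symm ▸ mem_cent1.2 (show _ * τ = τ * _ by
        nth_rw 2 [comm_of_abelian ab hu hy]
        simp [← mul_assoc, e, inv_eq_of_mul_eq_one_right e, mul_assoc _ τ τ])) (op _ hz))
        with e | e | e
      · exact absurd e z1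
      · exact e ▸ hz
      · exact inv_mem_iff.1 (e ▸ hz)
    exact nR h' hu' ((sup_le sR (zpowers_le.2 τR)).trans hR.le) (klein_of_inv aR ⟨zpowers_le.1 sR, os⟩
      ⟨τR, oτ⟩ fun e => τu (e ▸ hs.2)).1 (sup_le (zpowers_le.2 (norm_of_inv (si _ hu')))
        (norms_cycle (zpowers_le.2 (cent1C.1 (e' ▸ h'.sd.left_le (mem_zpowers u'))))))
  have s' := inv_eq_of_mul_eq_one_right s2
  obtain ⟨z, zV, z1, zs⟩ : ∃ z ∈ ⟪f ^ 2⟫ ⊔ ⟪x⟫, z ≠ 1 ∧ s * z = z * s := by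
    by_cases e : s * f ^ 2 = f ^ 2 * s
    · exact ⟨_, d8_cT, d8_c_ne h.d8, e⟩
    have m := (memJ_norm (eV ▸ hs.2)).2 (d8_cT (f := f) (x := x))
    refine ⟨_, mul_mem d8_cT m, fun e' => e (mul_inv_eq_iff_eq_mul.1 ?_), ?_⟩
    · rw [eq_inv_of_mul_eq_one_right e', d8_cinv h.d8]
    · nth_rw 1 [comm_of_abelian (klein_ab k) d8_cT m]
      simp [← mul_assoc, s2, s', mul_assoc _ s s]
  have z2 := k.2 z zV
  have zu : z * u = u * z := mem_cent.1 h.uV z zV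
  have r23 : (z * (s * (τ * z * τ⁻¹))) ^ 3 = 1 := by
    obtain ⟨g, -, hg⟩ := Sylow_subJ h.syl le_top (hR.pgroup.to_le (zpowers_le.2 τR))
    obtain ⟨S', f', x', u', h', τS⟩ : ∃ S f x u, Cf S f x u ∧ τ ∈ S :=
      ⟨_, _, _, _, h.cj g, zpowers_le.1 hg⟩
    have d := d8_dih h'.d8
    have τf : τ ∈ ⟪f'⟫ := by_contra fun e => by
      rw [← ττ, d.mul_self_of_notMem τS e] at os
      simp at os
    have e' : s = f' ^ 2 := d.eq_J (ττ ▸ mul_mem τf τf) os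
    obtain ⟨w, hw, σ, hσ, rfl⟩ := h'.sd.exists_mul (e' ▸ mem_cent1.2 zs.symm)
    have w3 : ∀ w ∈ ⟪u'⟫, w ^ 3 = 1 := fun w hw => orderOf_dvd_iff_pow_eq_one.1
      (h'.cu ▸ orderOf_dvd_natCard _ hw)
    have σ2 : σ * σ = 1 := (eq_of_mul_eq_of_TI h'.sd.inf_eq (mul_mem hw ((memJ_norm (h'.sd.norm hσ)).2
      hw)) (one_mem _) (mul_mem hσ hσ) (one_mem _) ((by group : _ = w * σ * (w * σ)).trans
        (z2.trans (mul_one 1).symm))).2
    have sS : s ∈ S' := e' ▸ pow_mem (d8_fA h'.d8) 2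
    have σs : σ * s = s * σ := mem_cent.1 (e' ▸ d8_cA h'.d8) σ hσ
    have σf : σ ∉ ⟪f'⟫ := fun e => by
      have wσ : w * σ = σ * w := by
        by_cases σ1 : σ = 1
        · simp [σ1]
        · exact mem_cent1.1 (d.eq_J e (ord_two σ1 σ2) ▸ h'.sd.left_le hw)
      have w1 : w = 1 := by
        have : w * w = 1 := by
          rwa [mul_assoc, ← mul_assoc σ, ← wσ, mul_assoc, σ2, mul_one] at z2
        simpa [pow_succ, this] using w3 w hw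
      by_cases σ1 : σ = 1
      · exact z1 (by rw [w1, σ1, mul_one])
      · exact su (by rwa [w1, one_mul, d.eq_J e (ord_two σ1 σ2), ← e'] at zu)
    refine w3 _ ?_
    convert mul_mem hw ((memJ_norm (h'.sd.norm (mul_mem hσ sS))).2
      ((memJ_norm (h'.sd.norm τS)).2 hw)) using 1
    have := d.conj_of_notMem hσ σf (inv_mem τf)
    calc _ = w * (σ * s * (τ * w * τ⁻¹) * (τ * (σ * τ⁻¹ * σ⁻¹) * σ)) := by group
      _ = _ := by rw [this, inv_inv, ττ, mul_inv_rev, s', inv_eq_of_mul_eq_one_right σ2]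
  have yV : τ * u * τ⁻¹ ∉ 𝐂[⟪f ^ 2⟫ ⊔ ⟪x⟫] := fun e => yu (h.odd_mem' e (op _ hy))
  have y3 : (τ * u * τ⁻¹) ^ 3 = 1 := by rw [conj_pow, h.u3, mul_one, mul_inv_cancel]
  have vs : s * (τ * z * τ⁻¹) = τ * z * τ⁻¹ * s := by
    rw [← mul_assoc, ← mul_assoc, ← τs, mul_assoc τ, zs, ← ττ]; group
  have v2 := sq_conj z2 τ
  have vy : τ * z * τ⁻¹ * (τ * u * τ⁻¹) = τ * u * τ⁻¹ * (τ * z * τ⁻¹) := by rw [conj_mul, zu, conj_mul]
  have uτ : τ⁻¹ * u * τ = (τ * u * τ⁻¹)⁻¹ := by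
    rw [← si _ hy, ← s', ← ττ]
    group
  have uN : u ∈ 𝐍[τ •ᶜ (⟪f ^ 2⟫ ⊔ ⟪x⟫)] := by rw [norm_conj, mem_conj, uτ]; exact inv_mem (PV hy)
  have uC : u ∉ 𝐂[τ •ᶜ (⟪f ^ 2⟫ ⊔ ⟪x⟫)] := by rwa [cent_conj, mem_conj, uτ, inv_mem_iff]
  have vV := (conj_mem_conj (g := τ)).2 zV
  have v1 : τ * z * τ⁻¹ ≠ 1 := mt conj_eq_one_iff.1 z1
  have k' := klein_conj k τ
  generalize τ * u * τ⁻¹ = y at *
  generalize τ * z * τ⁻¹ = v at *
  have us : s * u * s = u⁻¹ := by simpa only [s'] using si u hu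
  have vu := klein_mul_cube k' uN h.u3 uC vV
  obtain ⟨m1, m2⟩ := moore (a := y) (b := z) (c := s * v) (d := s * u) (e := s)
    y3 z2 (by rw [mul_assoc, ← mul_assoc v, ← vs, mul_assoc s, v2, mul_one, s2])
    (by rw [← mul_assoc, us, inv_mul_cancel]) s2 (klein_mul_cube k (PV hy) y3 yV zV) r23
    (by rw [vs, mul_assoc, ← mul_assoc s, s2, one_mul, show v * u = v * (u * v) * v⁻¹ by group,
      conj_pow, vu, mul_one, mul_inv_cancel]) (by rw [us, inv_pow, h.u3, inv_one])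
    (by rw [← si y hy, mul_assoc s, vy]; group)
    (by rw [← si y hy, mul_assoc s, comm_of_abelian ab hu hy]; group) (si _ hy)
    (by rw [mul_assoc, ← zu, ← mul_assoc, zs, mul_assoc]) zs (by rw [mul_assoc s, ← vs])
  set L := ⟪y⟫ ⊔ ⟪z⟫ ⊔ ⟪s * v⟫ ⊔ ⟪s * u⟫
  have sL : s ∈ L ⊔ ⟪s⟫ := mem_sup_right (mem_zpowers s)
  have yL : y ∈ L ⊔ ⟪s⟫ := mem_sup_left (mem_sup_left (mem_sup_left (mem_sup_left (mem_zpowers y))))
  have zL : z ∈ L ⊔ ⟪s⟫ := mem_sup_left (mem_sup_left (mem_sup_left (mem_sup_right (mem_zpowers z))))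
  have vL : v ∈ L ⊔ ⟪s⟫ :=
    (mul_mem_cancel_left sL).1 (mem_sup_left (mem_sup_left (mem_sup_right (mem_zpowers _))))
  have uL : u ∈ L ⊔ ⟪s⟫ := (mul_mem_cancel_left sL).1 (mem_sup_left (mem_sup_right (mem_zpowers _)))
  have VL : ⟪f ^ 2⟫ ⊔ ⟪x⟫ ≤ (L ⊔ ⟪s⟫) ⊓ 𝐍[⟪u⟫] := le_inf (fun a ha => by
    have m := mul_mem (mul_mem yL zL) (inv_mem yL)
    rcases Cj.klein_mem k zV ((memJ_norm (PV hy)).2 zV) z1 (mt conj_eq_one_iff.1 z1) (fun e => yV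
      (klein_fix k (PV hy) (op y hy) zV z1 (mul_inv_eq_iff_eq_mul.1 e.symm))) ha with
      rfl | rfl | rfl | rfl
    exacts [one_mem _, zL, m, mul_mem m zL]) (eV ▸ normG _)
  have d9 : 9 ∣ Nat.card ↥((L ⊔ ⟪s⟫) ⊓ 𝐍[⟪u⟫]) := by
    have l1 : ⟪u⟫ ≤ P ⊓ ((L ⊔ ⟪s⟫) ⊓ 𝐍[⟪u⟫]) := le_inf l (le_inf (zpowers_le.2 uL) (normG _))
    obtain ⟨j, hj⟩ := h.cu ▸ card_dvd_of_le l1
    obtain ⟨i, hi⟩ := c ▸ card_dvd_of_le (inf_le_left (a := P) (b := (L ⊔ ⟪s⟫) ⊓ 𝐍[⟪u⟫]))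
    have : j ≠ 1 := fun e => yu ((card_eq_of_le l1 (by rw [hj, e, h.cu])).ge ⟨hy, yL, eV ▸ PV hy⟩)
    refine Dvd.dvd.trans ?_ (card_dvd_of_le (inf_le_right (a := P)))
    rw [hj] at hi ⊢
    have : j ≤ 3 := Nat.le_of_dvd (by decide) ⟨i, by nlinarith⟩
    interval_cases j <;> omega
  have d2 : 2 ∣ (⟪f ^ 2⟫ ⊔ ⟪x⟫).relIndex ((L ⊔ ⟪s⟫) ⊓ 𝐍[⟪u⟫]) := by_contra fun d => su
    (mem_cent.1 h.uV s (zpowers_le.1 (Syl.le_of_norms' ⟨VL, klein_pgroup k, d⟩ (two_cycle s2)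
      (zpowers_le.2 ⟨sL, hs.2⟩) (zpowers_le.2 (eV ▸ hs.2)))))
  have ML : 𝐍[⟪u⟫] ≤ L ⊔ ⟪s⟫ := inf_eq_right.1 (card_eq_of_le inf_le_right (Nat.le_of_dvd
    Nat.card_pos (h.cardM hG nA ▸ (show Nat.Coprime 8 9 by decide).mul_dvd_of_dvd_of_dvd (by
      rw [← card_mul_relIndex VL, k.1]; exact Nat.mul_dvd_mul_left 4 d2) d9)))
  have i1 := relIndex_mul_index ML
  have i2 := (𝐍[⟪u⟫]).card_mul_index
  have i3 : 𝐍[⟪u⟫].relIndex (L ⊔ ⟪s⟫) ≠ 1 := fun e => uC (klein_fix k' uN (op u hu) vV v1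
    (commutatorElement_eq_one_iff_commute.1 (mem_bot.1 ((coprime_TIg (A := ⟪u⟫) (by
      rw [h.cu, k'.1]; decide)).le ⟨by
        simpa [commutatorElement_def, mul_assoc] using mul_mem (mem_zpowers u)
          ((memJ_norm (relIndex_eq_one.1 e vL)).2 (inv_mem (mem_zpowers u))),
        mul_mem ((memJ_norm uN).2 vV) (Subgroup.inv_mem _ vV)⟩))))
  rw [h.cardM hG nA, hG, ← i1] at i2
  have i4 : (L ⊔ ⟪s⟫).index ≤ 7 := by
    have : (L ⊔ ⟪s⟫).index ≤ 35 := Nat.le_of_dvd (by decide)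
      ⟨𝐍[⟪u⟫].relIndex (L ⊔ ⟪s⟫), by nlinarith⟩
    generalize (L ⊔ ⟪s⟫).index = n at *
    interval_cases n <;> omega
  rw [(alt_of_index hG i4).resolve_right nA, relIndex_top_right] at m2
  rw [(alt_of_index hG m2).resolve_right nA, card_top] at m1
  omega

end Cf

end A7

open A7 in
theorem stA7 : StA7.{u} := fun G _ _ _ S f x hS d c hx hf hG => by_contra fun nA => by
  obtain ⟨u, hu, ou⟩ := Cauchy Nat.prime_three c.symm.dvd
  have e : ⟪u⟫ = oc (f ^ 2) := card_eq_of_le (zpowers_le.2 hu) (by rw [c, Nat.card_zpowers, ou])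
  have l : S ≤ 𝐂₁[f ^ 2] := le_cent1.2 (d8_cA d)
  refine Cf.false (u := u) ⟨hS, d, ou, e ▸ (pnil hS (d8_dih d) (d8_c_ne d) (d8_f4 d)).sdprod
    (hS.subl l le_top), (mem_cent.1 hx u hu).symm, ?_⟩ hG nA
  have u3 : u ^ 3 = 1 := ou ▸ pow_orderOf_eq_one u
  rcases mem_cycle3 u3 (e ▸ (memJ_norm (oc_norm _ (l (d8_fA d)))).2 hu) with e' | e' | e'
  · rw [conj_eq_one_iff.1 e'] at ou
    simp at ou
  · exact absurd (e ▸ cent_cycle u ▸ mem_cent1.2 (mul_inv_eq_iff_eq_mul.1 e')) hf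
  · exact e'

end Cfsg.GW
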