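import Cfsg.Agent.GW.Obs

/-!
# S4594 core, piece Ao1: existence of the obstacle
-/

set_option autoImplicit false
set_option linter.unusedSectionVars false

namespace Cfsg.GW

open Subgroup Cfsg.FT Cfsg.Gag Cfsg.Gag.Fin5
open scoped Pointwise

universe u

variable {G : Type u} [Group G] [Finite G] {S E K V X Z M : Subgroup G} {t s : G} {p : ℕ} {ε : ℤ}

namespace Ao1

theorem lt_cent (l : LT M E t K ε) (ot : orderOf t = 2) (os : orderOf s = 2) (hs : s ∈ E ⊓ 𝐂₁[t])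
    (st : s ≠ t) (ho : Odd (Nat.card Z)) (h : Z ≤ K ⊔ 𝐂[E]) : Z ⊓ 𝐂₁[s] ≤ 𝐂[E] := fun z hz => by
  have hK := centS (l.le.trans inf_le_left)
  obtain ⟨k, hk, d, hd, rfl⟩ := (mem_join_norm (cents_norm hK)).1 (h hz.1)
  have h1 : k ∈ 𝐂₁[s] := by
    simpa using mul_mem (mem_inf.1 hz).2 (inv_mem (cent_le_cent1 hs.1 hd))
  have h2 := (l.inv s hs (l.not_mem ot os hs.2 st)).2 k hk
  rw [← mem_cent1.1 h1, mul_assoc, inv_sq os, mul_one] at h2
  refine mem_of_sq ho hz.1 ?_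
  rw [mul_assoc, ← mul_assoc d, ← hK hd k hk, ← mul_assoc, ← mul_assoc,
    mul_eq_one_iff_eq_inv.2 h2, one_mul]
  exact mul_mem hd hd

/-- `E ∋ V` is the residual of the normalizer of a subgroup of `C_{F(U)}(E)` -/
def Fam (t : G) (V E : Subgroup G) : Prop :=
  V ≤ E ∧ ∃ X, X ≠ ⊥ ∧ X ≤ fit (oc t) ⊓ 𝐂[E] ∧ ResF E 𝐍[X]

variable [IsSimpleGroup G] (hR : StRes.{u}) (c : Ctx S t)
include c

theorem F_odd : Odd (Nat.card (fit (oc t))) := oddSg (Fitting_sub _) (oc_odd t)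

theorem F_cent (h : X ≤ fit (oc t)) : t ∈ 𝐂[X] :=
  le_cent1.1 (h.trans ((Fitting_sub _).trans (oc_le t)))

/-- no four-group centralizes `U` -/
theorem not_cent (co : IsCoatom 𝐂₁[t]) (hV : Klein V) (h : V ≤ 𝐂₁[t]) : ¬ V ≤ 𝐂[oc t] := fun e => by
  obtain ⟨g, hg, h1⟩ := Sylow_Jsub (c.syl.subl c.cen le_top) h hV.pgroup
  have hV' : Klein (g •ᶜ V) := ⟨by rw [card_conj, hV.1], fun x hx => by
    obtain ⟨y, hy, rfl⟩ := mem_conj_iff_exists.1 hx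
    rw [conj_mul, hV.2 y hy, mul_one, mul_inv_cancel]⟩
  have h2 : 𝐂₁[t] ≤ 𝐍[g •ᶜ V] := c.sup ▸ sup_le (cents_norm (centsC.1
    (conj_eq_of_mem_norm (oc_norm t hg) ▸ conj_cents g e))) (c.SV hV' h1)
  obtain ⟨v, hv, v1, vt⟩ := klein_other hV' t
  obtain ⟨y, hy, e'⟩ := c.fus _ hV' t (c.tV hV' h1) v hv c.t1 v1
  have h3 := mem_cent1.1 (((co.le_iff.1 h2).resolve_left (c.normV_ne hV')).le hy.2)
  exact vt (by rw [← e', h3, mul_inv_cancel_right])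

theorem not_norm (co : IsCoatom 𝐂₁[t]) (r : ResF E M) (h1 : Z ≠ ⊥) (hZ : Z ≤ oc t)
    (hn : 𝐂₁[t] ≤ 𝐍[Z]) : ¬ Z ≤ 𝐂[E] := fun h => r.not_sol (solvableS
  (c.norm_eq co (oddSg hZ (oc_odd t)) h1 hn ▸ cents_norm (centsC.1 h)) (c.cent_sol c.ot))

include hR

theorem fam_of_le (ht : t ∈ V) (hV : V ≤ E) (r : ResF E M) (h1 : X ≠ ⊥) (hX : X ≤ fit (oc t))
    (hE : E ≤ 𝐂[X]) : ∃ E', E ≤ E' ∧ Fam t V E' ∧ ResF E' 𝐍[X] := by
  obtain ⟨E', r'⟩ := hR G 𝐍[X] (c.dg (c.norm_ne (oddSg hX (F_odd c)) h1))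
    fun h => r.not_sol (solvableS (cents_norm hE) h)
  have h2 := r'.max E (cents_norm hE) r.perf
  exact ⟨E', h2, ⟨hV.trans h2, X, h1, le_inf hX (centsC.1 (r'.le_cent le_rfl
    (cent_sub X (F_cent c hX)) (F_cent c hX) c.ot)), r'⟩, r'⟩

theorem exists_max (hS : StSol.{u}) (co : IsCoatom 𝐂₁[t]) [Fact p.Prime] (sS : s ∈ S)
    (os : orderOf s = 2) (st : s ≠ t) (mix : ¬ core {p} (oc t) ≤ 𝐂₁[s])
    (X0 : core {p} (oc t) ⊓ 𝐂₁[s] ≠ ⊥) : ∃ E, Fam t (⟪t⟫ ⊔ ⟪s⟫) E ∧ ResF E 𝐍[E] ∧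
      ∀ X, X ≠ ⊥ → X ≤ fit (oc t) ⊓ 𝐂[E] → 𝐍[X] ≤ 𝐍[E] := by
  have hV := c.klein sS os st
  have ht : t ∈ ⟪t⟫ ⊔ ⟪s⟫ := mem_sup_left (mem_zpowers t)
  have hW := c.W_eq hV ht (mem_sup_right (mem_zpowers s)) c.t1 (inv_ne_one os) st
  obtain ⟨D, hD, hXD⟩ := Sylow_superset (hW.ge.trans' (inf_le_inf_right _ (pcore_sub {p} _)))
    ((pcore_pgroup' p _).to_le inf_le_left)
  have hns := c.ob_nsol hS (al_H co) (fun e => X0 (by rw [e, bot_inf_eq])) hV ht hD (by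
    rw [← inf_relIndex_right]
    refine (dvd_relIndex_of_pgroup (pcore_pgroup' p (oc t)) fun h => mix ?_).trans
      (relIndex_inf_dvd_of_normal (pcore_normal _ _).2 inf_le_right (pcore_sub _ _))
    exact h.trans (inf_le_left.trans (cent_le_cent1 (mem_sup_right (mem_zpowers s)))))
  have hc := centsC.1 (hD.le.trans (pcore_sub _ _))
  obtain ⟨E0, r0⟩ := hR G 𝐍[D] (c.dg (c.norm_ne (oddSg hD.le (od_odd _))
    fun e => X0 (eq_bot_iff.2 (e ▸ hXD)))) hns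
  obtain ⟨E1, -, f1, -⟩ := fam_of_le hR c ht (r0.le_of_fus hV (cents_norm hc) (c.fus_syl hV hD)) r0 X0
    (inf_le_left.trans (pcore_sub_Fitting p _))
    (centsS hXD (r0.le_cent le_rfl (cent_sub D (hc ht)) (hc ht) c.ot))
  obtain ⟨E, -, hm⟩ := Finite.exists_le_maximal (p := Fam t (⟪t⟫ ⊔ ⟪s⟫)) f1
  obtain ⟨hVE, X, X1, hX, r⟩ := hm.1
  refine ⟨E, hm.1, ?_, fun X' h1 h2 => ?_⟩
  · obtain ⟨E', r'⟩ := hR G 𝐍[E] (c.dg (norm_ne_top r.ne fun e => c.norm_ne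
      (oddSg (hX.trans inf_le_left) (F_odd c)) X1 (top_le_iff.1 (e ▸ r.nrm.le))))
      fun h => r.not_sol (solvableS (normG E) h)
    rwa [le_antisymm (r'.le_of_inv (normalG E) (hVE ht) c.ot) (r'.max E (normG E) r.perf)] at r'
  · obtain ⟨E', h3, f', r'⟩ := fam_of_le hR c ht hVE r h1 (h2.trans inf_le_left)
      (centsC.1 (h2.trans inf_le_right))
    exact le_antisymm (hm.2 f' h3) h3 ▸ r'.nrm.2

end Ao1

open Ao1 in
theorem stAo1 (hS : StSol.{u}) (hR : StRes.{u}) (hC : StComp.{u}) : StAo1.{u} := by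
  intro G _ _ _ S t s p c co hp sS os st mix X0
  haveI := Fact.mk hp
  obtain ⟨E, ⟨hVE, X, X1, hX, r0⟩, r, uniq⟩ := exists_max hR c hS co sS os st mix X0
  have hV := c.klein sS os st
  have ht : t ∈ ⟪t⟫ ⊔ ⟪s⟫ := mem_sup_left (mem_zpowers t)
  have tE := hVE ht
  have sE := hVE (mem_sup_right (mem_zpowers s))
  have ne : 𝐍[E] ≠ ⊤ := norm_ne_top r.ne fun e => c.norm_ne
    (oddSg (hX.trans inf_le_left) (F_odd c)) X1 (top_le_iff.1 (e ▸ r0.nrm.le))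
  have h1 := c.loc_fus (al_H co) (hX.trans inf_le_left) (uniq X X1 hX) hV ht (hVE.trans (normG E))
    ((r.fus _ hV hVE).mono (normG E))
  have h2 := r.le_cent (pcore_normal _ _).2 (normG E tE) (centsC.1 h1 ht) c.ot
  have F1 : fit (oc t) ⊓ 𝐂[E] ≠ ⊥ := fun e => X1 (eq_bot_iff.2 (e ▸ hX))
  have FH := (Fitting_sub _).trans (oc_le t)
  have h3 : fit (oc t) ⊓ 𝐍[fit (oc t) ⊓ 𝐂[E]] ≤ 𝐍[E] ⊓ 𝐂₁[t] :=
    le_inf (inf_le_right.trans (uniq _ F1 le_rfl)) (inf_le_left.trans FH)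
  rcases hC G _ E (c.dg ne) r h2 with T | T | T
  · refine absurd ?_ (not_norm c co r (fun e => F1 (by rw [e, bot_inf_eq])) (Fitting_sub _)
      (norms_Fitting (oc_norm t)))
    rw [← nilpotent_sub_norm (Fitting_nil _) inf_le_left (le_inf inf_le_left ((T.small t tE c.ot _ h3
      (oddSg inf_le_left (F_odd c))).trans (centsC.1 h2)))]
    exact inf_le_right
  · obtain ⟨K, ε, l⟩ := T.lt t tE c.ot
    obtain ⟨P, hP, hq⟩ := exists_prime_order_subgroup F1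
    haveI := Fact.mk hq
    have Y1 : core {Nat.card P} (oc t) ⊓ 𝐂[E] ≠ ⊥ := fun e => ne_bot_of_prime hq (eq_bot_iff.2
      (e ▸ le_inf (pgroup_le_Fitting (prime_pgroup rfl) (hP.trans inf_le_left))
        (hP.trans inf_le_right)))
    generalize Nat.card P = q at *
    have Y0 : core {q} (oc t) ≠ ⊥ := fun e => Y1 (by rw [e, bot_inf_eq])
    have Yq := pcore_pgroup' q (oc t)
    have YH := norms_pcore {q} (oc_norm t)
    have h4 := cent_le_cent1 sE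
    have h5 := lt_cent l c.ot os ⟨sE, c.cen sS⟩ st (oddSg (inf_le_left.trans (pcore_sub _ _))
      (oc_odd t)) ((l.kf q (core {q} (oc t) ⊓ 𝐍[E]) hq (c.p_ne Y0) (Yq.to_le inf_le_left)
      (le_inf inf_le_right (inf_le_left.trans ((pcore_sub _ _).trans (oc_le t))))
      (normsI (l.le.trans (inf_le_right.trans YH)) (normsG (l.le.trans (inf_le_left.trans
        (normG E)))))).trans (sup_le_sup_left (centsC.1 h2) K))
    have XE : core {q} (oc t) ⊓ 𝐂₁[s] ≤ 𝐂[E] := by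
      rw [← nilpotent_sub_norm (pgroup_nil (Yq.to_le inf_le_left)) (inf_le_inf_left _ h4)
        (le_inf (inf_le_left.trans inf_le_left) (le_trans (le_inf (inf_le_inf inf_le_left
          (uniq _ Y1 (inf_le_inf_right _ (pcore_sub_Fitting q _))))
            (inf_le_left.trans inf_le_right)) h5))]
      exact inf_le_right
    exact ⟨E, K, ε, q, co, sS, os, st, sE, tE, ne, r, T, l, hq,
      fun e => Y1 (eq_bot_iff.2 (e ▸ inf_le_inf_left _ h4)), XE,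
      fun e => not_norm c co r Y0 (pcore_sub _ _) YH ((le_inf le_rfl e).trans XE), uniq⟩
  · obtain ⟨V, kV, tV, VE, h⟩ := T.v1 t tE c.ot
    have VH : V ≤ 𝐂₁[t] := le_cent1.2 (abelian_iff.1 kV.ab tV)
    refine absurd (le_trans (le_inf le_rfl ?_) (coprime_cent_Fitting (VH.trans (oc_norm t))
      (cop_two (oc_odd t) kV.pgroup) c.U_sol)) (not_cent c co kV VH)
    exact coprime_nil_faithful_cent_stab (norms_Fitting (VH.trans (oc_norm t)))
      (cop_two (F_odd c) kV.pgroup) (Fitting_nil _) (h _ ((inf_le_inf_left _ ((centS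
        (inf_le_inf_left _ (centS VE))).trans (cent_sub _))).trans h3) (oddSg inf_le_left (F_odd c)))

end Cfsg.GW
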