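import Cfsg.Agent.GW.Obs

/-!
# S4594 core, piece Ao2: the obstacle contains a Sylow 2-subgroup
-/

set_option autoImplicit false
set_option linter.unusedSectionVars false

namespace Cfsg.GW

open Subgroup Cfsg.FT Cfsg.Gag Cfsg.Gag.Fin5
open scoped Pointwise

universe u

variable {G : Type u} [Group G] [Finite G] {S E K L B N W : Subgroup G} {t s z : G} {p : ℕ} {ε : ℤ}

namespace Ao2

/-- a group acting semiregularly on lines of a section of order `p ^ 2` -/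
theorem count [hp : Fact p.Prime] (h1 : N ≤ W) (h2 : W ≤ B) (hN : L ≤ 𝐍[N]) (hB : L ≤ 𝐍[B])
    (hW : Nat.card W = p * Nat.card N) (hc : Nat.card B = p ^ 2 * Nat.card N)
    (h : L ⊓ 𝐍[W] = ⊥) : Nat.card L ≤ p + 1 := by
  have hi : N.relIndex W = p := by
    have := card_inf_mul_relIndex (H := N) (K := W)
    rw [inf_eq_left.2 h1, hW, mul_comm] at this
    exact Nat.eq_of_mul_eq_mul_right Nat.card_pos this
  have key : ∀ l ∈ L, ∀ w ∈ W, w ∉ N → l * w * l⁻¹ ∈ W → l = 1 := fun l hl w hw hn e =>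
    mem_bot.1 (h ▸ ⟨hl, mem_norm_of_conj_le (by
      nth_rewrite 1 [← BG4P.join_cycle_of_relIndex hi h1 hw hn]
      rw [conj_sup, conj_zpowers, conj_eq_of_mem_norm (hN hl)]
      exact sup_le h1 (zpowers_le.2 e))⟩)
  have h3 := Nat.card_le_card_of_injective
    (fun q : L × ↥((W : Set G) \ N) => (⟨q.1 * q.2 * (q.1 : G)⁻¹, (memJ_norm (hB q.1.2)).2 (h2 q.2.2.1),
      fun e => q.2.2.2 ((memJ_norm (hN q.1.2)).1 e)⟩ : ↥((B : Set G) \ N))) fun q q' e => by
    have e1 : (q.1 : G) * q.2 * (q.1 : G)⁻¹ = q'.1 * q'.2 * (q'.1 : G)⁻¹ := congrArg Subtype.val e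
    have e2 := key ((q'.1 : G)⁻¹ * q.1) (mul_mem (inv_mem q'.1.2) q.1.2) q.2 q.2.2.1 q.2.2.2 (by
      rw [show (q'.1 : G)⁻¹ * q.1 * q.2 * ((q'.1 : G)⁻¹ * q.1)⁻¹ =
        (q'.1 : G)⁻¹ * (q.1 * q.2 * (q.1 : G)⁻¹) * q'.1 by group, e1]
      simpa [mul_assoc] using q'.2.2.1)
    rw [inv_mul_eq_one] at e2
    exact Prod.ext (Subtype.ext e2.symm) (Subtype.ext (by simpa [e2] using e1))
  rw [Nat.card_prod, Nat.card_coe_set_eq, Nat.card_coe_set_eq, Set.ncard_diff h1,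
    Set.ncard_diff (h1.trans h2), ← Nat.card_coe_set_eq, ← Nat.card_coe_set_eq,
    ← Nat.card_coe_set_eq, SetLike.coe_sort_coe, SetLike.coe_sort_coe, SetLike.coe_sort_coe,
    hW, hc, ← Nat.sub_one_mul, ← Nat.sub_one_mul, ← mul_assoc, ← Nat.one_pow 2, Nat.sq_sub_sq] at h3
  exact Nat.le_of_mul_le_mul_right (Nat.le_of_mul_le_mul_right h3 Nat.card_pos)
    (Nat.sub_pos_of_lt hp.out.one_lt)

/-- an inverted group of odd order centralizes invariant cyclic sections -/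
theorem sec (ho : Odd (Nat.card L)) (hz : z * z = 1) (hi : ∀ x ∈ L, z * x * z = x⁻¹)
    (hN : L ≤ 𝐍[N]) (hB : L ≤ 𝐍[B]) (hN' : z ∈ 𝐍[N]) (hB' : z ∈ 𝐍[B]) (h : B ≤ 𝐍[N])
    (hc : IsCyclic (B ⁄ N)) : ⁅B, L⁆ ≤ N := by
  have h1 : L ≤ ⁅L, ⟪z⟫⁆ := fun x hx => mem_of_sq ho hx (by
    have := mem_commg hx (mem_zpowers z)
    rwa [commutatorElement_def, inv_eq_of_mul_eq_one_right hz, mul_assoc, mul_assoc,
      ← mul_assoc z, hi _ (inv_mem hx), inv_inv] at this)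
  rw [← quotient_cents2 h hN, centsC]
  refine (quotientS N h1).trans ?_
  rw [quotientR hN (zpowers_le.2 hN')]
  exact commg_cent_cyclic hc (quotient_norms N hB) (quotient_norms N (zpowers_le.2 hB'))

theorem cyc (ho : Odd (Nat.card L)) (hz : z * z = 1) (hi : ∀ x ∈ L, z * x * z = x⁻¹)
    (hB : L ≤ 𝐍[B]) (hB' : z ∈ 𝐍[B]) (hc : IsCyclic B) : L ≤ 𝐂[B] :=
  commG1P'.1 (eq_bot_iff.2 (sec ho hz hi (norms1 L) hB (norms1 ⊤ (mem_top z)) hB' (norms1 B)
    (quotient_cyclic _ hc)))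

variable [IsSimpleGroup G] (o : Obs S t s E K ε p) (c : Ctx S t) (hz : z * z = 1) (zS : z ∈ S)
  (hL : L ≤ oc t) (hi : ∀ x ∈ L, z * x * z = x⁻¹) (hc : (Nat.card L).Coprime (Nat.card K))
include o c hc

theorem cop : (Nat.card (fit (oc t))).Coprime (Nat.card L) := Nat.coprime_of_dvd fun r hr h1 h2 => by
  haveI := Fact.mk hr
  exact hr.one_lt.ne' (Nat.eq_one_of_dvd_coprimes hc h2 (o.dvd_K c fun e =>
    (Sylow_Fitting r (oc t)).eq_bot_iff.1 e h1))

include hz zS hL hi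

theorem eq_bot (h : L ≤ 𝐍[E]) : L = ⊥ := by
  have ho := oddSg hL (oc_odd t)
  have LF := hL.trans (Fitting_normal _).2
  have zF := zpowers_le.2 (norms_Fitting c.SU zS)
  have zM := zpowers_le.2 (o.S_le c zS)
  have e : fit (oc t) ⊓ K = fit (oc t) ⊓ E := by
    rw [← inf_eq_left.2 (Fitting_sub (oc t)), inf_assoc, inf_assoc, o.UE c]
  have h1 : L ≤ 𝐂[fit (oc t) ⊓ 𝐍[E]] := by
    rw [← (o.decM c le_rfl (o.sF c)).sup_eq]
    exact centsY (cyc ho hz hi (e ▸ normsI LF h) (e ▸ zpowers_le.1 (normsI zF zM))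
      (cyclicS inf_le_right o.lt.cyc)) (cyc ho hz hi (normsI LF (norms_cent h))
        (zpowers_le.1 (normsI zF (norms_cent zM))) (o.XF_cyc c))
  have h2 := coprime_nil_faithful_cent_stab LF (cop o c hc) (Fitting_nil _) ((inf_le_inf_left _
    ((centS ((le_inf (o.X_le.trans inf_le_left) ((normG _).trans o.NX_le)).trans
      (le_inf inf_le_left (centsC.1 h1)))).trans ((cent_sub _).trans o.NX_le))).trans (centsC.1 h1))
  exact eq_bot_iff.2 ((le_inf ((le_inf hL h2).trans (cent_sub_Fitting c.U_sol)) le_rfl).trans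
    (coprime_TIg (cop o c hc)).le)

theorem inf_bot (h : L ⊓ N ≤ 𝐍[E]) : L ⊓ N = ⊥ :=
  eq_bot o c hz zS (inf_le_left.trans hL) (fun x hx => hi x hx.1) (coprimeSg inf_le_left hc) h

theorem card_le : Nat.card L ≤ p + 1 := by
  haveI := Fact.mk o.pr
  have ho := oddSg hL (oc_odd t)
  have LH := hL.trans (oc_le t)
  have zH := c.cen zS
  have HY := norms_pcore {p} (oc_norm t)
  have cY := coprimeSg o.YF (cop o c hc)
  have d := o.OhmYM c
  have A1 : Ohm1 p (core {p} (oc t) ⊓ 𝐂₁[s]) ≠ ⊥ := ne_bot_of_prime ((o.A0_card c).symm ▸ o.pr)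
  have AF := (Ohm_sub p _).trans o.X_le
  by_cases hY : core {p} (oc t) ≤ 𝐍[E]
  · refine count bot_le d.right_le (norms1 L) ?_ (by rw [o.A0_card c, card_bot, mul_one])
      (by rw [o.OhmYM_card c, card_bot, mul_one])
      (inf_bot o c hz zS hL hi hc (inf_le_right.trans (o.uniq _ A1 AF)))
    rw [inf_eq_left.2 hY]
    exact norms_Ohm1 _ (LH.trans HY)
  by_cases hA : Ohm1 p (core {p} (oc t) ⊓ 𝐂₁[s]) ≤ Ohm1 p (ucn 2 (core {p} (oc t)))
  · have hC := o.C0_norm c hY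
    have zW := norms_Ohm1 p (normsI (zpowers_le.2 (HY zH)) (normsG (zpowers_le.2 (o.S_le c zS))))
    have h1 : L ⊓ 𝐍[Ohm1 p (core {p} (oc t) ⊓ 𝐍[E])] = ⊥ := by
      have ho' := oddSg (inf_le_left (b := 𝐍[Ohm1 p (core {p} (oc t) ⊓ 𝐍[E])])) ho
      have hn := (inf_le_left (b := 𝐍[Ohm1 p (core {p} (oc t) ⊓ 𝐍[E])])).trans (LH.trans hC)
      refine inf_bot o c hz zS hL hi hc ((centsS d.right_le (stable_factor_cent
        (cyc ho' hz (fun x hx => hi x hx.1) hn (hC zH) (cyclicS (Ohm_sub _ _) o.C_cyc))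
        (sec ho' hz (fun x hx => hi x hx.1) hn inf_le_right (hC zH) (zpowers_le.1 zW) d.normal.2 ?_)
        (coprimeSg ((Ohm_sub _ _).trans inf_le_left) (coprimegS inf_le_left cY)))).trans
          (o.cent_le A1 AF))
      rw [← d.sup_eq, quotientYidl (cents_norm d.cent)]
      exact quotient_cyclic _ (cyclicS (Ohm_sub _ _) (o.X_cyc c))
    by_cases hT : Ohm1 p (ucn 2 (core {p} (oc t))) ≤ 𝐍[E]
    · rw [← o.case2 c hY hA hT, inf_eq_left.2 (LH.trans Obs.Th_norm)] at h1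
      simp [h1]
    · exact count d.left_le ((o.Th_M_eq c hY hA).ge.trans inf_le_left) (LH.trans hC)
        (LH.trans Obs.Th_norm) (by rw [o.OhmYM_card c, o.C0_card c, sq])
        (by rw [(o.case3 c hY hA hT).1, o.C0_card c, pow_succ p 2]) h1
  · obtain ⟨h1, h2, -⟩ := o.case1 c hY hA
    set T := Ohm1 p (ucn 2 (core {p} (oc t)))
    have HT : 𝐂₁[t] ≤ 𝐍[T] := Obs.Th_norm
    have HA := normsI HY (norms_cent HT)
    have YT := (pcore_sub {p} _).trans ((oc_le t).trans HT)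
    have h3 : (core {p} (oc t) ⊓ 𝐂[T]) ⊓ 𝐂₁[s] = ⊥ := by
      by_contra e
      have h4 := (centsC.1 ((Ohm1_cyclic_le (o.X_cyc c) (o.Yp.to_le inf_le_left)
        (inf_le_inf_right _ inf_le_left) e).trans (inf_le_left.trans inf_le_right))).trans
          (o.cent_le A1 AF)
      have d' := (o.dec c (le_inf (Obs.Th_le.trans o.YF) h4) (HT (o.sH c))).sup_eq
      rw [← o.cent_eq c (Obs.Th_le.trans o.YF), h2, sup_bot_eq] at d'
      exact o.Th_ncyc c (d' ▸ cyclicS inf_le_right o.lt.cyc)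
    have ab : IsMulCommutative ↥(core {p} (oc t) ⊓ 𝐂[T]) := abelian_iff_forall.2 fun x hx y hy => by
      have i := fun x => inverts_of_fpf (x := x) (oddSg (inf_le_left.trans (pcore_sub _ _))
        (oc_odd t)) o.os (HA (o.sH c)) h3
      rw [← inv_inj, ← i _ (mul_mem hx hy), mul_inv_rev, ← i x hx, ← i y hy]
      simp only [mul_assoc]
      rw [← mul_assoc s s, inv_sq o.os, one_mul]
    have h4 := sec ho hz hi (LH.trans HA) (LH.trans HY) (HA zH) (HY zH) (subcent_normal' YT).2 (by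
      refine isCyclic_of_card_dvd_prime (p := p) ?_
      rw [card_quotient (subcent_normal' YT).2, inf_relIndex_left]
      exact index_cent_p2group_dvd o.Yp YT (o.Yp.to_le Obs.Th_le) h1.le)
    have h5 : ⁅core {p} (oc t), L⁆ = ⊥ := by
      by_contra e
      refine meet_center_nil (pgroup_nil o.Yp) (commg_normall (LH.trans HY)) e (eq_bot_iff.2 ?_)
      rw [← coprime_abel_cent_TI (LH.trans HA) (coprimeSg inf_le_left cY) ab,
        ← coprime_commGid (LH.trans HY) cY]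
      exact inf_le_inf (commSg L h4) (centsC.1 (cyc ho hz hi (norms_center (LH.trans HY))
        (norms_center HY zH) (cyclicS (o.ZY_le c hY) o.C_cyc)))
    simp [eq_bot o c hz zS hL hi hc ((centsS inf_le_left (commG1P'.1 h5)).trans
      (o.cent_le o.X0 o.X_le))]

end Ao2

theorem stAo2 : StAo2.{u} := by
  intro G _ _ _ S E K t s ε p c o
  by_contra h
  obtain ⟨v, vS, ov, vE⟩ : ∃ v ∈ S, orderOf v = 2 ∧ v ∉ E := by
    have hV := o.klein c
    rcases c.shape with hS | ⟨f, x, hS, -⟩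
    · exact absurd (card_eq_of_le (c.pairS o.sS) (by rw [hS.1, hV.1]) ▸ o.VE c) h
    by_contra! h1
    have h2 := h1 x (d8_xA hS) hS.ox
    have h3 := mul_mem (inv_mem h2) (h1 _ (d8_xA (d8_swap hS)) (d8_swap hS).ox)
    rw [inv_mul_cancel_left] at h3
    exact h (hS.gen ▸ sup_le (zpowers_le.2 h3) (zpowers_le.2 h2))
  have vt : v ≠ t := fun e => vE (e ▸ o.tE)
  obtain ⟨-, A, -, hA, -, hi, hE, -⟩ := o.lt.out v ⟨o.S_le c vS, c.cen vS⟩ vE (inv_sq ov)
  have hV := c.klein vS ov vt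
  have tV : t ∈ ⟪t⟫ ⊔ ⟪v⟫ := mem_sup_left (mem_zpowers t)
  obtain ⟨g, hg, e⟩ := c.fus _ hV v (mem_sup_right (mem_zpowers v)) t tV (inv_ne_one ov) c.t1
  have h2 : 2 ∣ Nat.card K := c.ot ▸ orderOf_dvd_natCard K o.lt.tK
  have hc : (Nat.card A).Coprime (Nat.card K) := by
    rw [← Nat.isCoprime_iff_coprime, hA]
    rcases o.lt.eps with rfl | rfl
    exacts [⟨1, -1, by ring⟩, ⟨-1, 1, by ring⟩]
  have ho : Odd (Nat.card A) := Nat.coprime_two_right.1 (hc.coprime_dvd_right h2)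
  have h3 := Ao2.card_le (L := g •ᶜ A) o c (z := g * t * g⁻¹) (by
    rw [conj_mul, inv_sq c.ot, mul_one, mul_inv_cancel]) (c.pairS vS ((memJ_norm hg.2).2 tV))
    (by rw [← e, oc_conj, conj_le_conj]
        exact c.odd_le ov (le_sup_left.trans (hE.ge.trans inf_le_right)) ho)
    (fun x hx => by
      obtain ⟨y, hy, rfl⟩ := mem_conj_iff_exists.1 hx
      rw [conj_mul, conj_mul, hi y hy, conj_inv]) (by rwa [card_conj])
  haveI := Fact.mk o.pr
  have h4 := Nat.le_of_dvd Nat.card_pos (((Nat.coprime_primes Nat.prime_two o.pr).2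
    (o.p2 c).symm).mul_dvd_of_dvd_of_dvd h2 (o.dvd_K c o.Y_ne))
  have h5 := o.pr.two_le
  have h6 := o.p2 c
  rw [card_conj] at h3
  rcases o.lt.eps with rfl | rfl <;> omega

end Cfsg.GW
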