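import Cfsg.Agent.GW.An
import Cfsg.Agent.GW.Num

/-!
# S4594 core: piece Ao3 (counting the conjugates of the component)
-/

set_option autoImplicit false
set_option linter.unusedSectionVars false
set_option linter.style.haveILetI false

namespace Cfsg.GW.Ao3

open Subgroup Cfsg.FT Cfsg.Gag Cfsg.Gag.Fin5
open scoped Pointwise

universe u

variable {G : Type u} [Group G] [Finite G] {S E K L : Subgroup G} {t s x h : G} {p : ℕ} {ε : ℤ}

theorem num {i m k j : ℤ} (h1 : 4 * i ≤ 15 * (m * k) ^ 2) (h2 : j * (j * (m - 1)) ≤ i * m)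
    (h3 : (2 * k - 1) * (k - 1) ≤ j) (h4 : 3 ≤ m) (h5 : 2 * m ≤ k) : False := by
  have a1 : 3 * k ^ 2 ≤ 2 * j := by nlinarith
  have a2 : 9 * (k ^ 2) ^ 2 ≤ 4 * j ^ 2 := by nlinarith [sq_nonneg k]
  have a3 : 4 * m ^ 2 ≤ k ^ 2 := by nlinarith
  have a4 : 0 < (k ^ 2) ^ 2 := by have : 0 < k := by omega
                                  positivity
  have a5 : 16 * i ≤ 15 * (k ^ 2) ^ 2 := by nlinarith [sq_nonneg k]
  have a6 : 9 * (k ^ 2) ^ 2 * (m - 1) ≤ 4 * j ^ 2 * (m - 1) :=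
    mul_le_mul_of_nonneg_right a2 (by omega)
  have a7 : 16 * i * m ≤ 15 * (k ^ 2) ^ 2 * m := mul_le_mul_of_nonneg_right a5 (by omega)
  nlinarith

variable [IsSimpleGroup G] (c : Ctx S t) (o : Obs S t s E K ε p)
include c o

theorem eq_one (hx : x ∈ oc t) (e : x * x = 1) : x = 1 := by_contra fun hn =>
  not_mem_of_odd (oc_odd t) (orderOf_eq_prime (by rwa [pow_two]) hn) hx

theorem comm_le (hL : L ≤ 𝐍[E] ⊓ oc t) (hx : x ∈ E ⊓ 𝐂₁[t]) : ⁅L, ⟪x⟫⁆ ≤ K ⊓ oc t := by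
  have h1 : ⁅L, ⟪x⟫⁆ ≤ oc t := (commSg _ (hL.trans inf_le_right)).trans
    (commg_subl.2 (zpowers_le.2 (oc_norm t hx.2)))
  refine le_inf (fun a ha => by_contra fun hn => hn ?_) h1
  rw [eq_one c o (h1 ha) (o.lt.inv a ⟨((commgS _ (zpowers_le.2 hx.1)).trans (commg_subr.2
    (hL.trans inf_le_left))) ha, oc_le t (h1 ha)⟩ hn).1]
  exact one_mem _

theorem NX : 𝐍[core {p} (oc t) ⊓ 𝐂₁[s]] ≤ 𝐍[E] :=
  haveI := Fact.mk o.pr
  o.uniq _ o.X0 (le_inf (inf_le_left.trans (pcore_sub_Fitting p _)) o.XE)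

theorem cent_eq (hx : x ∈ E) (hK : x ∉ K) : core {p} (oc t) ⊓ 𝐂₁[x] = core {p} (oc t) ⊓ 𝐂₁[s] := by
  haveI := Fact.mk o.pr
  have h1 : core {p} (oc t) ⊓ 𝐂₁[s] ≤ 𝐂₁[x] := o.XE.trans (cent_le_cent1 hx)
  refine (nilpotent_sub_norm (pgroup_nil ((pcore_pgroup' p _).to_le inf_le_left))
    (le_inf inf_le_left h1) fun a ha => ?_).symm
  have hU := pcore_sub {p} (oc t)
  obtain ⟨k, hk, b, hb, rfl⟩ := (coprime_cent_mulEq (H := 𝐍[E] ⊓ core {p} (oc t))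
    (normsI (normsG (zpowers_le.2 (normG E o.sE))) (norms_pcore _ (zpowers_le.2 (c.SU o.sS))))
    (cop_inv (oddSg (inf_le_right.trans hU) (oc_odd t)) o.os) (solOr_cycle _ _)).exists_mul
    ⟨NX c o ha.2, ha.1.1⟩
  rw [cent_cycle] at hb
  have h2 : b ∈ core {p} (oc t) ⊓ 𝐂₁[s] := ⟨hb.1.2, hb.2⟩
  have h3 := comm_le c o (inf_le_inf_left _ hU) ⟨o.sE, c.cen o.sS⟩ hk
  have h4 : k ∈ 𝐂₁[x] := (mul_mem_cancel_right (h1 h2)).1 ha.1.2
  rwa [eq_one c o h3.2 (by_contra fun hn => hK (o.lt.cent k h3.1 hn ▸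
    mem_inf.2 ⟨hx, cent1C.1 h4⟩)), one_mul]

theorem ti (hh : h ∈ oc t) (hM : h ∉ 𝐍[E]) : E ⊓ h •ᶜ E ≤ K := fun x hx => by_contra fun hK => by
  refine hM (NX c o (mem_norm_of_conj_le ?_))
  nth_rewrite 2 [← cent_eq c o hx.1 hK]
  exact le_inf (conj_le_of_mem_norm ((pcore_normal _ _).2 hh) inf_le_left)
    (((conj_le_conj.2 o.XE).trans (cent_conj h E).ge).trans (cent_le_cent1 hx.2))

theorem count : 𝐂₁[t].relIndex E * (𝐍[E].relIndex (oc t) - 1) ≤ 𝐍[E].index := by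
  classical
  let φ : (E ⧸ 𝐂₁[t].subgroupOf E) × {q : oc t ⧸ 𝐍[E].subgroupOf (oc t) // q ≠ ((1 : oc t) : _)} →
      G ⧸ 𝐍[E] := fun z => (((z.1.out : G) * (z.2.1.out : G) : G) : G ⧸ 𝐍[E])
  have hφ : Function.Injective φ := by
    rintro ⟨a, b, hb⟩ ⟨a', b', hb'⟩ e
    have key : ∀ q : oc t ⧸ 𝐍[E].subgroupOf (oc t), q ≠ ((1 : oc t) : _) → (q.out : G) ∉ 𝐍[E] :=
      fun q hq h => hq (by
        rw [← q.out_eq', eq_comm, QuotientGroup.eq, inv_one, one_mul]; exact h)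
    have e1 : ((a.out : G) * (b.out : G))⁻¹ * ((a'.out : G) * (b'.out : G)) ∈ 𝐍[E] :=
      QuotientGroup.eq.1 e
    have h1 : (a.out : G)⁻¹ * a'.out ∈ E := mul_mem (inv_mem a.out.2) a'.out.2
    have h2 : ((a.out : G)⁻¹ * a'.out) * t * ((a.out : G)⁻¹ * a'.out)⁻¹ ∈ K := by
      refine ti c o b.out.2 (key b hb) ⟨(memJ_norm (normG E h1)).2 o.tE, mem_conj.2 ?_⟩
      have h3 := (memJ_norm e1).2 o.tE
      have h4 : (b'.out : G) * t * (b'.out : G)⁻¹ = t := by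
        rw [mem_cent1.1 (oc_le t b'.out.2), mul_inv_cancel_right]
      have h5 : ∀ a a' b b' : G, (a * b)⁻¹ * (a' * b') * t * ((a * b)⁻¹ * (a' * b'))⁻¹ =
          b⁻¹ * (a⁻¹ * a' * (b' * t * b'⁻¹) * (a⁻¹ * a')⁻¹) * b := fun _ _ _ _ => by group
      rwa [h5, h4] at h3
    have h3 : a = a' := by
      rw [← a.out_eq', ← a'.out_eq', QuotientGroup.eq, mem_subgroupOf]
      have ho := (orderOf_conj' ((a.out : G)⁻¹ * a'.out) t).trans c.ot
      exact mem_cent1.2 (mul_inv_eq_iff_eq_mul.1 ((cyclic_inv_uniq o.lt.cyc o.lt.tK c.ot h2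
        (inv_sq ho)).resolve_left (inv_ne_one ho)))
    subst h3
    have h4 : b = b' := by
      rw [← b.out_eq', ← b'.out_eq', QuotientGroup.eq, mem_subgroupOf]
      simpa only [mul_inv_rev, mul_assoc, inv_mul_cancel_left, coe_mul, coe_inv] using e1
    subst h4
    rfl
  have := Nat.card_le_card_of_injective φ hφ
  have e : ∀ (α : Type u) [Finite α] (a : α), Nat.card {q : α // q ≠ a} = Nat.card α - 1 := by
    intro α _ a
    haveI := Fintype.ofFinite α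
    simp
  rwa [Nat.card_prod, e] at this

theorem index_eq (hS : S ≤ E) :
    𝐍[E].relIndex (oc t) * ii t = 𝐂₁[t].relIndex 𝐍[E] * 𝐍[E].index := by
  have h1 := ((mulEq_of_sup c.SU c.sup).mono le_rfl (oc_le t)
    (le_inf (hS.trans (normG E)) c.cen) inf_le_right).symm.relIndex_eq
  rw [inf_relIndex_right, ← inf_relIndex_right _ (oc t), inf_assoc, inf_eq_right.2 (oc_le t),
    inf_relIndex_right] at h1
  rw [← h1, ← inf_relIndex_right, relIndex_mul_index inf_le_right, ← inf_relIndex_left _ 𝐂₁[t],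
    relIndex_mul_index inf_le_left]

theorem kk_le (hx : x ∈ E ⊓ 𝐂₁[t]) (ox : orderOf x = 2) :
    kk t x ≤ Nat.card ↥(K ⊓ oc t) * 𝐍[E].relIndex (oc t) := by
  have h1 := (coprime_cent_mulEq (H := 𝐍[E] ⊓ oc t) (A := ⟪x⟫)
    (normsI (normsG (zpowers_le.2 (normG E hx.1))) (zpowers_le.2 (oc_norm t hx.2)))
    (cop_inv (oddSg inf_le_right (oc_odd t)) ox) (solOr_cycle _ _)).symm.relIndex_eq
  rw [inf_comm _ 𝐂[_], inf_relIndex_right, cent_cycle] at h1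
  refine (relIndex_le_of_le_left (inf_le_left (b := 𝐍[E])) (relIndex_pos _ _).ne').trans ?_
  rw [← relIndex_inf_mul_relIndex, h1]
  exact Nat.mul_le_mul_right _ ((Nat.le_of_dvd Nat.card_pos (FT.relIndex_dvd_card _ _)).trans
    (card_le_of_le (comm_le c o le_rfl hx)))

theorem card_le (hS : S ≤ E) : Nat.card ↥(K ⊓ oc t) * Nat.card S ≤ 2 * Nat.card K := by
  have h1 : K.relIndex (E ⊓ 𝐂₁[t]) = 2 := Nat.eq_of_mul_eq_mul_left (Nat.card_pos (α := K))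
    (by rw [card_mul_relIndex o.lt.le, o.lt.idx, mul_comm])
  have h2 := relIndex_le_of_le_right (le_inf hS c.cen) (relIndex_pos K _).ne'
  have h3 := card_mul_relIndex (inf_le_right : K ⊓ S ≤ S)
  have h4 := Nat.le_of_dvd Nat.card_pos ((cop_two (oddSg inf_le_right (oc_odd t))
    (c.S2.to_le inf_le_right)).mul_dvd_of_dvd_of_dvd (card_dvd_of_le (inf_le_left : K ⊓ oc t ≤ K))
    (card_dvd_of_le (inf_le_left : K ⊓ S ≤ K)))
  rw [inf_relIndex_right] at h3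
  rw [h1] at h2
  rw [← h3, ← mul_assoc, mul_comm 2]
  exact Nat.mul_le_mul h4 h2

theorem ii_le (hK : StOK.{u}) (hD : StOD.{u}) (hS : S ≤ E) :
    4 * (ii t : ℤ) ≤ 15 * (𝐍[E].relIndex (oc t) * Nat.card K : ℤ) ^ 2 := by
  have h1 := card_le c o hS
  have h2 := fun x (hx : x ∈ S) => kk_le c o (x := x) ⟨hS hx, c.cen hx⟩
  have h3 : ∀ t s : G, (0 : ℤ) < kk t s := fun _ _ => Int.natCast_pos.2 (relIndex_pos _ _)
  generalize 𝐍[E].relIndex (oc t) = m at *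
  generalize Nat.card ↥(K ⊓ oc t) = a at *
  generalize Nat.card K = k at *
  rcases c.shape with h | ⟨f, x, h, rfl⟩
  · have h4 := (hK G S t s c.syl h (c.fus S h) c.tS o.sS c.t1 (inv_ne_one o.os) o.st).2
    have h5 : 2 * kk t s ≤ m * k := by have := h2 s o.sS o.os; rw [h.1] at h1; nlinarith
    have h6 := Nat.pow_le_pow_left h5 2
    norm_cast
    nlinarith
  · obtain ⟨y, a, b, e1, e2, e3, e4, e5, e6⟩ := hD G S f x c.syl h c.conj
    have h4 := Num.OD.upper ⟨e1, e2, e3, e4, e5, e6⟩ (h3 _ _) (h3 _ _)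
    have h5 : 2 * (kk (f ^ 2) x + kk (f ^ 2) (x * f)) ≤ m * k := by
      have := h2 x (d8_xA h) h.ox
      have := h2 _ (d8_xA (d8_swap h)) (d8_swap h).ox
      rw [h.card] at h1
      nlinarith
    have h6 := Nat.pow_le_pow_left h5 2
    norm_cast at h4 ⊢
    nlinarith

theorem three_le (hS : S ≤ E) : 3 ≤ 𝐍[E].relIndex (oc t) := by
  have h1 : 𝐍[E].relIndex (oc t) ≠ 1 := fun e => by
    have h2 : 𝐂₁[t] ≤ 𝐍[E] := c.sup.ge.trans (sup_le (relIndex_eq_one.1 e) (hS.trans (normG E)))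
    exact o.res.not_sol (solvableS ((normG E).trans ((o.co.le_iff.1 h2).resolve_left o.ne).le)
      (c.cent_sol c.ot))
  obtain ⟨k, hk⟩ := (oc_odd t).of_dvd_nat (FT.relIndex_dvd_card 𝐍[E] _)
  omega

theorem le_index : (2 * Nat.card K - 1 : ℤ) * (Nat.card K - 1) ≤ 𝐂₁[t].relIndex E := by
  have h1 := card_mul_relIndex (inf_le_left : E ⊓ 𝐂₁[t] ≤ E)
  rw [inf_relIndex_left, o.lt.idx] at h1
  have h2 := o.lt.card
  have h3 : (0 : ℤ) < Nat.card K := Int.natCast_pos.2 Nat.card_pos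
  rw [← h1, mul_assoc _ (_ + ε)] at h2
  push_cast at h2
  have h4 := mul_left_cancel₀ (by omega : (2 * Nat.card K : ℤ) ≠ 0) h2
  rw [h4]
  rcases o.lt.eps with rfl | rfl <;> nlinarith

omit c o in
theorem _root_.Cfsg.GW.stAo3 (hK : StOK.{u}) (hD : StOD.{u}) : StAo3.{u} := by
  intro G _ _ _ S E K t s ε p c o hS
  by_contra! h
  have h1 := three_le c o hS
  refine num (ii_le c o hK hD hS) ?_ (le_index c o) (by exact_mod_cast h1) (by exact_mod_cast h)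
  have h2 := Nat.mul_le_mul (relIndex_le_of_le_right (normG E) (relIndex_pos 𝐂₁[t] _).ne')
    (count c o)
  rw [← index_eq c o hS, mul_comm _ (ii t)] at h2
  zify [show 1 ≤ 𝐍[E].relIndex (oc t) by omega] at h2
  exact h2

end Cfsg.GW.Ao3
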