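import Cfsg.Agent.GW.Alpha
import Cfsg.Agent.FT.P.BG4b

/-!
# S4594 core: the structure common to the pieces Ao2, Ao3, Ao4

`M = N(E)`, `U = oc t`, `F = F(U)`, `Y = O_p(U)`, `X = C_Y(s)`, `C = Y ∩ K`.
-/

set_option autoImplicit false
set_option linter.unusedSectionVars false

namespace Cfsg.GW

open Subgroup Cfsg.FT Cfsg.Gag Cfsg.Gag.Fin5
open scoped Pointwise commutatorElement

universe u

variable {G : Type u} [Group G] [Finite G] {S A B E K X Z : Subgroup G} {t s v g x a : G}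
  {p r : ℕ} {ε : ℤ}

theorem eq_one_of_sq (ho : Odd (Nat.card Z)) (hx : x ∈ Z) (h : x * x = 1) : x = 1 := by
  by_contra e
  exact not_mem_of_odd ho (orderOf_eq_prime (by rw [pow_two, h]) e) hx

theorem mem_of_sq (ho : Odd (Nat.card Z)) (hx : x ∈ Z) (h : x * x ∈ A) : x ∈ A := by
  obtain ⟨k, hk⟩ := ho.of_dvd_nat (orderOf_dvd_natCard Z hx)
  have : x = (x * x) ^ (k + 1) := by
    rw [← pow_two, ← pow_mul, show 2 * (k + 1) = orderOf x + 1 by omega, pow_succ,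
      pow_orderOf_eq_one, one_mul]
  exact this ▸ pow_mem h _

theorem cyc_of_TI (hB : IsCyclic B) (hn : B ≤ 𝐍[X]) (hA : A ≤ B ⊔ X) (hi : X ⊓ A = ⊥) :
    IsCyclic A := by
  obtain ⟨e⟩ := quotient_isog (hA.trans (sup_le hn (normG X))) hi
  exact (e.isCyclic).2 (cyclicS (quotientYidr hn ▸ quotientS X hA) (quotient_cyclic X hB))

omit [Finite G] in
theorem comm_pow (h : Commute ⁅x, g⁆ x) (n : ℕ) : ⁅x ^ n, g⁆ = ⁅x, g⁆ ^ n := by
  induction n with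
  | zero => simp
  | succ n ih => rw [pow_succ', commutatorElement_mul_left_eq_conj_mul, ih,
      ← (h.pow_left n).eq, mul_inv_cancel_right, pow_succ]

theorem relIndex_cent1_le (h : ∀ y ∈ Z, ⁅y, a⁆ ∈ B) : 𝐂₁[a].relIndex Z ≤ Nat.card B := by
  refine Nat.card_le_card_of_injective
    (fun q : Z ⧸ 𝐂₁[a].subgroupOf Z => (⟨_, h _ q.out.2⟩ : B)) fun q q' e => ?_
  have := congrArg Subtype.val e
  simp only [commutatorElement_def, mul_left_inj] at this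
  rw [← q.out_eq', ← q'.out_eq', QuotientGroup.eq, mem_subgroupOf, mem_cent1, coe_mul, coe_inv,
    ← mul_left_inj (q'.out : G)⁻¹, mul_assoc, mul_assoc, ← mul_assoc _ a, ← this]
  group

theorem LT.odd_le (l : LT X E t K ε) (hZ : Z ≤ E ⊓ 𝐂₁[t]) (ho : Odd (Nat.card Z)) : Z ≤ K :=
  fun z hz => by_contra fun h => h (eq_one_of_sq ho hz (l.inv z (hZ hz) h).1 ▸ one_mem K)

theorem LT.not_mem (l : LT X E t K ε) (ot : orderOf t = 2) (os : orderOf s = 2) (hs : s ∈ 𝐂₁[t])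
    (st : s ≠ t) : s ∉ K := fun h => (klein_pair ot os hs st).not_cyclic
  (cyclicS (sup_le (zpowers_le.2 l.tK) (zpowers_le.2 h)) l.cyc)

namespace Obs

variable [IsSimpleGroup G] (o : Obs S t s E K ε p)
include o

local notation "M" => 𝐍[E]
local notation "U" => oc t
local notation "F" => fit (oc t)
set_option quotPrecheck false in
local notation "Y" => core {p} (oc t)

theorem KE : K ≤ E := o.lt.le.trans inf_le_left

theorem KH : K ≤ 𝐂₁[t] := o.lt.le.trans inf_le_right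

theorem KM : K ≤ M := o.KE.trans (normG E)

theorem Kab : IsMulCommutative K := cyclic_abelian o.lt.cyc

theorem od_eq : od M = 𝐂[E] :=
  le_antisymm (cents_of_TI (pcore_sub _ _) ((normG E).trans (pcore_normal _ _).2)
    (by rw [inf_comm, o.t2.simple])) ((le_inf (cent_sub E) le_rfl).trans o.res.cent)

theorem CE_odd : Odd (Nat.card 𝐂[E]) := o.od_eq ▸ od_odd M

theorem E_CE : E ⊓ 𝐂[E] = ⊥ := o.od_eq ▸ o.t2.simple

theorem K_CE : K ⊓ 𝐂[E] = ⊥ := eq_bot_iff.2 ((inf_le_inf_right _ o.KE).trans o.E_CE.le)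

theorem CE_s : 𝐂[E] ≤ 𝐂₁[s] := cent_le_cent1 o.sE

theorem CE_K : 𝐂[E] ≤ 𝐂[K] := centS o.KE

theorem X_eq : Y ⊓ 𝐂₁[s] = Y ⊓ 𝐂[E] :=
  le_antisymm (le_inf inf_le_left o.XE) (inf_le_inf_left _ o.CE_s)

theorem Y_ne : Y ≠ ⊥ := fun e => o.X0 (by rw [e, bot_inf_eq])

theorem Yp : IsPGroup p Y := haveI := Fact.mk o.pr; pcore_pgroup' p _

theorem YF : Y ≤ F := haveI := Fact.mk o.pr; pcore_sub_Fitting p _

theorem X_le : Y ⊓ 𝐂₁[s] ≤ F ⊓ 𝐂[E] := le_inf (inf_le_left.trans o.YF) o.XE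

theorem NX_le : 𝐍[Y ⊓ 𝐂₁[s]] ≤ M := o.uniq _ o.X0 o.X_le

theorem cent_le (h1 : X ≠ ⊥) (h : X ≤ F ⊓ 𝐂[E]) : 𝐂[X] ≤ M := (cent_sub X).trans (o.uniq X h1 h)

theorem cyc_le (h1 : a ≠ 1) (h : a ∈ F ⊓ 𝐂[E]) : 𝐍[⟪a⟫] ≤ M :=
  o.uniq _ (by simpa using h1) (zpowers_le.2 h)

theorem cent1_le (h1 : a ≠ 1) (h : a ∈ F ⊓ 𝐂[E]) : 𝐂₁[a] ≤ M :=
  (norms_cycle le_rfl).trans (o.cyc_le h1 h)

/-- the trivial intersection property -/
theorem ti (h1 : X ≠ ⊥) (h : X ≤ F ⊓ 𝐂[E]) (h' : X ≤ g •ᶜ 𝐂[E]) : g ∈ M :=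
  mem_norm_of_conj_le (o.res.max _ ((centsC.1 (h'.trans (cent_conj g E).ge)).trans
    (o.cent_le h1 h)) (by rw [← conj_commutator, o.res.perf]))

theorem p'_le : core {p}ᶜ U ≤ M :=
  (centsS inf_le_left (p'core_cents {p} U)).trans (o.cent_le o.X0 o.X_le)

variable (c : Ctx S t)
include c

theorem klein : Klein (⟪t⟫ ⊔ ⟪s⟫) := c.klein o.sS o.os o.st

theorem VE : ⟪t⟫ ⊔ ⟪s⟫ ≤ E := sup_le (zpowers_le.2 o.tE) (zpowers_le.2 o.sE)

theorem sH : s ∈ 𝐂₁[t] := c.cen o.sS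

theorem p2 : p ≠ 2 := haveI := Fact.mk o.pr; c.p_ne o.Y_ne

theorem sK : s ∉ K := o.lt.not_mem c.ot o.os (o.sH c) o.st

theorem s_inv (hx : x ∈ K) : s * x * s = x⁻¹ := (o.lt.inv s ⟨o.sE, o.sH c⟩ (o.sK c)).2 x hx

theorem CE_U : 𝐂[E] ≤ U := c.odd_le c.ot (cent_le_cent1 o.tE) o.CE_odd

theorem W_le : U ⊓ 𝐂₁[s] ≤ M :=
  (normsI (inf_le_left.trans (pcore_normal _ _).2) (normsG inf_le_right)).trans o.NX_le

theorem S_le : S ≤ M := by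
  have h : Y ⊓ 𝐂₁[s] = Y ⊓ 𝐂[⟪t⟫ ⊔ ⟪s⟫] := by
    rw [cent_pair, ← inf_assoc, inf_eq_left.2 ((pcore_sub _ _).trans (oc_le t))]
  refine le_trans ?_ o.NX_le
  rw [h]
  exact normsI (norms_pcore _ c.SU) (norms_cent (c.SV (o.klein c) (c.pairS o.sS)))

theorem E_not_le : ¬ E ≤ 𝐂₁[t] := fun h => o.res.not_sol (solvableS h (c.cent_sol c.ot))

theorem H_not_le : ¬ 𝐂₁[t] ≤ M := fun h =>
  o.E_not_le c (((o.co.le_iff.1 h).resolve_left o.ne) ▸ normG E)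

theorem U_not_le : ¬ U ≤ M := fun h => o.H_not_le c (c.sup ▸ sup_le h (o.S_le c))

/-- `E` normalizes no non-trivial odd normal subgroup of `H` -/
theorem not_norm (h1 : Z ≠ ⊥) (ho : Odd (Nat.card Z)) (hn : 𝐂₁[t] ≤ 𝐍[Z]) : ¬ E ≤ 𝐍[Z] :=
  c.norm_eq o.co ho h1 hn ▸ o.E_not_le c

theorem UE : U ⊓ E = U ⊓ K := le_antisymm (le_inf inf_le_left (o.lt.odd_le
  (le_inf inf_le_right (inf_le_left.trans (oc_le t))) (oddSg inf_le_left (oc_odd t))))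
  (inf_le_inf_left _ o.KE)

theorem UK : U ⊓ K = od K := le_antisymm
  (le_od (oddSg inf_le_left (oc_odd t)) (sub_abelian_normal o.Kab inf_le_right))
  (le_inf (c.odd_le c.ot ((pcore_sub _ _).trans o.KH) (od_odd K)) (pcore_sub _ _))

theorem K_s (ho : Odd (Nat.card Z)) (h : Z ≤ K) : Z ⊓ 𝐂₁[s] = ⊥ := eq_bot_iff.2 fun x hx => by
  have h1 := o.s_inv c (h hx.1)
  rw [← mem_cent1.1 hx.2, mul_assoc, inv_sq o.os, mul_one] at h1
  exact eq_one_of_sq ho hx.1 (mul_eq_one_iff_eq_inv.2 h1)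

theorem comm_le (h : Z ≤ U ⊓ M) (hs : s ∈ 𝐍[Z]) : ⁅Z, ⟪s⟫⁆ ≤ Z ⊓ K :=
  le_inf (commg_subl.2 (zpowers_le.2 hs)) ((le_inf ((commg_subl.2 (zpowers_le.2 hs)).trans
    (h.trans inf_le_left)) ((commgS Z (zpowers_le.2 o.sE)).trans (commg_subr.2
      (h.trans inf_le_right)))).trans ((o.UE c).le.trans inf_le_right))

theorem dec_s (h : Z ≤ U ⊓ M) (hs : s ∈ 𝐍[Z]) : Z = Z ⊓ K ⊔ Z ⊓ 𝐂₁[s] := by
  have := coprime_cent_prod (zpowers_le.2 hs) (cop_inv (oddSg (h.trans inf_le_left) (oc_odd t))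
    o.os) (.inr (cyclic_sol (cycle_cyclic s)))
  rw [cent_cycle] at this
  exact le_antisymm (this.ge.trans (sup_le_sup_right (o.comm_le c h hs) _))
    (sup_le inf_le_left inf_le_left)

/-- `U ∩ M = O(K) W` -/
theorem UM : U ⊓ M = od K ⊔ U ⊓ 𝐂₁[s] := by
  rw [o.dec_s c le_rfl (zpowers_le.1 (normsI (zpowers_le.2 (oc_norm t (o.sH c)))
    (normsG (zpowers_le.2 (o.S_le c o.sS))))),
    inf_assoc, inf_eq_right.2 o.KM, o.UK c, inf_right_comm, inf_eq_left.2 (o.W_le c)]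

theorem cent_s (ho : Odd (Nat.card Z)) (h : Z ≤ K ⊔ 𝐂[E]) : Z ⊓ 𝐂₁[s] ≤ 𝐂[E] := fun z hz => by
  obtain ⟨k, hk, d, hd, rfl⟩ := (mem_join_norm (cents_norm o.CE_K)).1 (h hz.1)
  have h1 : k ∈ 𝐂₁[s] := by simpa using mul_mem (mem_inf.1 hz).2 (inv_mem (o.CE_s hd))
  have h2 := o.s_inv c hk
  rw [← mem_cent1.1 h1, mul_assoc, inv_sq o.os, mul_one] at h2
  refine mem_of_sq ho hz.1 ?_
  rw [mul_assoc, ← mul_assoc d, ← o.CE_K hd k hk, ← mul_assoc, ← mul_assoc,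
    mul_eq_one_iff_eq_inv.2 h2, one_mul]
  exact mul_mem hd hd

theorem nil_le (h : Z ≤ U ⊓ M) (hn : Group.IsNilpotent Z) (hK : K ≤ 𝐍[Z]) : Z ≤ K ⊔ 𝐂[E] := by
  rw [← nilpotent_Fitting hn, ← o.od_eq]
  refine Fitting_le_of_forall fun r hr => ?_
  haveI := Fact.mk hr
  by_cases e : core {r} Z = ⊥
  · exact e ▸ bot_le
  exact o.lt.kf r _ hr (ne_two_of_le (oddSg (h.trans inf_le_left) (oc_odd t)) (pcore_pgroup' r Z)
    (pcore_sub _ _) e) (pcore_pgroup' r Z) ((pcore_sub _ _).trans (h.trans (le_inf inf_le_right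
      (inf_le_left.trans (oc_le t))))) (norms_pcore _ hK)

theorem FM_le : F ⊓ M ≤ K ⊔ 𝐂[E] :=
  o.nil_le c (inf_le_inf_right _ (Fitting_sub _)) (nilpotentS inf_le_left (Fitting_nil _))
    (normsI (norms_Fitting (o.KH.trans (oc_norm t))) (normsG o.KM))

/-- `C_F(s) = C_F(E)` -/
theorem cent_eq (h : Z ≤ F) : Z ⊓ 𝐂₁[s] = Z ⊓ 𝐂[E] := by
  refine le_antisymm (le_inf inf_le_left (le_trans ?_ (o.cent_s c (oddSg (inf_le_left.trans
    (Fitting_sub _)) (oc_odd t)) (o.FM_le c)))) (inf_le_inf_left _ o.CE_s)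
  exact le_inf (le_inf (inf_le_left.trans h) ((inf_le_inf_right _ (h.trans (Fitting_sub _))).trans
    (o.W_le c))) inf_le_right

/-- an `s`-invariant subgroup of `F ∩ M` splits -/
theorem dec (h : Z ≤ F ⊓ M) (hs : s ∈ 𝐍[Z]) : DProd (Z ⊓ K) (Z ⊓ 𝐂[E]) Z := by
  have := dprodEY (A := Z ⊓ K) (B := Z ⊓ 𝐂[E]) (centSS inf_le_right inf_le_right o.CE_K)
    (eq_bot_iff.2 ((inf_le_inf inf_le_right inf_le_right).trans o.K_CE.le))
  rwa [← o.cent_eq c (h.trans inf_le_left), ← o.dec_s c (h.trans (inf_le_inf_right _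
    (Fitting_sub _))) hs, o.cent_eq c (h.trans inf_le_left)] at this

/-- `Z ∩ M = (Z ∩ K) × C_Z(E)` for `Z ≤ F` normalized by `s` -/
theorem decM (h : Z ≤ F) (hs : s ∈ 𝐍[Z]) : DProd (Z ⊓ K) (Z ⊓ 𝐂[E]) (Z ⊓ M) := by
  have := o.dec c (inf_le_inf_right _ h) (zpowers_le.1 (normsI (zpowers_le.2 hs)
    (normsG (zpowers_le.2 (o.S_le c o.sS)))))
  rwa [inf_assoc, inf_eq_right.2 o.KM, inf_assoc, inf_eq_right.2 (cent_sub E)] at this

theorem sF : s ∈ 𝐍[F] := norms_Fitting (oc_norm t) (o.sH c)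

theorem sY (π : Set ℕ) : s ∈ 𝐍[core π U] := norms_pcore _ (oc_norm t) (o.sH c)

theorem exists_u : ∃ u ∈ U ⊓ 𝐍[F ⊓ M], u ∉ M := by
  by_cases h : F ≤ M
  · obtain ⟨u, hu, hn⟩ := SetLike.not_le_iff_exists.1 (o.U_not_le c)
    exact ⟨u, ⟨hu, by rw [inf_eq_left.2 h]; exact (Fitting_normal _).2 hu⟩, hn⟩
  · obtain ⟨u, hu, hn⟩ := SetLike.exists_of_lt (nilpotent_proper_norm (Fitting_nil U)
      (inf_lt_left.2 h))
    exact ⟨u, ⟨Fitting_sub _ hu.1, hu.2⟩, fun e => hn ⟨hu.1, e⟩⟩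

/-- `C_F(E)` is cyclic -/
theorem XF_cyc : IsCyclic ↥(F ⊓ 𝐂[E]) := by
  obtain ⟨u, hu, hn⟩ := o.exists_u c
  have d := o.decM c le_rfl (o.sF c)
  refine isCyclic_conj.1 (cyc_of_TI (A := u •ᶜ (F ⊓ 𝐂[E])) (cyclicS inf_le_right o.lt.cyc)
    (cents_norm d.cent') (d.sup_eq ▸ conj_le_of_mem_norm hu.2 d.right_le) ?_)
  by_contra e
  exact hn (o.ti e inf_le_left (inf_le_right.trans (conj_le_conj.2 inf_le_right)))

theorem X_cyc : IsCyclic ↥(Y ⊓ 𝐂₁[s]) := cyclicS o.X_le (o.XF_cyc c)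

theorem FM_ab : IsMulCommutative ↥(F ⊓ M) := (o.decM c le_rfl (o.sF c)).abelian.2
  ⟨abelianS inf_le_right o.Kab, cyclic_abelian (o.XF_cyc c)⟩

/-- `C_Z(a) = Z ∩ M` for `Z ≤ F` -/
theorem cent_a (h : Z ≤ F) (h1 : a ≠ 1) (ha : a ∈ F ⊓ 𝐂[E]) : Z ⊓ 𝐂₁[a] = Z ⊓ M :=
  le_antisymm (inf_le_inf_left _ (o.cent1_le h1 ha)) (le_inf inf_le_left
    ((inf_le_inf_right _ h).trans (le_cent1.2 (abelian_iff.1 (o.FM_ab c) ⟨ha.1, cent_sub E ha.2⟩))))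

/-- `Y ∩ M = C × X` -/
theorem YM : DProd (Y ⊓ K) (Y ⊓ 𝐂₁[s]) (Y ⊓ M) := o.X_eq ▸ o.decM c o.YF (o.sY c _)

/-- every prime divisor of `|F|` divides `|K|` -/
theorem core_K [Fact r.Prime] (h : core {r} U ≠ ⊥) : core {r} U ⊓ K ≠ ⊥ := fun e => by
  have d := (o.decM c (pcore_sub_Fitting r U) (o.sY c _)).sup_eq
  rw [e, bot_sup_eq] at d
  have hn := pgroup_nil (pcore_pgroup' r U)
  have h1 : core {r} U ≤ 𝐂[E] := by
    by_cases e1 : core {r} U ⊓ 𝐂[E] = ⊥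
    · rw [e1] at d
      by_cases rp : r = p
      · exact absurd (o.X_eq.trans (rp ▸ e1)) o.X0
      · exact ((le_inf le_rfl ((sub_pcore (by simpa using Ne.symm rp) U).trans o.p'_le)).trans
          d.ge).trans bot_le
    · rw [← nilpotent_sub_norm hn inf_le_left ((inf_le_inf_left _ (o.uniq _ e1
        (inf_le_inf_right _ (pcore_sub_Fitting r U)))).trans d.ge)]
      exact inf_le_right
  exact o.not_norm c h (oddSg (pcore_sub _ _) (oc_odd t)) (norms_pcore _ (oc_norm t))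
    (cents_norm (centsC.1 h1))

theorem C_ne : Y ⊓ K ≠ ⊥ := haveI := Fact.mk o.pr; o.core_K c o.Y_ne

omit c in
theorem C_cyc : IsCyclic ↥(Y ⊓ K) := cyclicS inf_le_right o.lt.cyc

theorem dvd_K [Fact r.Prime] (h : core {r} U ≠ ⊥) : r ∣ Nat.card K :=
  (pgroup_pdiv ((pcore_pgroup' r U).to_le inf_le_left) (o.core_K c h)).trans
    (card_dvd_of_le inf_le_right)

set_option quotPrecheck false in
local notation "C0" => Ohm1 p (core {p} (oc t) ⊓ K)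
set_option quotPrecheck false in
local notation "A0" => Ohm1 p (core {p} (oc t) ⊓ 𝐂₁[s])
set_option quotPrecheck false in
local notation "Θ" => Ohm1 p (ucn 2 (core {p} (oc t)))

theorem C0_card : Nat.card C0 = p :=
  haveI := Fact.mk o.pr; Ohm1_cyclic_pgroup_prime o.C_cyc (o.Yp.to_le inf_le_left) (o.C_ne c)

theorem A0_card : Nat.card A0 = p :=
  haveI := Fact.mk o.pr; Ohm1_cyclic_pgroup_prime (o.X_cyc c) (o.Yp.to_le inf_le_left) o.X0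

theorem OhmYM : DProd C0 A0 (Ohm1 p (Y ⊓ M)) := Ohm_dprod (o.YM c) p

theorem OhmYM_card : Nat.card (Ohm1 p (Y ⊓ M)) = p ^ 2 := by
  rw [← dprod_card (o.OhmYM c), o.C0_card c, o.A0_card c, sq]

theorem exists_a : ∃ a, a ≠ 1 ∧ A0 = ⟪a⟫ ∧ a ∈ F ⊓ 𝐂[E] ∧ Y ⊓ 𝐂₁[a] = Y ⊓ M := by
  have hp : (Nat.card A0).Prime := (o.A0_card c).symm ▸ o.pr
  obtain ⟨a, ha, a1⟩ := exists_ne_one (ne_bot_of_prime hp)
  have h := o.X_le (Ohm_sub _ _ ha)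
  exact ⟨a, a1, nt_gen_prime hp ha a1, h, o.cent_a c o.YF a1 h⟩

omit c o in
theorem Th_le : Θ ≤ Y := (Ohm_sub _ _).trans (ucn_sub _ _)

omit c o in
theorem Th_norm : 𝐂₁[t] ≤ 𝐍[Θ] :=
  norms_Ohm1 _ (char_norm_trans (ucn_char _ _) (norms_pcore _ (oc_norm t)))

theorem Th_exp : ∀ x ∈ Θ, x ^ p = 1 := haveI := Fact.mk o.pr; BG4P.Ohm1_ucn2_exp o.Yp (o.p2 c)

theorem Y_ncyc : ¬ IsCyclic Y := fun h => haveI := Fact.mk o.pr
  (cyclic_pgroup_dprod_trivg (cyclicS inf_le_left h) (o.Yp.to_le inf_le_left) (o.YM c)).elim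
    (o.C_ne c) o.X0

theorem Th_ncyc : ¬ IsCyclic Θ := fun h => by
  haveI := Fact.mk o.pr
  obtain ⟨D, h1, h2⟩ := BG4P.ex_odd_normal_p2Elem o.Yp (o.p2 c) (o.Y_ncyc c)
  exact p2Elem_not_cyclic h2 (cyclicS (abelem_le_Ohm1 (BG4P.p2_le_ucn2 o.Yp h1 h2.2.2.le) h2.2.1) h)

theorem Th_odd : Odd (Nat.card Θ) := oddSg (Th_le.trans (pcore_sub _ _)) (oc_odd t)

theorem Th_M : Θ ⊓ M ≤ Ohm1 p (Y ⊓ M) :=
  le_Ohm1 (inf_le_inf_right _ Th_le) fun x hx => o.Th_exp c x hx.1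

variable (hY : ¬ core {p} (oc t) ≤ 𝐍[E])
include hY

/-- if `Y ≰ M`, then `C_F(Y) ≤ K` -/
theorem le_K (h : Z ≤ F ⊓ 𝐂[Y]) (hs : s ∈ 𝐍[Z]) : Z ≤ K := by
  have d := o.dec c (h.trans (inf_le_inf_left _ ((centS inf_le_left).trans (o.cent_le o.X0 o.X_le))))
    hs
  have e : Z ⊓ 𝐂[E] = ⊥ := by_contra fun e => hY ((centsC.1 (inf_le_left.trans (h.trans
    inf_le_right))).trans (o.cent_le e (inf_le_inf_right _ (h.trans inf_le_left))))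
  exact d.sup_eq.ge.trans (sup_le inf_le_right (e ▸ bot_le))

theorem ZY_le : 𝐙[Y] ≤ Y ⊓ K := le_inf inf_le_left (o.le_K c hY (inf_le_inf_right _ o.YF)
  (norms_center le_rfl (o.sY c _)))

theorem p'F_le : core {p}ᶜ F ≤ K := o.le_K c hY (le_inf (pcore_sub _ _)
  ((pcore_Fitting _ _).trans (p'core_cents {p} U))) (norms_pcore _ le_rfl (o.sF c))

theorem core_le [Fact r.Prime] (h : r ≠ p) : core {r} U ≤ K :=
  (p_core_Fitting r U).ge.trans ((sub_pcore (by simpa using h.symm) F).trans (o.p'F_le c hY))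

theorem OhmZ : Ohm1 p 𝐙[Y] = C0 := haveI := Fact.mk o.pr
  Ohm1_eq_of_le (Ohm1_cyclic_le o.C_cyc (o.Yp.to_le inf_le_left) (o.ZY_le c hY)
    (center_nil_ne_bot (pgroup_nil o.Yp) o.Y_ne)) (o.ZY_le c hY)

theorem C0_Z : C0 ≤ 𝐙[Y] := o.OhmZ c hY ▸ Ohm_sub _ _

theorem C0_norm : 𝐂₁[t] ≤ 𝐍[C0] :=
  o.OhmZ c hY ▸ norms_Ohm1 _ (norms_center (norms_pcore _ (oc_norm t)))

theorem C0_le : C0 ≤ Θ := o.OhmZ c hY ▸ OhmS _ (center_le_ucn2 _)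

theorem Th_comm : ⁅Θ, Y⁆ ≤ C0 := commutator_le.2 fun x hx y hy => by
  have h := (BG4P.mem_ucn2.1 (Ohm_sub _ _ hx)).2 y hy
  rw [← o.OhmZ c hY]
  refine mem_Ohm1 h ?_
  rw [← comm_pow (h.2 x (Th_le hx)).symm, o.Th_exp c x hx, commutatorElement_one_left]

theorem Th_comm' : ⁅Y, Θ⁆ ≤ C0 := commGC Θ Y ▸ o.Th_comm c hY

/-- `C` centralizes `Θ` -/
theorem Th_C : Θ ≤ 𝐂[Y ⊓ K] := by
  have hs := zpowers_le.2 (Th_norm (p := p) (o.sH c))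
  rw [← coprime_cent_prod hs (cop_inv (o.Th_odd c) o.os) (.inr (cyclic_sol (cycle_cyclic s))),
    cent_cycle]
  refine sup_le (commg_cent_cyclic o.C_cyc (commg_subr.1 ((commgS _ inf_le_left).trans
    ((o.Th_comm c hY).trans (Ohm_sub _ _)))) (normsI (zpowers_le.2 (o.sY c _)) ?_))
    ((inf_le_inf_right _ Th_le).trans (o.YM c).cent)
  exact zpowers_le.2 (mem_norm_of_conj_le (conj_le_iff_forall.2 fun x hx => by
    rw [inv_inv' o.os, o.s_inv c hx]; exact inv_mem hx))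

/-- case (i) -/
theorem case1 (h : ¬ A0 ≤ Θ) : Nat.card Θ = p ^ 2 ∧ Θ ⊓ 𝐂₁[s] = ⊥ ∧ ∀ x ∈ Θ, s * x * s = x⁻¹ := by
  haveI := Fact.mk o.pr
  have h1 : Θ ⊓ 𝐂₁[s] = ⊥ := eq_bot_iff.2 ((le_inf (le_Ohm1 (inf_le_inf_right _ Th_le)
    fun x hx => o.Th_exp c x hx.1) inf_le_left).trans
      (prime_TIg ((o.A0_card c).symm ▸ o.pr) h).le)
  refine ⟨?_, h1, fun x => inverts_of_fpf (o.Th_odd c) o.os (Th_norm (o.sH c)) h1⟩
  obtain ⟨a, a1, e, ha, -⟩ := o.exists_a c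
  have hF := (Th_le (p := p) (t := t)).trans o.YF
  have h2 := (o.decM c hF (Th_norm (o.sH c))).sup_eq
  rw [← o.cent_eq c hF, h1, sup_bot_eq, ← o.cent_a c hF a1 ha] at h2
  have h3 := relIndex_cent1_le (a := a) fun y hy => o.Th_comm c hY (mem_commg hy
    (mem_inf.1 (Ohm_sub _ _ (e.ge (mem_zpowers a)))).1)
  have h4 : Nat.card ↥(Θ ⊓ 𝐂₁[a]) ≤ p := (card_le_of_le (h2 ▸ le_Ohm1 (inf_le_inf_right _ Th_le)
    fun x hx => o.Th_exp c x hx.1)).trans (o.C0_card c).le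
  have h5 : Nat.card Θ ≤ p ^ 2 := by
    rw [← card_inf_mul_relIndex (H := 𝐂₁[a]), sq, inf_comm]
    exact Nat.mul_le_mul h4 (h3.trans (o.C0_card c).le)
  have hp := o.Yp.to_le (Th_le (p := p) (t := t))
  exact Nat.dvd_antisymm (card_dvd_of_le_pow hp h5) ((pow_sq_dvd_der_index hp (o.Th_ncyc c)).trans
    (FT.relIndex_dvd_card _ _))

/-- cases (ii), (iii) -/
theorem index_p (h : A0 ≤ Θ) : 𝐍[E].relIndex Y = p := by
  haveI := Fact.mk o.pr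
  obtain ⟨a, a1, e, ha, e'⟩ := o.exists_a c
  have h3 := relIndex_cent1_le (a := a) fun y hy => o.Th_comm' c hY
    (mem_commg hy (h (e.ge (mem_zpowers a))))
  rw [o.C0_card c, ← inf_relIndex_left, e', inf_relIndex_left] at h3
  exact le_antisymm h3 (Nat.le_of_dvd (relIndex_pos _ _) (dvd_relIndex_of_pgroup o.Yp hY))

theorem Th_M_eq (h : A0 ≤ Θ) : Θ ⊓ M = Ohm1 p (Y ⊓ M) := le_antisymm (o.Th_M c) (le_inf
  ((o.OhmYM c).sup_eq.ge.trans (sup_le (o.C0_le c hY) h)) ((Ohm_sub _ _).trans inf_le_right))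

/-- case (ii) -/
theorem case2 (h : A0 ≤ Θ) (h' : Θ ≤ M) : Θ = Ohm1 p (Y ⊓ M) := by
  rw [← o.Th_M_eq c hY h, inf_eq_left.2 h']

/-- case (iii) -/
theorem case3 (h : A0 ≤ Θ) (h' : ¬ Θ ≤ M) : Nat.card Θ = p ^ 3 ∧ 𝐙[Y] = Y ⊓ K ∧
    Y ⊓ 𝐂₁[s] = A0 ∧ Y ⊓ K ⊔ Θ = Y := by
  haveI := Fact.mk o.pr
  have i1 : (Y ⊓ M).relIndex Y = p := by rw [inf_relIndex_left, o.index_p c hY h]
  have h1 : Y ⊓ M ⊔ Θ = Y := (BG4P.eq_or_eq_of_relIndex i1 le_sup_left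
    (sup_le inf_le_left Th_le)).resolve_left fun e => h' ((le_sup_right.trans e.le).trans inf_le_right)
  have ab := abelian_iff.1 (abelianS (inf_le_inf_right _ o.YF) (o.FM_ab c))
  have h2 : Y ⊓ 𝐂₁[s] = A0 := (Ohm1_eq_self fun x hx => by
    refine mem_bot.1 (o.K_CE ▸ ⟨(o.ZY_le c hY ⟨pow_mem hx.1 _, ?_⟩).2, pow_mem (o.XE hx) _⟩)
    rw [← h1]
    refine zpowers_le.1 (centsY (zpowers_le.2 (pow_mem (ab ((o.YM c).right_le hx)) _))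
      (zpowers_le.2 fun y hy => ?_))
    have h3 : ⁅x, y⁆ ∈ C0 := o.Th_comm' c hY (mem_commg hx.1 hy)
    rw [eq_comm, ← commutatorElement_eq_one_iff_mul_comm,
      comm_pow ((o.C0_Z c hY h3).2 x hx.1).symm]
    exact o.Th_exp c _ (o.C0_le c hY h3)).symm
  refine ⟨?_, le_antisymm (o.ZY_le c hY) (le_inf inf_le_left ?_), h2, ?_⟩
  · rw [(mulEq_of_sup' (inf_le_left.trans ((pcore_sub _ _).trans ((oc_le t).trans Th_norm)))
      h1).relIndex_eq, ← inf_relIndex_left, ← inf_assoc, inf_eq_left.2 Th_le,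
      inf_relIndex_left] at i1
    rw [← card_inf_mul_relIndex (H := M), inf_comm, o.Th_M_eq c hY h, o.OhmYM_card c, i1, pow_succ p 2]
  · nth_rewrite 2 [← h1]
    exact centsY ((o.YM c).left_le.trans ab) (centsC.1 (o.Th_C c hY))
  · nth_rewrite 3 [← h1]
    rw [← (o.YM c).sup_eq, sup_assoc, sup_eq_right.2 (h2.le.trans h)]

end Obs

end Cfsg.GW
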