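import Cfsg.Agent.GW.Ao4c
import Cfsg.Agent.GW.Obs
import Cfsg.Agent.GW.Ao3

/-!
# S4594 core, piece `StAo4`
-/

set_option autoImplicit false
set_option linter.unusedSectionVars false

namespace Cfsg.GW.Ao4

open Subgroup Cfsg.FT Cfsg.Gag
open scoped Pointwise

universe u

variable {G : Type u} [Group G] [Finite G] [IsSimpleGroup G] {S E K V : Subgroup G} {t s σ x : G}
  {p : ℕ} {ε : ℤ} (c : Ctx S t) (o : Obs S t s E K ε p) (hS : S ≤ E)
include c o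

local notation "M" => 𝐍[E]
local notation "U" => oc t
set_option quotPrecheck false in
local notation "Y" => core {p} (oc t)

theorem K_norm : K ⊴ E ⊓ 𝐂₁[t] := ⟨o.lt.le, normsP.2 fun g hg x hx => by
  by_cases h : g ∈ K
  · exact mul_mem (mul_mem h hx) (inv_mem h)
  · obtain ⟨h1, h2⟩ := o.lt.inv g hg h
    rw [inv_eq_of_mul_eq_one_right h1, h2 x hx]
    exact inv_mem hx⟩

theorem idx2 : K.relIndex (E ⊓ 𝐂₁[t]) = 2 :=
  Nat.eq_of_mul_eq_mul_left Nat.card_pos (by rw [card_mul_relIndex o.lt.le, o.lt.idx, mul_comm])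

theorem K_F (hx : x ∈ K) (h2 : IsPGroup 2 ⟪x⟫) : U ≤ 𝐂₁[x] := by
  have h1 : ⟪x⟫ ≤ 𝐍[U] := zpowers_le.2 (oc_norm t (o.KH hx))
  obtain ⟨a, a1, -, ha, -⟩ := o.exists_a c
  have h3 : 𝐂[E] ≤ 𝐂[⟪x⟫] := centS (zpowers_le.2 (o.KE hx))
  rw [← cent_cycle, centsC]
  exact le_trans (le_inf le_rfl (coprime_nil_faithful_cent_stab (norms_Fitting h1)
    (cop_two (oddSg (Fitting_sub U) (oc_odd t)) h2) (Fitting_nil U) ((inf_le_inf_left _
      (cent_le_cent1 (mem_inf.2 ⟨ha.1, h3 ha.2⟩))).trans ((o.cent_a c le_rfl a1 ha).le.trans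
        ((o.FM_le c).trans (sup_le (sub_abelian_cent o.Kab (zpowers_le.2 hx)) h3))))))
    (coprime_cent_Fitting h1 (cop_two (oc_odd t) h2) c.U_sol)

include hS

theorem gen (e : S ⊓ K = ⟪σ⟫) : ⟪σ⟫ ⊔ ⟪s⟫ = S := by
  refine le_antisymm (sup_le (e ▸ inf_le_left) (zpowers_le.2 o.sS)) fun x hx => ?_
  by_cases h : x ∈ K
  · exact mem_sup_left (e ▸ ⟨hx, h⟩)
  have := (mul_mem_iff_of_index_two (H := K.subgroupOf (E ⊓ 𝐂₁[t])) (idx2 c o)
    (a := ⟨x, hS hx, c.cen hx⟩) (b := ⟨s, o.sE, o.sH c⟩)).2 (iff_of_false h (o.sK c))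
  rw [← mul_mem_cancel_right (mem_sup_right (mem_zpowers s))]
  exact mem_sup_left (e ▸ ⟨mul_mem hx o.sS, this⟩)

theorem W_comm (hV : Klein V) (h : V ≤ S) : ⁅od 𝐂[V], 𝐍[V]⁆ ≤ ⁅od 𝐂[V], od 𝐂[V]⁆ := by
  have ht := c.tV hV h
  obtain ⟨v, hv, v1, vt⟩ := klein_other hV t
  have ov := hV.orderOf hv v1
  have vK := o.lt.not_mem c.ot ov (c.cen (h hv)) vt
  have n1 : 𝐍[V] ≤ 𝐍[od 𝐂[V]] := norms_pcore _ (cent_norm V)
  have e := c.W_eq hV ht hv c.t1 v1 vt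
  have h1 : od 𝐂[V] ≤ M := e.le.trans (le_trans (Ao3.cent_eq c o (hS (h hv)) vK ▸
    normsI (inf_le_left.trans (pcore_normal _ _).2) (normsG inf_le_right)) o.NX_le)
  have h2 : E ⊓ 𝐍[V] ≤ 𝐂[od 𝐂[V]] := commG1P.1 (eq_bot_iff.2 ((commg_subI (A := E) (B := od 𝐂[V])
    (le_inf inf_le_left (inf_le_right.trans n1)) (le_inf le_rfl h1)).trans fun x hx => by
      rw [e] at hx
      exact eq_one_of_inv (inv_sq ov) (odd_ord (oc_odd t) hx.2.1) ((o.lt.inv v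
        ⟨hS (h hv), c.cen (h hv)⟩ vK).2 x ((o.UE c).le ⟨hx.2.1, hx.1⟩).2) hx.2.2))
  have h3 : 𝐍[V] ≤ od 𝐂[V] ⊔ E ⊓ 𝐍[V] := fun n hn => by
    obtain ⟨y, hy, e'⟩ := o.res.fus V hV (h.trans hS) _ ((memJ_norm hn).2 ht) t ht
      (fun e => c.t1 (conj_eq_one_iff.1 e)) c.t1
    have h4 : y * n ∈ 𝐂₁[t] := mem_cent1.2 (mul_inv_eq_iff_eq_mul.1 (Eq.trans (by group) e'))
    obtain ⟨u, hu, a, ha, e''⟩ := (mem_join_norm c.SU).1 (c.sup.ge h4)
    have h5 := c.SV hV h ha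
    have h6 : u ∈ U ⊓ 𝐍[V] := ⟨hu, (mul_mem_cancel_right h5).1 (e'' ▸ mul_mem hy.2 hn)⟩
    rw [coprime_norm_cent (h.trans c.SU) (cop_two (oc_odd t) hV.pgroup), ← c.od_cent hV ht c.t1] at h6
    rw [← mul_mem_cancel_left (mem_sup_right hy), ← e'']
    exact mul_mem (mem_sup_left h6) (mem_sup_right ⟨hS ha, h5⟩)
  rw [commGC, ← commg_sup_cent' (inf_le_right.trans n1) h2]
  exact commSg _ h3

theorem comm (h1 : StC1K.{u}) (h2 : StC1D.{u}) (e : S ⊓ K = ⟪σ⟫) : ⁅U, ⟪s⟫⁆ = U := by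
  have h : ⁅U, S⁆ = U := by_contra fun h => by
    rcases c.shape with hK | ⟨f, x, hD, rfl⟩
    · exact (h1 G S t s c.syl hK c.tS o.sS c.t1 (inv_ne_one o.os) o.st h).1
        (W_comm c o hS hK le_rfl)
    · exact (h2 G S f x c.syl hD h).1 fun V => W_comm c o hS
  have hσ : σ ∈ S ⊓ K := e ▸ mem_zpowers σ
  have h3 := centsC.1 (cent_cycle σ ▸ K_F c o hσ.2 (c.S2.to_le (zpowers_le.2 hσ.1)))
  rwa [← gen c o hS e, commGC, sup_comm, commg_sup_cent (cents_norm (centsS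
    (commg_subr.2 (zpowers_le.2 (c.SU o.sS))) h3)) h3, commGC] at h

theorem card_K (e : S ⊓ K = ⟪σ⟫) : orderOf σ * kk t s = 𝐍[E].relIndex U * Nat.card K := by
  have h1 := Sylow_setI_normal (K_norm c o) (c.syl.subl (le_inf hS c.cen) le_top)
  have h2 := sdprod_card ((nil_pNil 2 (cyclic_nil o.lt.cyc)).sdprod h1)
  have h3 := card_mul_relIndex (inf_le_left : U ⊓ 𝐂₁[s] ≤ U)
  have h4 := card_mul_relIndex (inf_le_left : U ⊓ M ≤ U)
  have h5 : U ⊓ 𝐂₁[s] ≤ 𝐍[od K] := o.UK c ▸ o.UE c ▸ normsI (normsG inf_le_left) (o.W_le c)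
  rw [inf_relIndex_left] at h3 h4
  rw [o.UM c, card_sup_of_disjoint h5 (eq_bot_iff.2 ((inf_le_inf_left _ inf_le_right).trans
    (o.K_s c (od_odd K) (pcore_sub _ _)).le)), ← h3] at h4
  rw [e, Nat.card_zpowers] at h2
  refine Nat.eq_of_mul_eq_mul_left (Nat.card_pos (α := ↥(U ⊓ 𝐂₁[s]))) ?_
  rw [← h2, kk, mul_left_comm, ← h4]
  ring

theorem q_dvd : (2 * Nat.card K + ε : ℤ) ∣ 𝐍[E].relIndex U * ii t := by
  have h1 := card_mul_relIndex (inf_le_left : E ⊓ 𝐂₁[t] ≤ E)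
  have h2 := relIndex_inf_dvd_of_normal (H := 𝐂₁[t] ⊓ M) le_rfl inf_le_right (normG E)
  rw [inf_relIndex_left, o.lt.idx] at h1
  rw [inf_relIndex_right, ← inf_relIndex_right _ E, inf_assoc, inf_eq_right.2 (normG E),
    inf_relIndex_right] at h2
  have h3 : (𝐂₁[t].relIndex E : ℤ) = (2 * Nat.card K + ε) * (Nat.card K + ε) :=
    mul_left_cancel₀ (a := (2 * Nat.card K : ℤ)) (by have := Nat.card_pos (α := K); omega)
      (by rw [← mul_assoc, ← o.lt.card, ← h1]; push_cast; ring)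
  refine (Dvd.intro _ h3.symm).trans ?_
  exact_mod_cast Ao3.index_eq c o hS ▸ h2.mul_right _

omit c o hS in
theorem _root_.Cfsg.GW.stAo4 (h1 : StC1K.{u}) (h2 : StC1D.{u}) (hG : StGB.{u}) : StAo4.{u} := by
  intro G _ _ _ S E K t s ε p c o hS hm
  haveI := Fact.mk o.pr
  obtain ⟨σ, e⟩ := cyclicP.1 (cyclicS (inf_le_right : S ⊓ K ≤ K) o.lt.cyc)
  have hσ : σ ∈ S ⊓ K := e ▸ mem_zpowers σ
  have hc := comm c o hS h1 h2 e
  have po := o.pr.odd_of_ne_two (o.p2 c)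
  have p3 : 3 ≤ p := (o.p2 c).lt_of_le' o.pr.two_le
  have hk : 2 * p ∣ Nat.card K := Nat.Coprime.mul_dvd_of_dvd_of_dvd (by simpa using po)
    (c.ot ▸ orderOf_dvd_natCard K o.lt.tK) (o.dvd_K c o.Y_ne)
  have mo : Odd (𝐍[E].relIndex (oc t)) := (oc_odd t).of_dvd_nat (FT.relIndex_dvd_card _ _)
  obtain ⟨a, a1, ea, ha, -⟩ := o.exists_a c
  have oa : orderOf a = p := by rw [← Nat.card_zpowers, ← ea, o.A0_card c]
  have small : ¬ oc t ≤ 𝐍[Ohm1 p (core {p} (oc t) ⊓ 𝐍[E])] := fun h => by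
    have := index_le_lines h (Ohm1_abelem (abelianS (inf_le_inf_right _ o.YF) (o.FM_ab c))).2
      ((o.OhmYM c).right_le (ea ▸ mem_zpowers a)) oa (o.cyc_le a1 ha)
    rw [o.OhmYM_card c, ← one_pow 2, Nat.sq_sub_sq, one_pow] at this
    have h3 := Nat.le_of_mul_le_mul_right this (by omega)
    have h4 := Nat.le_of_dvd Nat.card_pos hk
    obtain ⟨i, hi⟩ := po
    obtain ⟨j, hj⟩ := mo
    omega
  by_cases hY : core {p} (oc t) ≤ 𝐍[E]
  · exact small (norms_Ohm1 p (by rw [inf_eq_left.2 hY]; exact (pcore_normal _ _).2))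
  have nT := (oc_le t).trans (Obs.Th_norm (p := p))
  by_cases hA : Ohm1 p (core {p} (oc t) ⊓ 𝐂₁[s]) ≤ Ohm1 p (ucn 2 (core {p} (oc t)))
  swap
  · have := hc ▸ DL.comm_cent_of_inv (inv_sq o.os) nT (o.case1 c hY hA).2.2
    exact o.Th_ncyc c (cyclicS ((le_inf Obs.Th_le (centsC.1 ((pcore_sub _ _).trans this))).trans
      (o.ZY_le c hY)) (o.C_cyc))
  by_cases hT : Ohm1 p (ucn 2 (core {p} (oc t))) ≤ 𝐍[E]
  · exact small (o.case2 c hY hA hT ▸ nT)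
  obtain ⟨e1, e2, e3, e4⟩ := o.case3 c hY hA hT
  have aT := hA (ea ▸ mem_zpowers a)
  have ZK := sup_le (inf_le_right : core {p} (oc t) ⊓ K ≤ K) (o.p'F_le c hY)
  have x : XS S t s σ (core {p} (oc t) ⊓ K ⊔ core {p}ᶜ (fit (oc t))) _ p :=
    ⟨c, o.co, o.os, gen c o hS e, e ▸ ⟨c.tS, o.lt.tK⟩, fun h => o.sK c (e.ge h).2,
      o.s_inv c hσ.2, K_F c o hσ.2 (c.S2.to_le (zpowers_le.2 hσ.1)), hc, Obs.Th_norm,
      Obs.Th_le.trans (pcore_sub _ _), o.Th_exp c, e1,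
      fun h => hT ((le_cent1.2 (abelian_iff.1 h aT)).trans (o.cent1_le a1 ha)),
      by rw [le_antisymm ((inf_le_inf_right _ Obs.Th_le).trans e3.le)
        (le_inf hA (e3.ge.trans inf_le_right)), o.A0_card c],
      cyclicS ZK o.lt.cyc, sup_le (inf_le_left.trans (pcore_sub _ _))
        ((pcore_sub _ _).trans (Fitting_sub _)),
      normsY (e2 ▸ norms_center (pcore_normal _ _).2) (norms_pcore _ (Fitting_normal _).2),
      fun z hz => o.s_inv c (ZK hz), by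
        rw [← sup_assoc, sup_comm _ (_ ⊓ K), e4, ← p_core_Fitting, (Fitting_dprod _ _).sup_eq],
      le_sup_of_le_left (e2 ▸ le_inf (inf_le_left.trans Obs.Th_le)
        (centsS e4.ge (centsY (inf_le_left.trans (o.Th_C c hY)) inf_le_right)))⟩
  obtain ⟨δ, hδ, ei⟩ := x.main hG
  have hq := q_dvd c o hS
  rw [ei, card_K c o hS e] at hq
  have i1 := o.index_p c hY hA
  have i2 := relIndex_inf_dvd_of_normal (H := 𝐍[E] ⊓ oc t) (pcore_normal {p} (oc t)).2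
    inf_le_right (pcore_sub _ _)
  rw [inf_relIndex_right, ← inf_relIndex_right _ (core {p} (oc t)), inf_assoc,
    inf_eq_right.2 (pcore_sub _ _), inf_relIndex_right, i1] at i2
  have i3 := indexgS (oc t) (inf_le_left : 𝐍[E] ⊓ core {p} (oc t) ≤ _)
  rw [← relIndex_mul_relIndex _ _ _ inf_le_right (pcore_sub {p} _), inf_relIndex_right, i1] at i3
  have i4 := index_le_lines nT (o.Th_exp c) aT oa (o.cyc_le a1 ha)
  have K0 := Nat.card_pos (α := K)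
  refine arith (ε := ε) p3 po hk K0 mo i2 (fun h => x.syl_core.index ?_) ?_ o.lt.eps hδ o.lt.pp
    (Int.toNat_of_nonneg (by rcases o.lt.eps with h | h <;> omega)) ?_
  · exact (Nat.mul_dvd_mul_iff_left o.pr.pos).1 (pow_two p ▸ h.trans i3)
  · rw [e1, show p ^ 3 - 1 = (p ^ 2 + p + 1) * (p - 1) by
      obtain ⟨r, rfl⟩ : ∃ r, p = r + 1 := ⟨p - 1, by omega⟩
      rw [Nat.add_sub_cancel, Nat.sub_eq_of_eq_add]; ring] at i4
    exact Nat.le_of_mul_le_mul_right i4 (by omega)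
  · rw [Int.toNat_of_nonneg (by rcases o.lt.eps with h | h <;> omega)]
    exact_mod_cast hq

end Cfsg.GW.Ao4
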