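import Cfsg.Agent.GW.Ba

/-!
# S4594 core, pieces B1 and B2
-/

set_option autoImplicit false
set_option linter.unusedSectionVars false

namespace Cfsg.GW

universe u

namespace Bb

open Subgroup Cfsg.FT Cfsg.Gag Cfsg.Gag.Fin5
open scoped Pointwise commutatorElement

variable {G : Type u} [Group G] [Finite G] {S A B A' B' A₀ D M P T V X : Subgroup G}
  {t a b a' b' n v g : G} {p q : ℕ}

theorem cyc (hV : Klein V) (hf : Fus ⊤ V) (ha : a ∈ V) (hb : b ∈ V) (a1 : a ≠ 1) (b1 : b ≠ 1)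
    (ab : a ≠ b) : ∃ y ∈ 𝐍[V], Odd (orderOf y) ∧ y ∉ 𝐂[V] ∧ y * a * y⁻¹ = b ∧
      y * (b * a) * y⁻¹ = a := by
  obtain ⟨k, hk, ok, kc⟩ := Fr.Fus.exists_odd hV hf
  obtain ⟨y, hy, e⟩ := Fr.fus_of_odd hV (⟨mem_zpowers k, hk.2⟩ : k ∈ ⟪k⟫ ⊓ 𝐍[V]) ok kc a ha b hb a1 b1
  have oy : Odd (orderOf y) := Odd.of_dvd_nat ok (orderOf_dvd_of_mem_zpowers hy.1)
  have yc : y ∉ 𝐂[V] := fun h => ab (by rw [← e, ← mem_cent.1 h a ha, mul_inv_cancel_right])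
  have c1 : b * a ≠ 1 := fun e' => ab (mul_left_cancel (e'.trans (hV.2 b hb).symm))
  refine ⟨y, hy.2, oy, yc, e, ?_⟩
  rcases Cj.klein_mem hV ha hb a1 b1 ab ((memJ_norm hy.2).2 (V.mul_mem hb ha)) with r | r | r | r
  · exact (c1 (conj_eq_one_iff.1 r)).elim
  · exact r
  · exact (b1 (mul_eq_right.1 (mul_left_cancel (mul_right_cancel (r.trans e.symm))))).elim
  · exact (yc (klein_fix hV hy.2 oy (V.mul_mem hb ha) c1 (mul_inv_eq_iff_eq_mul.1 r))).elim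

/-- `D` is the conjugate of `A₀` over `C(v)` -/
def CJ (V : Subgroup G) (t : G) (A₀ : Subgroup G) (v : G) (D : Subgroup G) : Prop :=
  ∃ n ∈ 𝐍[V], n * t * n⁻¹ = v ∧ n •ᶜ A₀ = D

theorem CJ.conj (h : CJ V t A₀ v D) (hn : n ∈ 𝐍[V]) : CJ V t A₀ (n * v * n⁻¹) (n •ᶜ D) := by
  obtain ⟨m, hm, rfl, rfl⟩ := h
  exact ⟨n * m, mul_mem hn hm, by group, (conj_conj _ _ _).symm⟩

theorem CJ.core (h : CJ V t A₀ v D) : core {q} D = ⊥ ↔ core {q} A₀ = ⊥ := by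
  obtain ⟨m, -, -, rfl⟩ := h
  rw [pcoreJ, conj_eq_bot]

/-- the standing hypotheses -/
structure Cf (S : Subgroup G) (t : G) (p : ℕ) (A₀ V : Subgroup G) : Prop where
  c : Ctx S t
  hL : StL1.{u}
  p2 : p ≠ 2
  bt : Bt p t A₀
  kl : Klein V
  le : V ≤ S
  nf : ¬ Fus A₀ V

variable [IsSimpleGroup G] [hp : Fact p.Prime]

theorem zj (hD : Dih G) (p2 : p ≠ 2) (hM : IsCoatom M) (h : PC p M) (h0 : core {p} M ≠ ⊥)
    (hP : Syl p P M) : 𝐍[𝐙[puig P]] = M ∧ Syl p P ⊤ := by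
  have h1 := Ben.norm_eq hM (ZJ.Puig_center_normal (DL.dih_ci2 hD) p2 h hP) fun e =>
    h0 (eq_bot_iff.2 ((pcore_sub_Sylow hP).trans (BG4P.trivg_center_Puig_pgroup hP.pgroup e).le))
  exact ⟨h1, (Sylow_subnorm le_top).1 (hP.subl (le_inf le_top (normG P))
    (inf_le_right.trans ((BG4P.center_Puig_char P).norm_le.trans h1.le)))⟩

theorem conjp (hD : Dih G) (p2 : p ≠ 2) (hA : IsCoatom A) (h : PC p A) (h0 : core {p} A ≠ ⊥)
    (hM : IsCoatom M) (h' : PC p M) (h0' : core {p} M ≠ ⊥) : ∃ g : G, M = g •ᶜ A := by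
  obtain ⟨P, hP⟩ := Sylow_exists (p := p) A
  obtain ⟨R, hR⟩ := Sylow_exists (p := p) M
  obtain ⟨e, s⟩ := zj hD p2 hA h h0 hP
  obtain ⟨e', s'⟩ := zj hD p2 hM h' h0' hR
  obtain ⟨g, -, rfl⟩ := Sylow_trans s s'
  exact ⟨g, by rw [← e', ← e, BG4P.PuigJ, center_conj, norm_conj]⟩

omit [IsSimpleGroup G] in
theorem fit_le (h : ∀ q, q.Prime → q ≠ p → core {q} M = ⊥) : fit M ≤ core {p} M :=
  Fitting_le_of_forall fun q hq => by
    by_cases e : q = p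
    · exact e ▸ le_rfl
    · exact (h q hq e).le.trans bot_le

omit [IsSimpleGroup G] in
theorem pc (hc : M ⊓ 𝐂[fit M] ≤ fit M) (h : ∀ q, q.Prime → q ≠ p → core {q} M = ⊥) : PC p M :=
  ((inf_le_inf_left _ (centS (fit_le h))).trans hc).trans (fit_le h)

namespace Cf

variable (k : Cf S t p A₀ V)
include k

theorem tV : t ∈ V := k.c.tV k.kl k.le

theorem bt' (h : CJ V t A₀ v D) : Bt p v D := by
  obtain ⟨m, -, rfl, rfl⟩ := h
  exact k.bt.conj m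

theorem mem (h : CJ V t A₀ v D) : v ∈ V := by
  obtain ⟨m, hm, rfl, -⟩ := h
  exact (memJ_norm hm).2 k.tV

theorem ne1 (h : CJ V t A₀ v D) : v ≠ 1 := inv_ne_one (k.bt' h).ov

theorem CV (h : CJ V t A₀ v D) : 𝐂[V] ≤ D := (cent_le_cent1 (k.mem h)).trans (k.bt' h).le

theorem ex (hv : v ∈ V) (v1 : v ≠ 1) : ∃ D, CJ V t A₀ v D := by
  obtain ⟨y, hy, e⟩ := k.c.fus V k.kl t k.tV v hv k.c.t1 v1
  exact ⟨_, y, hy.2, e, rfl⟩

theorem uniq (h : CJ V t A₀ v A) (h' : CJ V t A₀ v B) : A = B := by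
  obtain ⟨m, -, rfl, rfl⟩ := h
  obtain ⟨n, -, e, rfl⟩ := h'
  have : n⁻¹ * m ∈ A₀ := k.bt.le (mem_cent1.2 (by
    calc _ = n⁻¹ * (m * t * m⁻¹) * m := by group
      _ = _ := by rw [← e]; group))
  conv_rhs => rw [← conj_eq_of_mem this, conj_conj, mul_inv_cancel_left]

theorem inj (h : CJ V t A₀ a D) (h' : CJ V t A₀ b D) : a = b := by
  by_contra ab
  obtain ⟨m, hm, rfl, rfl⟩ := h
  have h2 := h'.conj (inv_mem hm)
  rw [inv_conj_conj] at h2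
  obtain ⟨y, hy, oy, yc, e, -⟩ := cyc k.kl (k.c.fus V k.kl) k.tV (k.mem h2) k.c.t1 (k.ne1 h2)
    fun e => ab (by rw [e]; group)
  have h3 := k.uniq ⟨y, hy, e, rfl⟩ h2
  exact k.nf (Fr.fus_of_odd k.kl ⟨(Ben.norm_eq k.bt.co (normal_refl _) fun e =>
    k.bt.ne (eq_bot_iff.2 ((pcore_sub _ _).trans e.le))).le (conj_eq_iff_mem_norm.1 h3), hy⟩ oy yc)

theorem all (h : V ≤ g •ᶜ A₀) : ∃ v, CJ V t A₀ v (g •ᶜ A₀) := by
  obtain ⟨a, ha, h1⟩ := Sylow_Jsub (k.c.syl.subl (k.c.cen.trans k.bt.le) le_top) (le_conj_iff.1 h)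
    (isPGroup_conj.2 k.kl.pgroup)
  rw [conj_conj] at h1
  have h2 : (a * g⁻¹) •ᶜ V = V := by
    rcases k.c.shape with hS | ⟨f, x, hS, -⟩
    · exact (eq_of_le_of_card_ge h1 (by rw [card_conj, hS.1, k.kl.1])).trans
        (eq_of_le_of_card_ge k.le (by rw [hS.1, k.kl.1])).symm
    · rcases d8_klein_eq hS k.kl k.le with e | e <;> rw [e] at h1 ⊢
      exacts [d8_conj_eq hS k.c.syl (mem_top _) h1, d8_conj_eq (d8_swap hS) k.c.syl (mem_top _) h1]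
  exact ⟨_, (a * g⁻¹)⁻¹, inv_mem (conj_eq_iff_mem_norm.1 h2), rfl, by
    rw [mul_inv_rev, inv_inv, ← conj_conj, conj_eq_of_mem (inv_mem ha)]⟩

theorem pair (hA : CJ V t A₀ a A) (hB : CJ V t A₀ b B) (ab : a ≠ b) (hA' : CJ V t A₀ a' A')
    (hB' : CJ V t A₀ b' B') (ab' : a' ≠ b') : Nat.card ↥(A ⊓ B) = Nat.card ↥(A' ⊓ B') := by
  have c1 : ∀ {a b : G}, b ∈ V → a ≠ b → b * a ≠ 1 := fun hb ab e' =>
    ab (mul_left_cancel (e'.trans (k.kl.2 _ hb).symm))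
  obtain ⟨y, hy, e⟩ := k.c.fus V k.kl _ (V.mul_mem (k.mem hB) (k.mem hA)) _
    (V.mul_mem (k.mem hB') (k.mem hA')) (c1 (k.mem hB) ab) (c1 (k.mem hB') ab')
  have e1 : y * b * y⁻¹ = b' * a' * (y * a * y⁻¹)⁻¹ := by rw [← e]; group
  rw [← card_conj y, conj_inf]
  rcases Cj.klein_mem k.kl (k.mem hA') (k.mem hB') (k.ne1 hA') (k.ne1 hB') ab'
    ((memJ_norm hy.2).2 (k.mem hA)) with r | r | r | r
  · exact (k.ne1 hA (conj_eq_one_iff.1 r)).elim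
  · rw [r, mul_inv_cancel_right] at e1
    rw [k.uniq (hA.conj hy.2) (r ▸ hA'), k.uniq (hB.conj hy.2) (e1 ▸ hB')]
  · rw [r, comm_of_abelian k.kl.ab (k.mem hB') (k.mem hA'), mul_inv_cancel_right] at e1
    rw [k.uniq (hA.conj hy.2) (r ▸ hB'), k.uniq (hB.conj hy.2) (e1 ▸ hA'), inf_comm]
  · rw [r, mul_inv_cancel] at e1
    exact (k.ne1 hB (conj_eq_one_iff.1 e1)).elim

theorem gen (hA : CJ V t A₀ a A) (hb : b ∈ V) (b1 : b ≠ 1) (ab : a ≠ b)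
    (h1 : core {p} A ⊓ 𝐂₁[b] ≤ 𝐂₁[a]) (h2 : core {p} A ⊓ 𝐂₁[b * a] ≤ 𝐂₁[a]) : False :=
  (k.bt' hA).nc (coprime_abelian_gen_cent1_le k.kl.ab k.kl.not_cyclic (((abelian_iff.1 k.kl.ab).trans
    (k.CV hA)).trans (pcore_normal _ A).2) (k.kl.coprime (k.bt' hA).odd') fun v hv v1 => by
      rcases Cj.klein_mem k.kl (k.mem hA) hb (k.ne1 hA) b1 ab hv with r | r | r | r
      exacts [(v1 r).elim, r ▸ inf_le_right, r ▸ h1, r ▸ h2])

theorem nx (hA : CJ V t A₀ a A) (hB : CJ V t A₀ b B) (ab : a ≠ b)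
    (h1 : core {p} A ⊓ 𝐂₁[b] ≤ 𝐂₁[a]) (h2 : core {p} B ⊓ 𝐂₁[a] ≤ 𝐂₁[b]) : False := by
  obtain ⟨y, hy, -, -, e, e'⟩ := cyc k.kl (k.c.fus V k.kl) (k.mem hA) (k.mem hB) (k.ne1 hA)
    (k.ne1 hB) ab
  refine k.gen hA (k.mem hB) (k.ne1 hB) ab h1 ((conj_le_conj (g := y)).1 ?_)
  rwa [conj_inf, ← pcoreJ, ← cent1_conj, ← cent1_conj, e, e', k.uniq (hA.conj hy) (e ▸ hB)]

theorem good (hA : CJ V t A₀ a A) (hb : b ∈ V) (b1 : b ≠ 1) (ab : a ≠ b) (hl : 𝐂[V] ≤ M)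
    (hs : SC A M X) (ho : Odd (Nat.card (cf M)))
    (h : ∀ q, q.Prime → q ≠ 2 → core {q} A₀ = ⊥ → core {q} M ⊓ 𝐂₁[b] = ⊥) (hq : q.Prime)
    (h0 : core {q} A₀ = ⊥) : core {q} M = ⊥ := by
  have := Fact.mk hq
  by_cases q2 : q = 2
  · subst q2
    exact (Sylow_Fitting 2 M).eq_bot_iff.2 (Fr.nd2 (oddC ho).1)
  obtain ⟨C, hC⟩ := k.ex (V.mul_mem hb (k.mem hA)) fun e' =>
    ab (mul_left_cancel (e'.trans (k.kl.2 _ hb).symm))
  exact lemM k.c k.hL q2 k.kl (k.mem hA) hb b1 ab (k.bt' hA) (k.bt' hC) (hA.core.2 h0) (hC.core.2 h0)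
    hl hs (h q hq q2 h0)

theorem fin (h0 : ∀ q, q.Prime → q ≠ p → core {q} A₀ = ⊥) (hA : CJ V t A₀ a A) (hb : b ∈ V)
    (b1 : b ≠ 1) (ab : a ≠ b) (hM : IsCoatom M) (hl : 𝐂[V] ≤ M) (hs : SC A M X)
    (ho : Odd (Nat.card (cf M)))
    (h : ∀ q, q.Prime → q ≠ 2 → core {q} A₀ = ⊥ → core {q} M ⊓ 𝐂₁[b] = ⊥) :
    ∃ v, CJ V t A₀ v M := by
  have VM := (abelian_iff.1 k.kl.ab).trans hl
  obtain ⟨g, rfl⟩ := conjp k.c.dih k.p2 k.bt.co (pc k.bt.cst h0) k.bt.ne hM (pc (oddC ho).2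
    fun q hq e => k.good hA hb b1 ab hl hs ho h hq (h0 q hq e))
    fun e => nc k.c k.hL k.p2 (k.bt' hA) hs hM.1 (VM (k.mem hA)) (e.le.trans bot_le)
  exact k.all VM

theorem final (h0 : ∀ q, q.Prime → q ≠ p → core {q} A₀ = ⊥) (hA : CJ V t A₀ a A)
    (hB : CJ V t A₀ b B) (ab : a ≠ b) (hs : SC A B X) : False := by
  have bA := k.bt' hA
  have bB := k.bt' hB
  have hA0 := fun q hq e => hA.core.2 (h0 q hq e)
  have hB0 := fun q hq e => hB.core.2 (h0 q hq e)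
  have XA := hs.leF.trans (Fitting_sub A)
  have XI : X ≤ core {p} (A ⊓ B) := (le_inf (hs.leF.trans (fit_le hA0)) hs.leM).trans (pcore_max'
    (pcore_pgroup' p A).to_inf_left ⟨inf_le_inf_right _ (pcore_sub _ A),
      normsI (inf_le_left.trans (pcore_normal _ A).2) (normsG inf_le_right)⟩)
  have hI : PC p (A ⊓ B) := pcore_max (fun q hq hd => by
    by_contra e
    have := Fact.mk hq
    obtain ⟨R, hR⟩ := Sylow_exists (p := q) (A ⊓ B ⊓ 𝐂[core {p} (A ⊓ B)])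
    exact hR.eq_bot_iff.1 (hs.cent bA.cst (hA0 q hq e) hR.pgroup
      (hR.le.trans (inf_le_inf inf_le_left (centS XI)))) hd) (subcent_normal' (pcore_normal _ _).2)
  obtain ⟨T, hT⟩ := Sylow_exists (p := p) (A ⊓ B)
  have hZ := ZJ.Puig_center_normal (DL.dih_ci2 k.c.dih) k.p2 hI hT
  have Z1 : 𝐙[puig T] ≠ ⊥ := fun e => by
    have h1 := hs.sc
    rw [eq_bot_iff.2 ((XI.trans (pcore_sub_Sylow hT)).trans (BG4P.trivg_center_Puig_pgroup hT.pgroup e).le),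
      cent_bot, inf_top_eq] at h1
    exact bA.ne (eq_bot_iff.2 ((pcore_sub_Fitting p A).trans h1))
  obtain ⟨M, hM, hN⟩ := mmax_exists (norm_ne_top Z1 fun e => bA.co.1 (top_le_iff.1
    ((e.ge.trans hZ.1).trans inf_le_left)))
  have IM := hZ.2.trans hN
  have hl := (le_inf (k.CV hA) (k.CV hB)).trans IM
  have VC := abelian_iff.1 k.kl.ab
  have aM := hl (VC (k.mem hA))
  have bM := hl (VC (k.mem hB))
  have hab : a ∈ 𝐂₁[b] := cent_le_cent1 (k.mem hB) (VC (k.mem hA))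
  have hs' : SC A M X := ⟨hs.leF, (le_inf XA hs.leM).trans IM, hs.sc⟩
  obtain ⟨v, hv⟩ : ∃ v, CJ V t A₀ v M := by
    by_cases e : M = B
    · exact ⟨b, e ▸ hB⟩
    refine k.fin h0 hA (k.mem hB) (k.ne1 hB) ab hM hl hs' (by_contra fun ho => ?_)
      fun q hq q2 e => ?_
    · obtain ⟨U, hU, VU⟩ := Sylow_superset (VC.trans hl) k.kl.pgroup
      have na := nc k.c k.hL k.p2 bA hs' hM.1 aM
      obtain ⟨y, hy, y1, yc, h1⟩ := ev k.c.dih k.kl VU hU ho (k.mem hA) fun e =>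
        na (core_le_cent k.p2 e)
      have h2 := core_le_cent (p := p) k.p2 yc
      rcases Cj.klein_mem k.kl (k.mem hA) (k.mem hB) (k.ne1 hA) (k.ne1 hB) ab hy with
        rfl | rfl | rfl | rfl
      · exact y1 rfl
      · exact na h2
      · obtain ⟨f, hf, e1⟩ := h1.resolve_left fun h => e (eq_mmax hM bB.co (h.trans bB.le))
        have h3 : core {p} B ⊓ 𝐂₁[a] ≤ 𝐂₁[y] := (le_inf inf_le_left ((le_inf (inf_le_right.trans bA.le)
          (inf_le_left.trans (pcore_sub _ B))).trans IM)).trans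
          (nc0 k.c k.hL k.p2 bB.le bB.ov hM.1 bM h2)
        refine k.gen hB (k.mem hA) (k.ne1 hA) ab.symm h3 ?_
        rw [← e1, cent1_conj, ← (pcore_normal {p} B).conj_eq (bB.le hf.2), ← conj_inf]
        exact conj_le_of_mem hf.2 h3
      · refine k.nx hA hB ab (by_contra fun h => nx_nc k.c k.hL k.p2 bA hab hM.1 aM ?_ h h2)
          (by_contra fun h => nx_nc k.c k.hL k.p2 bB (cent1C.1 hab) hM.1 bM ?_ h
            (mem_cent1.1 hab ▸ h2))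
        · exact comm_subG ((inf_le_inf (pcore_sub _ A) bB.le).trans IM) (zpowers_le.2 aM)
        · exact comm_subG ((le_inf (inf_le_right.trans bA.le)
            (inf_le_left.trans (pcore_sub _ B))).trans IM) (zpowers_le.2 bM)
    · have := Fact.mk hq
      have h1 := k.hL G B _ a q (k.c.dg bB.co.1) (bB.le hab) bA.ov hq q2
        (inf_le_right : core {q} M ⊓ B ≤ B) (pcore_pgroup' q M).to_inf_left
        (normsI ((((inf_comm _ _).le.trans (inf_le_inf_right _ bA.le)).trans IM).trans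
          (pcore_normal _ M).2) (normsG inf_le_left))
      rw [hB.core.2 e, le_bot_iff, commG1P, cent_cycle] at h1
      exact eq_bot_iff.2 (hs'.TI bA.cst (hA.core.2 e) ▸ le_inf inf_le_left
        (((inf_le_inf_left _ bB.le).trans h1).trans bA.le))
  have key : ∀ {d : G} {D : Subgroup G}, CJ V t A₀ d D → A ⊓ B ≤ D → d ≠ v → Syl p T ⊤ :=
    fun {d D} hD hI dv => by
      have e := eq_of_le_of_card_ge (le_inf hI IM) (k.pair hA hB ab hD hv dv).ge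
      exact (zj k.c.dih k.p2 (k.bt' hD).co (pc (k.bt' hD).cst fun q hq e => hD.core.2 (h0 q hq e))
        (k.bt' hD).ne ((Sylow_subnorm (hT.le.trans hI)).1 (hT.subl (le_inf (hT.le.trans hI) (normG T))
          ((inf_le_inf_left _ ((BG4P.center_Puig_char T).norm_le.trans hN)).trans e.ge)))).2
  have hT' : Syl p T ⊤ := by
    by_cases e : a = v
    exacts [key hB inf_le_right fun e' => ab (e.trans e'.symm), key hA inf_le_left e]
  exact ab (k.inj hA (((zj k.c.dih k.p2 bA.co (pc bA.cst hA0) bA.ne (hT'.subl (hT.le.trans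
    inf_le_left) le_top)).1.symm.trans (zj k.c.dih k.p2 bB.co (pc bB.cst hB0) bB.ne (hT'.subl
      (hT.le.trans inf_le_right) le_top)).1) ▸ hB))

theorem first (hA : CJ V t A₀ a A) (hB : CJ V t A₀ b B) (ab : a ≠ b)
    (hx : ¬ core {p} A ⊓ 𝐂₁[b] ≤ 𝐂₁[a]) : False := by
  have bA := k.bt' hA
  have bB := k.bt' hB
  have VC := abelian_iff.1 k.kl.ab
  have hab : a ∈ 𝐂₁[b] := cent_le_cent1 (k.mem hB) (VC (k.mem hA))
  have hn : 𝐂[V] ≤ 𝐍[core {p} A ⊓ 𝐂₁[b]] :=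
    normsGI ((k.CV hA).trans (pcore_normal _ A).2) (cent_le_cent1 (k.mem hB))
  have RA := ((commg_subl.2 (zpowers_le.2 (hn (VC (k.mem hA))))).trans inf_le_left).trans
    (pcore_sub_Fitting p A)
  have RB := ((commSg _ (inf_le_inf_left _ bB.le)).trans
    (l1 k.c k.hL k.p2 bA.le bA.ov bB.co.1 (bB.le hab))).trans (pcore_sub_Fitting p B)
  obtain ⟨M, hM, hN⟩ := mmax_exists (k.c.norm_ne (Odd.of_dvd_nat bA.odd (card_dvd_of_le RA))
    fun e => hx ((commG1P.1 e).trans (cent_cycle a).le))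
  have hl := (normsR hn (norms_cycle (cent_le_cent1 (k.mem hA)))).trans hN
  have sA := sc_norm RA hN
  have sB := sc_norm RB hN
  have ho : Odd (Nat.card (cf M)) := by_contra fun ho => by
    obtain ⟨U, hU, VU⟩ := Sylow_superset (VC.trans hl) k.kl.pgroup
    have na := nc k.c k.hL k.p2 bA sA hM.1 (hl (VC (k.mem hA)))
    obtain ⟨y, hy, y1, yc, -⟩ := ev k.c.dih k.kl VU hU ho (k.mem hA) fun e =>
      na (core_le_cent k.p2 e)
    have h2 := core_le_cent (p := p) k.p2 yc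
    rcases Cj.klein_mem k.kl (k.mem hA) (k.mem hB) (k.ne1 hA) (k.ne1 hB) ab hy with
      rfl | rfl | rfl | rfl
    exacts [y1 rfl, na h2, nc k.c k.hL k.p2 bB sB hM.1 (hl (VC hy)) h2,
      nx_nc k.c k.hL k.p2 bA hab hM.1 (hl (VC (k.mem hA))) ((normG _).trans hN) hx h2]
  have h1 : ∀ q, q.Prime → q ≠ 2 → core {q} A₀ = ⊥ → core {q} M ⊓ 𝐂₁[b] = ⊥ := fun q hq _ e =>
    have := Fact.mk hq
    eq_bot_iff.2 (sB.TI bB.cst (hB.core.2 e) ▸ inf_le_inf_left _ bB.le)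
  by_cases h0 : ∀ q, q.Prime → q ≠ p → core {q} A₀ = ⊥
  · obtain ⟨v, hv⟩ := k.fin h0 hA (k.mem hB) (k.ne1 hB) ab hM hl sA ho h1
    by_cases e : a = v
    exacts [k.final h0 hB hv (fun e' => ab (e.trans e'.symm)) sB, k.final h0 hA hv e sA]
  push Not at h0
  obtain ⟨q, hq, qp, h0⟩ := h0
  have key : ∀ {d : G} {D X : Subgroup G}, CJ V t A₀ d D → SC D M X → D = M := fun hD s =>
    Ben.BH.eq ⟨(k.bt' hD).co, (k.bt' hD).cst, fun r _ => by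
      by_cases e : r = p
      exacts [⟨q, hq, e ▸ qp, mt hD.core.1 h0⟩, ⟨p, hp.out, Ne.symm e, (k.bt' hD).ne⟩],
      s.leF, s.leM, s.sc⟩ hM (oddC ho).2 fun r hr => mt fun e =>
        k.good hA (k.mem hB) (k.ne1 hB) ab hl sA ho h1 hr (hD.core.1 e)
  exact ab (k.inj hA (((key hA sA).trans (key hB sB).symm) ▸ hB))

end Cf

theorem main (c : Ctx S t) (hL : StL1.{u}) (p2 : p ≠ 2) (hA : IsCoatom A) (hl : 𝐂₁[t] ≤ A)
    (h : ¬ core {p} A ≤ 𝐂₁[t]) : False := by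
  obtain ⟨V, hV, hS, hf⟩ := c.i1 A hA.1 hl
  have k : Cf S t p A V := ⟨c, hL, p2, bt c p2 hA hl h, hV, hS, hf⟩
  have h1 : CJ V t A t A := ⟨1, one_mem _, by group, one_conj A⟩
  obtain ⟨b, hb, b1, bt⟩ := klein_other hV t
  obtain ⟨B, hB⟩ := k.ex hb b1
  exact k.nx h1 hB bt.symm (by_contra (k.first h1 hB bt.symm)) (by_contra (k.first hB h1 bt))

end Bb

theorem stB1 (hL : StL1.{u}) : StB1.{u} := fun _ _ _ _ _ _ _ _ c b _ =>
  have := Fact.mk b.pr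
  Bb.main c hL b.r2 b.co b.le fun h => b.ne (FT.commG1P.2 (h.trans (FT.cent_cycle _).ge))

theorem stB2 (hL : StL1.{u}) : StB2.{u} := fun _ _ _ _ _ _ _ _ c b _ =>
  have := Fact.mk b.pr
  Bb.main c hL b.r2 b.co b.le fun h => b.ne (FT.commG1P.2 (h.trans (FT.cent_cycle _).ge))

end Cfsg.GW
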