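import Cfsg.Agent.Gag.Form

/-!
# S4594: vocabulary and the statements of the pieces (part A and recognition)

FROZEN: do not edit the definitions (plan: `docs/GW.md`).
-/

set_option autoImplicit false

namespace Cfsg.GW

open Subgroup Cfsg.FT Cfsg.Gag
open scoped Pointwise

universe u

variable {G : Type u} [Group G]

/-- `G` is `PSL₂` of a finite field of odd order -/
def IsL2 (G : Type u) [Group G] : Prop := ∃ (F : Type) (_ : Field F) (_ : Fintype F),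
  Odd (Fintype.card F) ∧ Nonempty (G ≃* Matrix.ProjectiveSpecialLinearGroup (Fin 2) F)

/-- `G` is the alternating group of degree 7 -/
def IsA7 (G : Type u) [Group G] : Prop := Nonempty (G ≃* alternatingGroup (Fin 7))

/-- every 2-subgroup has centre of index at most 4 -/
def Cl4 (G : Type u) [Group G] : Prop :=
  ∀ Q : Subgroup G, IsPGroup 2 Q → Nat.card Q ≤ 4 * Nat.card ↥𝐙[Q]

/-- `D` is strongly closed in `P` -/
def SC (D P : Subgroup G) : Prop := D ≤ P ∧ ∀ d ∈ D, ∀ g : G, g * d * g⁻¹ ∈ P → g * d * g⁻¹ ∈ D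

/-- product fusion: the Sylow 2-subgroup `P = D × R`, both strongly closed, `R` central in `P` -/
structure PFH (P D R : Subgroup G) : Prop where
  syl : Syl 2 P ⊤
  scD : SC D P
  scR : SC R P
  sup : D ⊔ R = P
  inf : D ⊓ R = ⊥
  cen : R ≤ 𝐂[P]

/-- Brauer-Suzuki for a Sylow 2-subgroup of order 8 with one involution -/
def StBS8 : Prop := ∀ (G : Type u) [Group G] [Finite G] (P : Subgroup G) (z : G),
  Syl 2 P ⊤ → Nat.card P = 8 → z ∈ P → orderOf z = 2 → (∀ v ∈ P, orderOf v = 2 → v = z) →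
  core {2}ᶜ (⊤ : Subgroup G) = ⊥ → z ∈ center G

/-- the `Z*`-theorem in the class `Cl4` (from `StBS8` and `zStar_of_class`) -/
def StZ4 : Prop := ∀ (G : Type u) [Group G] [Finite G] (z : G), Cl4 G → orderOf z = 2 →
  (∀ t, IsConj z t → Commute z t → t = z) → core {2}ᶜ (⊤ : Subgroup G) = ⊥ → z ∈ center G

/-- the product fusion theorem -/
def PF (G : Type u) [Group G] : Prop := ∀ P D R : Subgroup G, PFH P D R →
  ⁅ncl D ⊤, ncl R ⊤⁆ ≤ core {2}ᶜ (⊤ : Subgroup G)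

/-- product fusion, simple case (uses `StZ4`) -/
def StPFs : Prop := ∀ (G : Type u) [Group G] [Finite G] [IsSimpleGroup G], Cl4 G →
  ¬ IsMulCommutative G → (∀ H : Subgroup G, H ≠ ⊤ → PF H) →
  ∀ P D R : Subgroup G, PFH P D R → D = ⊥ ∨ R = ⊥

/-- product fusion (uses `StZ4`, `StPFs`) -/
def StPF : Prop := ∀ (G : Type u) [Group G] [Finite G], Cl4 G → PF G

/-- A1 (uses `StPF`, `stWL1`) -/
def StA1 : Prop := ∀ (G : Type u) [Group G] [Finite G] [IsSimpleGroup G] (A B : Subgroup G),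
  ¬ IsMulCommutative G → Syl 2 A ⊤ → IsMulCommutative A → B ≤ A → 𝐍[A] ≤ 𝐍[B] →
  Nat.card A = 4 * Nat.card B → Klein A

/-- A2 (uses `StZ4`, `StPF`) -/
def StA2 : Prop := ∀ (G : Type u) [Group G] [Finite G] [IsSimpleGroup G] (P : Subgroup G),
  Syl 2 P ⊤ → ¬ IsMulCommutative P → Nat.card P = 4 * Nat.card ↥𝐙[P] → ∃ f x : G, D8 P f x

/-- Gorenstein-Walter, Klein four -/
def StGWK : Prop := ∀ (G : Type u) [Group G] [Finite G] [IsSimpleGroup G] (T : Subgroup G),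
  Syl 2 T ⊤ → Klein T → IsL2 G

/-- Gorenstein-Walter, dihedral of order 8 -/
def StGWD : Prop := ∀ (G : Type u) [Group G] [Finite G] [IsSimpleGroup G] (S : Subgroup G)
  (f x : G), Syl 2 S ⊤ → D8 S f x → IsL2 G ∨ IsA7 G

/-- Zassenhaus recognition -/
def StZas : Prop := ∀ (G : Type u) [Group G] [Finite G] [IsSimpleGroup G] (P L : Subgroup G)
  (w : G), Odd (Nat.card P) → 2 * Nat.card L + 1 = Nat.card P → IsMulCommutative L → L ≤ 𝐍[P] →
  (∀ l ∈ L, l ≠ 1 → P ⊓ 𝐂₁[l] = ⊥) → w * w = 1 → (∀ l ∈ L, w * l * w = l⁻¹) →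
  (∀ g : G, g ∉ P ⊔ L → P ⊓ g •ᶜ P = ⊥) → w ∉ P ⊔ L →
  Nat.card G = (Nat.card P + 1) * Nat.card P * Nat.card L → IsL2 G

/-- the Brauer-Suzuki-Wall configuration: `C(t) = K⟨s⟩` is generalized dihedral -/
structure BSWH (K : Subgroup G) (t s : G) : Prop where
  ab : IsMulCommutative K
  tK : t ∈ K
  ot : orderOf t = 2
  uniq : ∀ v ∈ K, v * v = 1 → v = 1 ∨ v = t
  sK : s ∉ K
  ss : s * s = 1
  inv : ∀ x ∈ K, s * x * s = x⁻¹
  cent : ∀ x ∈ K, x ≠ 1 → 𝐂₁[x] ≤ K ⊔ ⟪s⟫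
  conj : ∀ a b : G, orderOf a = 2 → orderOf b = 2 → IsConj a b

/-- Brauer-Suzuki-Wall (uses `StZas`) -/
def StBSW : Prop := ∀ (G : Type u) [Group G] [Finite G] [IsSimpleGroup G] (K : Subgroup G)
  (t s : G), BSWH K t s → IsL2 G

end Cfsg.GW
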