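import Cfsg.Agent.GW.BS3
import Cfsg.Agent.GW.Defs
import Cfsg.Agent.Blk.OlssonGrp

/-! # The Brauer-Suzuki theorem for Sylow `2`-subgroups of order `8`, and `Z*` in `Cl4` -/

set_option autoImplicit false

namespace Cfsg.GW

open Subgroup Cfsg.FT
open scoped Pointwise IsMulCommutative

universe u

variable {G : Type u} [Group G] [Finite G] {P : Subgroup G} {z v w : G}

/-- a noncyclic group of order dividing `8` with a unique involution -/
structure Q8 (P : Subgroup G) (z : G) : Prop where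
  dvd : Nat.card P ∣ 8
  nc : ∀ v, P ≠ zpowers v
  mem : z ∈ P
  oz : orderOf z = 2
  uq : ∀ v ∈ P, v * v = 1 → v = 1 ∨ v = z

namespace Q8

variable (h : Q8 P z) (hv : v ∈ P) (h1 : v * v ≠ 1)
include h hv h1

theorem ord : orderOf v = 4 ∧ (zpowers v).relIndex P = 2 := by
  have h2 := card_mul_relIndex (zpowers_le.2 hv)
  have h3 : (zpowers v).relIndex P ≠ 1 := fun e =>
    h.nc v (le_antisymm (relIndex_eq_one.1 e) (zpowers_le.2 hv))
  have h4 : ¬ orderOf v ∣ 2 := fun e => h1 ((sq v).symm.trans (orderOf_dvd_iff_pow_eq_one.1 e))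
  have h5 := h.dvd
  rw [← h2, Nat.card_zpowers] at h5
  clear h2
  generalize orderOf v = a, (zpowers v).relIndex P = b at *
  have := Nat.le_of_dvd (by norm_num) ((dvd_mul_right a b).trans h5)
  have := Nat.le_of_dvd (by norm_num) ((dvd_mul_left b a).trans h5)
  interval_cases a <;> interval_cases b <;> simp_all

theorem mul_self : v * v = z := (h.uq _ (mul_mem hv hv) (by
  rw [← pow_orderOf_eq_one v, (h.ord hv h1).1, ← sq v, ← pow_add])).resolve_left h1

theorem inv (hw : w ∈ P) (h2 : w ∉ zpowers v) : w⁻¹ * v * w = v⁻¹ := by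
  have h3 : ∀ x ∈ P, x ∉ zpowers v → x * x = z := fun x hx e => h.mul_self hx fun e' => e (by
    rcases h.uq x hx e' with rfl | rfl
    exacts [one_mem _, h.mul_self hv h1 ▸ mul_mem (mem_zpowers v) (mem_zpowers v)])
  have h4 := (h3 _ (mul_mem hw hv) (by rwa [mul_mem_cancel_right (mem_zpowers v)])).trans
    (h3 w hw h2).symm
  rw [mul_assoc, mul_left_cancel_iff] at h4
  rw [eq_inv_iff_mul_eq_one, mul_assoc, mul_assoc, h4, inv_mul_cancel]

theorem conj (hw : w ∈ zpowers v) (h2 : w * w ≠ 1) : IsConj v w ∧ v ∈ zpowers w := by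
  classical
  obtain ⟨c, hc, h3⟩ := SetLike.not_le_iff_exists.1 fun e => h.nc v (le_antisymm e (zpowers_le.2 hv))
  obtain ⟨k, hk, rfl⟩ := Finset.mem_image.1 (mem_zpowers_iff_mem_range_orderOf.1 hw)
  have h4 := pow_orderOf_eq_one v
  rw [(h.ord hv h1).1] at hk h4
  have := Finset.mem_range.1 hk
  interval_cases k
  · simp at h2
  · rw [pow_one]; exact ⟨IsConj.refl v, mem_zpowers v⟩
  · exact (h2 (by rw [← h4]; group)).elim
  · rw [show v ^ 3 = v⁻¹ from eq_inv_of_mul_eq_one_left (by rw [← h4]; group), zpowers_inv]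
    exact ⟨isConj_iff.2 ⟨c⁻¹, by rw [inv_inv, h.inv hv h1 hc h3]⟩, mem_zpowers v⟩

theorem out {a b : G} (ha : a ∈ P) (hb : b ∈ P) (h2 : a ∉ zpowers v) (h3 : b ∉ zpowers v) :
    a * b ∈ zpowers v := by
  have := (mul_mem_iff_of_index_two (H := (zpowers v).subgroupOf P) (h.ord hv h1).2
    (a := ⟨a, ha⟩) (b := ⟨b, hb⟩)).2 (by simp [mem_subgroupOf, h2, h3])
  exact this

theorem fuse (hf : ∀ c ∈ P, c * c ≠ 1 → ∃ d ∈ P, d ∉ zpowers c ∧ IsConj c d) (hw : w ∈ P)
    (h2 : w * w ≠ 1) : IsConj v w := by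
  obtain ⟨d, hd, d1, d2⟩ := hf v hv h1
  obtain ⟨e, he, e1, e2⟩ := hf w hw h2
  have d3 : d * d ≠ 1 := fun e => h1 (mul_self_eq_one_of_isConj e d2.symm)
  have e3 : e * e ≠ 1 := fun e => h2 (mul_self_eq_one_of_isConj e e2.symm)
  by_cases a : w ∈ zpowers v
  · exact (h.conj hv h1 a h2).1
  by_cases b : d ∈ zpowers w
  · exact d2.trans (h.conj hw h2 b d3).1.symm
  by_cases c : e ∈ zpowers v
  · exact (h.conj hv h1 c e3).1.trans e2.symm
  refine d2.trans (.trans (h.conj hd d3 ?_ e3).1 e2.symm)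
  rw [← mul_mem_cancel_left (mem_zpowers d)]
  rcases h.uq _ (mul_mem hd he) (by_contra fun f => a (zpowers_le.2 (h.out hv h1 hd he d1 c)
    (h.conj hw h2 (h.out hw h2 hd he b e1) f).2)) with f | f <;> rw [f]
  exacts [one_mem _, h.mul_self hd d3 ▸ mul_mem (mem_zpowers d) (mem_zpowers d)]

end Q8

theorem exists_qd (S : Sylow 2 G) (h : Q8 (S : Subgroup G) z) (h16 : ¬ 16 ∣ Nat.card G)
    (hu : ∀ t, orderOf t = 2 → Commute z t → t = z)
    (hN : ∀ N : Subgroup G, N.Normal → z ∈ N → N = ⊤) : ∃ u, QD z u := by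
  obtain ⟨u, hS, h1⟩ : ∃ u ∈ (S : Subgroup G), u * u ≠ 1 := by
    by_contra! e
    refine h.nc z (le_antisymm (fun v hv => ?_) (zpowers_le.2 h.mem))
    rcases h.uq v hv (e v hv) with rfl | rfl
    exacts [one_mem _, mem_zpowers _]
  have hc : ∀ Q : Subgroup G, IsPGroup 2 Q → ∃ g : G, ∀ x ∈ Q, g * x * g⁻¹ ∈ (S : Subgroup G) :=
    fun Q hQ => (exists_conj_smul_le_sylow S hQ).imp fun g hg x hx => hg (smul_mem_pointwise_smul _ _ _ hx)
  have hG : commutator G = ⊤ := hN _ inferInstance (by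
    obtain ⟨c, hc, h3⟩ := SetLike.not_le_iff_exists.1 fun e => h.nc u (le_antisymm e (zpowers_le.2 hS))
    have := commutator_mem_commutator (mem_top u) (mem_top c⁻¹)
    rwa [commutatorElement_def, inv_inv, mul_assoc u, mul_assoc u, ← inv_inv (c⁻¹ * u⁻¹ * c),
      show (c⁻¹ * u⁻¹ * c)⁻¹ = c⁻¹ * u * c by group, h.inv hS h1 hc h3, inv_inv,
      h.mul_self hS h1] at this)
  have hf := fun w => h.fuse (w := w) hS h1 fun c hc h2 => by
    by_contra! e
    refine h.nc c (le_antisymm ?_ (zpowers_le.2 hc))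
    have := sylow_inf_commutator_le S (K := zpowers c) fun x hx g hg => by
      by_cases a : x * x = 1
      · rcases h.uq x hx a with rfl | b
        · simp
        · rw [(h.uq _ hg (by rw [conj_mul, a]; group)).resolve_left (by
            rw [conj_eq_one_iff, b, ← orderOf_eq_one_iff, h.oz]; norm_num), b, mul_inv_cancel]
          exact one_mem _
      have a' : g * x * g⁻¹ * (g * x * g⁻¹) ≠ 1 := by rwa [conj_mul, Ne, conj_eq_one_iff]
      have b : IsConj x (g * x * g⁻¹) := isConj_iff.2 ⟨g, rfl⟩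
      by_cases f : x ∈ zpowers c
      · exact mul_mem (by_contra fun f' => e _ hg f' ((h.conj hc h2 f a).1.trans b)) (inv_mem f)
      · exact h.out hc h2 hg (inv_mem hx) (fun f' => e x hx f ((h.conj hc h2 f' a').1.trans b.symm))
          (by rwa [inv_mem_iff])
    rwa [hG, inf_top_eq] at this
  refine ⟨u, h.mul_self hS h1, h.oz, fun t ht => ?_, hu, fun v hv e => ?_, fun v hv e => ?_, h16⟩
  · obtain ⟨g, hg⟩ := hc _ (isPGroup_zpowers_iff.2 ⟨1, ht.trans (pow_one 2).symm⟩)
    refine (isConj_iff.2 ⟨g, (h.uq _ (hg t (mem_zpowers t)) ?_).resolve_left ?_⟩).symm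
    · rw [conj_mul, mul_self_of_orderOf_eq_two ht]; group
    · rw [conj_eq_one_iff, ← orderOf_eq_one_iff, ht]; norm_num
  · obtain ⟨g, hg⟩ := hc _ (isPGroup_zpowers_iff.2 hv)
    exact (hf _ (hg v (mem_zpowers v)) (by rwa [conj_mul, Ne, conj_eq_one_iff])).trans
      (isConj_iff.2 ⟨g, rfl⟩).symm
  · obtain ⟨g, hg⟩ := hc _ ((isPGroup_zpowers_iff.2 hv).to_sup_of_normal_right'
      (isPGroup_zpowers_iff.2 ⟨2, (h.ord hS h1).1⟩)
      (zpowers_le.2 (cent_sub _ (by rw [cent_cycle]; exact mem_cent1.2 e.symm))))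
    have a := hg u (mem_sup_right (mem_zpowers u))
    have a' : g * u * g⁻¹ * (g * u * g⁻¹) ≠ 1 := by rwa [conj_mul, Ne, conj_eq_one_iff]
    by_contra f
    have := h.inv a a' (hg v (mem_sup_left (mem_zpowers v))) fun ⟨k, hk⟩ =>
      f ⟨k, by simpa [conj_zpow] using hk⟩
    rw [conj_inv, conj_mul, conj_mul, mul_assoc v⁻¹, e.eq, inv_mul_cancel_left,
      eq_inv_iff_mul_eq_one] at this
    exact a' this

theorem central_of_cyclic (S : Sylow 2 G) (hO : pPrimeCore 2 G = ⊥) (hc : IsCyclic (S : Subgroup G))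
    (z : G) : z ∈ center G := by
  have h1 := (hasNormalPComplement_iff_sup_sylow S).1 (hasNormalPComplement_two_of_isCyclic S hc)
  rw [hO, bot_sup_eq] at h1
  exact mem_center_iff.2 fun g => comm_of_isMulCommutative (cyclic_abelian hc)
    (h1.ge (mem_top g)) (h1.ge (mem_top z))

theorem uq_of_uniq (hP : IsPGroup 2 P) (hS : z ∈ P) (hz : orderOf z = 2)
    (hu : ∀ t, orderOf t = 2 → Commute z t → t = z) (v : G) (hv : v ∈ P) (e : v * v = 1) :
    v = 1 ∨ v = z := by
  obtain ⟨c, hc1, hc2⟩ := exists_orderOf_eq_prime_of_dvd_card (dvd_card_of_isPGroup_of_ne_bot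
    hP.to_inf_left (mt (trivg_center_pgroup hP).1 fun e => by
      rw [e, mem_bot] at hS; simp [hS] at hz))
  exact or_iff_not_imp_left.2 fun e' => hu v (orderOf_eq_two_of_mul_self e e') (by
    rw [← hu c hc2 (mem_cent.1 hc1.2 z hS)]; exact (mem_cent.1 hc1.2 v hv).symm)

theorem bs_main (G : Type u) [Group G] [Finite G] : ¬ 16 ∣ Nat.card G → pPrimeCore 2 G = ⊥ →
    ∀ z : G, orderOf z = 2 → (∀ t, orderOf t = 2 → Commute z t → t = z) → z ∈ center G := by
  revert G
  refine induction_on_card fun G _ _ ih h16 hO z hz hu => ?_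
  by_cases hN : ∀ N : Subgroup G, N.Normal → z ∈ N → N = ⊤
  swap
  · push Not at hN
    obtain ⟨N, _, h1, h2⟩ := hN
    have h3 := ih N (card_lt_of_ne_top h2) (fun e => h16 (e.trans (card_subgroup_dvd_card N)))
      (by rw [← map_eq_bot_iff_of_injective _ N.subtype_injective, map_subtype_pPrimeCore_of_normal,
        hO, bot_inf_eq]) ⟨z, h1⟩ ((orderOf_mk _ _).trans hz) fun t ht e =>
      Subtype.ext (hu t (by rwa [orderOf_coe]) (congrArg Subtype.val e))
    exact mem_center_iff.2 fun g => mul_inv_eq_iff_eq_mul.1 (hu _ (((MulAut.conj g).orderOf_eq z).trans hz)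
      (congrArg Subtype.val (mem_center_iff.1 h3 ⟨_, Normal.conj_mem ‹_› z h1 g⟩)).symm)
  obtain ⟨S, hS⟩ := exists_mem_sylow_of_orderOf (p := 2) ⟨1, hz.trans (pow_one 2).symm⟩
  by_cases hc : ∀ v, (S : Subgroup G) ≠ zpowers v
  swap
  · push Not at hc
    obtain ⟨v, hv⟩ := hc
    exact central_of_cyclic S hO (hv ▸ inferInstance) z
  have := Fintype.ofFinite G
  obtain ⟨u, h⟩ := exists_qd S ⟨by
    rw [S.card_eq_multiplicity]
    exact pow_dvd_pow 2 (by_contra fun e => h16 ((Nat.prime_two.pow_dvd_iff_le_factorization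
      (k := 4) Nat.card_pos.ne').2 (by omega)) : _ ≤ 3), hc, hS, hz,
      uq_of_uniq S.isPGroup' hS hz hu⟩ h16 hu hN
  obtain ⟨χ, h1, h2⟩ := h.exists_ker
  exact (h1 (χ.charKer_eq_top_iff.1 (hN _ inferInstance (χ.mem_charKer.2 h2)))).elim

theorem comm_of_cl4 (hT : IsPGroup 2 G) (hu : ∀ v : G, v * v = 1 → v = 1 ∨ v = z)
    (h4 : Nat.card G ≤ 4 * Nat.card (center G)) (h16 : 16 ∣ Nat.card G) : IsMulCommutative G := by
  by_contra hn
  have h0 := (center G).card_mul_index
  have h1 : ∀ x : G, x * x ∈ center G := fun x => by_contra fun e => by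
    obtain ⟨k, hk⟩ := IsPGroup.iff_orderOf.1 (hT.to_quotient (center G)) x
    have h2 : ¬ 2 ^ k ∣ 2 ^ 1 := fun e' => e (by
      rwa [← hk, orderOf_dvd_iff_pow_eq_one, pow_one, ← QuotientGroup.mk_pow,
        QuotientGroup.eq_one_iff, sq] at e')
    have h3 : 2 ^ 2 ≤ 2 ^ k := Nat.pow_le_pow_right two_pos
      (by_contra fun e' => h2 (pow_dvd_pow 2 (by omega)))
    have : IsCyclic (G ⧸ center G) := isCyclic_of_orderOf_eq_card x (le_antisymm orderOf_le_card (by
      rw [hk, ← index_eq_card]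
      exact (Nat.le_of_mul_le_mul_left (h0.le.trans (h4.trans (mul_comm _ _).le)) Nat.card_pos).trans h3))
    exact hn ⟨⟨commutative_of_cyclic_center_quotient (QuotientGroup.mk' (center G)) (by simp)⟩⟩
  have h2 : IsCyclic (center G) := isCyclic_of_unique_invol (A := center G) (hT.to_subgroup _)
    fun a b ha hb a1 b1 => Subtype.ext (((hu a (congrArg Subtype.val ha)).resolve_left
      (by simpa using a1)).trans ((hu b (congrArg Subtype.val hb)).resolve_left
      (by simpa using b1)).symm)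
  obtain ⟨i, hi, h3⟩ : ∃ i ∈ center G, orderOf i = 4 := by
    obtain ⟨g, hg⟩ := h2.exists_ofOrder_eq_natCard
    obtain ⟨k, hk⟩ := IsPGroup.iff_card.1 (hT.to_subgroup (center G))
    refine ⟨_, (g ^ (orderOf g / 4)).2, (orderOf_coe _).trans
      (orderOf_pow_orderOf_div (orderOf_pos g).ne' ?_)⟩
    have := Nat.le_of_dvd Nat.card_pos h16
    rw [hk] at h4
    rw [hg, hk]
    exact pow_dvd_pow 2 (by_contra fun e => by
      have : k < 2 := by omega
      interval_cases k <;> omega : 2 ≤ k)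
  have h5 : i * i * (i * i) = 1 := by rw [← sq i, ← pow_add, ← pow_orderOf_eq_one i, h3]
  have h6 : i * i = z := (hu _ h5).resolve_left fun e => by
    have := orderOf_dvd_of_pow_eq_one ((sq i).trans e)
    rw [h3] at this
    omega
  have h7 : ∀ x : G, x * x = 1 → x ∈ center G := fun x hx => by
    rcases hu x hx with rfl | rfl
    exacts [one_mem _, h6 ▸ h1 i]
  have h8 : ∀ a b : G, a * a ∈ zpowers (b * b) → Commute a b := fun a b ⟨k, hk⟩ => by
    have h9 : a * (b ^ k)⁻¹ ∈ center G := by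
      have e1 := mem_center_iff.1 (h1 (a * (b ^ k)⁻¹))
      have e2 := mem_center_iff.1 (h1 a)
      have e3 : a * a = b ^ k * b ^ k := by rw [← hk, ← (Commute.refl b).mul_zpow]
      generalize b ^ k = y at *
      have e4 : a * y * a⁻¹ = a * y⁻¹ * (a * y⁻¹) * y := by
        rw [mul_assoc (a * y⁻¹), inv_mul_cancel_right, mul_assoc a, mul_assoc a, mul_right_inj, eq_inv_mul_iff_mul_eq,
          ← mul_assoc, ← e3, mul_inv_cancel_right]
      generalize ht : a * y⁻¹ * (a * y⁻¹) = t at *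
      have e5 : t * t = 1 := by
        have : a * (a * y * a⁻¹) * a⁻¹ = y := by
          rw [← mul_assoc, ← mul_assoc, ← e2]; group
        rwa [e4, ← mul_assoc, e1, mul_assoc t, mul_assoc t, e4, ← mul_assoc, mul_eq_right] at this
      rcases hu t e5 with e | e
      · exact h7 _ (ht.trans e)
      · rw [← mul_mem_cancel_right hi]
        refine h7 _ ?_
        rw [Commute.mul_mul_mul_comm (mem_center_iff.1 hi _).symm, ht, h6, ← e, e5]
    rw [← inv_mul_cancel_right a (b ^ k)]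
    exact Commute.mul_left (mem_center_iff.1 h9 b).symm (Commute.zpow_self b k)
  exact hn ⟨⟨fun a b => (cyclic_pgroup_le_total h2 (hT.to_subgroup _) (zpowers_le.2 (h1 a))
    (zpowers_le.2 (h1 b))).elim (fun e => h8 a b (zpowers_le.1 e)) fun e =>
      (h8 b a (zpowers_le.1 e)).symm⟩⟩

theorem pPrimeCore_eq_bot (h : core {2}ᶜ (⊤ : Subgroup G) = ⊥) : pPrimeCore 2 G = ⊥ := by
  rw [core_compl_eq, map_eq_bot_iff_of_injective _ (subtype_injective _)] at h
  rw [← map_pPrimeCore_equiv 2 topEquiv, h, Subgroup.map_bot]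

theorem stBS8 : StBS8.{u} := fun G _ _ P z hP h8 hz ho hu hO => by
  obtain ⟨S, rfl⟩ := syl_top_iff.1 hP
  refine bs_main G (fun e => ?_) (pPrimeCore_eq_bot hO) z ho fun t ht e => ?_
  · have := (Nat.prime_two.pow_dvd_iff_le_factorization (k := 4) Nat.card_pos.ne').1 e
    rw [S.card_eq_multiplicity] at h8
    have := Nat.pow_right_injective le_rfl (show 2 ^ _ = 2 ^ 3 from h8)
    omega
  · obtain ⟨g, hg⟩ := exists_conj_smul_le_sylow S
      ((isPGroup_zpowers_iff.2 ⟨1, ht.trans (pow_one 2).symm⟩).to_sup_of_normal_right'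
      (isPGroup_zpowers_iff.2 ⟨1, ho.trans (pow_one 2).symm⟩)
      (zpowers_le.2 (cent_sub _ (by rw [cent_cycle]; exact mem_cent1.2 e.symm))))
    exact (MulAut.conj g).injective ((hu _ (hg (smul_mem_pointwise_smul _ _ _ (mem_sup_left
      (mem_zpowers t)))) (((MulAut.conj g).orderOf_eq t).trans ht)).trans (hu _ (hg
      (smul_mem_pointwise_smul _ _ _ (mem_sup_right (mem_zpowers z))))
      (((MulAut.conj g).orderOf_eq z).trans ho)).symm)

theorem cl4_iff : Cl4 G ↔ ∀ Q : Subgroup G, IsPGroup 2 Q → (center Q).index ≤ 4 := by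
  refine forall₂_congr fun Q _ => ?_
  rw [← map_subtype_center, card_map_of_injective Q.subtype_injective, ← (center Q).index_mul_card]
  exact Nat.mul_le_mul_right_iff Nat.card_pos

theorem index_center_le {K : Type*} [Group K] {f : G →* K} (hf : Function.Surjective f) :
    (center K).index ≤ (center G).index :=
  Nat.le_of_dvd (Nat.pos_of_ne_zero index_ne_zero_of_finite) ((index_dvd_of_le (by
    rintro _ ⟨x, hx, rfl⟩
    exact mem_center_iff.2 fun y => by
      obtain ⟨y, rfl⟩ := hf y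
      rw [← map_mul, ← map_mul, mem_center_iff.1 hx])).trans (index_map_dvd _ hf))

theorem Cl4.sub (h : Cl4 G) (H : Subgroup G) : Cl4 H := cl4_iff.2 fun Q hQ =>
  (index_center_le (f := (Q.equivMapOfInjective _ H.subtype_injective).symm.toMonoidHom)
    (MulEquiv.surjective _)).trans (cl4_iff.1 h _ (hQ.map _))

theorem Cl4.quo (h : Cl4 G) (N : Subgroup G) [N.Normal] : Cl4 (G ⧸ N) := cl4_iff.2 fun Q hQ => by
  obtain ⟨P, hP⟩ := hQ.exists_le_sylow
  obtain ⟨R, rfl⟩ := Sylow.mapSurjective_surjective (QuotientGroup.mk'_surjective N) 2 P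
  refine (index_center_le (f := ((QuotientGroup.mk' N).comp
    ((R : Subgroup G) ⊓ Q.comap (QuotientGroup.mk' N)).subtype).codRestrict Q fun x => x.2.2) fun y => ?_).trans
    (cl4_iff.1 h _ R.isPGroup'.to_inf_left)
  obtain ⟨x, hx, e⟩ := hP y.2
  exact ⟨⟨x, hx, mem_comap.2 (e ▸ y.2)⟩, Subtype.ext e⟩

theorem stZ4 : StZ4.{u} := fun G _ _ z hG hz hu hO => by
  have h2 := mul_self_of_orderOf_eq_two hz
  refine mem_center_iff.2 fun g => ?_
  have := zStar_of_class (fun K _ _ => Cl4 K) (fun K _ _ => Cl4.sub) (fun K _ _ => Cl4.quo) ?_ G hG z h2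
    (fun s t => odd_orderOf_mul_of_isolated h2 hu) _ _ (isConj_iff.2 ⟨g, rfl⟩) (IsConj.refl z)
  · rwa [pPrimeCore_eq_bot hO, mem_bot, mul_eq_one_iff_eq_inv, inv_eq_of_mul_eq_one_left h2,
      mul_inv_eq_iff_eq_mul] at this
  intro K _ _ hK hO u ho h
  by_cases h16 : 16 ∣ Nat.card K
  swap
  · exact bs_main K h16 hO u ho h
  obtain ⟨S, hS⟩ := exists_mem_sylow_of_orderOf (p := 2) ⟨1, ho.trans (pow_one 2).symm⟩
  have h1 : ∀ v : (S : Subgroup K), v * v = 1 → v = 1 ∨ v = ⟨u, hS⟩ := fun v e =>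
    (uq_of_uniq S.isPGroup' hS ho h v v.2 (congrArg Subtype.val e)).imp Subtype.ext Subtype.ext
  have := comm_of_cl4 S.isPGroup' h1 (by
    rw [← (center S).index_mul_card]
    exact Nat.mul_le_mul_right _ (cl4_iff.1 hK _ S.isPGroup')) (by
    rw [S.card_eq_multiplicity]
    exact pow_dvd_pow 2 ((Nat.prime_two.pow_dvd_iff_le_factorization (k := 4) Nat.card_pos.ne').1 h16))
  exact central_of_cyclic S hO (isCyclic_of_unique_invol (A := (S : Subgroup K)) S.isPGroup'
    fun a b ha hb a1 b1 => ((h1 a ha).resolve_left a1).trans ((h1 b hb).resolve_left b1).symm) u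

end Cfsg.GW
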