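import Cfsg.Agent.GW.C1c
import Cfsg.Agent.GW.Base

/-! The block of a linear character of `O(C(t))`: the dihedral case. -/

set_option autoImplicit false

namespace Cfsg.GW.C1

open Subgroup Cfsg.FT Cfsg.Gag Cfsg.Gag.V Cfsg.Gag.Fin5
open scoped MonoidAlgebra Pointwise

universe u

variable {G : Type u} [Group G] {M : Ideal AlgInt} {P : Sylow 2 G} {μ : G → ℂ} {f x τ : G}
  {e : (resK M)[G]}

theorem dih_vals [Finite G] (h : IsDih (P : Subgroup G) f τ 2) {V : Subgroup G} (hV : Klein V)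
    (hinv : ∀ s, orderOf s = 2 → IsConj (f ^ 2) s) (χ : IrrCharacter G) :
    ∃ a T : ℤ, χ.1 f = a ∧ χ.1 (f ^ 2) = T ∧ 8 ∣ charDegree χ.1 + 2 * a + 5 * T ∧
      (a - T) % 2 = 0 := by
  classical
  have := Fintype.ofFinite G
  obtain ⟨T, hT, -⟩ := χ.exists_int_apply_of_mul_self (inv_sq h.orderOf_J)
  have hc : ∀ s, orderOf s = 2 → χ.1 s = T := fun s hs => by
    obtain ⟨c, rfl⟩ := isConj_iff.1 (hinv s hs)
    rw [χ.isClassFunction, hT]
  obtain ⟨j, hj⟩ := (ord_cong χ V fun g hg g1 => hc g (hV.orderOf hg g1)).dvd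
  have h1 := χ.isCharacter.card_mul_fixDim (P : Subgroup G)
  have h3 : f ^ 3 = τ * f * τ⁻¹ := by
    rw [h.rel, eq_inv_iff_mul_eq_one, ← pow_succ, show 3 + 1 = 2 * 2 from rfl, ← h.ord,
      pow_orderOf_eq_one]
  rw [dih_sumP h χ.1, dih_sum4 h.ord, h3, χ.isClassFunction, hT, Finset.sum_congr rfl
    (g := fun _ => (T : ℂ)) fun s _ => hc _ (h.orderOf_of_notMem
      (mul_mem (h.zpowers_le s.2) h.mem_τ) (h.mul_τ_notMem s.2)), Finset.sum_const, Finset.card_univ,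
    ← Nat.card_eq_fintype_card, Nat.card_zpowers, h.ord, IrrCharacter.one_eq_charDegree, h.card,
    nsmul_eq_mul] at h1
  rw [hV.1] at hj
  have h2 := congrArg (Int.cast : ℤ → ℂ) hj
  push_cast at h1 h2 hj
  exact ⟨4 * fixDim P χ.1 - 3 * T + 2 * j, T, by push_cast; linear_combination (h2 - h1) / 2, hT,
    by omega, by omega⟩

theorem d8_V (h : D8 (P : Subgroup G) f x) {r : G} (hr : r ∈ (P : Subgroup G))
    (h2 : orderOf r = 2) : ∃ V : Subgroup G, Klein V ∧ V ≤ P ∧ (P : Subgroup G) ≤ 𝐍[V] ∧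
      f ^ 2 ∈ V ∧ r ∈ V :=
  (d8_invol h hr (inv_sq h2)).elim (fun e => ⟨_, d8_klein h, d8_TA h, d8_AN h, d8_cT, e⟩)
    fun e => ⟨_, d8_klein (d8_swap h), d8_TA (d8_swap h), d8_AN (d8_swap h), d8_cT, e⟩

variable [Fintype G] [IsSimpleGroup G] {B : Set (IrrCharacter G)}

theorem coreD (hS : D8 (P : Subgroup G) f x) {t : (P : Subgroup G)} (ht : (t : G) = f ^ 2)
    (hm : Mu (t : G) μ) (S : StarSetup 2 M B P e) (h0 : lamF M μ e ≠ 0)
    (hν : ∀ r : (P : Subgroup G), orderOf (r : G) = 2 → ¬ PairFuse 2 (P : Subgroup G) e (t : G) r →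
      ∃ ν, Lin (r : G) (oc (r : G)) ν ∧ lamF M ν (subIdem M _ (S.below r)) ≠ 0) :
    (kk (f ^ 2) x ∣ ii (f ^ 2) ∨ kk (f ^ 2) (x * f) ∣ ii (f ^ 2)) ∧
      ((∀ r : (P : Subgroup G), orderOf (r : G) = 2 → PairFuse 2 (P : Subgroup G) e (t : G) r) →
        ∃ χ : IrrCharacter G, charDegree χ.1 = 3 ∧ ∀ u ∈ oc (t : G), χ.1 (t * u) = -μ u) := by
  classical
  have := S.hM.charP
  have hG := perf_of_four (P := (P : Subgroup G)) (by rw [hS.card]; decide)
  obtain ⟨h, h1⟩ := d8_isDih hS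
  have ot : orderOf (t : G) = 2 := ht ▸ h.orderOf_J
  have t1 : t ≠ 1 := fun e => inv_ne_one ot (congrArg Subtype.val e)
  have hP := syl_top_iff.2 ⟨P, rfl⟩
  have hall := (stConj G P hG hP (.inr ⟨f, x, hS⟩)).1
  have hinv : ∀ r, orderOf r = 2 → IsConj (f ^ 2) r := fun r hr => hall _ _ h.orderOf_J hr
  have hc : (P : Subgroup G) ≤ 𝐂₁[(t : G)] := ht ▸ h.le_centralizer_J
  have idx : ∀ r : G, orderOf r = 2 → (oc r).relIndex 𝐂₁[r] = 8 := fun r hr => oc_idx h (hinv r hr)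
  have hi : Inv P (oc (t : G)) μ := fun g hg => hm.inv g (hc hg)
  have ord : ∀ {u v : G}, PairFuse 2 (P : Subgroup G) e u v → orderOf v = orderOf u := fun h =>
    orderOf_eq_of_isConj h.isConj
  obtain ⟨σ, n, C⟩ := exists_col S hm.lin (below_ne S hm.lin hi h0 (zpowers_le.2 t.2)
    (norms_cycle hc) (mem_zpowers _) (mem_zpowers _) (zpowers_le.2 (cent1id _)) hm.lin
    (fun g hg => hi g (zpowers_le.2 t.2 hg)) fun _ _ => rfl)
  obtain rfl := (C.inv hm.inv).1.trans (idx t ot)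
  choose b hb using C.int (inv_sq ot)
  -- the column of `f`
  set F : (P : Subgroup G) := ⟨f, h.mem_σ⟩
  have hf : 𝐂₁[f] ≤ 𝐂₁[(t : G)] := ht ▸ h.centralizer_le P.isPGroup' (mem_zpowers f)
    fun e => by simpa [e] using hS.of
  have hl : Lin (F : G) (oc (t : G) ⊓ 𝐂₁[f]) μ := ⟨fun u => by
    rw [mem_inf, hm.lin.mem]; exact ⟨fun e => ⟨e.2, e.1.2⟩, fun e => ⟨⟨hf e.1, e.2⟩, e.1⟩⟩,
    hm.lin.one, fun u hu v hv => hm.lin.mul u hu.1 v hv.1⟩
  have hi' : Inv 𝐂₁[(t : G)] (oc (t : G) ⊓ 𝐂₁[f]) μ := fun g hg u hu => hm.inv g hg u hu.1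
  have hN : (P : Subgroup G) ≤ 𝐍[⟪f⟫] := fun g hg => mem_normalizer_fintype fun s hs =>
    (h.conj_eq_or hg hs).elim (fun e => e.symm ▸ hs) fun e => e.symm ▸ inv_mem hs
  obtain ⟨σF, nF, CF⟩ := exists_col S hl (below_ne S hm.lin hi h0 h.zpowers_le hN
    (ht ▸ IsDih.J_mem) (mem_zpowers _) (zpowers_le.2 (cent1id _)) hl
    (fun g hg => hi' g (hc (h.zpowers_le hg))) fun _ _ => rfl)
  have ff : f ≠ f⁻¹ := fun e => d8_c_ne hS (by rw [sq, mul_eq_one_iff_eq_inv.2 e])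
  have idF : (oc (t : G) ⊓ 𝐂₁[f]).relIndex 𝐂₁[(F : G)] = 4 := by
    have := index_sdprod (subcent_sdprod (A := ⟪f⟫) (dih_sd h)
      (h.zpowers_le.trans (h.le_centralizer_J.trans (oc_norm _))) (h.zpowers_le.trans le_normalizer))
    rwa [cent_cycle, h.card_inf_centralizer (mem_zpowers f) ff, ← ht, inf_eq_right.2 hf] at this
  obtain rfl := (CF.inv fun g hg => hi' g (hf hg)).1.trans idF
  choose a T ha' hT h8 hp using dih_vals h (d8_klein hS) hinv
  have ha : ∀ χ ∈ B, classInner χ.1 σF = a χ := fun χ hχ => by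
    have := CF.apply_mul hl (fun g hg => hi' g (hf hg)) (fun w hw => ?_) hχ (one_mem _)
    · rw [mul_one, hm.lin.one, mul_one] at this
      rw [← this, ← ha']
    obtain ⟨g, hg⟩ := isConj_iff.1 hw
    rcases h.conj_eq_or_of_mem (g := g) (mem_zpowers f) (by_contra fun e => by
      have := orderOf_eq_of_isConj hw
      rw [h.orderOf_of_notMem w.2 (hg ▸ e), hS.of] at this
      omega) with e | e <;> rw [← hg]
    · exact e.symm ▸ pairFuse_refl S.isPair F.2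
    · exact (h.rel.trans e.symm) ▸ pairFuse_conj S.isPair F.2 h.mem_τ
  have hd : ∀ χ ∈ irrFinset B, (0 : ℤ) < charDegree χ.1 := fun χ _ => by
    exact_mod_cast χ.charDegree_pos
  have ad := CF.sum_deg (fun e => by simp [show f = 1 from congrArg Subtype.val e] at ff) ha
  have bd := C.sum_deg t1 fun χ _ => hb χ
  have bb := C.sum_sq fun χ _ => hb χ
  obtain ⟨X, hX⟩ := exists_four hd (CF.sum_sq ha) ad
  have hB : ∀ χ ∈ X, χ ∈ B := fun χ hχ => mem_irrFinset.1 ((hX.mem χ).1 hχ).1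
  have nF : ∀ r : G, orderOf r = 2 → ¬ PairFuse 2 (P : Subgroup G) e (F : G) r := fun r hr e => by
    have := ord e
    rw [hr, hS.of] at this
    omega
  have ab := CF.orth C (nF t ot) ha fun χ _ => hb χ
  have o3 : IsConj f (f ^ 3) := isConj_iff.2 ⟨x, by rw [hS.inv, d8_finv hS, ← pow_succ]⟩
  have nc : ∀ g, IsConj f g → ¬ IsConj (f ^ 2) g := fun g e e' => by
    have := orderOf_eq_of_isConj (e.trans e'.symm)
    rw [h.orderOf_J, hS.of] at this
    omega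
  have i2 : ∀ {v g : G}, IsConj f g → ind v g = if IsConj v g then 1 else 0 := fun e =>
    ind_two ⟨2, (orderOf_eq_of_isConj e).trans hS.of⟩
  have e1 := CF.pairsQ hl hi' hf (fun y hy => by
      rw [ht, mem_cent1, sq, ← mul_inv_eq_iff_eq_mul, ← conj_mul, hy, ← mul_inv_rev,
        ← sq, d8_cinv hS]) (d8_f4 hS) ha (fun χ _ => hT χ)
    (c := 32 * (kk (f ^ 2) (x * f) : ℤ) * (kk (f ^ 2) x : ℤ)) (by
      rw [dih_pairs h hinv (ind_cls _) (fun g _ => ind_pPart _ g) fun g => ind_odd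
        (fun e : f = 1 => by simp [e] at ff), idF, h1, ind_two ⟨1, h.orderOf_J⟩, i2 (.refl f), i2 o3,
        if_neg fun e => nc _ e (.refl _), if_pos (.refl _), if_pos o3]
      push_cast; ring)
  have e2 := C.pairsQ hm.lin hm.inv le_rfl (fun y hy => mem_cent1.2 (by
      rw [inv_inv' ot] at hy; exact (mul_inv_eq_iff_eq_mul.1 hy))) (d8_f4 hS) (fun χ _ => hb χ)
    (fun χ _ => hT χ) (c := 16 * ((kk (f ^ 2) (x * f) : ℤ) ^ 2 + (kk (f ^ 2) x : ℤ) ^ 2)) (by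
      rw [dih_pairs h hinv (ind_cls _) (fun g _ => ind_pPart _ g) fun g => ind_odd
        (inv_ne_one ot), idx t ot, h1, ind_two ⟨1, h.orderOf_J⟩, i2 (.refl f), i2 o3, ht,
        if_neg (nc _ (.refl _)), if_pos (.refl _), if_neg (nc _ o3)]
      push_cast; ring)
  have col : ∀ r : (P : Subgroup G), orderOf (r : G) = 2 →
      ¬ PairFuse 2 (P : Subgroup G) e (t : G) r → ∃ ν σ c, Col S r (oc (r : G)) ν σ 4 ∧
        (∀ χ ∈ B, classInner χ.1 σ = (c χ : ℤ)) ∧ Four (irrFinset B) c X ∧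
        ∀ χ ∈ B, secProj 2 (r : G) (S.below r) χ.1 t = (2 * c χ : ℤ) := fun r hr hn => by
    obtain ⟨ν, hl, h2⟩ := hν r hr hn
    obtain ⟨σ, n, C⟩ := exists_col S hl h2
    have h4 : ∀ w : (P : Subgroup G), PairFuse 2 (P : Subgroup G) e (r : G) w →
        Nat.card ↥((P : Subgroup G) ⊓ 𝐂₁[(w : G)]) = 4 := fun w hw =>
      h.card_inf_centralizer_of_notMem w.2 fun e =>
        hn (by rw [ht, ← h.eq_J e ((ord hw).trans hr)]; exact hw.symm)
    have h5 := h4 r (pairFuse_refl S.isPair r.2)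
    obtain ⟨c, hc', rfl, h6⟩ := C.four (inv_sq hr) (by
      rw [S.pow_blockDefect_below fun w hw => by rw [h4 w hw, h5], h5]) (idx r hr).le hX
      fun χ hχ => C.ne_of_odd (hB χ hχ) (by
        have := h8 χ
        have := hp χ
        rcases hX.sq χ hχ with e | e <;> omega)
    refine ⟨ν, σ, c, C, hc', h6, fun χ hχ => ?_⟩
    rw [C.apply_conj (hall _ _ hr ot), hc' χ hχ, idx r hr]
    push_cast; ring
  have sum : ∀ R : Finset (P : Subgroup G), t ∉ R → ((insert t R : Finset _) : Set _).Pairwise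
      (fun a b : (P : Subgroup G) => ¬ PairFuse 2 (P : Subgroup G) e (a : G) b) →
      (∀ v : (P : Subgroup G), orderOf (v : G) = 2 →
        ∃ r ∈ insert t R, PairFuse 2 (P : Subgroup G) e (r : G) v) → ∀ χ ∈ irrFinset B,
      (T χ : ℂ) = b χ + ∑ r ∈ R, secProj 2 (r : G) (S.below r) χ.1 t := fun R h2 h3 h4 χ hχ => by
    rw [← hT, ← ht, sec_sum S (insert t R) (fun v hv => sum_fuse S h3 (h4 v (by
      rw [← orderOf_eq_of_isConj hv, pPart_eq_self_iff.2 ⟨1, ot⟩, ot]))) (mem_irrFinset.1 hχ),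
      Finset.sum_insert h2, C.apply_conj (.refl _), idx t ot, hb]
    push_cast; ring
  have fus : (∀ r : (P : Subgroup G), orderOf (r : G) = 2 →
      PairFuse 2 (P : Subgroup G) e (t : G) r) → kk (f ^ 2) (x * f) ∣ ii (f ^ 2) ∧
        ∃ χ : IrrCharacter G, charDegree χ.1 = 3 ∧ ∀ u ∈ oc (t : G), χ.1 (t * u) = -μ u := fun hf => by
    have hf' : ∀ w : (P : Subgroup G), IsConj (t : G) w → PairFuse 2 (P : Subgroup G) e (t : G) w :=
      fun w hw => hf w ((orderOf_eq_of_isConj hw).trans ot)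
    have hT' : ∀ χ ∈ irrFinset B, T χ = b χ := fun χ hχ => by
      simpa using sum ∅ (by simp) (by simp) (fun v hv => ⟨t, by simp, hf v hv⟩) χ hχ
    obtain ⟨y, u, u', o1, o2, o3, o4, o5, o6⟩ := stOD G P f x hP hS hall
    rw [Finset.sum_congr rfl fun χ hχ => by rw [hT' χ hχ]] at e1 e2
    obtain ⟨h2, χ, hχ, h3, h4⟩ := numD0 (Num.OD.symm ⟨o1, o2, o3, o4, o5, o6⟩)
      (by exact_mod_cast Fr.kk_pos _ _) (by exact_mod_cast Fr.kk_pos _ _) hX hd bb
      (fun χ hχ => hT' χ hχ ▸ hp χ) ab ad bd (fun χ hχ => hT' χ ((hX.mem χ).1 hχ).1 ▸ h8 χ)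
      (fun χ hχ => by exact_mod_cast C.deg_ne hm hG hf' (hB χ hχ)) e1 e2
    refine ⟨Int.natCast_dvd_natCast.1 h2, χ, by exact_mod_cast h3, fun u hu => ?_⟩
    rw [C.apply_mul hm.lin hm.inv hf' (mem_irrFinset.1 hχ) hu, hb, h4]
    simp
  refine ⟨?_, fun hf => (fus hf).2⟩
  have sy : Std.Symm fun a b : (P : Subgroup G) => ¬ PairFuse 2 (P : Subgroup G) e (a : G) b :=
    ⟨fun _ _ h e => h e.symm⟩
  have rf : ∀ {a b : (P : Subgroup G)}, ¬ PairFuse 2 (P : Subgroup G) e (a : G) b → a ≠ b :=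
    fun h e => h (e ▸ pairFuse_refl S.isPair (Subtype.mem _))
  have one : ∀ s : (P : Subgroup G), orderOf (s : G) = 2 →
      ¬ PairFuse 2 (P : Subgroup G) e (t : G) s → (∀ r : (P : Subgroup G), orderOf (r : G) = 2 →
        PairFuse 2 (P : Subgroup G) e (t : G) r ∨ PairFuse 2 (P : Subgroup G) e (s : G) r) →
      kk (f ^ 2) x ∣ ii (f ^ 2) ∨ kk (f ^ 2) (x * f) ∣ ii (f ^ 2) := fun s hs hn hv => by
    obtain ⟨ν, σ', c, C', hc1, h4, h5⟩ := col s hs hn
    have hT' : ∀ χ ∈ irrFinset B, T χ = b χ + 2 * c χ := fun χ hχ => by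
      have := sum {s} (by simpa using rf hn) (by simpa [Set.pairwise_pair_of_symm] using
        fun _ => hn) (by simpa using hv) χ hχ
      rw [Finset.sum_singleton, h5 χ (mem_irrFinset.1 hχ)] at this
      exact_mod_cast this
    exact_mod_cast (numD1 hX h4 hd bb (fun χ hχ => by have := hp χ; have := hT' χ hχ; omega) ab
      (C.orth C' hn (fun χ _ => hb χ) hc1) ad bd
      (C'.sum_deg (fun e => inv_ne_one hs (congrArg Subtype.val e)) hc1)
      (CF.orth C' (nF s hs) ha hc1) hT' e1 e2).symm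
  have aux : ∀ {x : G} (hS : D8 (P : Subgroup G) f x) (r : G), orderOf r = 2 →
      r ∈ ⟪f ^ 2⟫ ⊔ ⟪x⟫ → PairFuse 2 (P : Subgroup G) e (t : G) r ∨
        PairFuse 2 (P : Subgroup G) e x r := fun hS r hr hr' => by
    rcases d8_memT hS hr' with rfl | rfl | rfl | rfl
    · simp at hr
    · exact .inl (ht ▸ pairFuse_refl S.isPair t.2)
    · exact .inr (pairFuse_refl S.isPair (d8_xA hS))
    · exact .inr (d8_fx hS ▸ pairFuse_conj S.isPair (d8_xA hS) (d8_fA hS))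
  set s : (P : Subgroup G) := ⟨x, d8_xA hS⟩
  set s' : (P : Subgroup G) := ⟨x * f, h.mem_τ⟩
  have os' : orderOf (s' : G) = 2 := (d8_swap hS).ox
  have cov : ∀ r : (P : Subgroup G), orderOf (r : G) = 2 → PairFuse 2 (P : Subgroup G) e (t : G) r ∨
      PairFuse 2 (P : Subgroup G) e (s : G) r ∨ PairFuse 2 (P : Subgroup G) e (s' : G) r :=
    fun r hr => (d8_invol hS r.2 (inv_sq hr)).elim (fun e => (aux hS r hr e).imp_right .inl)
      fun e => (aux (d8_swap hS) r hr e).imp_right .inr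
  by_cases f1 : PairFuse 2 (P : Subgroup G) e (t : G) s <;>
    by_cases f2 : PairFuse 2 (P : Subgroup G) e (t : G) s'
  · exact .inr (fus fun r hr => (cov r hr).elim id fun e =>
      e.elim (S.fuse_trans f1) (S.fuse_trans f2)).1
  · exact one s' os' f2 fun r hr => (cov r hr).elim .inl fun e => e.imp_left (S.fuse_trans f1)
  · exact one s hS.ox f1 fun r hr => (cov r hr).elim .inl fun e =>
      e.symm.imp_left (S.fuse_trans f2)
  by_cases f3 : PairFuse 2 (P : Subgroup G) e (s : G) s'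
  · exact one s hS.ox f1 fun r hr => (cov r hr).imp_right fun e => e.elim id (S.fuse_trans f3)
  obtain ⟨ν, σ', c, C', hc1, h4, h5⟩ := col s hS.ox f1
  obtain ⟨ν', σ'', c', C'', hc2, h4', h5'⟩ := col s' os' f2
  have hT' : ∀ χ ∈ irrFinset B, T χ = b χ + 2 * c χ + 2 * c' χ := fun χ hχ => by
    have := sum {s, s'} (by simpa using ⟨rf f1, rf f2⟩) (by
      simpa [Set.pairwise_insert_of_symm] using ⟨fun _ => f3, fun _ => f1, fun _ => f2⟩)
      (by simpa using cov) χ hχ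
    rw [Finset.sum_pair (rf f3), h5 χ (mem_irrFinset.1 hχ), h5' χ (mem_irrFinset.1 hχ),
      ← add_assoc] at this
    exact_mod_cast this
  have cm : ∀ {u v : IrrCharacter G → ℤ}, ∑ χ ∈ irrFinset B, u χ * v χ = 0 →
      ∑ χ ∈ irrFinset B, v χ * u χ = 0 := fun h => by simpa only [mul_comm] using h
  exact .inr (Int.natCast_dvd_natCast.1 (numD2 hX h4 h4' hd
    (hX.five bb fun χ hχ => by have := hp χ; have := hT' χ hχ; omega).1 ab
    (cm (C.orth C' f1 (fun χ _ => hb χ) hc1)) (cm (C.orth C'' f2 (fun χ _ => hb χ) hc2)) ad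
    (C'.sum_deg (fun e => inv_ne_one hS.ox (congrArg Subtype.val e)) hc1)
    (C''.sum_deg (fun e => inv_ne_one os' (congrArg Subtype.val e)) hc2)
    (CF.orth C' (nF s hS.ox) ha hc1) (CF.orth C'' (nF s' os') ha hc2) (C'.orth C'' f3 hc1 hc2)
    (fun χ hχ => hT' χ ((hX.mem χ).1 hχ).1) e1))

end Cfsg.GW.C1

namespace Cfsg.GW

open Subgroup Cfsg.FT Cfsg.Gag Cfsg.Gag.Fin5 C1

universe u

theorem stC1D : StC1D.{u} := by
  intro G _ _ _ A f x hA hS hU
  have := Fintype.ofFinite G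
  have hD := dih_of_d8 hA hS
  obtain ⟨P, rfl⟩ := syl_top_iff.1 hA
  obtain ⟨h, -⟩ := d8_isDih hS
  have ot := d8_oc hS
  have hF : ∀ V : Subgroup G, Klein V → Fus ⊤ V := fun V hV => Fr.fus_of_perf hD (E := ⊤)
    (perf_of_four (P := P) (by rw [hS.card]; decide)) hV le_top
  have hc := h.le_centralizer_J
  obtain ⟨μ, hm⟩ := exists_mu hD ot (dih_sd h) hU
  obtain ⟨M, hM⟩ := exists_isPModular Nat.prime_two
  obtain ⟨B, e, S, h0⟩ := exists_setup hM P hm.lin.one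
  have hi : Inv P (oc (f ^ 2)) μ := fun g hg => hm.inv g (hc hg)
  set t : (P : Subgroup G) := ⟨f ^ 2, pow_mem h.mem_σ 2⟩
  refine ⟨fun ha => ?_, fun hb => (coreD hS (t := t) rfl hm S h0 fun r hr _ => ?_).1⟩
  · have hf : ∀ r : (P : Subgroup G), orderOf (r : G) = 2 →
        PairFuse 2 (P : Subgroup G) e (t : G) r := fun r hr => by
      obtain ⟨V, hV, h1, h2, h3, h4⟩ := d8_V hS r.2 hr
      obtain ⟨y, hy, e⟩ := hF V hV _ h3 r h4 (d8_c_ne hS) (inv_ne_one hr)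
      have hab := abelian_iff.1 hV.ab
      exact fuse_of S e.symm hm.lin (below_ne S hm.lin hi h0 h1 h2 h3 (s := t) h3 (h1.trans hc)
        hm.lin (fun g hg => hi g (h1 hg)) fun _ _ => rfl)
        (hm.conj_ne S hD ot h0 hc h1 h2 h3 hab (ha V hV h1) hy.2 e.symm)
    obtain ⟨χ, h1, h2⟩ := (coreD hS (t := t) rfl hm S h0 fun r hr hn => absurd (hf r hr) hn).2 hf
    have hV := d8_klein hS
    obtain ⟨w, hw, hw'⟩ := hm.ne_W hV.pgroup ((d8_TA hS).trans hc)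
    have key : ∀ w ∈ oc (f ^ 2) ⊓ 𝐂[⟪f ^ 2⟫ ⊔ ⟪x⟫], ∀ v ∈ ⟪f ^ 2⟫ ⊔ ⟪x⟫, v ≠ 1 →
        χ.1 (v * w) = -μ w := fun w hw v hv v1 => by
      obtain ⟨y, hy, rfl⟩ := hF _ hV _ d8_cT v hv (d8_c_ne hS) v1
      have := W_conj hD ot d8_cT (inv_mem hy.2) hw
      rw [inv_inv] at this
      rw [← hm.W_inv hD ot d8_cT (ha _ hV (d8_TA hS)) hy.2 hw, ← h2 _ this.1,
        ← χ.isClassFunction (t * _) y]
      simp [t, mul_assoc]
    refine hw' (three h1 hV (hm.lin.norm_eq hw.1) (fun v hv v1 => ?_) (key w hw) ▸ hm.lin.one)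
    simpa [hm.lin.one] using key 1 (one_mem _) v hv v1
  · obtain ⟨V, hV, h1, h2, h3, h4⟩ := d8_V hS r.2 hr
    obtain ⟨y, hy, e⟩ := hF V hV _ h3 r h4 (d8_c_ne hS) (inv_ne_one hr)
    obtain ⟨ν, h5, h6, h7⟩ := hm.exists_nu hD ot hV.pgroup h3 (h1.trans hc) (hb V hV h1) hy.2
    rw [e] at h5 h6
    exact ⟨ν, h5, below_ne S hm.lin hi h0 h1 h2 h3 h4
      ((abelian_iff.1 hV.ab).trans (cent_le_cent1 h4)) h5 h6 h7⟩

end Cfsg.GW
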