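import Cfsg.Agent.GW.PFsA

/-!
# S4594, piece PFs: product fusion in subgroups, the functor
-/

set_option autoImplicit false
set_option linter.unusedSectionVars false

namespace Cfsg.GW.PFs

open Subgroup Cfsg.FT Cfsg.Gag
open scoped Pointwise

universe u

variable {G : Type u} [Group G] {D H L P Q R S T W X Y : Subgroup G} {a b e g r s t v x y z : G}

/-- elements conjugate into `D` -/
def cl (D : Subgroup G) : Set G := {x | ∃ g : G, g * x * g⁻¹ ∈ D}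

theorem cl_ci (D : Subgroup G) : CI (cl D) := fun x ⟨g, hg⟩ k =>
  ⟨g * k⁻¹, by simpa [mul_assoc] using hg⟩

theorem mem_cl (h : x ∈ D) : x ∈ cl D := ⟨1, by simpa using h⟩

theorem cl_two (h : IsPGroup 2 D) (hx : x ∈ cl D) : IsPGroup 2 ⟪x⟫ := by
  obtain ⟨g, hg⟩ := hx
  rw [← isPGroup_conj (g := g), conj_zpowers]
  exact h.to_le (zpowers_le.2 hg)

theorem sc_mem (h : SC D P) (hx : x ∈ cl D) (hP : x ∈ P) : x ∈ D := by
  obtain ⟨g, hg⟩ := hx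
  have := h.2 _ hg g⁻¹
  simp only [mul_assoc, inv_inv, inv_mul_cancel, mul_one, inv_mul_cancel_left] at this
  exact this hP

theorem sc_conj (h : SC D P) (hx : x ∈ cl D) (hP : g * x * g⁻¹ ∈ P) : g * x * g⁻¹ ∈ D :=
  sc_mem h (cl_ci D x hx g) hP

variable [Finite G]

section
variable (h : PFH P D R)
include h

theorem ab_R : IsMulCommutative R := abelian_iff.2 (centsS h.scR.1 h.cen)

theorem in_R : In P (cl R) R := ⟨h.scR.1, fun _ => mem_cl⟩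

theorem in_D : In P (cl D) D := ⟨h.scD.1, fun _ => mem_cl⟩

theorem R_cent (ha : a ∈ P) : R ≤ 𝐂₁[a] := h.cen.trans (cent_le_cent1 ha)

theorem dec_P (hx : x ∈ P) : ∃ d ∈ D, ∃ r ∈ R, d * r = x :=
  (mem_join_norm (cents_norm (centsS h.scD.1 h.cen))).1 (h.sup.ge hx)

theorem into_P (hQ : IsPGroup 2 Q) (hR : R ≤ Q) : ∃ g ∈ 𝐍[R], g •ᶜ Q ≤ P := by
  obtain ⟨g, -, hg⟩ := Sylow_Jsub h.syl le_top hQ
  exact ⟨g, mem_norm_of_conj_le (conj_le_iff_forall.2 fun x hx =>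
    sc_conj h.scR (mem_cl hx) (conj_le_iff_forall.1 hg x (hR hx))), hg⟩

theorem wcR (hQ : IsPGroup 2 Q) (hR : R ≤ Q) (hx : x ∈ Q) (hx' : x ∈ cl R) : x ∈ R := by
  obtain ⟨g, hg, hg'⟩ := into_P h hQ hR
  exact (memJ_norm hg).1 (sc_conj h.scR hx' (conj_le_iff_forall.1 hg' x hx))

theorem conjR (hR : R ≤ L) (hS : S ≤ L) (h2 : IsPGroup 2 S) (hc : ∀ x ∈ S, x ∈ cl R) :
    ∃ l ∈ L, l •ᶜ S ≤ R := by
  obtain ⟨Q, hQ, hRQ⟩ := Sylow_superset hR (h.syl.pgroup.to_le h.scR.1)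
  obtain ⟨l, hl, hl'⟩ := Sylow_Jsub hQ hS h2
  exact ⟨l, hl, conj_le_iff_forall.2 fun x hx => wcR h hQ.pgroup hRQ
    (conj_le_iff_forall.1 hl' x hx) (cl_ci R x (hc x hx) l)⟩

theorem dec_X (hR : R ≤ X) (hQ : Q ≤ X) (h2 : IsPGroup 2 Q) : Q ≤ LL (cl D) X ⊔ LL (cl R) X := by
  intro x hx
  obtain ⟨S, hS, hRS⟩ := Sylow_superset hR (h.syl.pgroup.to_le h.scR.1)
  obtain ⟨l, hl, hl'⟩ := Sylow_Jsub hS hQ h2
  obtain ⟨g, hg, hg'⟩ := into_P h hS.pgroup hRS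
  obtain ⟨d, hd, r, hr, e⟩ := dec_P h (conj_le_iff_forall.1 hg' _ (conj_le_iff_forall.1 hl' x hx))
  have h1 : l⁻¹ * (g⁻¹ * r * g) * l ∈ X := (memJ_norm' (normG X hl)).2 (hR ((memJ_norm' hg).2 hr))
  have h3 : x = x * (l⁻¹ * (g⁻¹ * r * g) * l)⁻¹ * (l⁻¹ * (g⁻¹ * r * g) * l) := by group
  rw [h3]
  refine mul_mem_sup (mem_LL ⟨g * l, ?_⟩ (mul_mem (hQ hx) (inv_mem h1))) (mem_LL ⟨g * l, ?_⟩ h1)
  · convert hd using 1
    rw [eq_mul_inv_of_mul_eq e]; group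
  · convert hr using 1
    group

theorem pf_sub (hR : R ≤ X) (hX : PF X) : ⁅LL (cl D) X, LL (cl R) X⁆ ≤ core {2}ᶜ X := by
  obtain ⟨Q, hQ, hRQ⟩ := Sylow_superset hR (h.syl.pgroup.to_le h.scR.1)
  obtain ⟨g, hg, hg'⟩ := into_P h hQ.pgroup hRQ
  have hg'' := conj_le_iff_forall.1 hg'
  have hD : ∀ x ∈ Q, x ∈ cl D → x ∈ Q ⊓ g⁻¹ •ᶜ D := fun x hx hx' =>
    ⟨hx, mem_conj.2 (by simpa using sc_conj h.scD hx' (hg'' x hx))⟩
  have hD' : ∀ x ∈ Q ⊓ g⁻¹ •ᶜ D, g * x * g⁻¹ ∈ D := fun x hx => by simpa using mem_conj.1 hx.2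
  have := hX (Q.subgroupOf X) ((Q ⊓ g⁻¹ •ᶜ D).subgroupOf X) (R.subgroupOf X)
    { syl := subgroupOf_self X ▸ hQ.subgroupOf le_rfl
      scD := ⟨fun x hx => hx.1, fun d hd k hk => hD _ hk (cl_ci D _ ⟨g, hD' _ hd⟩ k)⟩
      scR := ⟨fun x hx => hRQ hx, fun d hd k hk =>
        wcR (G := G) h hQ.pgroup hRQ hk (cl_ci R _ (mem_cl hd) k)⟩
      sup := le_antisymm (sup_le (fun x hx => hx.1) fun x hx => hRQ hx) fun x hx => by
        obtain ⟨d, hd, r, hr, e⟩ := dec_P h (hg'' x hx)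
        have h1 : g⁻¹ * r * g ∈ R := (memJ_norm' hg).2 hr
        have h2 : (x : G) * (g⁻¹ * r * g)⁻¹ ∈ Q ⊓ g⁻¹ •ᶜ D :=
          hD _ (mul_mem hx (inv_mem (hRQ h1))) ⟨g, by
            convert hd using 1
            rw [eq_mul_inv_of_mul_eq e]; group⟩
        have h3 := mul_mem_sup (S := (Q ⊓ g⁻¹ •ᶜ D).subgroupOf X) (T := R.subgroupOf X)
          (x := x * (⟨_, hR h1⟩ : X)⁻¹) (y := ⟨_, hR h1⟩) h2 h1
        rwa [inv_mul_cancel_right] at h3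
      inf := eq_bot_iff.2 fun x hx => mem_bot.2 (Subtype.ext (conj_eq_one_iff.1
        (mem_bot.1 (h.inf.le ⟨hD' _ hx.1, (memJ_norm hg).2 hx.2⟩))))
      cen := fun x hx => mem_cent.2 fun y hy => Subtype.ext (by
        have := mem_cent.1 (h.cen ((memJ_norm hg).2 hx)) _ (hg'' y hy)
        rw [conj_mul, conj_mul, mul_left_inj, mul_right_inj] at this
        exact this) }
  have key : ∀ (E : Subgroup G) (E' : Subgroup G), IsPGroup 2 E → (∀ x ∈ Q, x ∈ cl E → x ∈ E') →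
      LL (cl E) X ≤ (ncl (E'.subgroupOf X) ⊤).map X.subtype := fun E E' hE hE' =>
    LL_le.2 fun x hx hx' => by
      obtain ⟨l, hl, hl'⟩ := Sylow_Jsub hQ (zpowers_le.2 hx') (cl_two hE hx)
      refine ⟨⟨x, hx'⟩, conj_le_ncl (mem_top (⟨l, hl⟩ : X)⁻¹) (mem_conj.2 ?_), rfl⟩
      rw [inv_inv]
      exact hE' _ (conj_le_iff_forall.1 hl' x (mem_zpowers x)) (cl_ci E x hx l)
  refine (commgSS (key D _ (h.syl.pgroup.to_le h.scD.1) hD) (key R R (h.syl.pgroup.to_le h.scR.1)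
    fun x hx hx' => wcR h hQ.pgroup hRQ hx hx')).trans ?_
  rw [← map_commutator]
  refine (map_mono this).trans (le_of_eq ?_)
  rw [← core_map _ (injM_subtype _), map_subtype_top]

theorem pr (hC : ∀ e : G, e ≠ 1 → PF 𝐂₁[e]) : Pr P (cl D) (cl R) where
  ciA := cl_ci D
  ciB := cl_ci R
  twoA _ := cl_two (h.syl.pgroup.to_le h.scD.1)
  twoB _ := cl_two (h.syl.pgroup.to_le h.scR.1)
  comm Q hQ x hx hx' y hy hy' := by
    obtain ⟨g, -, hg⟩ := Sylow_Jsub h.syl le_top hQ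
    have hg' := conj_le_iff_forall.1 hg
    have := mem_cent.1 (h.cen (sc_conj h.scR hy' (hg' y hy))) _ (hg' x hx)
    rwa [conj_mul, conj_mul, mul_left_inj, mul_right_inj] at this
  pf e he e1 := pf_sub h (R_cent h he) (hC e e1)
  two := h.syl.pgroup

/-- an odd subgroup acting trivially on both layers lies in the core -/
theorem le_oc (he : e ∈ P) (ho : Odd (Nat.card Y)) (hY : Y ≤ 𝐂₁[e]) (h1 : Y ≤ trr (cl D) e)
    (h2 : Y ≤ trr (cl R) e) : Y ≤ oc e := by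
  set N := 𝐂₁[e] ⊓ (trr (cl D) e ⊓ trr (cl R) e)
  have hN : N ⊴ 𝐂₁[e] := norm_normalI (normsI ((cl_ci D).norms_trr e) ((cl_ci R).norms_trr e))
  have h3 : ⁅N, LL (cl D) 𝐂₁[e] ⊔ LL (cl R) 𝐂₁[e]⁆ ≤ oc e := by
    rw [commGC]
    exact commg_sup_le ((LL_sub _ _).trans (oc_norm e)) ((LL_sub _ _).trans (oc_norm e))
      (commGC N _ ▸ (le_commStab.1 (inf_le_right.trans inf_le_left)).2)
      (commGC N _ ▸ (le_commStab.1 (inf_le_right.trans inf_le_right)).2)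
  have h4 : PNil 2 N := Frobenius_normal_complement fun Q hQ hQ2 _ x hx _ => by
    refine zpowers_le.1 (commG1P.1 (eq_bot_iff.2 ?_))
    rw [← coprime_TIg (cop2 (oc_odd e) hQ2)]
    exact le_inf ((commgSS (zpowers_le.2 hx.1) (dec_X h (R_cent h he) (hQ.trans hN.1) hQ2)).trans h3)
      (commg_subr.2 (zpowers_le.2 hx.2))
  exact fun y hy => hN.core_le _ (pNil_iff_forall.1 h4 y ⟨hY hy, h1 hy, h2 hy⟩
    ((piSub_compl.2 (Nat.two_dvd_ne_zero.2 (Nat.odd_iff.1 ho))).piElt hy))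

end

theorem klein2 (hb : orderOf b = 2) (ht : orderOf t = 2) (hne : t ≠ b) (hc : b * t = t * b) :
    Klein (⟪b⟫ ⊔ ⟪t⟫) :=
  klein_of_inv (A := ⟪b⟫ ⊔ ⟪t⟫) (abelianY.2 ⟨cycle_abelian b, cycle_abelian t, by
    rw [cent_cycle, zpowers_le, mem_cent1, hc]⟩) ⟨mem_sup_left (mem_zpowers b), hb⟩
    ⟨mem_sup_right (mem_zpowers t), ht⟩ hne

/-- the functor -/
def tt (D R : Subgroup G) (z a : G) : Subgroup G := dT (cl D) R a ⊓ db (cl R) z a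

/-- its completion -/
def tY (D R : Subgroup G) (z : G) : Subgroup G := ⨆ a ∈ Ohm1 2 R, ⨆ _ : a ≠ 1, tt D R z a

/-- standing hypotheses -/
structure Cx (P D R : Subgroup G) (z : G) : Prop where
  h : PFH P D R
  c : Pr P (cl D) (cl R)
  zD : z ∈ D
  zc : z ∈ 𝐂[P]
  oz : orderOf z = 2
  kR : ∃ T, Klein T ∧ T ≤ R

/-- four-subgroups of `D` containing `z` -/
structure KD (D : Subgroup G) (z : G) (T : Subgroup G) : Prop where
  k : Klein T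
  le : T ≤ D
  mem : z ∈ T

namespace Cx
variable (J : Cx P D R z)
include J

theorem z1 : z ≠ 1 := fun e => by have := J.oz; rw [e, orderOf_one] at this; omega

theorem zP : z ∈ P := J.h.scD.1 J.zD

theorem inT (k : KD D z T) : In P (cl D) T := (in_D J.h).mono k.le

theorem tt_le (ha : a ∈ P) : tt D R z a ≤ oc a :=
  inf_le_right.trans (J.c.symm.db_le (cent_le_cent1 ha J.zc))

theorem dR (hr : r ∈ R) (r1 : r ≠ 1) (ha : a ∈ P) : db (cl D) r a = dT (cl D) R a :=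
  J.c.db_eq (in_R J.h) (ab_R J.h) hr r1 (R_cent J.h ha)

theorem dD (k : KD D z T) (hv : v ∈ T) (v1 : v ≠ 1) (ha : T ≤ 𝐂₁[a]) :
    db (cl R) z a = db (cl R) v a :=
  (J.c.symm.db_eq (J.inT k) k.k.ab k.mem J.z1 ha).trans
    (J.c.symm.db_eq (J.inT k) k.k.ab hv v1 ha).symm

theorem norms_tt (k : KD D z T) (hv : v ∈ T) (v1 : v ≠ 1) (hr : r ∈ R) (r1 : r ≠ 1) (ha : a ∈ P)
    (hT : T ≤ 𝐂₁[a]) (h1 : X ≤ 𝐂₁[a]) (h2 : X ≤ 𝐂₁[v]) (h3 : X ≤ 𝐂₁[r]) : X ≤ 𝐍[tt D R z a] := by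
  rw [tt, ← J.dR hr r1 ha, J.dD k hv v1 hT]
  exact normsI ((cl_ci D).norms_db (h1.trans (oc_norm a)) h3)
    ((cl_ci R).norms_db (h1.trans (oc_norm a)) h2)

theorem exists_r : ∃ r ∈ R, r ≠ 1 :=
  let ⟨_, h1, h2⟩ := J.kR; exists_ne_one fun e => h1.ne_bot (le_bot_iff.1 (e ▸ h2))

theorem V_le (k : KD D z T) : T ⊔ Ohm1 2 R ≤ P :=
  sup_le (J.inT k).le ((Ohm_sub 2 R).trans J.h.scR.1)

theorem V_abelem (k : KD D z T) : IsElementaryAbelian 2 (T ⊔ Ohm1 2 R) :=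
  abelem_sup k.k.abelem (Ohm1_abelem (ab_R J.h)) (centSS (J.inT k).le (Ohm_sub 2 R) J.h.cen)

theorem V_cent (k : KD D z T) (ha : a ∈ T ⊔ Ohm1 2 R) : T ⊔ Ohm1 2 R ≤ 𝐂₁[a] :=
  le_cent1.2 (abelian_iff.1 (J.V_abelem k).1 ha)

theorem V_tt (k : KD D z T) (ha : a ∈ T ⊔ Ohm1 2 R) : T ⊔ Ohm1 2 R ≤ 𝐍[tt D R z a] := by
  obtain ⟨r, hr, r1⟩ := J.exists_r
  exact J.norms_tt k k.mem J.z1 hr r1 (J.V_le k ha) (le_sup_left.trans (J.V_cent k ha))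
    (J.V_cent k ha) (J.V_cent k (mem_sup_left k.mem))
    ((J.V_le k).trans (le_cent1.2 (J.h.cen hr)))

theorem balance (k : KD D z T) (ha : a ∈ T ⊔ Ohm1 2 R) (he : e ∈ T ⊔ Ohm1 2 R) (e1 : e ≠ 1) :
    tt D R z a ⊓ 𝐂₁[e] ≤ tt D R z e := by
  obtain ⟨S, hS, hSR⟩ := J.kR
  obtain ⟨r, hr, r1⟩ := exists_ne_one hS.ne_bot
  have iS := (in_R J.h).mono hSR
  have aP := J.V_le k ha
  have eP := J.V_le k he
  have ho : Odd (Nat.card ↥(tt D R z a ⊓ 𝐂₁[e])) := oddSg (inf_le_left.trans (J.tt_le aP)) (oc_odd a)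
  have hn := normsGI (J.V_tt k ha) (J.V_cent k he)
  have hSn := ((abelem_le_Ohm1 hSR hS.abelem).trans le_sup_right).trans hn
  have hTn := le_sup_left.trans hn
  have Ta := le_sup_left.trans (J.V_cent k ha)
  have Te := le_sup_left.trans (J.V_cent k he)
  have Sa := hSR.trans (R_cent J.h aP)
  have Se := hSR.trans (R_cent J.h eP)
  have d1 : tt D R z a ⊓ 𝐂₁[e] ≤ dT (cl D) S a := by
    rw [← J.c.db_eq iS hS.ab hr r1 Sa, J.dR (hSR hr) r1 aP]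
    exact inf_le_left.trans inf_le_left
  have d2 : tt D R z a ⊓ 𝐂₁[e] ≤ dT (cl R) T a := by
    rw [← J.c.symm.db_eq (J.inT k) k.k.ab k.mem J.z1 Ta]
    exact inf_le_left.trans inf_le_right
  have h1 := le_oc J.h eP ho inf_le_right (J.c.bal1 iS hS Sa eP e1 Se ho hSn inf_le_right d1)
    (J.c.symm.bal1 (J.inT k) k.k Ta eP e1 Te ho hTn inf_le_right d2)
  refine le_inf ?_ ?_
  · rw [← J.dR (hSR hr) r1 eP, J.c.db_eq iS hS.ab hr r1 Se]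
    exact J.c.bal2 iS hS Sa hSn h1 d1
  · rw [J.c.symm.db_eq (J.inT k) k.k.ab k.mem J.z1 Te]
    exact J.c.symm.bal2 (J.inT k) k.k Ta hTn h1 d2

theorem T2_nc : ¬ IsCyclic (Ohm1 2 R) := fun hc =>
  let ⟨_, h1, h2⟩ := J.kR; h1.not_cyclic (cyclicS (abelem_le_Ohm1 h2 h1.abelem) hc)

theorem complete (k : KD D z T) : Odd (Nat.card (tY D R z)) ∧ T ⊔ Ohm1 2 R ≤ 𝐍[tY D R z] ∧
    ∀ a ∈ T ⊔ Ohm1 2 R, a ≠ 1 → tY D R z ⊓ 𝐂₁[a] = tt D R z a := by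
  have hE := J.V_abelem k
  have h8 : 2 ^ 3 ≤ Nat.card ↥(T ⊔ Ohm1 2 R) := by
    have := card_mul_le_of_lt (abelem_pgroup hE) (left_lt_sup.2 fun e : Ohm1 2 R ≤ T =>
      J.T2_nc (by
        rw [eq_bot_iff.2 (J.h.inf ▸ le_inf (e.trans k.le) (Ohm_sub 2 R) : Ohm1 2 R ≤ ⊥)]
        infer_instance))
    rwa [k.k.1] at this
  obtain ⟨h1, h2⟩ := sft _ hE.1 hE.2 h8 (tt D R z)
    (fun a ha _ => (J.tt_le (J.V_le k ha)).trans (oc_le a)) (fun a ha _ => J.V_tt k ha)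
    (fun a ha _ => Nat.Coprime.mul_right (oddSg (J.tt_le (J.V_le k ha)) (oc_odd a)).coprime_two_right
      (oddSg (J.tt_le (J.V_le k ha)) (oc_odd a)).coprime_two_right)
    (fun a ha _ b hb h1 => J.balance k ha hb h1)
  have ho := Nat.coprime_two_right.1 (Nat.Coprime.coprime_mul_left_right h1)
  have hn : T ⊔ Ohm1 2 R ≤ 𝐍[⨆ a ∈ T ⊔ Ohm1 2 R, ⨆ _ : a ≠ 1, tt D R z a] :=
    norms_iSup fun a => norms_iSup fun ha => norms_iSup fun _ => J.V_tt k ha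
  have e : tY D R z = ⨆ a ∈ T ⊔ Ohm1 2 R, ⨆ _ : a ≠ 1, tt D R z a := by
    refine le_antisymm (iSup₂_le fun a ha => le_iSup₂_of_le a (mem_sup_right ha) le_rfl) ?_
    refine coprime_abelian_gen_cent1_le (abelianS le_sup_right hE.1) J.T2_nc (le_sup_right.trans hn)
      (cop2 ho ((abelem_pgroup hE).to_le le_sup_right)) fun a ha a1 => ?_
    rw [h2 a (mem_sup_right ha) a1]
    exact le_iSup₂_of_le a ha (le_iSup (fun _ : a ≠ 1 => tt D R z a) a1)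
  exact e ▸ ⟨ho, hn, h2⟩

theorem norms_Y (k : KD D z T) (hH : H ≤ T ⊔ Ohm1 2 R) (hc : ¬ IsCyclic H)
    (hX : ∀ a ∈ H, a ≠ 1 → X ≤ 𝐍[tt D R z a]) : X ≤ 𝐍[tY D R z] := by
  obtain ⟨h1, h2, h3⟩ := J.complete k
  rw [← coprime_abelian_gen_cent1 (abelianS hH (J.V_abelem k).1) hc (hH.trans h2)
    (cop2 h1 ((abelem_pgroup (J.V_abelem k)).to_le hH))]
  refine norms_iSup fun a => norms_iSup fun ha => ?_
  rw [h3 a (hH ha.1) ha.2]
  exact hX a ha.1 ha.2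

end Cx

end Cfsg.GW.PFs
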