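import Cfsg.Agent.FT.P.BG6b
import Cfsg.Agent.GW.Defs

/-!
# `p`-stability and the Puig subgroup for groups whose `2`-subgroups are cyclic or generated by
involutions (B & G appendices A and B without the odd order hypothesis)
-/

set_option autoImplicit false
set_option linter.style.haveILetI false
set_option linter.unusedSectionVars false

namespace Cfsg.GW

open scoped Pointwise commutatorElement
open Subgroup Cfsg.FT Cfsg.Gag

universe v

/-- every `2`-subgroup is cyclic or generated by involutions (no quaternion section) -/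
def CI2 (G : Type*) [Group G] : Prop :=
  ∀ Q : Subgroup G, IsPGroup 2 Q → IsCyclic Q ∨ Ohm1 2 Q = Q

/-- `L` is of characteristic `p` -/
def PC {G : Type*} [Group G] (p : ℕ) (L : Subgroup G) : Prop := L ⊓ 𝐂[core {p} L] ≤ core {p} L

variable {G : Type*} [Group G] [Finite G] {p : ℕ} [hp : Fact p.Prime]

theorem PC.of_sol {L : Subgroup G} (hs : Group.IsSolvable L) (h : core {p}ᶜ L = ⊥) : PC p L :=
  cent_sub_pcore hs h

theorem PC.quo_of_sol {L : Subgroup G} (hs : Group.IsSolvable L) : PC p (L ⁄ core {p}ᶜ L) :=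
  cent_sub_pcore (quotient_sol _ hs) (trivg_pcore_quotient _ L)

omit [Finite G] in
theorem CI2.sub (h : CI2 G) (X : Subgroup G) : CI2 X := fun Q hQ =>
  (h _ (hQ.map X.subtype)).imp (injM_subtype Q).cyclic.1 fun e =>
    map_injective X.subtype_injective (by rwa [← Ohm1_map 2 (injM_subtype Q)])

theorem CI2.surj (h : CI2 G) {H : Type*} [Group H] {f : G →* H} (hf : Function.Surjective f) :
    CI2 H := fun Q hQ => by
  haveI := Finite.of_surjective f hf
  obtain ⟨T, hT⟩ := Sylow_exists (p := 2) (Q.comap f)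
  have e := hT.map f
  rw [map_comap_eq_self_of_surjective hf] at e
  rw [← e.eq_self hQ]
  refine (h T hT.pgroup).imp (fun hc => cyclic_map f hc)
    fun e => (Ohm_sub _ _).antisymm ?_
  conv_lhs => rw [← e]
  exact morphim_Ohm 2 f T

theorem CI2.quo (h : CI2 G) (N : Subgroup G) : CI2 (Q N) :=
  (h.sub 𝐍[N]).surj (f := qmk N) (QuotientGroup.mk'_surjective _)

theorem ci2_of_syl {S : Subgroup G} (hS : Syl 2 S ⊤) (h8 : Nat.card S ≤ 8) (hO : Ohm1 2 S = S) :
    CI2 G := fun Q hQ => by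
  obtain ⟨g, -, hg⟩ := Sylow_subJ hS le_top hQ
  rcases hg.eq_or_lt with e | e
  · exact .inr (by rw [e, OhmJ, hO])
  obtain ⟨k, hk⟩ := IsPGroup.iff_card.1 hQ
  have h1 := card_lt_of_lt e
  rw [card_conj, hk] at h1
  have h2 : k < 3 := (Nat.pow_lt_pow_iff_right one_lt_two).1 (h1.trans_le h8)
  rw [or_iff_not_imp_left]
  intro hc
  interval_cases k
  · exact absurd (card_eq_one.1 hk ▸ inferInstance) hc
  · exact absurd (prime_cyclic (hk ▸ Nat.prime_two)) hc
  · exact Ohm1_id (p2group_noncyclic_abelem hk hc)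

theorem ci2_klein {T : Subgroup G} (hS : Syl 2 T ⊤) (h : Klein T) : CI2 G :=
  ci2_of_syl hS (by rw [h.1]; norm_num) (Ohm1_eq_self fun x hx => by rw [sq, h.2 x hx])

theorem ci2_d8 {S : Subgroup G} {f x : G} (hS : Syl 2 S ⊤) (h : D8 S f x) : CI2 G := by
  have hf : f ∈ S := h.gen ▸ mem_sup_left (mem_zpowers f)
  have hx : x ∈ S := h.gen ▸ mem_sup_right (mem_zpowers x)
  have x2 : x ^ 2 = 1 := h.ox ▸ pow_orderOf_eq_one x
  have h1 := mem_Ohm1 hx x2
  have h2 : x * f ∈ Ohm1 2 S := mem_Ohm1 (mul_mem hx hf) (by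
    rw [sq] at x2 ⊢
    rw [mul_inv_eq_iff_eq_mul.1 h.inv, mul_assoc, ← mul_inv_eq_iff_eq_mul.1 h.inv, ← mul_assoc x, x2]
    simp)
  refine ci2_of_syl hS h.card.le ((Ohm_sub _ _).antisymm (h.gen.le.trans
    (sup_le (zpowers_le.2 ?_) (zpowers_le.2 h1))))
  simpa using mul_mem (inv_mem h1) h2

namespace ZJ

open Cfsg.FT.BG4P hiding mat2_p'elt quad_p'elt quad_p'elt' quad_abelem quad_pgroup gen_stable
  gen_constrained pcore_Sylow_Puig_sub Puig_center_normal Puig_center_p'core_normal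
  Puig_factorisation

section lin
variable {F : Type*} [Field F] [CharP F p]

theorem mat2_inv (p2 : p ≠ 2) {A : Matrix (Fin 2) (Fin 2) F} (h : A * A = 1) (hd : A.det = 1) :
    A = 1 ∨ A = -1 := by
  have h2 : (2 : F) ≠ 0 := fun e => p2 ((Nat.prime_dvd_prime_iff_eq hp.out Nat.prime_two).1
    ((CharP.cast_eq_zero_iff F p 2).1 (by exact_mod_cast e)))
  have e := fun i j => congrFun (congrFun h i) j
  have e00 := e 0 0
  have e01 := e 0 1
  have e10 := e 1 0
  have e11 := e 1 1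
  simp [Matrix.mul_apply, Fin.sum_univ_two] at e00 e01 e10 e11
  rw [Matrix.det_fin_two] at hd
  have ht : A 0 0 + A 1 1 ≠ 0 := fun t => h2 (by linear_combination A 0 0 * t - e00 - hd)
  have b0 : A 0 1 = 0 := (mul_eq_zero.1 (by linear_combination e01)).resolve_left ht
  have c0 : A 1 0 = 0 := (mul_eq_zero.1 (by linear_combination e10)).resolve_left ht
  rw [b0, zero_mul, add_zero] at e00
  rw [b0, zero_mul, sub_zero] at hd
  have d0 : A 1 1 = A 0 0 := by linear_combination A 0 0 * hd - A 1 1 * e00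
  refine (mul_self_eq_one_iff.1 e00).imp (fun a => ?_) fun a => ?_ <;>
    ext i j <;> fin_cases i <;> fin_cases j <;> simp [a, b0, c0, d0]

theorem mat2_p'elt (σ : G →* Matrix (Fin 2) (Fin 2) F) (ho : CI2 G) (p2 : p ≠ 2) {s : Set G}
    (hs : closure s = ⊤) (h : ∀ x ∈ s, σ x ^ p = 1) {g : G} (hg : PiElt {p}ᶜ g) : σ g = 1 := by
  let f := σ.toHomUnits.rangeRestrict
  have hf : Function.Surjective f := MonoidHom.rangeRestrict_surjective _
  haveI : Finite σ.toHomUnits.range := Finite.of_surjective f hf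
  let τ : σ.toHomUnits.range →* Matrix (Fin 2) (Fin 2) F :=
    (Units.coeHom _).comp σ.toHomUnits.range.subtype
  have hτ : Function.Injective τ := Units.val_injective.comp Subtype.val_injective
  have hs' : closure (f '' s) = ⊤ := by rw [← MonoidHom.map_closure, hs, map_top_of_surjective _ hf]
  have hd : Matrix.detMonoidHom.comp τ = 1 := MonoidHom.eq_of_eqOn_dense hs' (by
    rintro _ ⟨x, hx, rfl⟩
    have h1 : (σ x).det ^ p = 1 := by rw [← Matrix.det_pow, h x hx, Matrix.det_one]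
    have h2 := sub_pow_char (p := p) (σ x).det 1
    rw [h1, one_pow, sub_self] at h2
    exact sub_eq_zero.1 (pow_eq_zero_iff hp.out.ne_zero |>.1 h2))
  have hi : ∀ z, z ^ 2 = 1 → z = 1 ∨ τ z = -1 := fun z hz =>
    (mat2_inv p2 (by rw [← map_mul, ← sq, hz, map_one]) (DFunLike.congr_fun hd z)).imp_left
      fun e => hτ (e.trans (map_one τ).symm)
  obtain ⟨T, hT⟩ := Sylow_exists (p := 2) (⊤ : Subgroup σ.toHomUnits.range)
  have hc : IsCyclic T := (ho.surj hf T hT.pgroup).elim id fun e => by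
    by_cases h1 : ∃ z, τ z = -1
    · obtain ⟨z, hz⟩ := h1
      exact cyclicS (e.ge.trans (Ohm1_le.2 fun w _ hw => (hi w hw).elim (fun e => e ▸ one_mem ⟪z⟫)
        fun e => hτ (e.trans hz.symm) ▸ mem_zpowers z)) inferInstance
    · exact cyclicS (e.ge.trans (Ohm1_le.2 fun w _ hw => mem_bot.2 ((hi w hw).resolve_right
        fun e => h1 ⟨w, e⟩))) inferInstance
  have h1 : ⊤ ≤ core {2}ᶜ (⊤ : Subgroup σ.toHomUnits.range) := hs'.ge.trans ((closure_le _).2 (by
    rintro _ ⟨x, hx, rfl⟩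
    refine pNil_iff_forall.1 (cyclic_Sylow_pNil hT hc (by simp)) _ (mem_top _)
      (piElt_of_pow_eq_one ((piNat_prime hp.out).2 p2) (hτ ?_))
    rw [map_pow, map_one]
    exact h x hx))
  have h2 := Nat.odd_iff.2 (Nat.two_dvd_ne_zero.1 (p'core_not_dvd 2 (⊤ : Subgroup σ.toHomUnits.range)))
  rw [top_le_iff.1 h1, card_top] at h2
  exact BG4P.mat2_p'elt τ h2 hs' (by rintro _ ⟨x, hx, rfl⟩; exact h x hx) (hg.map f)

theorem quad_p'elt [IsAlgClosed F] (ho : CI2 G) (p2 : p ≠ 2) {x y : G} (hs : closure {x, y} = ⊤)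
    {g : G} (hg : PiElt {p}ᶜ g) (n : ℕ) : ∀ {V : Type v} [AddCommGroup V] [Module F V]
    [Module.Finite F V] (ρ : Representation F G V), Module.finrank F V ≤ n → (ρ x - 1) ^ 2 = 0 →
    (ρ y - 1) ^ 2 = 0 → ρ g = 1 := by
  induction n with
  | zero =>
    intro V _ _ _ ρ h _ _
    haveI := Module.finrank_zero_iff.1 (Nat.le_zero.1 h)
    exact Subsingleton.elim _ _
  | succ n ih =>
    intro V _ _ _ ρ h hx hy
    rcases subsingleton_or_nontrivial V with _ | _
    · exact Subsingleton.elim _ _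
    have step : ∀ U : Submodule F V, U ≠ ⊥ → (∀ u ∈ U, (ρ x - 1) u ∈ U) →
        (∀ u ∈ U, (ρ y - 1) u ∈ U) → (∀ hU : ∀ g, U ≤ U.comap (ρ g),
          (ρ.subrepresentation U hU) g = 1) → ρ g = 1 := fun U h0 h1 h2 h3 => by
      have hU : ∀ g, U ≤ U.comap (ρ g) := fun g => by
        have hg : g ∈ (closure {x, y}).toSubmonoid := hs ▸ mem_top g
        rw [closure_toSubmonoid_of_finite] at hg
        induction hg using Submonoid.closure_induction with
        | mem z hz =>
          intro u hu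
          rcases hz with rfl | rfl
          · simpa using U.add_mem (h1 u hu) hu
          · simpa using U.add_mem (h2 u hu) hu
        | one => intro u hu; simpa using hu
        | mul a b _ _ ha hb => intro u hu; simpa using ha (hb hu)
      have h4 : ∀ z, (ρ z - 1) ^ 2 = 0 → (ρ.quotient U hU z - 1) ^ 2 = 0 := fun z hz => by
        ext v
        have := congrArg U.mkQ (LinearMap.congr_fun hz v)
        simpa [sq, Representation.quotient] using this
      have h5 := ih (ρ.quotient U hU) (by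
        have := U.finrank_quotient_add_finrank
        have := Submodule.finrank_eq_zero.not.2 h0
        omega) (h4 x hx) (h4 y hy)
      refine map_eq_one_of_p'elt ρ hg (n := 1) ?_
      rw [pow_one]
      refine quad_pow_char (F := F) (LinearMap.ext fun v => ?_)
      have h6 : ρ g v - v ∈ U := (Submodule.Quotient.eq U).1 (LinearMap.congr_fun h5 (U.mkQ v))
      have h7 := congrArg Subtype.val (LinearMap.congr_fun (h3 hU) ⟨_, h6⟩)
      simpa [sq, sub_eq_zero, Representation.subrepresentation] using h7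
    set X := ρ x - 1
    set Y := ρ y - 1
    have hX : ∀ v, X (X v) = 0 := fun v => by simpa [sq] using LinearMap.congr_fun hx v
    have hY : ∀ v, Y (Y v) = 0 := fun v => by simpa [sq] using LinearMap.congr_fun hy v
    obtain ⟨μ, hμ⟩ := Module.End.exists_eigenvalue (X * Y + Y * X)
    obtain ⟨v, hv0, hv1, hv2⟩ : ∃ v, v ≠ 0 ∧ X v = 0 ∧ X (Y v) = μ • v := by
      obtain ⟨w, hw⟩ := hμ.exists_hasEigenvector
      have h1 : X (Y w) + Y (X w) = μ • w := hw.apply_eq_smul
      by_cases e : X w = 0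
      · exact ⟨w, hw.2, e, by simpa [e] using h1⟩
      · exact ⟨X w, e, hX w, by simpa [hX] using congrArg X h1⟩
    by_cases e : Y v = 0
    · refine step (Submodule.span F {v}) (by simpa using hv0) (fun u hu => ?_) (fun u hu => ?_)
        fun hU => ?_
      · obtain ⟨a, rfl⟩ := Submodule.mem_span_singleton.1 hu
        simp [hv1]
      · obtain ⟨a, rfl⟩ := Submodule.mem_span_singleton.1 hu
        simp [e]
      · have : ρ.subrepresentation _ hU = 1 := MonoidHom.eq_of_eqOn_dense hs fun z hz => by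
          ext ⟨u, hu⟩
          obtain ⟨a, rfl⟩ := Submodule.mem_span_singleton.1 hu
          have : ρ z v = v := by
            rcases hz with rfl | rfl
            · exact sub_eq_zero.1 hv1
            · exact sub_eq_zero.1 e
          simp [Representation.subrepresentation, this]
        rw [this]; rfl
    have hli : LinearIndependent F ![v, Y v] := LinearIndependent.pair_iff.2 fun a b hab => by
      have h1 : a = 0 := by simpa [hY, e] using congrArg Y hab
      exact ⟨h1, by simpa [h1, e] using hab⟩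
    have m1 : v ∈ Submodule.span F {v, Y v} := Submodule.subset_span (by simp)
    have m2 : Y v ∈ Submodule.span F {v, Y v} := Submodule.subset_span (by simp)
    refine step (Submodule.span F {v, Y v}) (fun e => hv0 (by simpa [e] using m1))
      (fun u hu => ?_) (fun u hu => ?_) fun hU => ?_
    · obtain ⟨a, b, rfl⟩ := Submodule.mem_span_pair.1 hu
      simpa [hv1, hv2] using Submodule.smul_mem _ _ (Submodule.smul_mem _ _ m1)
    · obtain ⟨a, b, rfl⟩ := Submodule.mem_span_pair.1 hu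
      simpa [hY] using Submodule.smul_mem _ _ m2
    have h2 : Module.finrank F (Submodule.span F {v, Y v}) = 2 := by
      have := finrank_span_eq_card hli
      rwa [Matrix.range_cons, Matrix.range_cons, Matrix.range_empty, Set.union_empty,
        Set.singleton_union] at this
    let e := LinearMap.toMatrixAlgEquiv (Module.finBasisOfFinrankEq F _ h2)
    refine e.injective ((mat2_p'elt (e.toMonoidHom.comp (ρ.subrepresentation _ hU)) ho p2 hs
      (fun z hz => ?_) hg).trans (map_one e).symm)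
    have h3 : ρ z ^ p = 1 := by
      rcases hz with rfl | rfl
      · exact quad_pow_char (F := F) hx
      · exact quad_pow_char (F := F) hy
    rw [← map_pow] at h3 ⊢
    have : ρ.subrepresentation _ hU (z ^ p) = 1 :=
      LinearMap.ext fun u => Subtype.ext (LinearMap.congr_fun h3 u)
    rw [MonoidHom.comp_apply, this, map_one]

theorem quad_p'elt' (ho : CI2 G) (p2 : p ≠ 2) {x y : G} (hs : closure {x, y} = ⊤)
    {g : G} (hg : PiElt {p}ᶜ g) {V : Type*} [AddCommGroup V] [Module F V]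
    [Module.Finite F V] (ρ : Representation F G V) (hx : (ρ x - 1) ^ 2 = 0)
    (hy : (ρ y - 1) ^ 2 = 0) : ρ g = 1 := by
  let K := AlgebraicClosure F
  let φ : Module.End F V →+* Module.End K (Fin (Module.finrank F V) → K) :=
    (Matrix.toLinAlgEquiv'.toRingEquiv.toRingHom.comp (algebraMap F K).mapMatrix).comp
      (LinearMap.toMatrixAlgEquiv (Module.finBasis F V)).toRingEquiv.toRingHom
  have hφ : Function.Injective φ := (Matrix.toLinAlgEquiv'.injective.comp
    (Matrix.map_injective (algebraMap F K).injective)).comp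
      (LinearMap.toMatrixAlgEquiv (Module.finBasis F V)).injective
  have h : ∀ z, (ρ z - 1) ^ 2 = 0 → (φ.toMonoidHom.comp ρ z - 1) ^ 2 = 0 := fun z hz => by
    simpa using congrArg φ hz
  exact hφ ((quad_p'elt ho p2 hs hg _ (φ.toMonoidHom.comp ρ) le_rfl (h x hx) (h y hy)).trans
    (map_one φ).symm)

end lin

theorem quad_abelem {E : Subgroup G} (hE : IsElementaryAbelian p E) {x y : G}
    (hH : closure {x, y} ≤ 𝐍[E]) (ho : CI2 G) (p2 : p ≠ 2)
    (hx : ∀ v ∈ E, ⁅x, ⁅x, v⁆⁆ = 1) (hy : ∀ v ∈ E, ⁅y, ⁅y, v⁆⁆ = 1) {g : G}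
    (h : g ∈ closure {x, y}) (hg : PiElt {p}ᶜ g) : g ∈ 𝐂[E] := by
  let _ : CommGroup E := ⟨hE.1.is_comm.comm⟩
  have _ : Module (ZMod p) (Additive E) :=
    AddCommGroup.zmodModule fun v => Subtype.ext (hE.2 _ v.toMul.2)
  let ρ : closure {x, y} →* Module.End (ZMod p) (Additive E) :=
    { toFun := fun g => (MonoidHom.toAdditive
        (E.normalizerMonoidHom (inclusion hH g)).toMonoidHom).toZModLinearMap p
      map_one' := by rw [map_one, map_one]; rfl
      map_mul' := fun a b => by rw [map_mul, map_mul]; rfl }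
  have h1 : ∀ z : closure {x, y}, (∀ v ∈ E, ⁅(z : G), ⁅(z : G), v⁆⁆ = 1) → (ρ z - 1) ^ 2 = 0 :=
    fun z hz => LinearMap.ext fun v => Subtype.ext (by
      have : ∀ w : Additive E, (((ρ z - 1) w).toMul : G) = ⁅(z : G), (w.toMul : G)⁆ := fun w => by
        rw [LinearMap.sub_apply, toMul_sub, commutatorElement_def, ← div_eq_mul_inv]; rfl
      refine (this _).trans ?_
      rw [this, hz _ v.toMul.2]; rfl)
  have h2 := quad_p'elt' (ho.sub _) p2 (x := ⟨x, subset_closure (by simp)⟩) (y := ⟨y, subset_closure (by simp)⟩)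
    (by convert closure_preimage_eq_top {x, y}; ext; simp [Subtype.ext_iff])
    (g := ⟨g, h⟩) (piElt_coe.1 hg) ρ (h1 _ hx) (h1 _ hy)
  exact mem_cent.2 fun v hv => (mul_inv_eq_iff_eq_mul.1
    (congrArg Subtype.val (LinearMap.congr_fun h2 (Additive.ofMul ⟨v, hv⟩)) :)).symm

theorem quad_pgroup {P : Subgroup G} (hP : IsPGroup p P) {x y : G}
    (hH : closure {x, y} ≤ 𝐍[P]) (ho : CI2 G) (p2 : p ≠ 2)
    (hx : ∀ v ∈ P, ⁅x, ⁅x, v⁆⁆ = 1) (hy : ∀ v ∈ P, ⁅y, ⁅y, v⁆⁆ = 1) :
    PiNat {p} ((𝐂[P]).relIndex (closure {x, y})) := by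
  refine piNat_relIndex_of_forall fun q hq hqp R hR hRq => ?_
  haveI := Fact.mk hq
  have h1 := norms_Phi hH
  have h2 : closure {x, y} ⁄ frat P = closure {coset (frat P) x, coset (frat P) y} := by
    rw [quotient_gen fun z hz => h1 (subset_closure hz), Set.image_pair]
  have h3 : ∀ z ∈ closure {x, y}, (∀ v ∈ P, ⁅z, ⁅z, v⁆⁆ = 1) →
      ∀ v ∈ P ⁄ frat P, ⁅coset (frat P) z, ⁅coset (frat P) z, v⁆⁆ = 1 := fun z hz h v hv' => by
    obtain ⟨v, hv, hn, rfl⟩ := mem_quo.1 hv'
    rw [← coset_commg (h1 hz) hn, ← coset_commg (h1 hz) (der_sub _ (mem_commg (h1 hz) hn)), h v hv,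
      coset_one]
  refine coprime_cent_Phi (coprime_pgroups hP hRq (Ne.symm hqp))
    ((quotient_cents2 (Phi_normal P).norm (hR.trans h1)).1 (centsC.1 fun g hg' => ?_))
  obtain ⟨g, hg, -, rfl⟩ := mem_quo.1 hg'
  exact quad_abelem (Phi_quotient_abelem hP) (h2 ▸ quotient_norms _ hH) (ho.quo _) p2
    (h3 x (subset_closure (by simp)) hx) (h3 y (subset_closure (by simp)) hy)
    (h2 ▸ mem_quotient _ (hR hg)) (((piSub_of_pgroup hRq hqp).piElt hg).coset _)

/-- B & G, Theorem A.4(c) -/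
theorem stable {N P A C : Subgroup G} (ho : CI2 G) (p2 : p ≠ 2) (hP : IsPGroup p P)
    (hN : N ≤ 𝐍[P]) (hA : A ≤ N) (h : ⁅⁅P, A⁆, A⁆ = ⊥) (hC : N ⊓ 𝐂[P] ≤ C) (hn : N ≤ 𝐍[C]) :
    A ⁄ C ≤ core {p} (N ⁄ C) := fun a ha' => by
  obtain ⟨a, ha, -, rfl⟩ := mem_quo.1 ha'
  refine baer_rel (mem_quotient C (hA ha)) fun g hg' => ?_
  obtain ⟨g, hg, -, rfl⟩ := mem_quo.1 hg'
  have h1 : closure {a, g * a * g⁻¹} ≤ N := (closure_le _).2 (Set.insert_subset (hA ha)
    (Set.singleton_subset_iff.2 (mul_mem (mul_mem hg (hA ha)) (inv_mem hg))))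
  have h2 : ∀ v ∈ P, ⁅a, ⁅a, v⁆⁆ = 1 := fun v hv => mem_bot.1 (by
    rw [← h, commGC, commGC P]; exact mem_commg ha (mem_commg ha hv))
  have h3 := quad_pgroup hP (h1.trans hN) ho p2 h2 fun v hv => by
    have := congrArg (fun z => g * z * g⁻¹) (h2 _ ((memJ_norm' (hN hg)).2 hv))
    simp only [conjugate_commutatorElement] at this
    simpa [mul_assoc] using this
  rw [← coset_conj (hn hg) (hn (hA ha)), ← Set.image_pair,
    ← quotient_gen fun z hz => hn (h1 (subset_closure hz)), pgroup_quo (h1.trans hn)]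
  rw [← inf_relIndex_right] at h3
  exact h3.of_dvd (indexgS _ ((le_inf (inf_le_right.trans h1) inf_le_left).trans hC))

/-- B & G, Theorem 6.1 -/
theorem abelian_constrained {L S A : Subgroup G} (ho : CI2 G) (p2 : p ≠ 2)
    (hs : PC p (L ⁄ core {p}ᶜ L)) (hS : Syl p S L) (hA : IsMulCommutative A) (hn : A ⊴ S) :
    A ≤ ppCore p L := by
  have hD := (pcore_normal {p}ᶜ L).norm
  rw [ppCore_eq_pre, ← sub_quotient_pre ((hn.le.trans hS.le).trans hD)]
  have h1 := hS.quo (hS.le.trans hD)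
  have h2 := hn.quo (core {p}ᶜ L)
  have h3 := pcore_normal {p} (L ⁄ core {p}ᶜ L)
  rw [← quotient_sub1 ((h2.le.trans h1.le).trans h3.norm), eq_bot_iff,
    ← trivg_pcore_quotient {p} (L ⁄ core {p}ᶜ L)]
  exact stable (ho.quo _) p2 (pcore_pgroup' p _) h3.norm (h2.le.trans h1.le)
    (commG1P.2 ((commg_subr.2 ((pcore_sub_Sylow h1).trans h2.norm)).trans
      (abelian_iff.1 (quotient_abelian _ hA))))
    hs h3.norm

/-- B & G, Theorem A.5(a) -/
theorem gen_stable {L P C : Subgroup G} {s : Set (Subgroup G)} (ho : CI2 G) (p2 : p ≠ 2)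
    (hP : IsPGroup p P) (hN : L ≤ 𝐍[P]) (hC : L ⊓ 𝐂[P] ≤ C) (hn : C ⊴ L)
    (h : ∀ A ∈ s, A ≤ L ∧ IsMulCommutative A ∧ P ≤ 𝐍[A]) :
    sSup s ≤ pre C (core {p} (L ⁄ C)) := sSup_le fun A hA =>
  (sub_quotient_pre ((h A hA).1.trans hn.norm)).1 (stable ho p2 hP hN (h A hA).1
    (commG1P.2 ((commg_subr.2 (h A hA).2.2).trans (abelian_iff.1 (h A hA).2.1))) hC hn.norm)

/-- B & G, Theorem A.5(b) -/
theorem gen_constrained {L P : Subgroup G} {s : Set (Subgroup G)} (ho : CI2 G) (p2 : p ≠ 2)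
    (hs : PC p L) (hP : P ≤ core {p} L) (hN : L ≤ 𝐍[P])
    (hc : core {p} L ⊓ 𝐂[P] ≤ P) (h : ∀ A ∈ s, A ≤ L ∧ IsMulCommutative A ∧ P ≤ 𝐍[A]) :
    sSup s ≤ core {p} L := by
  have hQ := pcore_pgroup' p L
  have h1 : PiSub {p} (L ⊓ 𝐂[P]) := by
    refine (pcore_pgroup {p} L).of_relIndex (piNat_relIndex_of_forall fun q hq hqp R hR hRq => ?_)
    haveI := Fact.mk hq
    have h2 : R ≤ L := hR.trans inf_le_left
    have h3 : P ≤ 𝐂[R] := centsC.1 (hR.trans inf_le_right)
    exact (le_inf h2 (coprime_nil_faithful_cent_stab (h2.trans (pcore_normal {p} L).norm)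
      (coprime_pgroups hQ hRq (Ne.symm hqp)) (pgroup_nil hQ)
      (((inf_le_inf_left _ (centS (le_inf hP h3))).trans hc).trans h3))).trans
      hs
  rw [← pre_core h1 (subcent_normal' hN)]
  exact gen_stable ho p2 (hQ.to_le hP) hN le_rfl (subcent_normal' hN) h

variable {L S : Subgroup G}

/-- B & G, Lemma B.3, for any subgroup over `O_p(L)` -/
theorem pcore_Puig_sub (ho : CI2 G) (p2 : p ≠ 2) (hs : PC p L) (h1 : core {p} L ≤ S) (h2 : S ≤ L) :
    pinf S ≤ pinf (core {p} L) ∧ puig (core {p} L) ≤ puig S := by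
  have e : ∀ X, pst (core {p} L) X ≤ pst S X := fun X => pst_mono ((pst_le _ _).trans h1) le_rfl
  have h1 : pinf S ≤ pinf (core {p} L) := pinf_min ((pst_anti S (e _)).trans (by
    rw [← puig_def, pinf_def]
    exact pst_mono (gen_constrained ho p2 hs (puig_le _)
      (char_norm_trans (Puig_char _) (pcore_normal _ L).norm)
      (cent_Puig_le (pgroup_nil (pcore_pgroup' p L))) fun A hA => ⟨hA.1.trans h2, hA.2⟩) le_rfl))
  refine ⟨h1, ?_⟩
  rw [puig_def, puig_def]
  exact (e _).trans (pst_anti S h1)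

/-- `C_L(Z(L(O_p(L))))` -/
abbrev cY (p : ℕ) (L : Subgroup G) : Subgroup G := L ⊓ 𝐂[𝐙[puig (core {p} L)]]

/-- `O_p(L mod cY)` -/
abbrev kY (p : ℕ) (L : Subgroup G) : Subgroup G := pre (cY p L) (core {p} (L ⁄ cY p L))

omit hp in
theorem Y_normal : 𝐙[puig (core {p} L)] ⊴ L :=
  char_normal_trans (center_Puig_char _) (pcore_normal _ L)

omit hp in
theorem cY_normal : cY p L ⊴ L := subcent_normal' Y_normal.norm

omit hp in
theorem kY_normal : kY p L ⊴ L := (pcore_normal {p} (L ⁄ cY p L)).pre cY_normal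

section
variable (ho : CI2 G) (p2 : p ≠ 2) (hs : PC p L) (hS : IsPGroup p S) (h1 : core {p} L ≤ S)
  (h2 : S ≤ L)
include ho p2 hs hS h1 h2

theorem center_Puig_le : 𝐙[puig S] ≤ 𝐙[puig (core {p} L)] := by
  obtain ⟨h3, h4⟩ := pcore_Puig_sub ho p2 hs h1 h2
  refine le_inf (le_trans ?_ (h3.trans (pinf_le_puig _))) (inf_le_right.trans (centS h4))
  refine (inf_le_inf (puig_le S) (centS (pinf_le_puig S))).trans ?_
  rw [pinf_def]
  exact cent_pst_le (pgroup_nil hS) (puig_le S)

theorem cY_le : cY p L ≤ 𝐍[𝐙[puig S]] :=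
  cents_norm (inf_le_right.trans (centS (center_Puig_le ho p2 hs hS h1 h2)))

theorem Puig_le_kY : puig S ≤ kY p L := by
  have hYS : 𝐙[puig (core {p} L)] ≤ S := (inf_le_left.trans (puig_le _)).trans h1
  have h3 : 𝐙[puig (core {p} L)] ≤ pinf S := pinf_def S ▸
    normal_abelian_le_pst (normalS hYS h2 Y_normal) (center_abelian _) (puig_le S)
  exact puig_def S ▸ gen_stable ho p2 (hS.to_le hYS) Y_normal.norm le_rfl cY_normal
    fun A hA => ⟨hA.1.trans h2, hA.2.1, h3.trans hA.2.2⟩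

theorem norm_kY_le : 𝐍[S ⊓ kY p L] ≤ 𝐍[𝐙[puig S]] := by
  rw [← sub_Puig_eq inf_le_left (le_inf (puig_le S) (Puig_le_kY ho p2 hs hS h1 h2))]
  exact (center_Puig_char _).norm_le

/-- B & G, Theorem B.4(b): it suffices that `S` contains a Sylow subgroup of `kY` -/
theorem Puig_center_normal_of (h5 : Syl p (S ⊓ kY p L) (kY p L)) : 𝐙[puig S] ⊴ L := by
  have h6 := norm_kY_le ho p2 hs hS h1 h2
  have h7 := (h5.hall.mulEq_of_index (sub_cosetpre _) (by
    rw [relIndex_pre]; exact pcore_pgroup _ _)).sup_eq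
  exact ⟨(inf_le_left.trans (puig_le S)).trans h2, (Frattini_arg kY_normal h5).sup_eq.ge.trans
    (sup_le (h7.ge.trans (sup_le ((normG _).trans h6) (cY_le ho p2 hs hS h1 h2)))
      (inf_le_right.trans h6))⟩

end

/-- B & G, Theorem B.4(b) -/
theorem Puig_center_normal (ho : CI2 G) (p2 : p ≠ 2) (hs : PC p L) (hS : Syl p S L) :
    𝐙[puig S] ⊴ L :=
  Puig_center_normal_of ho p2 hs hS.pgroup (pcore_sub_Sylow hS) hS.le
    (Sylow_setI_normal kY_normal hS)

theorem Puig_center_p'core_normal (ho : CI2 G) (p2 : p ≠ 2) (hs : PC p (L ⁄ core {p}ᶜ L))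
    (hS : Syl p S L) : (core {p}ᶜ L ⊔ 𝐙[puig S]) ⊴ L := by
  have hD := pcore_normal {p}ᶜ L
  have h1 := hS.le.trans hD.norm
  have h2 : core {p}ᶜ L ⊓ S = ⊥ :=
    inf_comm S _ ▸ coprime_TIg (coprime_pgroup hS.pgroup (p'core_not_dvd p L))
  have := (Puig_center_normal (ho.quo _) p2 hs (hS.quo h1)).pre hD
  rwa [puig_quo h1 h2, ← quotient_TI_subcent h1 h2 (puig_le S) (puig_le S),
    quotientK ((inf_le_left.trans (puig_le S)).trans h1)] at this

/-- B & G, Theorem 6.2 -/
theorem Puig_factorisation (ho : CI2 G) (p2 : p ≠ 2) (hs : PC p (L ⁄ core {p}ᶜ L))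
    (hS : Syl p S L) : core {p}ᶜ L ⊔ (L ⊓ 𝐍[𝐙[puig S]]) = L := by
  have h1 : 𝐙[puig S] ≤ S := inf_le_left.trans (puig_le S)
  have := (Frattini_arg (Puig_center_p'core_normal ho p2 hs hS) (Hall.syl (compl_compl ({p} : Set ℕ) ▸
    (hall_sup_of_norm ((h1.trans hS.le).trans (pcore_normal {p}ᶜ L).norm) (pcore_pgroup _ L)
    (by rw [compl_compl]; exact piSub_singleton.2 (hS.pgroup.to_le h1))).2))).sup_eq
  rwa [sup_assoc, sup_eq_right.2 (le_inf (h1.trans hS.le) (normG _))] at this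

end ZJ

end Cfsg.GW
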