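import Cfsg.Agent.GW.Defs2
import Cfsg.Agent.GW.ZJ
import Cfsg.Agent.GW.PFsB
import Cfsg.Agent.Gag.FinD8
import Cfsg.Agent.FT.Main

/-!
# S4594 core: general tools for D-groups
-/

set_option autoImplicit false
set_option linter.style.haveILetI false
set_option linter.unusedSectionVars false

namespace Cfsg.GW.DL

open Subgroup Cfsg.FT Cfsg.Gag Cfsg.Gag.Fin5 Cfsg.GW.PFs
open scoped Pointwise commutatorElement

universe u

variable {G : Type u} [Group G] [Finite G] {L N P P' R T V X Y : Subgroup G} {f g t v x : G} {r : ℕ}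

theorem odd_od (X : Subgroup G) : Odd (Nat.card (od X)) :=
  Nat.odd_iff.2 (Nat.two_dvd_ne_zero.1 (p'core_not_dvd 2 X))

theorem od_normal (X : Subgroup G) : od X ⊴ X := pcore_normal _ _

theorem odd_pgroup [hr : Fact r.Prime] (r2 : r ≠ 2) (h : IsPGroup r P) : Odd (Nat.card P) := by
  obtain ⟨k, hk⟩ := IsPGroup.iff_card.1 h
  exact hk ▸ (hr.out.odd_of_ne_two r2).pow

theorem odd_sup (hP : Odd (Nat.card P)) (hQ : Odd (Nat.card R)) (h : R ≤ 𝐍[P]) :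
    Odd (Nat.card ↥(P ⊔ R)) := Nat.odd_iff.2 (Nat.two_dvd_ne_zero.1 (piSub_compl.1
  ((piSub_compl.2 hP.not_two_dvd_nat).sup (piSub_compl.2 hQ.not_two_dvd_nat) h)))

theorem TI_odd (ho : Odd (Nat.card N)) (h : IsPGroup 2 T) : N ⊓ T = ⊥ := coprime_TIg (cop2 ho h)

theorem orderOf_coset (hn : T ≤ 𝐍[N]) (hi : N ⊓ T = ⊥) (hx : x ∈ T) :
    orderOf (coset N x) = orderOf x := by
  rw [← Nat.card_zpowers, ← quotient_cycle (hn hx), ← Nat.card_zpowers,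
    card_quotient_of_TI ((zpowers_le.2 hx).trans hn)
      (eq_bot_iff.2 ((inf_le_inf_left _ (zpowers_le.2 hx)).trans hi.le))]

theorem coset_inj (hn : T ≤ 𝐍[N]) (hi : N ⊓ T = ⊥) (hx : x ∈ T) (hg : g ∈ T)
    (e : coset N x = coset N g) : x = g :=
  inv_mul_eq_one.1 (mem_bot.1 (hi.le (mem_inf.2 ⟨(coset_eq_iff (hn hx) (hn hg)).1 e,
    mul_mem (inv_mem hx) hg⟩)))

theorem d8_quo (h : D8 T f x) (hn : T ≤ 𝐍[N]) (hi : N ⊓ T = ⊥) :
    D8 (T ⁄ N) (coset N f) (coset N x) where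
  of := (orderOf_coset hn hi (d8_fA h)).trans h.of
  ox := (orderOf_coset hn hi (d8_xA h)).trans h.ox
  inv := by rw [← coset_conj (hn (d8_xA h)) (hn (d8_fA h)), h.inv, coset_inv]
  gen := by
    rw [← quotient_cycle (hn (d8_fA h)), ← quotient_cycle (hn (d8_xA h)), ← quotientY
      (zpowers_le.2 (hn (d8_fA h))) (zpowers_le.2 (hn (d8_xA h))), ← h.gen]
  card := (card_quotient_of_TI hn hi).trans h.card

theorem dih_quo (h : Dih G) (ho : Odd (Nat.card N)) : Dih (Q N) := fun S hS => by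
  obtain ⟨T, hT⟩ := Sylow_exists (p := 2) (pre N S)
  have hn := hT.le.trans (pre_le_norm S)
  have e := hT.quo hn
  rw [cosetpreK] at e
  rw [← e.eq_self hS]
  exact (h T hT.pgroup).imp (fun h4 => (card_quotient_of_TI hn (TI_odd ho hT.pgroup)).le.trans h4)
    fun ⟨f, x, h8⟩ => ⟨_, _, d8_quo h8 hn (TI_odd ho hT.pgroup)⟩

theorem IH.mono {m n : ℕ} (h : IH.{u} n) (hm : m ≤ n) : IH.{u} m :=
  fun L _ _ _ hL => h L (hL.trans_le hm)

theorem dg_quo (h : DG X) (ho : Odd (Nat.card N)) : DG (X ⁄ N) :=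
  ⟨dih_quo h.dih ho, IH.mono h.ih (Nat.succ_le_succ (Nat.le_of_dvd Nat.card_pos (dvdn_quotient X N)))⟩

theorem dg_sub (h : DG X) (hY : Y ≤ X) : DG Y :=
  ⟨h.dih, IH.mono h.ih (Nat.succ_le_succ (card_le_of_le hY))⟩

theorem small_cases (h : IsPGroup 2 T) (h4 : Nat.card T ≤ 4) : IsCyclic T ∨ Klein T := by
  obtain ⟨k, hk⟩ := IsPGroup.iff_card.1 h
  have h2 : k ≤ 2 := (Nat.pow_le_pow_iff_right one_lt_two).1 (hk ▸ h4)
  rw [or_iff_not_imp_left]
  intro hc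
  interval_cases k
  · exact absurd (card_eq_one.1 hk ▸ inferInstance) hc
  · exact absurd (prime_cyclic (hk ▸ Nat.prime_two)) hc
  · exact ⟨hk, fun t ht => by rw [← sq]; exact (p2group_noncyclic_abelem hk hc).2 t ht⟩

theorem dih_ci2 (h : Dih G) : CI2 G := fun T hT => (h T hT).elim
  (fun h4 => (small_cases hT h4).imp_right fun hK => Ohm1_id hK.abelem) fun ⟨f, x, h8⟩ => .inr (by
    have h1 := mem_Ohm1 (d8_xA h8) ((sq x).trans (d8_xx h8))
    have h2 := mem_Ohm1 (d8_xA (d8_swap h8)) ((sq _).trans (d8_xx (d8_swap h8)))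
    refine (Ohm_sub _ _).antisymm (h8.gen.le.trans (sup_le (zpowers_le.2 ?_) (zpowers_le.2 h1)))
    simpa using mul_mem (inv_mem h1) h2)

theorem card_le8 (h : Dih G) (hT : IsPGroup 2 T) : Nat.card T ≤ 8 :=
  (h T hT).elim (·.trans (by norm_num)) fun ⟨_, _, h8⟩ => h8.card.le

/-- an involution of a `2`-subgroup lies in a four-group, unless the subgroup is cyclic -/
theorem exists_klein_mem (h : Dih G) (hT : IsPGroup 2 T) (ht : t ∈ T) (t2 : t * t = 1) :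
    IsCyclic T ∨ ∃ V, Klein V ∧ V ≤ T ∧ t ∈ V := by
  rcases h T hT with h4 | ⟨f, x, h8⟩
  · exact (small_cases hT h4).imp_right fun hK => ⟨T, hK, le_rfl, ht⟩
  · exact .inr ((d8_invol h8 ht t2).elim (fun e => ⟨_, d8_klein h8, d8_TA h8, e⟩)
      fun e => ⟨_, d8_klein (d8_swap h8), d8_TA (d8_swap h8), e⟩)

/-- a four-group is self-centralizing in every `2`-subgroup -/
theorem klein_cent (h : Dih G) (hT : IsPGroup 2 T) (hV : Klein V) (hl : V ≤ T) : T ⊓ 𝐂[V] ≤ V := by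
  rcases h T hT with h4 | ⟨f, x, h8⟩
  · exact inf_le_left.trans (card_eq_of_le hl (h4.trans hV.1.ge)).ge
  · rcases d8_klein_eq h8 hV hl with e | e
    · exact e ▸ d8_cent h8
    · exact e ▸ d8_cent (d8_swap h8)

theorem klein_norm (h : Dih G) (hT : IsPGroup 2 T) (hV : Klein V) (hl : V ≤ T) : T ≤ 𝐍[V] := by
  rcases h T hT with h4 | ⟨f, x, h8⟩
  · exact normsG (card_eq_of_le hl (h4.trans hV.1.ge)).ge
  · rcases d8_klein_eq h8 hV hl with e | e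
    · exact e ▸ d8_AN h8
    · exact e ▸ d8_AN (d8_swap h8)

theorem pnil_of_sup (hT : IsPGroup 2 T) (h : od X ⊔ T = X) : PNil 2 X := by
  have := quotientYidl ((h ▸ le_sup_right : T ≤ X).trans (od_normal X).norm)
  rw [h] at this
  rw [pNil_iff_quo_pgroup, this]
  exact quotient_pgroup _ hT

theorem pnil_cent (hF : StFrob.{u}) (h : Dih G) (ov : orderOf v = 2) : PNil 2 𝐂₁[v] := by
  obtain ⟨S, hS, hv⟩ := Sylow_superset (zpowers_le.2 (cent1id v))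
    (prime_pgroup ((Nat.card_zpowers v).trans ov))
  refine pnil_of_sup hS.pgroup (hF G _ S h hS fun V hV hl hf => ?_)
  have h1 : v ∈ V := klein_cent h hS.pgroup hV hl ⟨hv (mem_zpowers v), le_cent1.1 (hl.trans hS.le)⟩
  have v1 : v ≠ 1 := fun e => by simp [e] at ov
  obtain ⟨w, hw, hw'⟩ := SetLike.not_le_iff_exists.1 fun e : V ≤ ⟪v⟫ =>
    hV.not_cyclic (cyclicS e inferInstance)
  obtain ⟨y, hy, e⟩ := hf v h1 w hw v1 fun e => hw' (e ▸ one_mem _)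
  rw [mem_cent1.1 hy.1, mul_inv_cancel_right] at e
  exact hw' (e ▸ mem_zpowers v)

theorem odd_le_od (h : PNil 2 X) (hY : Y ≤ X) (ho : Odd (Nat.card Y)) : Y ≤ od X := fun y hy =>
  pNil_iff_forall.1 h y (hY hy) ((piSub_compl.2 ho.not_two_dvd_nat).piElt hy)

theorem le_od_cent (hF : StFrob.{u}) (h : Dih G) (ov : orderOf v = 2) (hY : Y ≤ X ⊓ 𝐂₁[v])
    (ho : Odd (Nat.card Y)) : Y ≤ od (X ⊓ 𝐂₁[v]) :=
  odd_le_od ((pnil_cent hF h ov).mono inf_le_right) hY ho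

omit [Finite G] in
theorem mem_cycle2 (t2 : t * t = 1) (hx : x ∈ ⟪t⟫) : x = 1 ∨ x = t := by
  obtain ⟨k, rfl⟩ := hx
  have h : t ^ (2 : ℤ) = 1 := by rw [zpow_two, t2]
  rcases Int.even_or_odd' k with ⟨j, rfl | rfl⟩
  · exact .inl (by simp only [zpow_mul, h, one_zpow])
  · exact .inr (by simp only [zpow_add, zpow_mul, h, one_zpow, one_mul, zpow_one])

/-- a fixed point free involution inverts -/
theorem inv_of_fpf (hN : t ∈ 𝐍[N]) (t2 : t * t = 1) (h : N ⊓ 𝐂₁[t] = ⊥) (hx : x ∈ N) :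
    t * x * t = x⁻¹ := by
  have ti : t⁻¹ = t := inv_eq_of_mul_eq_one_right t2
  let φ : N → N := fun y => ⟨(y : G)⁻¹ * (t * y * t⁻¹),
    mul_mem (inv_mem y.2) ((memJ_norm hN).2 y.2)⟩
  have hφ : Function.Injective φ := fun a b e => by
    have e' : (a : G)⁻¹ * (t * a * t⁻¹) = (b : G)⁻¹ * (t * b * t⁻¹) := congrArg Subtype.val e
    have : (b : G) * (a : G)⁻¹ ∈ N ⊓ 𝐂₁[t] := mem_inf.2 ⟨mul_mem b.2 (inv_mem a.2), mem_cent1.2 (by
      calc (b : G) * (a : G)⁻¹ * t = b * ((a : G)⁻¹ * (t * a * t⁻¹)) * t * (a : G)⁻¹ := by group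
        _ = _ := by rw [e']; group)⟩
    rw [h, mem_bot, mul_inv_eq_one] at this
    exact Subtype.ext this.symm
  obtain ⟨y, hy⟩ := (Finite.injective_iff_surjective.1 hφ) ⟨x, hx⟩
  have e : (y : G)⁻¹ * (t * y * t) = x := by simpa [φ, ti] using congrArg Subtype.val hy
  rw [← e]
  calc t * ((y : G)⁻¹ * (t * y * t)) * t = t * (y : G)⁻¹ * t * y * (t * t) := by group
    _ = _ := by rw [t2]; simp [ti, mul_assoc]

omit [Finite G] in
theorem comm_cent_of_inv (t2 : t * t = 1) (hQ : Y ≤ 𝐍[N]) (h : ∀ x ∈ N, t * x * t = x⁻¹) :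
    ⁅Y, ⟪t⟫⁆ ≤ 𝐂[N] := commg_le_iff.2 fun q hq w hw => by
  rcases mem_cycle2 t2 hw with rfl | rfl
  · simp
  refine mem_cent.2 fun n hn => (mul_inv_eq_iff_eq_mul.1 ?_).symm
  have ti : w⁻¹ = w := inv_eq_of_mul_eq_one_right t2
  calc _ = q * (w * (q⁻¹ * (w⁻¹ * n * w) * q) * w⁻¹) * q⁻¹ := by group
    _ = n := by rw [ti, h n hn, h _ ((memJ_norm' (hQ hq)).2 (inv_mem hn))]; group

/-- `Y = [Y, t]` centralizes a nilpotent coprime `L` as soon as it centralizes `C_L(t)` -/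
theorem cent_of_comm_inv (t2 : t * t = 1) (hY : ⁅Y, ⟪t⟫⁆ = Y) (hL : Group.IsNilpotent L)
    (ho : Odd (Nat.card L)) (hc : (Nat.card L).Coprime (Nat.card Y)) (hn : Y ≤ 𝐍[L])
    (ht : t ∈ 𝐍[L]) (h : L ⊓ 𝐂₁[t] ≤ 𝐂[Y]) : L ≤ 𝐂[Y] := by
  have tY : ⟪t⟫ ≤ 𝐍[Y] := hY ▸ commg_normr _ _
  have h1 : Y ≤ 𝐍[L ⊓ 𝐂[Y]] := normsI hn (norms_cent (normG Y))
  have h2 : ⟪t⟫ ≤ 𝐍[L ⊓ 𝐂[Y]] := normsI (zpowers_le.2 ht) (norms_cent tY)
  refine inf_eq_left.1 (nilpotent_sub_norm hL inf_le_left (le_inf inf_le_left ?_))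
  set C := L ⊓ 𝐂[Y]
  have h3 : ⟪t⟫ ≤ 𝐍[L ⊓ 𝐍[C]] := normsI (zpowers_le.2 ht) (norms_norm h2)
  have h4 : Y ≤ 𝐍[L ⊓ 𝐍[C]] := normsI hn (norms_norm h1)
  have ot : orderOf t ∣ 2 := orderOf_dvd_of_pow_eq_one ((sq t).trans t2)
  have t2' : coset C t * coset C t = 1 := by
    rw [← coset_mul (zpowers_le.1 h2) (zpowers_le.1 h2), t2, coset_one]
  have h5 : (L ⊓ 𝐍[C]) ⁄ C ⊓ 𝐂₁[coset C t] = ⊥ := by
    rw [← coprime_quotient_cent1 (.inr (zpowers_le.1 h3)) (zpowers_le.1 h2)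
      (((oddSg inf_le_left ho).coprime_two_right).of_dvd_right ot)]
    exact quotientS1 ((inf_le_inf_right _ inf_le_left).trans (le_inf inf_le_left h))
  have h6 := comm_cent_of_inv t2' (quotient_norms C h4) fun x hx => inv_of_fpf
    (zpowers_le.1 (quotient_cycle (zpowers_le.1 h2) ▸ quotient_norms C h3)) t2' h5 hx
  rw [← quotient_cycle (zpowers_le.1 h2), ← quotientR h1 h2, hY,
    quotient_cents2 h1 inf_le_right, commGC] at h6
  exact centsC.1 (stable_factor_cent (centsC.1 inf_le_right) h6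
    (hc.of_dvd_left (card_dvd_of_le inf_le_left)))

/-- the odd order case of L1 -/
theorem le_core_of_comm [hr : Fact r.Prime] (t2 : t * t = 1) (hY : ⁅Y, ⟪t⟫⁆ = Y) (hp : IsPGroup r Y)
    (ho : Odd (Nat.card L)) (hl : Y ≤ L) (ht : t ∈ 𝐍[L]) (h : L ⊓ 𝐂₁[t] ≤ 𝐍[Y]) :
    Y ≤ core {r} L := by
  have hR := pcore_normal {r} L
  have tR : t ∈ 𝐍[core {r} L] := zpowers_le.1 (norms_pcore _ (zpowers_le.2 ht))
  have ot : orderOf t ∣ 2 := orderOf_dvd_of_pow_eq_one ((sq t).trans t2)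
  set R := core {r} L
  have hF := Fitting_normal (L ⁄ R)
  have h1 : ¬ r ∣ Nat.card (fit (L ⁄ R)) := fun e => by
    have := (nilpotent_pcore_Sylow r (Fitting_nil (L ⁄ R))).ne_bot e
    exact this (eq_bot_iff.2 ((pcore_Fitting _ _).trans (trivg_pcore_quotient _ L).le))
  have h2 := coprime_pgroup (quotient_pgroup R hp) h1
  have h3 : Y ⁄ R ≤ 𝐍[fit (L ⁄ R)] := (quotientS R hl).trans hF.norm
  have h4 : coset R t ∈ 𝐍[L ⁄ R] :=
    zpowers_le.1 (quotient_cycle tR ▸ quotient_norms R (zpowers_le.2 ht))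
  have h5 : fit (L ⁄ R) ≤ 𝐂[Y ⁄ R] := cent_of_comm_inv (t := coset R t)
    (by rw [← coset_mul tR tR, t2, coset_one])
    (by rw [← quotient_cycle tR, ← quotientR (hl.trans hR.norm) (zpowers_le.2 tR), hY])
    (Fitting_nil _) (oddSg hF.le (quotient_odd _ ho)) h2.symm h3
    (zpowers_le.1 (norms_Fitting (zpowers_le.2 h4))) (commG1P.1 (eq_bot_iff.2 (le_trans (le_inf
      (commg_subr.2 (by
        refine (inf_le_inf_right _ hF.le).trans ?_
        rw [← coprime_quotient_cent1 (.inl hR.le) tR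
          (((oddSg hR.le ho).coprime_two_right).of_dvd_right ot)]
        exact quotient_norms R h)) ((commSg _ inf_le_left).trans (commg_subl.2 h3)))
      (coprime_TIg h2).le)))
  refine (quotient_sub1 (hl.trans hR.norm)).1 (eq_bot_iff.2 (le_trans (le_inf le_rfl ?_)
    (coprime_TIg h2).le))
  exact (le_inf (quotientS R hl) (centsC.1 h5)).trans
    (cent_sub_Fitting (quotient_sol _ (feit_thompson ho)))

theorem MaxInv.conj (h : MaxInv X V r P) (hg : g ∈ X ⊓ 𝐍[V]) : MaxInv X V r (g •ᶜ P) := by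
  have key : ∀ g ∈ X ⊓ 𝐍[V], ∀ P, InvP X V r P → InvP X V r (g •ᶜ P) := fun g hg P h =>
    ⟨conj_le_of_mem hg.1 h.1, isPGroup_conj.2 h.2.1, conj_eq_of_mem_norm hg.2 ▸ conj_norms g h.2.2⟩
  exact ⟨key g hg P h.1, fun P' h1 h2 => by
    rw [← h.2 _ (key _ (inv_mem hg) P' h1) (le_conj_iff.2 (by rwa [inv_inv])), conj_inv_conj]⟩

variable [hr : Fact r.Prime]

theorem syl_of_odd (h : MaxInv X V r P) (hV : IsPGroup 2 V) (ho : Odd (Nat.card L)) (hn : V ≤ 𝐍[L])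
    (hl : L ≤ X) (hP : P ≤ L) : Syl r P L := by
  obtain ⟨S, hS, h1, h2⟩ := sol_coprime_Sylow_subset (.inr (pgroup_sol hV)) hn (cop2 ho hV) hP
    h.1.2.1 h.1.2.2
  exact h.2 S ⟨hS.le.trans hl, hS.pgroup, h1⟩ h2 ▸ hS

theorem syl_od (h : MaxInv X V r P) (r2 : r ≠ 2) (hV : IsPGroup 2 V) (hp : PNil 2 L) (hn : V ≤ 𝐍[L])
    (hl : L ≤ X) (hP : P ≤ L) : Syl r P (od L) :=
  syl_of_odd h hV (odd_od L) (norms_pcore _ hn) ((od_normal L).le.trans hl)
    (odd_le_od hp hP (odd_pgroup r2 h.1.2.1))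

theorem syl_of_pnil (h : MaxInv X V r P) (r2 : r ≠ 2) (hV : IsPGroup 2 V) (hp : PNil 2 L)
    (hn : V ≤ 𝐍[L]) (hl : L ≤ X) (hP : P ≤ L) : Syl r P L :=
  (syl_od h r2 hV hp hn hl hP).trans_index (od_normal L).le fun e =>
    r2 (hp.index r hr.out e)

theorem core_le (h : MaxInv X V r P) (hV : V ≤ X) : core {r} X ≤ P := by
  have hn := (pcore_normal {r} X).norm
  rw [← h.2 (core {r} X ⊔ P) ⟨sup_le (pcore_sub _ _) h.1.1, pgroup_sup (pcore_pgroup' r X) h.1.2.1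
    (h.1.1.trans hn), normsY (hV.trans hn) h.1.2.2⟩ le_sup_right]
  exact le_sup_left

end Cfsg.GW.DL
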