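import Mathlib

/-! Computations in the symmetric group of degree 7, on base-8 codes. -/

set_option autoImplicit false

namespace Cfsg.GW.T3c

open Equiv Equiv.Perm

abbrev P7 := Perm (Fin 7)

def ap (n i : ℕ) : ℕ := Nat.mod (Nat.shiftRight n (Nat.mul 3 i)) 8

def mk7 (a0 a1 a2 a3 a4 a5 a6 : ℕ) : ℕ :=
  Nat.add a0 (Nat.mul 8 (Nat.add a1 (Nat.mul 8 (Nat.add a2 (Nat.mul 8 (Nat.add a3 (Nat.mul 8
    (Nat.add a4 (Nat.mul 8 (Nat.add a5 (Nat.mul 8 a6)))))))))))

def ml (n m : ℕ) : ℕ := mk7 (ap n (ap m 0)) (ap n (ap m 1)) (ap n (ap m 2)) (ap n (ap m 3))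
  (ap n (ap m 4)) (ap n (ap m 5)) (ap n (ap m 6))

def cd (σ : P7) : ℕ := mk7 (σ 0) (σ 1) (σ 2) (σ 3) (σ 4) (σ 5) (σ 6)

theorem ap_cd (σ : P7) (i : Fin 7) : ap (cd σ) i = σ i := by
  have h0 := (σ 0).2; have h1 := (σ 1).2; have h2 := (σ 2).2; have h3 := (σ 3).2
  have h4 := (σ 4).2; have h5 := (σ 5).2; have h6 := (σ 6).2
  change (((σ 0 : ℕ) + 8 * (σ 1 + 8 * (σ 2 + 8 * (σ 3 + 8 * (σ 4 + 8 * (σ 5 + 8 * σ 6)))))) >>>
    (3 * (i : ℕ))) % 8 = _
  rw [Nat.shiftRight_eq_div_pow]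
  fin_cases i <;> simp <;> omega

theorem cd_mul (σ τ : P7) : cd (σ * τ) = ml (cd σ) (cd τ) := by
  have h := ap_cd τ
  have h0 : ap (cd τ) 0 = τ 0 := h 0
  have h1 : ap (cd τ) 1 = τ 1 := h 1
  have h2 : ap (cd τ) 2 = τ 2 := h 2
  have h3 : ap (cd τ) 3 = τ 3 := h 3
  have h4 : ap (cd τ) 4 = τ 4 := h 4
  have h5 : ap (cd τ) 5 = τ 5 := h 5
  have h6 : ap (cd τ) 6 = τ 6 := h 6
  simp only [ml, h0, h1, h2, h3, h4, h5, h6, ap_cd]
  rfl

theorem cd_inj {σ τ : P7} (h : cd σ = cd τ) : σ = τ := by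
  ext i
  rw [← ap_cd, ← ap_cd, h]

theorem cd_eq_iff {σ τ : P7} : σ = τ ↔ cd σ = cd τ := ⟨fun h => h ▸ rfl, cd_inj⟩

def R7 : List ℕ := [0, 1, 2, 3, 4, 5, 6]

theorem mem_R7 (a : Fin 7) : (a : ℕ) ∈ R7 := by fin_cases a <;> simp [R7]

def a7 (f : ℕ → Bool) : Bool := f 0 && (f 1 && (f 2 && (f 3 && (f 4 && (f 5 && f 6)))))

theorem a7_iff {f : ℕ → Bool} : a7 f = true ↔ ∀ i : Fin 7, f i = true := by
  simp [a7, Fin.forall_fin_succ]

def frc (n : ℕ) (f : ℕ → Bool) : Bool := Nat.casesOn n (f 0) fun m => f (Nat.succ m)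

theorem frc_eq (n : ℕ) (f : ℕ → Bool) : frc n f = f n := by cases n <;> rfl

def allP (P : ℕ → Bool) : Bool :=
  a7 fun a0 => a7 fun a1 => a1.beq a0 ||
  a7 fun a2 => a2.beq a0 || (a2.beq a1 ||
  a7 fun a3 => a3.beq a0 || (a3.beq a1 || (a3.beq a2 ||
  a7 fun a4 => a4.beq a0 || (a4.beq a1 || (a4.beq a2 || (a4.beq a3 ||
  a7 fun a5 => a5.beq a0 || (a5.beq a1 || (a5.beq a2 || (a5.beq a3 || (a5.beq a4 ||
  a7 fun a6 => a6.beq a0 || (a6.beq a1 || (a6.beq a2 || (a6.beq a3 || (a6.beq a4 || (a6.beq a5 ||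
    frc (mk7 a0 a1 a2 a3 a4 a5 a6) P)))))))))))))))

theorem allP_spec {P : ℕ → Bool} (h : allP P = true) (σ : P7) : P (cd σ) = true := by
  have ne : ∀ i j : Fin 7, i ≠ j → (σ i : ℕ).beq (σ j : ℕ) = false := fun i j hij =>
    Bool.eq_false_iff.2 fun h => hij (σ.injective (Fin.ext (Nat.eq_of_beq_eq_true h)))
  simp only [allP, a7_iff] at h
  have h1 := h (σ 0) (σ 1)
  simp (disch := decide) only [ne, Bool.false_or, a7_iff] at h1
  have h2 := h1 (σ 2)
  simp (disch := decide) only [ne, Bool.false_or, a7_iff] at h2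
  have h3 := h2 (σ 3)
  simp (disch := decide) only [ne, Bool.false_or, a7_iff] at h3
  have h4 := h3 (σ 4)
  simp (disch := decide) only [ne, Bool.false_or, a7_iff] at h4
  have h5 := h4 (σ 5)
  simp (disch := decide) only [ne, Bool.false_or, a7_iff] at h5
  have h6 := h5 (σ 6)
  simp (disch := decide) only [ne, Bool.false_or, frc_eq] at h6
  exact h6

/-- `a * b ≠ c * d` -/
def nq (a b c d : ℕ) : Bool := !a7 fun i => (ap a (ap b i)).beq (ap c (ap d i))

theorem nq_cd (a b c d : P7) : nq (cd a) (cd b) (cd c) (cd d) = decide (a * b ≠ c * d) := by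
  rw [nq, Bool.eq_iff_iff, Bool.not_eq_true', ← Bool.not_eq_true, a7_iff, decide_eq_true_iff,
    not_iff_not, Equiv.ext_iff]
  simp only [ap_cd, Nat.beq_eq, Fin.val_inj, Perm.mul_apply]

/-- `a * a ≠ 1` -/
def n2 (a : ℕ) : Bool := !a7 fun i => (ap a (ap a i)).beq i

theorem n2_cd (a : P7) : n2 (cd a) = decide (a * a ≠ 1) := by
  rw [n2, Bool.eq_iff_iff, Bool.not_eq_true', ← Bool.not_eq_true, a7_iff, decide_eq_true_iff,
    not_iff_not, Equiv.ext_iff]
  simp only [ap_cd, Nat.beq_eq, Fin.val_inj, Perm.mul_apply, Perm.one_apply]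

theorem beq_cd (a b : P7) : (cd a).beq (cd b) = decide (a = b) := by
  rw [Bool.eq_iff_iff, Nat.beq_eq, decide_eq_true_iff, ← cd_eq_iff]

def vd (n : ℕ) : Bool := R7.all (fun i => ap n i < 7 && R7.all fun j => i == j || ap n i != ap n j) &&
  n == mk7 (ap n 0) (ap n 1) (ap n 2) (ap n 3) (ap n 4) (ap n 5) (ap n 6)

theorem ex_of_vd {n : ℕ} (h : vd n = true) : ∃ σ : P7, cd σ = n := by
  simp only [vd, Bool.and_eq_true, List.all_eq_true, decide_eq_true_eq, Bool.or_eq_true,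
    beq_iff_eq, bne_iff_ne] at h
  obtain ⟨h1, h2⟩ := h
  let f : Fin 7 → Fin 7 := fun i => ⟨ap n i, (h1 _ (mem_R7 i)).1⟩
  have hf : Function.Injective f := by
    intro i j hij
    rcases (h1 _ (mem_R7 i)).2 _ (mem_R7 j) with h' | h'
    · exact Fin.ext h'
    · exact absurd (congrArg Fin.val hij) h'
  exact ⟨Equiv.ofBijective f hf.bijective_of_finite, h2.symm⟩

def ev (n : ℕ) : Bool :=
  (∑ i : Fin 7, ∑ j ∈ Finset.Ioi i, if ap n j < ap n i then 1 else 0) % 2 == 0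

theorem ev_cd (σ : P7) : ev (cd σ) = true ↔ sign σ = 1 := by
  have : sign σ = (-1) ^ (∑ i : Fin 7, ∑ j ∈ Finset.Ioi i,
      if ap (cd σ) j < ap (cd σ) i then 1 else 0) := by
    rw [σ.sign_eq_prod_prod_Ioi, ← Finset.prod_pow_eq_pow_sum]
    refine Finset.prod_congr rfl fun i _ => ?_
    rw [← Finset.prod_pow_eq_pow_sum]
    refine Finset.prod_congr rfl fun j hj => ?_
    rw [ap_cd, ap_cd]
    have hne : σ i ≠ σ j := σ.injective.ne (Finset.mem_Ioi.1 hj).ne
    by_cases h : σ i < σ j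
    · rw [if_pos h, if_neg (by have := Fin.lt_def.1 h; omega), pow_zero]
    · rw [if_neg h, if_pos (Fin.lt_def.1 (lt_of_le_of_ne (not_lt.1 h) hne.symm)), pow_one]
  rw [this, ev, beq_iff_eq, ← Nat.even_iff, neg_one_pow_eq_one_iff_even (by decide)]

def mv (n i : ℕ) : ℕ := cond ((ap n i).beq i) 0 1

def sp (n : ℕ) : ℕ := Nat.add (Nat.add (Nat.add (Nat.add (Nat.add (Nat.add (mv n 0) (mv n 1))
  (mv n 2)) (mv n 3)) (mv n 4)) (mv n 5)) (mv n 6)

theorem sp_cd (σ : P7) : sp (cd σ) = σ.support.card := by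
  have h : ∀ i : Fin 7, mv (cd σ) i = if σ i ≠ i then 1 else 0 := by
    intro i
    rw [mv, ap_cd]
    by_cases e : σ i = i
    · simp [e]
    · rw [if_pos e, Bool.eq_false_iff.2 fun h => e (Fin.ext (Nat.eq_of_beq_eq_true h))]; rfl
  rw [support, Finset.card_filter, Fin.sum_univ_seven, ← h, ← h, ← h, ← h, ← h, ← h, ← h]
  rfl

def t0 : P7 := swap 0 1 * swap 2 3
def s0 : P7 := swap 0 2 * swap 1 3
def s1 : P7 := swap 0 1 * swap 4 5
def c0 : P7 := swap 4 5 * swap 5 6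
def cc (i : Fin 7) : P7 := swap 0 1 * swap 1 i

theorem cd_one : cd 1 = 1754760 := by decide +kernel
theorem cd_t0 : cd t0 = 1754305 := by decide +kernel
theorem cd_s0 : cd s0 = 1753626 := by decide +kernel
theorem cd_c0 : cd c0 = 1267336 := by decide +kernel
theorem cd_cc2 : cd (cc 2) = 1754641 := by decide +kernel
theorem cd_cc3 : cd (cc 3) = 1753241 := by decide +kernel
theorem cd_cc4 : cd (cc 4) = 1738401 := by decide +kernel
theorem cd_cc5 : cd (cc 5) = 1590953 := by decide +kernel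
theorem cd_cc6 : cd (cc 6) = 181937 := by decide +kernel

def tb105 : List ℕ := [856492, 827820, 369068, 877100, 1679916, 991788, 859180, 1676332, 988204, 830508, 1618988, 844844, 371756, 472108, 386092, 879172, 1681988, 993860, 1750084, 1692740, 1004612, 877380, 1680196, 992068, 1749636, 1692292, 1004164, 859460, 1676612, 988484, 1742468, 1677956, 989828, 830788, 1619268, 845124, 1627780, 1620612, 846468, 372036, 472388, 386372, 480900, 473732, 387716, 879368, 1682184, 994056, 1750280, 1692936, 1004808, 1754760, 1751176, 1693832, 1005704, 879200, 1682016, 993888, 1750112, 1692768, 1004640, 1754704, 1751120, 1693776, 1005648, 877408, 1680224, 992096, 1749664, 1692320, 1004192, 1753808, 1749776, 1692432, 1004304, 859488, 1676640, 988512, 1742496, 1677984, 989856, 1743056, 1742608, 1678096, 989968, 830816, 1619296, 845152, 1627808, 1620640, 846496, 1628368, 1627920, 1620752, 846608, 372064, 472416, 386400, 480928, 473760, 387744,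 481488, 481040, 473872, 387856]
def l70 : List ℕ := [1267336, 1468040, 1693832, 977032, 1718920, 1002120, 1227912, 1428616, 1747144, 1657544, 707784, 1750280, 1660680, 714504, 1688904, 1713992, 739144, 968072, 1222536, 1394568, 1753808, 1742608, 1623888, 444304, 1754200, 1743000, 1624728, 445592, 1746528, 1749664, 1627808, 452256, 1656424, 1688232, 1709736, 476840, 706160, 967344, 1218224, 1361584, 1754641, 1753241, 1738401, 1590953, 181937, 1754690, 1753290, 1738506, 1591114, 182154, 1753731, 1754123, 1738891, 1591947, 183435, 1742468, 1746444, 1749132, 1595020, 190092, 1623685, 1656333, 1687693, 1705613, 214669, 444038, 706062, 966798, 1214094, 1328782]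
def tb72 : List ℕ := [1754760, 1525384, 1726088, 1267336, 1468040, 1238664, 1751176, 1521800, 1693832, 1005704, 1435784, 977032, 1718920, 1260168, 1690248, 1002120, 1174152, 944776, 1457288, 1227912, 1428616, 969864, 1170568, 941192, 1754641, 1525265, 1725969, 1267217, 1467921, 1238545, 1751057, 1521681, 1693713, 1005585, 1435665, 976913, 1718801, 1260049, 1690129, 1002001, 1174033, 944657, 1457169, 1227793, 1428497, 969745, 1170449, 941073, 1754690, 1525314, 1726018, 1267266, 1467970, 1238594, 1751106, 1521730, 1693762, 1005634, 1435714, 976962, 1718850, 1260098, 1690178, 1002050, 1174082, 944706, 1457218, 1227842, 1428546, 969794, 1170498, 941122]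
def wds : List (List (Fin 5)) := [[4, 2, 3, 4, 2], [3, 2, 4, 3, 2], [3, 1, 2, 3, 1], [4, 1, 2, 4, 1], [2, 1, 3, 2, 1], [4, 1, 3, 4, 1], [2, 1, 4, 2, 1], [3, 1, 4, 3, 1], [2, 0, 1, 2, 0], [3, 0, 1, 3, 0], [4, 0, 1, 4, 0], [1, 0, 2, 1, 0], [3, 0, 2, 3, 0], [4, 0, 2, 4, 0], [1, 0, 3, 1, 0], [2, 0, 3, 2, 0], [4, 0, 3, 4, 0], [1, 0, 4, 1, 0], [2, 0, 4, 2, 0], [3, 0, 4, 3, 0], [1, 1, 0], [2, 2, 0], [3, 3, 0], [4, 4, 0], [0, 0, 1], [2, 2, 1], [3, 3, 1], [4, 4, 1], [0, 0, 2], [1, 1, 2], [3, 3, 2], [4, 4, 2], [0, 0, 3], [1, 1, 3], [2, 2, 3], [4, 4, 3], [0, 0, 4], [1, 1, 4], [2, 2, 4], [3, 3, 4], [0], [1], [2], [3], [4], [0, 0], [1, 0, 0], [2, 0, 0], [3, 0, 0], [4, 0, 0], [1, 1], [0, 1, 1], [2, 1, 1], [3, 1, 1], [4, 1, 1], [2, 2], [0, 2, 2], [1, 2, 2], [3, 2, 2], [4, 2, 2], [3, 3], [0, 3, 3], [1, 3, 3], [2, 3, 3], [4, 3, 3], [4, 4], [0, 4, 4], [1, 4, 4], [2, 4, 4], [3, 4, 4]]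
def taus : List ℕ := [630112, 342832, 572712, 342440, 830816, 371616, 372008, 572320, 343392, 47285, 793772, 105140, 80269, 798028, 109452, 109837, 539532, 81228]

theorem k_conj : allP (fun w => n2 w || (w.beq 1754760 || (!ev w ||
    tb105.any fun g => !nq g w 1754305 g && vd g))) = true := by decide +kernel

theorem exists_conj_t0 {w : P7} (h1 : w * w = 1) (h2 : w ≠ 1) (h3 : sign w = 1) :
    ∃ g : P7, g * w * g⁻¹ = t0 := by
  have h := allP_spec k_conj w
  rw [← cd_one, ← cd_t0] at h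
  simp only [n2_cd, beq_cd, h1, h2, (ev_cd w).2 h3, ne_eq, not_true, decide_false, Bool.not_true,
    Bool.false_or, List.any_eq_true, Bool.and_eq_true] at h
  obtain ⟨g, -, e, hg⟩ := h
  obtain ⟨σ, rfl⟩ := ex_of_vd hg
  simp only [nq_cd, ne_eq, decide_not, Bool.not_not, decide_eq_true_eq] at e
  exact ⟨σ, by rw [e, mul_inv_cancel_right]⟩

def p3 (d : ℕ) : ℕ := ml d (ml d d)

theorem k_cent : allP (fun d => nq d 1754305 1754305 d || frc (p3 d) fun e =>
    (!n2 (ml e e) && (!e.beq 1754760 || (d.beq 1754760 || (d.beq 1267336 || d.beq 1468040))))) =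
      true := by
  decide +kernel

theorem cd_c0' : cd c0⁻¹ = 1468040 := by decide +kernel

theorem cd_p3 (d : P7) : p3 (cd d) = cd (d ^ 3) := by
  rw [p3, ← cd_mul, ← cd_mul, pow_succ', pow_two]

theorem cent_t0 {d : P7} (h : d * t0 = t0 * d) :
    d ^ 12 = 1 ∧ (d ^ 3 = 1 → d = 1 ∨ d = c0 ∨ d = c0⁻¹) := by
  have k := allP_spec k_cent d
  rw [← cd_t0, ← cd_one, ← cd_c0, ← cd_c0', frc_eq, cd_p3, ← cd_mul] at k
  simp only [nq_cd, n2_cd, beq_cd, h, ne_eq, not_true, decide_false, Bool.false_or, decide_not,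
    Bool.not_not, Bool.and_eq_true, decide_eq_true_eq, Bool.or_eq_true, Bool.not_eq_true',
    decide_eq_false_iff_not] at k
  refine ⟨?_, fun e => by tauto⟩
  rw [← k.1, ← pow_add, ← pow_add]

theorem c0_three : c0.IsThreeCycle := by
  rw [← card_support_eq_three_iff]; decide +kernel

/-- an element of odd order commuting with an even involution -/
theorem three_of_comm {w d : P7} (h1 : w * w = 1) (h2 : w ≠ 1) (h3 : sign w = 1)
    (h : d * w = w * d) (ho : Odd (orderOf d)) : d = 1 ∨ d.IsThreeCycle := by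
  obtain ⟨g, hg⟩ := exists_conj_t0 h1 h2 h3
  have e : g * d * g⁻¹ * t0 = t0 * (g * d * g⁻¹) := by
    rw [← hg]
    calc _ = g * (d * w) * g⁻¹ := by group
      _ = _ := by rw [h]; group
  obtain ⟨a, b⟩ := cent_t0 e
  have o : orderOf (g * d * g⁻¹) = orderOf d := MulEquiv.orderOf_eq (MulAut.conj g) d
  have c : orderOf (g * d * g⁻¹) ∣ 3 := by
    refine Nat.Coprime.dvd_of_dvd_mul_left (m := 2 ^ 2) ?_ (orderOf_dvd_of_pow_eq_one a)
    rw [o]; exact (Nat.coprime_two_right.2 ho).pow_right 2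
  have t : ∀ x : P7, x.IsThreeCycle → g * d * g⁻¹ = x → d.IsThreeCycle := fun x hx e => by
    rwa [IsThreeCycle, ← cycleType_conj (τ := g), e]
  rcases b (orderOf_dvd_iff_pow_eq_one.1 c) with b | b | b
  · left; simpa using b
  · exact Or.inr (t _ c0_three b)
  · exact Or.inr (t _ c0_three.inv b)

theorem cent_t0' {d : P7} (h : d * t0 = t0 * d) (ho : Odd (orderOf d)) :
    d = 1 ∨ d = c0 ∨ d = c0⁻¹ := by
  obtain ⟨a, b⟩ := cent_t0 h
  refine b (orderOf_dvd_iff_pow_eq_one.1 ?_)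
  exact Nat.Coprime.dvd_of_dvd_mul_left (m := 2 ^ 2)
    ((Nat.coprime_two_right.2 ho).pow_right 2) (orderOf_dvd_of_pow_eq_one a)

theorem cd_ts : cd (t0 * s0) = 1753171 := by decide +kernel

theorem k_V : allP (fun w => n2 w || (nq w 1267336 1267336 w || (!ev w ||
    (w.beq 1754760 || (w.beq 1754305 || (w.beq 1753626 || w.beq 1753171)))))) = true := by
  decide +kernel

theorem mem_V0 {w : P7} (h1 : w * w = 1) (h3 : w * c0 = c0 * w) (h4 : sign w = 1) :
    w = 1 ∨ w = t0 ∨ w = s0 ∨ w = t0 * s0 := by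
  have k := allP_spec k_V w
  rw [← cd_t0, ← cd_one, ← cd_c0, ← cd_s0, ← cd_ts] at k
  simpa [n2_cd, nq_cd, beq_cd, h1, h3, (ev_cd w).2 h4] using k

def cj (g x : ℕ) : ℕ := ml (ml g x) (p3 g)

theorem k_tau : allP (fun s => n2 s || (nq s 1267336 1468040 s || (!ev s ||
    taus.any fun g => !nq g g s 1754760 && (vd g && (ev g && frc (cj g 1267336) fun y =>
      nq y 1754305 1754305 y &&
      [1754305, 1753626, 1753171].all fun v => [1754305, 1753626, 1753171].any fun v' =>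
        !nq y v v' y))))) = true := by decide +kernel

theorem tau_aux {s : P7} (h1 : s * s = 1) (h2 : s * c0 = c0⁻¹ * s) (h3 : sign s = 1) :
    ∃ g : P7, g * g = s ∧ sign g = 1 ∧ g * c0 * g⁻¹ * t0 ≠ t0 * (g * c0 * g⁻¹) ∧
      ∀ v ∈ [t0, s0, t0 * s0], ∃ v' ∈ [t0, s0, t0 * s0],
        g * c0 * g⁻¹ * v * (g * c0 * g⁻¹)⁻¹ = v' := by
  have k := allP_spec k_tau s
  rw [← cd_t0, ← cd_one, ← cd_c0, ← cd_s0, ← cd_ts, ← cd_c0'] at k
  simp only [n2_cd, nq_cd, h1, h2, ne_eq, not_true, decide_false, Bool.false_or, (ev_cd s).2 h3,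
    Bool.not_true, List.any_eq_true, Bool.and_eq_true, List.all_eq_true, frc_eq] at k
  obtain ⟨g, -, e1, e2, e3, e4, e5⟩ := k
  obtain ⟨σ, rfl⟩ := ex_of_vd e2
  simp only [nq_cd, ne_eq, decide_not, Bool.not_not, decide_eq_true_eq, mul_one] at e1
  have e6 : σ ^ 3 = σ⁻¹ := by
    rw [eq_inv_iff_mul_eq_one, ← pow_succ, show 3 + 1 = 2 + 2 from rfl, pow_add, pow_two, e1, h1]
  have e7 : cj (cd σ) (cd c0) = cd (σ * c0 * σ⁻¹) := by rw [cj, cd_p3, e6, cd_mul, cd_mul]
  rw [e7] at e4 e5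
  rw [nq_cd, decide_eq_true_eq] at e4
  refine ⟨σ, e1, (ev_cd σ).1 e3, e4, fun v hv => ?_⟩
  have : cd v ∈ [cd t0, cd s0, cd (t0 * s0)] := List.mem_map_of_mem (f := cd) hv
  obtain ⟨n, hn, e⟩ := e5 _ this
  obtain ⟨v', hv', rfl⟩ := (List.mem_map (f := cd) (l := [t0, s0, t0 * s0])).1 hn
  simp only [nq_cd, ne_eq, decide_not, Bool.not_not, decide_eq_true_eq] at e
  exact ⟨v', hv', by rw [e, mul_inv_cancel_right]⟩

theorem k_70 : allP (fun d => !(sp d).beq 3 || l70.any fun n => n.beq d) = true := by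
  decide +kernel

theorem mem_l70 {d : P7} (h : d.IsThreeCycle) : cd d ∈ l70 := by
  have k := allP_spec k_70 d
  simpa [sp_cd, h.card_support] using k

theorem k_sig : allP (fun w => n2 w || (nq w 1754305 1754305 w || (!ev w || w.beq 1754760 ||
    l70.all fun d => nq d w w d || (d.beq 1267336 || (d.beq 1468040 ||
      frc (ml 1267336 (ml d (ml 1267336 (ml d 1267336)))) fun x =>
        !x.beq 1754760 && !n2 x))))) = true := by
  decide +kernel

theorem sig_aux {w d : P7} (h1 : w * w = 1) (h2 : w ≠ 1) (h3 : w * t0 = t0 * w) (h4 : sign w = 1)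
    (h5 : d * w = w * d) (h6 : d.IsThreeCycle) : d = c0 ∨ d = c0⁻¹ ∨
      (c0 * (d * (c0 * (d * c0))) ≠ 1 ∧
        c0 * (d * (c0 * (d * c0))) * (c0 * (d * (c0 * (d * c0)))) = 1) := by
  have k := allP_spec k_sig w
  rw [← cd_t0, ← cd_one, ← cd_c0, ← cd_c0'] at k
  simp only [n2_cd, nq_cd, beq_cd, h1, h2, h3, ne_eq, not_true, decide_false, Bool.false_or,
    (ev_cd w).2 h4, Bool.not_true, List.all_eq_true] at k
  have k2 := k _ (mem_l70 h6)
  rw [frc_eq, ← cd_mul, ← cd_mul, ← cd_mul, ← cd_mul] at k2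
  simpa only [n2_cd, nq_cd, beq_cd, h5, ne_eq, not_true, decide_false, Bool.false_or,
    Bool.or_eq_true, decide_eq_true_eq, Bool.and_eq_true, decide_not, Bool.not_not,
    Bool.not_eq_true', decide_eq_false_iff_not] using k2

def rl (a b : ℕ) : Bool := frc (ml a b) fun x => !x.beq 1754760 && !n2 x

theorem rl_cd {a b : P7} (h1 : a * b ≠ 1) (h2 : a * b * (a * b) = 1) : rl (cd a) (cd b) = true := by
  rw [rl, ← cd_one, frc_eq, ← cd_mul]
  simp [beq_cd, n2_cd, h1, h2]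

theorem k_aut : (l70.all fun d3 => !rl 1754641 d3 || l70.all fun d4 => !rl 1754641 d4 || !rl d3 d4 ||
    l70.all fun d5 => !rl 1754641 d5 || !rl d3 d5 || !rl d4 d5 ||
    l70.all fun d6 => !rl 1754641 d6 || !rl d3 d6 || !rl d4 d6 || !rl d5 d6 ||
      tb72.any fun g => !nq g 1753241 d3 g && !nq g 1738401 d4 g &&
        !nq g 1590953 d5 g && !nq g 181937 d6 g && !nq g 1754641 1754641 g &&
        vd g) = true := by decide +kernel

def gn (i : Fin 5) : P7 := cc ⟨i + 2, by omega⟩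

theorem gn_three (i : Fin 5) : (gn i).IsThreeCycle := by
  rw [← card_support_eq_three_iff]; revert i; decide +kernel

theorem gn_rel (i j : Fin 5) (h : i ≠ j) : gn i * gn j ≠ 1 ∧ gn i * gn j * (gn i * gn j) = 1 := by
  revert i j; decide +kernel

theorem aut_aux (d : Fin 5 → P7) (h3 : ∀ i, (d i).IsThreeCycle)
    (hr : ∀ i j, i ≠ j → d i * d j ≠ 1 ∧ d i * d j * (d i * d j) = 1) :
    ∃ g : P7, ∀ i, d i = g * gn i * g⁻¹ := by
  obtain ⟨c, hc⟩ := isConj_iff.1 (isConj_iff_cycleType_eq.2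
    ((h3 0).cycleType.trans (gn_three 0).cycleType.symm))
  set e : Fin 5 → P7 := fun i => c * d i * c⁻¹ with he
  have e3 : ∀ i, cd (e i) ∈ l70 := fun i => mem_l70 (by
    rw [IsThreeCycle, he, cycleType_conj]; exact h3 i)
  have er : ∀ i j, i ≠ j → rl (cd (e i)) (cd (e j)) = true := by
    intro i j hij
    have e1 : e i * e j = c * (d i * d j) * c⁻¹ := by simp only [he]; group
    refine rl_cd ?_ ?_
    · rw [e1]; simpa using (hr i j hij).1
    · rw [e1]; calc _ = c * (d i * d j * (d i * d j)) * c⁻¹ := by group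
        _ = 1 := by rw [(hr i j hij).2]; group
  have e0 : cd (e 0) = 1754641 := by rw [← cd_cc2]; exact congrArg cd hc
  have k := k_aut
  rw [← e0] at k
  simp only [List.all_eq_true] at k
  have k1 := k _ (e3 1)
  simp (disch := decide) only [er, Bool.not_true, Bool.false_or, List.all_eq_true] at k1
  have k2 := k1 _ (e3 2)
  simp (disch := decide) only [er, Bool.not_true, Bool.false_or, List.all_eq_true] at k2
  have k3 := k2 _ (e3 3)
  simp (disch := decide) only [er, Bool.not_true, Bool.false_or, List.all_eq_true] at k3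
  have k4 := k3 _ (e3 4)
  simp (disch := decide) only [er, Bool.not_true, Bool.false_or, List.any_eq_true,
    Bool.and_eq_true] at k4
  obtain ⟨g, -, ⟨⟨⟨⟨a1, a2⟩, a3⟩, a4⟩, a0⟩, a5⟩ := k4
  obtain ⟨σ, rfl⟩ := ex_of_vd a5
  rw [← cd_cc3] at a1
  rw [← cd_cc4] at a2
  rw [← cd_cc5] at a3
  rw [← cd_cc6] at a4
  simp only [nq_cd, ne_eq, decide_not, Bool.not_not, decide_eq_true_eq] at a0 a1 a2 a3 a4
  have key : ∀ i, σ * gn i = e i * σ := by
    intro i
    fin_cases i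
    · have : e 0 = gn 0 := hc
      exact this ▸ a0
    exacts [a1, a2, a3, a4]
  refine ⟨c⁻¹ * σ, fun i => ?_⟩
  rw [mul_assoc c⁻¹, key]
  simp only [he]; group

def evw : List (Fin 5) → ℕ
  | [] => 1754760
  | i :: l => ml (cd (gn i)) (evw l)

theorem k_wd : (l70.all fun d => wds.any fun w => (evw w).beq d) = true := by decide +kernel

theorem gen_alt {K : Subgroup P7} (h : ∀ i, gn i ∈ K) : alternatingGroup (Fin 7) ≤ K := by
  have h1 : ∀ w, ∃ σ ∈ K, cd σ = evw w := by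
    intro w
    induction w with
    | nil => exact ⟨1, one_mem _, cd_one⟩
    | cons i l ih =>
      obtain ⟨σ, hσ, e⟩ := ih
      exact ⟨gn i * σ, mul_mem (h i) hσ, by rw [cd_mul, e, evw]⟩
  rw [← closure_three_cycles_eq_alternating, Subgroup.closure_le]
  intro d hd
  have k := k_wd
  simp only [List.all_eq_true, List.any_eq_true, Nat.beq_eq] at k
  obtain ⟨w, -, e⟩ := k _ (mem_l70 hd)
  obtain ⟨σ, hσ, e'⟩ := h1 w
  rwa [← cd_inj (e'.trans e)]

end Cfsg.GW.T3c
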