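import Cfsg.Agent.GW.Alpha
import Cfsg.Agent.GW.DLa
import Cfsg.Agent.GW.T3c

/-! Components of type `A₇`. -/

set_option autoImplicit false
set_option linter.unusedSectionVars false

namespace Cfsg.GW.T3c

open Subgroup Cfsg.FT Cfsg.Gag Equiv Equiv.Perm
open scoped Pointwise

universe u

variable {G : Type u} [Group G] {L E O X Y V : Subgroup G} {φ ψ : G → P7} {a b c s t v x y : G}

/-- `φ` induces an isomorphism `L / O ≅ A₇` -/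
structure Md (L E O : Subgroup G) (φ : G → P7) : Prop where
  mul : ∀ a ∈ L, ∀ b ∈ L, φ (a * b) = φ a * φ b
  ev : ∀ a ∈ L, sign (φ a) = 1
  ker : ∀ a ∈ L, φ a = 1 ↔ a ∈ O
  onto : ∀ σ, sign σ = 1 → ∃ a ∈ E, φ a = σ
  cen : E ≤ 𝐂[O]
  odd : Odd (Nat.card O)
  EL : E ≤ L
  OL : O ≤ L
  dec : ∀ a ∈ L, ∃ e ∈ E, ∃ o ∈ O, a = e * o

namespace Md

variable (m : Md L E O φ)
include m

def hom (h : Y ≤ L) : Y →* P7 := MonoidHom.mk' (fun y => φ y) fun a b => m.mul _ (h a.2) _ (h b.2)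

theorem one : φ 1 = 1 := (m.hom le_rfl).map_one
theorem inv (ha : a ∈ L) : φ a⁻¹ = (φ a)⁻¹ := (m.hom le_rfl).map_inv ⟨a, ha⟩
theorem pow (ha : a ∈ L) (n : ℕ) : φ (a ^ n) = φ a ^ n := (m.hom le_rfl).map_pow ⟨a, ha⟩ n
theorem cnj (ha : a ∈ L) (hb : b ∈ L) : φ (a * b * a⁻¹) = φ a * φ b * (φ a)⁻¹ := by
  rw [m.mul _ (mul_mem ha hb) _ (inv_mem ha), m.mul _ ha _ hb, m.inv ha]

theorem relIndex_eq (h : Y ≤ L) : O.relIndex Y = Nat.card (m.hom h).range := by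
  rw [← index_ker, relIndex]
  congr 1
  ext y
  exact (m.ker _ (h y.2)).symm

theorem conj (g : P7) : Md L E O fun a => g * φ a * g⁻¹ where
  mul a ha b hb := by rw [m.mul a ha b hb]; group
  ev a ha := by simp [m.ev a ha]
  ker a ha := by rw [← m.ker a ha]; simp
  onto σ h := by
    obtain ⟨a, ha, e⟩ := m.onto (g⁻¹ * σ * g) (by simp [h])
    exact ⟨a, ha, by rw [e]; group⟩
  cen := m.cen
  odd := m.odd
  EL := m.EL
  OL := m.OL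
  dec := m.dec

theorem co (ha : a ∈ E) (hb : b ∈ O) : Commute a b := (m.cen ha b hb).symm

theorem nE (hy : y ∈ L) (hv : v ∈ E) : y * v * y⁻¹ ∈ E := by
  obtain ⟨e, he, o, ho, rfl⟩ := m.dec y hy
  have : e * o * v * (e * o)⁻¹ = e * v * e⁻¹ := by
    rw [mul_assoc e, ← (m.co hv ho).eq]; group
  rw [this]; exact mul_mem (mul_mem he hv) (inv_mem he)

theorem odd_ord (hy : y ∈ L) (h : Odd (orderOf y)) : Odd (orderOf (φ y)) :=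
  h.of_dvd_nat (orderOf_dvd_of_pow_eq_one (by rw [← m.pow hy, pow_orderOf_eq_one, m.one]))

variable [Finite G]

theorem oddO (ha : a ∈ O) : Odd (orderOf a) := m.odd.of_dvd_nat (O.orderOf_dvd_natCard ha)

theorem eq_one (ha : a ∈ O) (h : a ^ 4 = 1) : a = 1 :=
  orderOf_eq_one_iff.1 (Nat.Coprime.eq_one_of_dvd
    ((Nat.coprime_two_right.2 (m.oddO ha)).pow_right 2) (orderOf_dvd_of_pow_eq_one h))

theorem uniq (ha : a ∈ E) (hb : b ∈ E) (h : φ a = φ b) (h1 : a ^ 4 = 1) (h2 : b ^ 4 = 1) :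
    a = b := by
  have hz : a⁻¹ * b ∈ O := (m.ker _ (m.EL (mul_mem (inv_mem ha) hb))).1 (by
    rw [m.mul _ (m.EL (inv_mem ha)) _ (m.EL hb), m.inv (m.EL ha), h, inv_mul_cancel])
  have e := (m.co ha hz).mul_pow 4
  rw [mul_inv_cancel_left, h1, h2, one_mul] at e
  exact inv_mul_eq_one.1 (m.eq_one hz e.symm)

theorem lift4 {σ : P7} (h : sign σ = 1) (h4 : σ ^ 4 = 1) : ∃ a ∈ E, φ a = σ ∧ a ^ 4 = 1 := by
  obtain ⟨a, ha, e⟩ := m.onto σ h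
  have hz : a ^ 4 ∈ O := (m.ker _ (m.EL (pow_mem ha 4))).1 (by rw [m.pow (m.EL ha), e, h4])
  obtain ⟨k, hk⟩ := m.oddO hz
  refine ⟨a ^ (orderOf (a ^ 4) * orderOf (a ^ 4)), pow_mem ha _, ?_, ?_⟩
  · rw [m.pow (m.EL ha), e, hk, show (2 * k + 1) * (2 * k + 1) = 4 * (k * k + k) + 1 by ring,
      pow_succ, pow_mul, h4, one_pow, one_mul]
  · rw [← pow_mul, mul_comm, pow_mul, pow_mul, pow_orderOf_eq_one, one_pow]

omit m [Finite G] in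
theorem four {H : Type*} [Group H] {a : H} (h : a * a = 1) : a ^ 4 = 1 := by
  rw [show 4 = 2 * 2 from rfl, pow_mul, pow_two a, h, one_pow]

theorem lift2 {σ : P7} (h : sign σ = 1) (h2 : σ * σ = 1) : ∃ a ∈ E, φ a = σ ∧ a * a = 1 := by
  obtain ⟨a, ha, e, h4⟩ := m.lift4 h (four h2)
  refine ⟨a, ha, e, m.uniq (mul_mem ha ha) (one_mem _) ?_ ?_ (one_pow _)⟩
  · rw [m.mul _ (m.EL ha) _ (m.EL ha), e, h2, m.one]
  · rw [← pow_two, ← pow_mul, mul_comm, pow_mul, h4, one_pow]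

theorem memE (hv : v ∈ L) (h : v * v = 1) : v ∈ E := by
  obtain ⟨e, he, o, ho, rfl⟩ := m.dec v hv
  obtain ⟨k, hk⟩ := m.oddO ho
  have e1 := (m.co he ho).mul_pow (orderOf o)
  rw [pow_orderOf_eq_one, mul_one, hk, pow_succ, pow_mul, pow_two, h, one_pow, one_mul] at e1
  rw [e1]; exact pow_mem he _

theorem cj_eq (hy : y ∈ L) (hv : v ∈ E) (ha : a ∈ E) (h1 : v * v = 1) (h2 : a * a = 1)
    (h : φ y * φ v * (φ y)⁻¹ = φ a) : y * v * y⁻¹ = a :=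
  m.uniq (m.nE hy hv) ha (by rw [m.cnj hy (m.EL hv), h]) (by rw [conj_pow, four h1]; group)
    (four h2)

theorem comm (hy : y ∈ L) (hv : v ∈ E) (h1 : v * v = 1) (h : φ y * φ v = φ v * φ y) :
    y * v = v * y :=
  mul_inv_eq_iff_eq_mul.1 (m.cj_eq hy hv hv h1 h1 (by rw [h, mul_inv_cancel_right]))

theorem ne_one (hv : v ∈ L) (h1 : v * v = 1) (h2 : v ≠ 1) : φ v ≠ 1 := fun h =>
  h2 (m.eq_one ((m.ker v hv).1 h) (four h1))

theorem norm (hv : v ∈ L) (h1 : v * v = 1) (h2 : v ≠ 1) : ∃ ψ, Md L E O ψ ∧ ψ v = t0 := by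
  obtain ⟨g, hg⟩ := exists_conj_t0 (by rw [← m.mul _ hv _ hv, h1, m.one]) (m.ne_one hv h1 h2)
    (m.ev v hv)
  exact ⟨_, m.conj g, hg⟩

theorem cmm (ha : a ∈ L) (hb : b ∈ L) (h : a * b = b * a) : φ a * φ b = φ b * φ a := by
  rw [← m.mul _ ha _ hb, h, m.mul _ hb _ ha]

theorem odd_cent (ht : t ∈ L) (e : φ t = t0) (hy : y ∈ L) (h : y * t = t * y)
    (ho : Odd (orderOf y)) : φ y = 1 ∨ φ y = c0 ∨ φ y = c0⁻¹ :=
  cent_t0' (e ▸ m.cmm hy ht h) (m.odd_ord hy ho)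

end Md

def wn : Fin 5 → P7 := ![swap 3 4 * swap 5 6, swap 2 4 * swap 5 6, swap 2 3 * swap 5 6,
  swap 2 3 * swap 4 6, swap 2 3 * swap 4 5]

theorem wn_spec (i : Fin 5) : sign (wn i) = 1 ∧ wn i * wn i = 1 ∧ wn i ≠ 1 ∧
    gn i * wn i = wn i * gn i := by
  revert i; decide +kernel

theorem facts : sign t0 = 1 ∧ t0 * t0 = 1 ∧ t0 ≠ 1 ∧ sign s0 = 1 ∧ s0 * s0 = 1 ∧ s0 ≠ 1 ∧ s0 ≠ t0 ∧
    s0 * t0 = t0 * s0 ∧ c0 * t0 = t0 * c0 ∧ c0 * s0 = s0 * c0 ∧ c0⁻¹ * s0 = s0 * c0⁻¹ ∧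
    sign s1 = 1 ∧ s1 * s1 = 1 ∧ s1 * t0 = t0 * s1 ∧ s1 * c0 * s1⁻¹ = c0⁻¹ ∧ c0 * c0 ≠ 1 ∧
    swap 4 5 * t0 * (swap 4 5)⁻¹ = t0 ∧ swap 4 5 * s0 * (swap 4 5)⁻¹ = s0 ∧
    swap 4 5 * c0 * (swap 4 5)⁻¹ ≠ c0 ∧ c0 ^ 3 = 1 ∧ c0 * c0 = c0⁻¹ := by decide +kernel

variable [Finite G]

/-- `Aut(A₇) = S₇` -/
theorem Md.aut (m : Md L E O φ) (n : Md L E O ψ) : ∃ g : P7, ∀ a ∈ E, ψ a = g * φ a * g⁻¹ := by
  have tr : ∀ a ∈ E, φ a = 1 ↔ ψ a = 1 := fun a ha => by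
    rw [m.ker a (m.EL ha), n.ker a (m.EL ha)]
  choose e he hφ using fun i => m.onto (gn i) (gn_three i).sign
  have hL := fun i => m.EL (he i)
  obtain ⟨g, hg⟩ := aut_aux (fun i => ψ (e i)) (fun i => by
    obtain ⟨w1, w2, w3, w4⟩ := wn_spec i
    obtain ⟨u, hu, hw, u2⟩ := m.lift2 w1 w2
    have u1 : u ≠ 1 := fun h => w3 (by rw [← hw, h, m.one])
    have hc := m.comm (hL i) hu u2 (by rw [hφ, hw, w4])
    have h3 : ψ (e i) ^ 3 = 1 := by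
      rw [← n.pow (hL i), ← tr _ (pow_mem (he i) 3), m.pow (hL i), hφ, ← (gn_three i).orderOf,
        pow_orderOf_eq_one]
    refine (three_of_comm (by rw [← n.mul _ (m.EL hu) _ (m.EL hu), u2, n.one])
      (n.ne_one (m.EL hu) u2 u1) (n.ev _ (m.EL hu)) (n.cmm (hL i) (m.EL hu) hc)
      ((by decide : Odd 3).of_dvd_nat (orderOf_dvd_of_pow_eq_one h3))).resolve_left fun h => ?_
    exact (gn_three i).isCycle.ne_one (by rw [← hφ, tr _ (he i), h])) (fun i j hij => by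
    have hij' := mul_mem (he i) (he j)
    rw [← n.mul _ (hL i) _ (hL j), ← n.mul _ (m.EL hij') _ (m.EL hij'), Ne, ← tr _ hij',
      ← tr _ (mul_mem hij' hij'), m.mul _ (m.EL hij') _ (m.EL hij'), m.mul _ (hL i) _ (hL j),
      hφ, hφ]
    exact gn_rel i j hij)
  let K : Subgroup P7 :=
    { carrier := {ρ | ∃ a ∈ E, φ a = ρ ∧ ψ a = g * ρ * g⁻¹}
      mul_mem' := by
        rintro _ _ ⟨a, ha, rfl, e1⟩ ⟨b, hb, rfl, e2⟩
        refine ⟨a * b, mul_mem ha hb, m.mul _ (m.EL ha) _ (m.EL hb), ?_⟩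
        rw [n.mul _ (m.EL ha) _ (m.EL hb), e1, e2]; group
      one_mem' := ⟨1, one_mem _, m.one, by simp [n.one]⟩
      inv_mem' := by
        rintro _ ⟨a, ha, rfl, e1⟩
        refine ⟨a⁻¹, inv_mem ha, m.inv (m.EL ha), ?_⟩
        rw [n.inv (m.EL ha), e1]; group }
  have hK : alternatingGroup (Fin 7) ≤ K := gen_alt fun i => ⟨e i, he i, hφ i, hg i⟩
  refine ⟨g, fun a ha => ?_⟩
  obtain ⟨b, hb, e1, e2⟩ := hK (mem_alternatingGroup.2 (m.ev a (m.EL ha)))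
  have h1 := (tr _ (mul_mem (inv_mem hb) ha)).1 (by
    rw [m.mul _ (m.EL (inv_mem hb)) _ (m.EL ha), m.inv (m.EL hb), e1, inv_mul_cancel])
  rw [n.mul _ (m.EL (inv_mem hb)) _ (m.EL ha), n.inv (m.EL hb), inv_mul_eq_one] at h1
  rw [← h1, e2]

theorem exists_md (r : ResF E X) (hc : E ≤ 𝐂[od X]) (h : IsA7 (E ⁄ od X)) :
    ∃ φ, Md (od X ⊔ E) E (od X) φ := by
  classical
  obtain ⟨e⟩ := h
  have hO : od X ⊴ X := DL.od_normal X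
  have hE : E ≤ 𝐍[od X] := r.nrm.1.trans hO.2
  have hL : od X ⊔ E ≤ 𝐍[od X] := sup_le le_normalizer hE
  have hm : ∀ a ∈ od X ⊔ E, coset (od X) a ∈ E ⁄ od X := fun a ha =>
    quotientYidl hE ▸ mem_quotient _ ha
  refine ⟨fun a => if h : coset (od X) a ∈ E ⁄ od X then (e ⟨_, h⟩ : P7) else 1, ?_, ?_, ?_, ?_,
    hc, od_odd X, le_sup_right, le_sup_left, ?_⟩
  · intro a ha b hb
    simp only [dif_pos (hm a ha), dif_pos (hm b hb), dif_pos (hm _ (mul_mem ha hb))]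
    rw [← Subgroup.coe_mul, ← map_mul]
    congr 2
    exact Subtype.ext (coset_mul (hL ha) (hL hb))
  · intro a ha
    simp only [dif_pos (hm a ha)]
    exact mem_alternatingGroup.1 (e _).2
  · intro a ha
    simp only [dif_pos (hm a ha)]
    rw [OneMemClass.coe_eq_one, e.map_eq_one_iff, ← coset_eq_one_iff (hL ha), Subtype.ext_iff]
    rfl
  · intro σ hσ
    obtain ⟨⟨y, hy⟩, e1⟩ := e.surjective ⟨σ, mem_alternatingGroup.2 hσ⟩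
    obtain ⟨a, ha, -, rfl⟩ := mem_quo.1 hy
    exact ⟨a, ha, by simp only [dif_pos hy, e1]⟩
  · intro a ha
    rw [sup_comm, ← SetLike.mem_coe, coe_mul_of_left_le_normalizer_right _ _ hE] at ha
    obtain ⟨e, he, o, ho, rfl⟩ := ha
    exact ⟨e, he, o, ho, rfl⟩

theorem Md.triv (m : Md L E (od X) φ) (r : ResF E X) (hx : x ∈ X)
    (h : ∀ a ∈ E, φ (x * a * x⁻¹) = φ a) : x ∈ od X := by
  have hz : ∀ a ∈ E, a⁻¹ * (x * a * x⁻¹) ∈ od X := fun a ha => by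
    have h1 := m.EL (r.nrm.conj_mem hx ha)
    rw [← m.ker _ (mul_mem (inv_mem (m.EL ha)) h1), m.mul _ (inv_mem (m.EL ha)) _ h1,
      m.inv (m.EL ha), h a ha, inv_mul_cancel]
  have hN : (E ⊓ 𝐂₁[x]) ⊴ E := by
    refine ⟨inf_le_left, normsP.2 ?_⟩
    rintro a ha c ⟨hc, hc'⟩
    refine ⟨E.mul_mem (E.mul_mem ha hc) (E.inv_mem ha), mem_cent1.2 ?_⟩
    have e1 := mem_cent1.1 hc'
    have e2 := (m.co hc (hz a ha)).eq
    calc a * c * a⁻¹ * x = a * (c * (a⁻¹ * (x * a * x⁻¹))) * x * a⁻¹ := by group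
      _ = x * a * x⁻¹ * (c * x) * a⁻¹ := by rw [e2]; group
      _ = _ := by rw [e1]; group
  obtain ⟨f1, f2, f3, -⟩ := facts
  obtain ⟨u, hu, hw, u2⟩ := m.lift2 f1 f2
  have hu' : u ∈ E ⊓ 𝐂₁[x] := by
    refine ⟨hu, mem_cent1.2 (mul_inv_eq_iff_eq_mul.1 (m.uniq (r.nrm.conj_mem hx hu) hu (h u hu)
      (by rw [conj_pow, Md.four u2]; group) (Md.four u2))).symm⟩
  rcases r.minE _ hN with h1 | h1
  · exact absurd (hw.symm.trans ((m.ker u (m.EL hu)).2 (h1 hu'))) f3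
  · exact r.cent ⟨hx, fun a ha => mem_cent1.1 (h1.ge ha).2⟩

theorem Md.sup (m : Md (od X ⊔ E) E (od X) φ) (hD : Dih G) (r : ResF E X) : od X ⊔ E = X := by
  have hO : od X ⊴ X := DL.od_normal X
  have hLX : od X ⊔ E ≤ X := sup_le hO.1 r.nrm.1
  refine le_antisymm hLX fun x hx => ?_
  have hL : (od X ⊔ E) ⊴ X := ⟨hLX, normsY hO.2 r.nrm.2⟩
  have act : ∀ x ∈ X, ∃ g : P7, ∀ a ∈ E, φ (x * a * x⁻¹) = g * φ a * g⁻¹ := fun x hx =>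
    m.aut (ψ := fun a => φ (x * a * x⁻¹))
      { mul := fun a ha b hb => by
          rw [← m.mul _ (hL.conj_mem hx ha) _ (hL.conj_mem hx hb)]; congr 1; group
        ev := fun a ha => m.ev _ (hL.conj_mem hx ha)
        ker := fun a ha => by rw [m.ker _ (hL.conj_mem hx ha), memJ_norm (hO.2 hx)]
        onto := fun σ hσ => by
          obtain ⟨a, ha, e⟩ := m.onto σ hσ
          exact ⟨x⁻¹ * a * x, (memJ_norm' (r.nrm.2 hx)).2 ha, by rw [← e]; congr 1; group⟩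
        cen := m.cen, odd := m.odd, EL := m.EL, OL := m.OL, dec := m.dec }
  obtain ⟨g, hg⟩ := act x hx
  have sh : ∀ k : P7, sign (g * k⁻¹) = 1 → ∃ e ∈ E, ∀ a ∈ E,
      φ (e⁻¹ * x * a * (e⁻¹ * x)⁻¹) = k * φ a * k⁻¹ := fun k hk => by
    obtain ⟨e, he, e1⟩ := m.onto _ hk
    refine ⟨e, he, fun a ha => ?_⟩
    rw [show e⁻¹ * x * a * (e⁻¹ * x)⁻¹ = e⁻¹ * (x * a * x⁻¹) * e⁻¹⁻¹ by group,
      m.cnj (m.EL (inv_mem he)) (m.EL (r.nrm.conj_mem hx ha)), m.inv (m.EL he), e1, hg a ha]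
    group
  rcases Int.units_eq_one_or (sign g) with hs | hs
  · obtain ⟨e, he, h1⟩ := sh 1 (by simpa using hs)
    have := m.triv r (mul_mem (inv_mem (r.nrm.1 he)) hx) (by simpa using h1)
    simpa using mul_mem (m.EL he) (m.OL this)
  exfalso
  obtain ⟨e, he, h1⟩ := sh (swap 4 5) (by simp [hs])
  generalize hy : e⁻¹ * x = y at h1
  have yX : y ∈ X := hy ▸ mul_mem (inv_mem (r.nrm.1 he)) hx
  have h2 : ∀ a ∈ E, φ (y * y * a * (y * y)⁻¹) = φ a := fun a ha => by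
    rw [show y * y * a * (y * y)⁻¹ = y * (y * a * y⁻¹) * y⁻¹ by group,
      h1 _ (r.nrm.conj_mem yX ha), h1 a ha]
    simp [← mul_assoc]
  have h3 := m.triv r (mul_mem yX yX) h2
  obtain ⟨k, hk⟩ := m.oddO h3
  set z := y * (y * y) ^ k with hz
  have zX : z ∈ X := mul_mem yX (pow_mem (mul_mem yX yX) k)
  have z2 : z * z = 1 := by
    rw [← pow_orderOf_eq_one (y * y), hk, hz]; simp only [← pow_two, ← pow_mul, ← pow_succ']
    congr 1; ring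
  have h4 : ∀ a ∈ E, z * a * z⁻¹ = y * a * y⁻¹ := fun a ha => by
    rw [hz, mul_assoc y, ← (m.co ha (pow_mem h3 k)).eq]; group
  obtain ⟨f1, f2, f3, f4, f5, f6, f7, f8, f9, f10, -, -, -, -, -, -, f11, f12, f13, -⟩ := facts
  obtain ⟨t, ht, e1, t2⟩ := m.lift2 f1 f2
  obtain ⟨s, hs, e2, s2⟩ := m.lift2 f4 f5
  obtain ⟨c, hc, e3⟩ := m.onto c0 c0_three.sign
  have ot : orderOf t = 2 := orderOf_eq_prime (by rw [pow_two, t2]) fun h => f3 (by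
    rw [← e1, h, m.one])
  have os : orderOf s = 2 := orderOf_eq_prime (by rw [pow_two, s2]) fun h => f6 (by
    rw [← e2, h, m.one])
  have hK := klein_pair ot os (mem_cent1.2 (m.comm (m.EL hs) ht t2 (by rw [e1, e2, f8])))
    fun h => f7 (by rw [← e1, ← e2, h])
  have zc : ∀ a ∈ E, a * a = 1 → swap 4 5 * φ a * (swap 4 5)⁻¹ = φ a → z ∈ 𝐂₁[a] :=
    fun a ha a2 h => mem_cent1.2 (mul_inv_eq_iff_eq_mul.1 (m.uniq (r.nrm.conj_mem zX ha) ha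
      (by rw [h4 a ha, h1 a ha, h]) (by rw [conj_pow, Md.four a2]; group) (Md.four a2)))
  have zV : z ∈ 𝐂[⟪t⟫ ⊔ ⟪s⟫] := by
    rw [cent_pair]; exact ⟨zc t ht t2 (e1 ▸ f11), zc s hs s2 (e2 ▸ f12)⟩
  have cV : c ∈ 𝐂[⟪t⟫ ⊔ ⟪s⟫] := by
    rw [cent_pair]
    exact ⟨mem_cent1.2 (m.comm (m.EL hc) ht t2 (by rw [e1, e3, f9])),
      mem_cent1.2 (m.comm (m.EL hc) hs s2 (by rw [e2, e3, f10]))⟩
  have hz2 : IsPGroup 2 ⟪z⟫ := IsPGroup.of_card_dvd_pow (n := 1) (by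
    rw [Nat.card_zpowers]; exact orderOf_dvd_of_pow_eq_one (by rw [pow_one, pow_two, z2]))
  have h5 := DL.klein_cent hD (pgroup_sup hK.pgroup hz2
    (zpowers_le.2 (centralizer_le_normalizer _ zV))) hK le_sup_left
    ⟨mem_sup_right (mem_zpowers z), zV⟩
  have h6 : z * c * z⁻¹ = c := mul_inv_eq_iff_eq_mul.2 (cV z h5)
  exact f13 (by rw [← e3, ← h1 c hc, ← h4 c hc, h6])

theorem odd_of_no_inv (h : ∀ y ∈ Y, y * y = 1 → y = 1) : Odd (Nat.card Y) := by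
  by_contra hn
  obtain ⟨y, hy⟩ := exists_prime_orderOf_dvd_card' (G := Y) 2
    (even_iff_two_dvd.1 (Nat.not_odd_iff_even.1 hn))
  have h2 : (y : G) * y = 1 := by
    rw [← pow_two, ← hy, ← Subgroup.orderOf_coe, pow_orderOf_eq_one]
  have h3 : y = 1 := Subtype.ext (h y y.2 h2)
  rw [h3, orderOf_one] at hy
  omega

theorem c0_cases {d : P7} (h : d = 1 ∨ d = c0 ∨ d = c0⁻¹) : d ∈ ⟪c0⟫ := by
  rcases h with rfl | rfl | rfl
  exacts [one_mem _, mem_zpowers _, inv_mem (mem_zpowers _)]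

theorem card_c0 : Nat.card ⟪c0⟫ = 3 := by rw [Nat.card_zpowers, c0_three.orderOf]

namespace Md

variable (m : Md X E O φ)
include m

theorem card : O.relIndex E = 2520 := by
  have : (m.hom m.EL).range = alternatingGroup (Fin 7) := by
    ext σ
    rw [mem_alternatingGroup]
    constructor
    · rintro ⟨a, rfl⟩; exact m.ev _ (m.EL a.2)
    · intro h
      obtain ⟨a, ha, e⟩ := m.onto σ h
      exact ⟨⟨a, ha⟩, e⟩
  rw [m.relIndex_eq m.EL, this, nat_card_alternatingGroup]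
  simp [Nat.factorial]

theorem d8 (hD : Dih G) : ∃ (D : Subgroup G) (f x : G), D ≤ E ∧ D8 D f x := by
  have h8 : 2 ^ 3 ∣ Nat.card E :=
    Dvd.dvd.trans (by rw [m.card]; norm_num) (Subgroup.relIndex_dvd_card O E)
  obtain ⟨K, hK⟩ := Sylow.exists_subgroup_card_pow_prime 2 h8
  have hc : Nat.card (K.map E.subtype) = 2 ^ 3 := by rw [card_subtype, hK]
  rcases hD _ (IsPGroup.of_card hc) with h | ⟨f, x, h⟩
  · omega
  · exact ⟨_, f, x, map_subtype_le _, h⟩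

theorem v1 (ht : t ∈ E) (ot : orderOf t = 2) : ∃ V : Subgroup G, Klein V ∧ t ∈ V ∧ V ≤ E ∧
    ∀ Y : Subgroup G, Y ≤ X ⊓ 𝐂₁[t] → Odd (Nat.card Y) → Y ≤ 𝐂[V] := by
  obtain ⟨ψ, n, e1⟩ := m.norm (m.EL ht) (inv_sq ot) (inv_ne_one ot)
  obtain ⟨-, -, -, f4, f5, f6, f7, f8, -, f10, f11, -⟩ := facts
  obtain ⟨s, hs, e2, s2⟩ := n.lift2 f4 f5
  have os : orderOf s = 2 := orderOf_eq_prime (by rw [pow_two, s2]) fun h => f6 (by
    rw [← e2, h, n.one])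
  refine ⟨_, klein_pair ot os (mem_cent1.2 (n.comm (m.EL hs) ht (inv_sq ot) (by rw [e1, e2, f8])))
    fun h => f7 (by rw [← e1, ← e2, h]), mem_sup_left (mem_zpowers t),
    sup_le (zpowers_le.2 ht) (zpowers_le.2 hs), fun Y hY ho y hy => ?_⟩
  rw [cent_pair]
  refine ⟨(hY hy).2, mem_cent1.2 (n.comm (hY hy).1 hs s2 ?_)⟩
  rcases n.odd_cent (m.EL ht) e1 (hY hy).1 (mem_cent1.1 (hY hy).2)
    (ho.of_dvd_nat (Y.orderOf_dvd_natCard hy)) with h | h | h <;> rw [h, e2]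
  exacts [by simp, f10, f11]

theorem three (ht : t ∈ E) (ot : orderOf t = 2) (hY : Y ≤ X ⊓ 𝐂₁[t]) (ho : Odd (Nat.card Y)) :
    O.relIndex Y ∣ 3 := by
  obtain ⟨ψ, n, e1⟩ := m.norm (m.EL ht) (inv_sq ot) (inv_ne_one ot)
  rw [n.relIndex_eq (hY.trans inf_le_left), ← card_c0]
  refine card_dvd_of_le ?_
  rintro _ ⟨y, rfl⟩
  exact c0_cases (n.odd_cent (m.EL ht) e1 (hY y.2).1 (mem_cent1.1 (hY y.2).2)
    (ho.of_dvd_nat (Y.orderOf_dvd_natCard y.2)))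

theorem ex3 (ht : t ∈ E) (ot : orderOf t = 2) : ∃ c ∈ E ⊓ 𝐂₁[t], orderOf c = 3 ∧ c ∉ O := by
  obtain ⟨ψ, n, e1⟩ := m.norm (m.EL ht) (inv_sq ot) (inv_ne_one ot)
  obtain ⟨-, -, -, -, -, -, -, -, f9, -, -, g1, g2, g3, g4, g5, -, -, -, g6, -⟩ := facts
  obtain ⟨s, hs, e2, s2⟩ := n.lift2 g1 g2
  obtain ⟨a, ha, e3⟩ := n.onto c0 c0_three.sign
  have hb : s * a * s⁻¹ ∈ E := n.nE (m.EL hs) ha
  have eb : ψ (s * a * s⁻¹) = c0⁻¹ := by rw [n.cnj (m.EL hs) (m.EL ha), e2, e3, g4]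
  have hc : a * (s * a * s⁻¹)⁻¹ ∈ E := mul_mem ha (inv_mem hb)
  have ec : ψ (a * (s * a * s⁻¹)⁻¹) = c0 * c0 := by
    rw [n.mul _ (m.EL ha) _ (m.EL (inv_mem hb)), n.inv (m.EL hb), eb, e3, inv_inv]
  have hi : s * (a * (s * a * s⁻¹)⁻¹) * s⁻¹ = (a * (s * a * s⁻¹)⁻¹)⁻¹ := by
    have : s⁻¹ = s := inv_eq_of_mul_eq_one_right s2
    calc _ = s * a * (s * a⁻¹ * s⁻¹) * s⁻¹ := by group
      _ = s * a * s⁻¹ * (s * s) * a⁻¹ * (s⁻¹ * s⁻¹) := by group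
      _ = _ := by rw [s2, this, s2]; rw [← this]; group
  generalize a * (s * a * s⁻¹)⁻¹ = c at hc ec hi
  have h3 : c ^ 3 ∈ O := (n.ker _ (m.EL (pow_mem hc 3))).1 (by
    rw [n.pow (m.EL hc), ec, ← pow_two, ← pow_mul, mul_comm, pow_mul, g6, one_pow])
  have h4 : s * c ^ 3 * s⁻¹ = (c ^ 3)⁻¹ := by rw [← conj_pow, hi, inv_pow]
  rw [(n.co hs h3).eq, mul_inv_cancel_right, eq_inv_iff_mul_eq_one] at h4
  have hO : c ∉ O := fun h => g5 (ec ▸ (n.ker _ (m.EL hc)).2 h)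
  refine ⟨c, ⟨hc, mem_cent1.2 (n.comm (m.EL hc) ht (inv_sq ot) ?_)⟩,
    orderOf_eq_prime (n.eq_one h3 (four h4)) fun h => hO (h ▸ one_mem _), hO⟩
  rw [ec, e1, mul_assoc, f9, ← mul_assoc, f9, mul_assoc]

theorem le_od (ht : t ∈ X) (e1 : φ t = t0) (hy : y ∈ X ⊓ 𝐂₁[t]) (h : φ y ∈ ⟪c0⟫) :
    y ∈ od (X ⊓ 𝐂₁[t]) := by
  have l : X ⊓ 𝐂₁[t] ≤ X := inf_le_left
  let N : Subgroup G := (⟪c0⟫.comap (m.hom l)).map (X ⊓ 𝐂₁[t]).subtype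
  have hN : ∀ y, y ∈ N ↔ y ∈ X ⊓ 𝐂₁[t] ∧ φ y ∈ ⟪c0⟫ := fun y =>
    ⟨by rintro ⟨a, ha, rfl⟩; exact ⟨a.2, ha⟩, fun h => ⟨⟨y, h.1⟩, h.2, rfl⟩⟩
  have c3 : ∀ d ∈ ⟪c0⟫, d ^ 3 = 1 := fun d hd => by
    rw [← card_c0]; exact orderOf_dvd_iff_pow_eq_one.1 (Subgroup.orderOf_dvd_natCard _ hd)
  refine GW.le_od (Y := N) (odd_of_no_inv fun a ha a2 => ?_)
    ⟨map_subtype_le _, normsP.2 fun a ha b hb => ?_⟩ ((hN y).2 ⟨hy, h⟩)
  · obtain ⟨h1, h2⟩ := (hN a).1 ha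
    have h3 := c3 _ h2
    rw [pow_succ, pow_two, ← m.mul _ h1.1 _ h1.1, a2, m.one, one_mul] at h3
    exact m.eq_one ((m.ker _ h1.1).1 h3) (four a2)
  · obtain ⟨h1, h2⟩ := (hN b).1 hb
    have h3 := mul_mem (mul_mem ha h1) (inv_mem ha)
    refine (hN _).2 ⟨h3, c0_cases ((cent_t0 (e1 ▸ m.cmm h3.1 ht (mem_cent1.1 h3.2))).2 ?_)⟩
    rw [m.cnj ha.1 h1.1, conj_pow, c3 _ h2]; group

theorem sig (hV : Klein V) (hVX : V ≤ X) (hY : Y ≤ X) (ho : Odd (Nat.card Y)) (hn : V ≤ 𝐍[Y]) :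
    ∃ v ∈ V, v ≠ 1 ∧ Y ≤ O ⊔ od (X ⊓ 𝐂₁[v]) := by
  have oY : ∀ y ∈ Y, Odd (orderOf y) := fun y hy => ho.of_dvd_nat (Y.orderOf_dvd_natCard hy)
  by_cases h0 : Y ≤ O
  · obtain ⟨v, hv, h1, -⟩ := klein_other hV 1
    exact ⟨v, hv, h1, h0.trans le_sup_left⟩
  obtain ⟨v, hv, v1, h1⟩ := coprime_abelian_exists_cent1 hV.ab hV.not_cyclic hn
    (cop_two ho hV.pgroup) h0
  obtain ⟨y, ⟨hy, hyv⟩, hyO⟩ := SetLike.not_le_iff_exists.1 h1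
  obtain ⟨ψ, n, e1⟩ := m.norm (hVX hv) (hV.2 v hv) v1
  obtain ⟨c, hc, hcv, e2⟩ : ∃ c ∈ Y, c ∈ 𝐂₁[v] ∧ ψ c = c0 := by
    rcases n.odd_cent (hVX hv) e1 (hY hy) (mem_cent1.1 hyv) (oY y hy) with h | h | h
    · exact absurd ((n.ker _ (hY hy)).1 h) hyO
    · exact ⟨y, hy, hyv, h⟩
    · exact ⟨y⁻¹, inv_mem hy, inv_mem hyv, by rw [n.inv (hY hy), h, inv_inv]⟩
  have hco := n.le_od (hVX hv) e1 ⟨hY hc, hcv⟩ (e2 ▸ mem_zpowers _)
  refine ⟨v, hv, v1, coprime_abelian_gen_cent1_le hV.ab hV.not_cyclic hn (cop_two ho hV.pgroup)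
    fun w hw w1 d ⟨hd, hdw⟩ => ?_⟩
  have w2 : ψ w * ψ w = 1 := by rw [← n.mul _ (hVX hw) _ (hVX hw), hV.2 w hw, n.one]
  have w3 := n.ne_one (hVX hw) (hV.2 w hw) w1
  have dw := n.cmm (hY hd) (hVX hw) (mem_cent1.1 hdw)
  have key : ψ d ∈ ⟪c0⟫ := by
    rcases three_of_comm w2 w3 (n.ev _ (hVX hw)) dw (n.odd_ord (hY hd) (oY d hd)) with h | h
    · exact h ▸ one_mem _
    rcases sig_aux w2 w3 (e1 ▸ n.cmm (hVX hw) (hVX hv) (abelian_iff_forall.1 hV.ab w hw v hv))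
      (n.ev _ (hVX hw)) dw h with h | h | ⟨h, h'⟩
    · exact c0_cases (by tauto)
    · exact c0_cases (by tauto)
    exfalso
    have k := fun a ha b hb => n.mul a (hY ha) b (hY hb)
    have m1 := mul_mem hd hc
    have m2 := mul_mem hc m1
    have m3 := mul_mem hd m2
    have m4 := mul_mem hc m3
    have o := n.odd_ord (hY m4) (oY _ m4)
    rw [k _ hc _ m3, k _ hd _ m2, k _ hc _ m1, k _ hd _ hc, e2,
      orderOf_eq_prime (p := 2) (by rw [pow_two, h']) h] at o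
    exact absurd o (by decide)
  obtain ⟨k, hk⟩ := (mem_powers_iff_mem_zpowers.2 key)
  have : d * (c ^ k)⁻¹ ∈ O := (n.ker _ (hY (mul_mem hd (inv_mem (pow_mem hc k))))).1 (by
    rw [n.mul _ (hY hd) _ (hY (inv_mem (pow_mem hc k))), n.inv (hY (pow_mem hc k)), n.pow (hY hc),
      e2, ← hk, mul_inv_cancel])
  simpa using mul_mem (mem_sup_left this) (mem_sup_right (pow_mem hco k))

theorem tau0 (hV : Klein V) (hVE : V ≤ E) (hc : c ∈ E ⊓ 𝐂[V]) (e2 : φ c = c0) (hs : s ∈ E)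
    (s2 : s * s = 1) (hi : s * c * s = c⁻¹) :
    ∃ τ ∈ E, τ * τ = s ∧ τ * c * τ⁻¹ ∈ 𝐍[V] ∧ τ * c * τ⁻¹ ∉ 𝐂[V] := by
  classical
  have si : s⁻¹ = s := inv_eq_of_mul_eq_one_right s2
  have s3 : φ s * φ s = 1 := by rw [← m.mul _ (m.EL hs) _ (m.EL hs), s2, m.one]
  obtain ⟨g, g1, g2, g3, g4⟩ := tau_aux s3 (by
    rw [← e2, ← m.inv (m.EL hc.1), ← m.mul _ (m.EL hs) _ (m.EL hc.1),
      ← m.mul _ (m.EL (inv_mem hc.1)) _ (m.EL hs), ← hi, mul_assoc _ s s, s2, mul_one])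
    (m.ev s (m.EL hs))
  obtain ⟨τ, hτ, e3, t4⟩ := m.lift4 g2 (by
    rw [show 4 = 2 * 2 from rfl, pow_mul, pow_two g, g1, pow_two, s3])
  have hy : τ * c * τ⁻¹ ∈ E := m.nE (m.EL hτ) hc.1
  have ey : φ (τ * c * τ⁻¹) = g * c0 * g⁻¹ := by rw [m.cnj (m.EL hτ) (m.EL hc.1), e3, e2]
  have hin : ∀ v ∈ V, φ v ∈ ({1, t0, s0, t0 * s0} : Finset P7) := fun v hv => by
    simpa using mem_V0 (by rw [← m.mul _ (m.EL (hVE hv)) _ (m.EL (hVE hv)), hV.2 v hv, m.one])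
      (e2 ▸ m.cmm (m.EL (hVE hv)) (m.EL hc.1) (hc.2 v hv)) (m.ev v (m.EL (hVE hv)))
  have hsur : ∀ σ ∈ ({1, t0, s0, t0 * s0} : Finset P7), ∃ v ∈ V, φ v = σ := by
    let f : V → ({1, t0, s0, t0 * s0} : Finset P7) := fun v => ⟨φ v, hin v v.2⟩
    have hf : Function.Injective f := fun a b h => Subtype.ext (m.uniq (hVE a.2) (hVE b.2)
      (congrArg Subtype.val h) (four (hV.2 _ a.2)) (four (hV.2 _ b.2)))
    intro σ hσ
    obtain ⟨v, hv⟩ := (hf.bijective_of_nat_card_le (by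
      rw [hV.1, Nat.card_eq_finsetCard]; exact Finset.card_le_four)).2 ⟨σ, hσ⟩
    exact ⟨v, v.2, congrArg Subtype.val hv⟩
  refine ⟨τ, hτ, m.uniq (mul_mem hτ hτ) hs (by rw [m.mul _ (m.EL hτ) _ (m.EL hτ), e3, g1])
    (by rw [← pow_two, ← pow_mul, mul_comm, pow_mul, t4, one_pow]) (four s2), ?_, fun h => ?_⟩
  · refine mem_norm_of_conj_le ?_
    rintro _ ⟨v, hv, rfl⟩
    change τ * c * τ⁻¹ * v * (τ * c * τ⁻¹)⁻¹ ∈ V
    by_cases v1 : v = 1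
    · simp [v1]
    obtain ⟨v', hv', e⟩ := g4 (φ v) (by
      simpa [m.ne_one (m.EL (hVE hv)) (hV.2 v hv) v1] using hin v hv)
    obtain ⟨w, hw, rfl⟩ := hsur v' (by simp only [List.mem_cons] at hv'; simp; tauto)
    rwa [m.cj_eq (m.EL hy) (hVE hv) (hVE hw) (hV.2 v hv) (hV.2 w hw) (ey ▸ e)]
  · obtain ⟨w, hw, e⟩ := hsur t0 (by simp)
    exact g3 (by rw [← ey, ← e]; exact m.cmm (m.EL hy) (m.EL (hVE hw)) (h w hw).symm)

theorem tau (hV : Klein V) (hVE : V ≤ E) (hc : c ∈ E ⊓ 𝐂[V]) (oc : orderOf c = 3) (hO : c ∉ O)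
    (hs : s ∈ E) (s2 : s * s = 1) (hi : s * c * s = c⁻¹) :
    ∃ τ ∈ E, τ * τ = s ∧ τ * c * τ⁻¹ ∈ 𝐍[V] ∧ τ * c * τ⁻¹ ∉ 𝐂[V] := by
  obtain ⟨v, hv, v1, -⟩ := klein_other hV 1
  obtain ⟨ψ, n, e1⟩ := m.norm (m.EL (hVE hv)) (hV.2 v hv) v1
  rcases n.odd_cent (m.EL (hVE hv)) e1 (m.EL hc.1) (hc.2 v hv).symm (oc ▸ by decide)
    with h | h | h
  · exact absurd ((n.ker _ (m.EL hc.1)).1 h) hO
  · exact n.tau0 hV hVE hc h hs s2 hi
  · obtain ⟨τ, h1, h2, h3, h4⟩ := n.tau0 hV hVE (inv_mem hc)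
      (by rw [n.inv (m.EL hc.1), h, inv_inv]) hs s2 (by
        rw [inv_inv, ← hi]
        calc _ = s * s * c * (s * s) := by group
          _ = c := by rw [s2]; group)
    refine ⟨τ, h1, h2, ?_, fun h => h4 ?_⟩
    · simpa [mul_assoc] using inv_mem h3
    · simpa [mul_assoc] using inv_mem h

end Md

end Cfsg.GW.T3c

namespace Cfsg.GW

open Subgroup Cfsg.FT Cfsg.Gag

/-- components of type `A₇` -/
theorem t3 {G : Type*} [Group G] [Finite G] {X E : Subgroup G} (hD : Dih G) (r : ResF E X)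
    (hc : E ≤ 𝐂[od X]) (h : IsA7 (E ⁄ od X)) : T3 X E := by
  obtain ⟨φ, m⟩ := T3c.exists_md r hc h
  have e := m.sup hD r
  rw [e] at m
  exact ⟨by rwa [sup_comm], m.card, m.d8 hD, fun t ht ot => m.v1 ht ot,
    fun t ht ot Y hY ho => m.three ht ot hY ho, fun t ht ot => m.ex3 ht ot,
    fun V Y h1 h2 h3 h4 h5 => m.sig h1 h2 h3 h4 h5⟩

end Cfsg.GW
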