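import Cfsg.Agent.GW.CompA
import Cfsg.Agent.GW.L2Mul
import Cfsg.Agent.GW.Base
import Cfsg.Agent.GW.T3

/-! The piece `StComp`. -/

set_option autoImplicit false

namespace Cfsg.GW

open Subgroup Cfsg.FT Cfsg.Gag L2
open scoped Pointwise MatrixGroups

universe u

variable {G : Type u} [Group G] [Finite G] {E H X : Subgroup G}

omit [Finite G] in
theorem dih_sub (hD : Dih G) (H : Subgroup G) : Dih H := fun Q hQ => by
  have c := card_map_of_injective (K := Q) H.subtype_injective
  refine (hD _ (hQ.map H.subtype)).imp (c ▸ ·) fun ⟨f, x, h⟩ => ?_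
  obtain ⟨f, -, rfl⟩ : f ∈ Q.map H.subtype := h.gen ▸ mem_sup_left (mem_zpowers f)
  obtain ⟨x, -, rfl⟩ : x ∈ Q.map H.subtype := h.gen ▸ mem_sup_right (mem_zpowers x)
  exact ⟨f, x, (orderOf_coe f).symm.trans h.of, (orderOf_coe x).symm.trans h.ox,
    Subtype.ext h.inv, map_injective H.subtype_injective (by
      rw [h.gen, Subgroup.map_sup, MonoidHom.map_zpowers, MonoidHom.map_zpowers]), c ▸ h.card⟩

theorem ResF.simple (r : ResF E X) : IsSimpleGroup (E ⁄ od X) ∧ ¬ IsMulCommutative (E ⁄ od X) := by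
  have n := r.nrm.le.trans (pcore_normal {2}ᶜ X).norm
  have s : ¬ Group.IsSolvable (E ⁄ od X) := fun h => r.not_sol (sol_of_quo (od_sol X) n h)
  have : Nontrivial (E ⁄ od X) := (nontrivial_iff_ne_bot _).2 fun e => s (e ▸ inferInstance)
  refine ⟨⟨fun N hN => ?_⟩, fun h => s (Group.isSolvable_of_comm h.1.1)⟩
  have h := normalIn_map_subtype.2 hN
  refine (r.minE _ (norm_normalI (norms_pre n h.norm))).imp (fun e => ?_) fun e => ?_
  · rw [← quotient_sub1 (inf_le_left.trans n), quo_inf_pre, inf_eq_right.2 h.le] at e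
    exact (map_eq_bot_iff_of_injective _ (subtype_injective _)).1 e
  · rw [inf_eq_left, ← sub_quotient_pre n] at e
    exact map_injective (subtype_injective _) (le_antisymm (map_mono le_top)
      ((map_subtype_le _).trans e))

theorem exists_pi [IsSimpleGroup H] {F : Type} [Field F] [Fintype F] (h : Odd (Fintype.card F))
    (e : H ≃* Matrix.ProjectiveSpecialLinearGroup (Fin 2) F) (hD : Dih G) (hn : H ⊴ X)
    (hc : X ⊓ 𝐂[H] ≤ od X) (hs : H ⊓ od X = ⊥) : ∃ π : SL(2, F) →* G, π.range = H ∧ LS π X := by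
  let π := H.subtype.comp (e.symm.toMonoidHom.comp (QuotientGroup.mk' _))
  have k : ∀ A, π A = 1 ↔ A = 1 ∨ A = -1 := fun A => by
    simp only [π, MonoidHom.comp_apply, MulEquiv.coe_toMonoidHom, coe_subtype, OneMemClass.coe_eq_one,
      MulEquiv.map_eq_one_iff, QuotientGroup.mk'_apply, QuotientGroup.eq_one_iff,
      Matrix.SpecialLinearGroup.mem_center_iff]
    refine ⟨fun ⟨r, hr, e⟩ => ?_, ?_⟩
    · rw [Fintype.card_fin, sq, mul_self_eq_one_iff] at hr
      rcases hr with rfl | rfl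
      · exact Or.inl (Subtype.ext (by simpa using e.symm))
      · exact Or.inr (Subtype.ext (e.symm.trans (by rw [map_neg]; simp)))
    · rintro (rfl | rfl)
      · exact ⟨1, by simp, by simp⟩
      · exact ⟨-1, by simp, by rw [map_neg]; simp⟩
  have r : π.range = H := by
    rw [MonoidHom.range_comp, MonoidHom.range_eq_top.2
      (e.symm.surjective.comp (QuotientGroup.mk'_surjective _)), ← MonoidHom.range_eq_map,
      range_subtype]
  refine ⟨π, r, hD, h, fun h3 => ?_, k, r ▸ hn, r ▸ hc, r ▸ hs⟩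
  have c := card_SL (F := F)
  rw [← card_top (G := SL(2, F)), card_map (Ring.two_ne_zero fun e => absurd (Nat.odd_iff.1 h)
    (by rw [FiniteField.even_card_of_char_two e]; decide)) k (mem_top _), ← MonoidHom.range_eq_map,
    r, h3] at c
  obtain ⟨M, -, hM⟩ := exists_card_pow (p := 2) (n := 2) (H := (⊤ : Subgroup H))
    (by rw [card_top]; omega)
  have i := M.card_mul_index
  have := Fr.card_le_fact (M := M) (by rintro rfl; rw [card_top] at hM; omega)
  rw [show M.index = 3 by rw [hM] at i; omega] at this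
  simp [Nat.factorial] at this
  omega

theorem stComp : StComp.{u} := fun G _ _ X E d r hc => by
  have nX := (pcore_normal {2}ᶜ X).norm
  have n := r.nrm.le.trans nX
  have dq := DL.dih_quo d.dih (od_odd X)
  obtain ⟨_, nab⟩ := r.simple
  rcases d.ih (E ⁄ od X) (Nat.lt_succ_of_le (Nat.le_of_dvd Nat.card_pos
    ((dvdn_quotient E _).trans (card_dvd_of_le r.nrm.le)))) (dih_sub dq _) nab with
    ⟨F, _, _, h, ⟨e⟩⟩ | h
  swap
  · exact .inr (.inr (t3 d.dih r hc h))
  by_cases h9 : Fintype.card F = 9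
  · have o : od (X ⁄ od X) = ⊥ := trivg_pcore_quotient _ X
    obtain ⟨π, hπ, l⟩ := exists_pi h e dq (r.nrm.quo _) (by
      obtain ⟨Z, e, -, hZ⟩ := inv_quotientN (pcore_normal _ X) (subcent_normal' (r.nrm.quo _).norm)
      refine (r.min Z hZ).elim (fun h => e.trans_le ((quotientS1 h).trans_le bot_le)) fun h => ?_
      exact absurd (abelian_iff.2 (((quotientS _ h).trans e.ge).trans inf_le_right)) nab)
      (by rw [o, inf_bot_eq])
    have h8 : 8 ∣ Nat.card E := by
      have := l.card_E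
      rw [hπ, h9] at this
      exact Dvd.dvd.trans (by omega) (dvdn_quotient E (od X))
    have s : ∀ t ∈ E, orderOf t = 2 → ∀ Y : Subgroup G, Y ≤ X ⊓ 𝐂₁[t] → Odd (Nat.card Y) →
        Y ≤ od X := fun t ht ot Y hY ho =>
      (quotient_sub1 (hY.trans (inf_le_left.trans nX))).1 (eq_bot_iff.2 (o ▸ l.small9 h9
        (hπ ▸ mem_quotient _ ht) ((DL.orderOf_coset (zpowers_le.2 (n ht))
          (odd_inf_two (od_odd X) (inv_pgroup ot)) (mem_zpowers t)).trans ot)
        ((quotientS _ hY).trans (quotient_subcent1 ..)) (quotient_odd _ ho)))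
    refine .inl ⟨?_, s, fun V Y hV hl hY ho hn => coprime_abelian_gen_cent1_le hV.ab hV.not_cyclic
      hn (hV.coprime ho) fun v hv v1 => s v (mem_of_eight d.dih h8 (r.nrm.norm (hl hv)) (hV.2 v hv))
        (hV.orderOf hv v1) _ (inf_le_inf_right _ hY) (ho.of_dvd_nat (card_dvd_of_le inf_le_left))⟩
    obtain ⟨Q, hQ, c⟩ := exists_card_pow (p := 2) (n := 3) h8
    obtain ⟨f, x, h⟩ := (d.dih Q (IsPGroup.of_card c)).resolve_left (by omega)
    exact ⟨Q, f, x, hQ, h⟩
  let φ : E →* (E ⁄ od X) := (quoHom n).codRestrict _ fun x => range_quoHom n ▸ ⟨x, rfl⟩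
  have k : (e.toMonoidHom.comp φ).ker = (od X).subgroupOf E := by
    rw [MonoidHom.ker_comp_of_injective _ _ e.injective, MonoidHom.ker_codRestrict, ker_quoHom]
  have := l2_mult h h9 (e.toMonoidHom.comp φ) (e.surjective.comp fun ⟨y, hy⟩ => by
    obtain ⟨x, rfl⟩ := range_quoHom n ▸ hy
    exact ⟨x, rfl⟩) (k ▸ fun x hx => mem_center_iff.2 fun g => Subtype.ext (hc g.2 x hx).symm)
    (by rw [k, ← inf_subgroupOf_right, Nat.card_congr (subgroupOfEquivOfLe inf_le_right).toEquiv]
        exact (od_odd X).of_dvd_nat (card_dvd_of_le inf_le_left))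
    (map_injective (subtype_injective _) (by
      rw [map_subtype_commutator, r.perf, ← MonoidHom.range_eq_map, range_subtype]))
  rw [k, subgroupOf_eq_bot, disjoint_iff] at this
  obtain ⟨e'⟩ := quotient_isog n this
  have _ := e'.isSimpleGroup
  obtain ⟨π, rfl, l⟩ := exists_pi h (e'.trans e) d.dih r.nrm r.cent (inf_comm E _ ▸ this)
  exact .inr (.inl (l.t2 r))

end Cfsg.GW
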