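import Cfsg.Agent.GW.DLb

/-!
# S4594 core: pieces `StL1`, `StTrX`, `StKW`, `StZL`
-/

set_option autoImplicit false
set_option linter.style.haveILetI false
set_option linter.unusedSectionVars false

namespace Cfsg.GW

open Subgroup Cfsg.FT Cfsg.Gag Cfsg.Gag.Fin5 Cfsg.GW.PFs
open scoped Pointwise commutatorElement

universe u

namespace DL

variable {G : Type u} [Group G] [Finite G] {L P V X : Subgroup G} {r : ℕ}

theorem od_quo (X : Subgroup G) : od (X ⁄ od X) = ⊥ := trivg_pcore_quotient _ X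

theorem invP_quo (h : InvP X V r P) (N : Subgroup G) : InvP (X ⁄ N) (V ⁄ N) r (P ⁄ N) :=
  ⟨quotientS N h.1, quotient_pgroup N h.2.1, quotient_norms N h.2.2⟩

theorem klein_quo (hV : Klein V) (hl : V ≤ X) : Klein (V ⁄ od X) :=
  hV.quo (hl.trans (od_normal X).norm) (odd_od X)

/-- the preimage of the centralizer of `v` in `X / O(X)` -/
abbrev lc (X : Subgroup G) (v : Q (od X)) : Subgroup G := pre (od X) (X ⁄ od X ⊓ 𝐂₁[v])

theorem lc_le (v : Q (od X)) : lc X v ≤ X :=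
  (pre_mono inf_le_left).trans (quotientGK (od_normal X)).le

theorem le_lc {v : Q (od X)} (hP : P ≤ X) (h : P ⁄ od X ≤ 𝐂₁[v]) : P ≤ lc X v :=
  (sub_quotient_pre (hP.trans (od_normal X).norm)).1 (le_inf (quotientS _ hP) h)

theorem lc_pnil (hF : StFrob.{u}) (hD : Dih G) {v : Q (od X)} (ov : orderOf v = 2) :
    PNil 2 (lc X v) :=
  PNil.of_p'quo (odd_od X).not_two_dvd_nat (normal_cosetpre _) (by
    rw [cosetpreK]
    exact (pnil_cent hF (dih_quo hD (odd_od X)) ov).mono inf_le_right)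

theorem pc_mono (h : PC r X) (h1 : core {r} X ≤ L) (h2 : L ≤ X) : PC r L :=
  have h3 := le_core_of_le h2 h1 le_rfl
  (inf_le_inf h2 (centS h3)).trans (h.trans h3)

end DL

open DL

variable (hF : StFrob.{u}) (hS : StSol.{u}) (hR : StRes.{u}) (hC : StComp.{u})
include hF hS hR hC

theorem stL1 : StL1.{u} := fun G _ _ X P t r h ht ot hr r2 hl hp hn => by
  haveI := Fact.mk hr
  have hO := od_normal X
  have t2 : t * t = 1 := (sq t).symm.trans (ot ▸ pow_orderOf_eq_one t)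
  have h2 : IsPGroup 2 ⟪t⟫ := prime_pgroup ((Nat.card_zpowers t).trans ot)
  have tP : ⟪t⟫ ≤ 𝐍[P] := zpowers_le.2 (hn ⟨ht, cent1id t⟩)
  have h3 := commg_subl.2 tP
  have h4 := coprime_commGid tP (cop2 (odd_pgroup r2 hp) h2)
  have h5 : X ⊓ 𝐂₁[t] ≤ 𝐍[⁅P, ⟪t⟫⁆] := normsR hn (norms_cycle inf_le_right)
  have h6 := (h3.trans hl).trans hO.norm
  have h7 : ⁅P, ⟪t⟫⁆ ⁄ od X = ⊥ := l1_bar hF (dih_quo h.dih (odd_od X)) (od_quo X)
    (cases0 hS hR hC (dg_quo h (odd_od X)) (od_quo X)) r2 (mem_quotient _ ht)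
    ((orderOf_coset ((zpowers_le.2 ht).trans hO.norm) (TI_odd (odd_od X) h2) (mem_zpowers t)).trans
      ot) (quotientS _ (h3.trans hl)) (quotient_pgroup _ (hp.to_le h3)) (by
      rw [← coprime_quotient_cent1 (.inl hO.le) (hO.norm ht) (ot ▸ (odd_od X).coprime_two_right)]
      exact quotient_norms _ h5)
    (by rw [← quotient_cycle (hO.norm ht), ← quotientR h6 (zpowers_le.2 (hO.norm ht)), h4])
  exact (le_core_of_comm t2 h4 (hp.to_le h3) (odd_od X) ((quotient_sub1 h6).1 h7) (hO.norm ht)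
    ((inf_le_inf_right _ hO.le).trans h5)).trans (hO.core_le _)

theorem stTrX : StTrX.{u} := fun G _ _ X V P P' r h hV hl hr r2 hP hP' => by
  haveI := Fact.mk hr
  have hO := od_normal X
  have hK := klein_quo hV hl
  obtain ⟨n, hn, v, hv, v1, h1, h2⟩ := sig2 hF (dih_quo h.dih (odd_od X)) (od_quo X)
    (cases0 hS hR hC (dg_quo h (odd_od X)) (od_quo X)) r2 hK (quotientS _ hl) (invP_quo hP.1 _)
    (invP_quo hP'.1 _)
  rw [coprime_subnorm_quotient_pgroup hV.pgroup (hl.trans hO.norm) (cop2 (odd_od X) hV.pgroup)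
    hO.le, mem_quo] at hn
  obtain ⟨n, hn, h3, rfl⟩ := hn
  rw [← quotientJ h3] at h1
  have hQ := DL.MaxInv.conj hP hn
  have h4 := lc_pnil hF h.dih (hK.orderOf hv v1)
  have h5 := normsG (le_lc hl (klein_le_cent1 hK hv))
  obtain ⟨c, hc, e⟩ := sol_coprime_Sylow_trans (.inr (pgroup_sol hV.pgroup)) (norms_pcore _ h5)
    (cop2 (odd_od _) hV.pgroup) (syl_od hQ r2 hV.pgroup h4 h5 (lc_le v) (le_lc hQ.1.1 h1)) hQ.1.2.2
    (syl_od hP' r2 hV.pgroup h4 h5 (lc_le v) (le_lc hP'.1.1 h2)) hP'.1.2.2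
  exact ⟨c * n, mul_mem ⟨lc_le v ((od_normal _).le hc.1), cent_sub V hc.2⟩ hn,
    by rw [e, conj_conj]⟩

theorem stKW : StKW.{u} := fun G _ _ X V c s p h hV hl hp p2 oc hc cO hs s2 e => by
  haveI := Fact.mk hp
  have hO := od_normal X
  have h1 := hO.norm hc.1
  have h2 := hO.norm hs.1
  refine kw_bar hF (dih_quo h.dih (odd_od X)) (od_quo X)
    (cases0 hS hR hC (dg_quo h (odd_od X)) (od_quo X)) p2 (klein_quo hV hl) (quotientS _ hl)
    (x := coset _ c) (s := coset _ s) ?_ (quotient_subcent _ _ _ (mem_quotient _ hc))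
    (quotient_subnorm _ _ _ (mem_quotient _ hs)) (by rw [← coset_mul h2 h2, s2, coset_one])
    (by rw [← coset_mul h2 h1, ← coset_mul (mul_mem h2 h1) h2, e, coset_inv])
  exact ((Nat.dvd_prime hp).1 (oc ▸ orderOf_coset_dvd _ c)).resolve_left fun e =>
    cO (coset_idr h1 (orderOf_eq_one_iff.1 e))

theorem stZL : StZL.{u} := fun G _ _ X V P r h hV hl hr r2 hc hP => by
  haveI := Fact.mk hr
  have hO := od_normal X
  have hK := klein_quo hV hl
  have hI := dih_ci2 h.dih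
  have h0 := core_le hP hl
  have hb := cases0 hS hR hC (dg_quo h (odd_od X)) (od_quo X)
  obtain ⟨v, hv, v1, h1⟩ := sig0 hF (dih_quo h.dih (odd_od X)) (od_quo X) hb r2 hK (quotientS _ hl)
    (invP_quo hP.1 _)
  have h2 := le_lc hP.1.1 h1
  have h3 := syl_of_pnil hP r2 hV.pgroup (lc_pnil hF h.dih (hK.orderOf hv v1))
    (normsG (le_lc hl (klein_le_cent1 hK hv))) (lc_le v) h2
  have h4 := ZJ.Puig_center_normal hI r2 (pc_mono hc (h0.trans h2) (lc_le v)) h3
  have h5 : od X ≤ lc X v := sub_cosetpre _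
  refine ⟨h4.le.trans (lc_le v), ?_⟩
  rcases hb with hb | ⟨E, hE, hb⟩
  · have h6 := (quotient_sub1 (hP.1.1.trans hO.norm)).1 (hb _ _ hK (quotientS _ hl)
      (quotientS _ hP.1.1) (quotient_odd _ (odd_pgroup r2 hP.1.2.1)) (quotient_norms _ hP.1.2.2))
    exact (Frattini_arg hO (h3.subl h6 h5)).sup_eq.ge.trans (sup_le (h5.trans h4.norm)
      (inf_le_right.trans (BG4P.center_Puig_char P).norm_le))
  have hY := ZJ.cY_normal (p := r) (L := X)
  rcases hE.min _ (quotient_normal (od X) hY) with h6 | h6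
  · rw [od_quo, le_bot_iff, quotient_sub1 (hY.le.trans hO.norm)] at h6
    have h7 : ZJ.kY r X ≤ lc X v := (le_core_of_odd (by
      rw [card_cosetpre]
      exact (oddSg h6 (odd_od X)).mul (odd_pgroup r2 (pcore_pgroup' r _))) ZJ.kY_normal).trans h5
    exact (ZJ.Puig_center_normal_of hI r2 hc hP.1.2.1 h0 hP.1.1
      (Sylow_setI_normal (normalS h7 (lc_le v) ZJ.kY_normal) h3)).norm
  have h7 : X ⁄ od X ≤ E ⊔ X ⁄ od X ⊓ 𝐂₁[v] := hb.elim (fun h2 => sup_cent hE h2 hK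
    (quotientS _ hl) hF (dih_quo h.dih (odd_od X)) (od_quo X) hv v1)
    fun h3 => (t3_eq h3 (od_quo X)).ge.trans le_sup_left
  refine ((sub_quotient_pre hO.norm).1 (h7.trans (sup_le_sup_right h6 _))).trans ?_
  rw [pre_sup, quotientK (hY.le.trans hO.norm)]
  exact sup_le (sup_le (h5.trans h4.norm) (ZJ.cY_le hI r2 hc hP.1.2.1 h0 hP.1.1)) h4.norm

end Cfsg.GW
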