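import Cfsg.Agent.GW.A2a
import Cfsg.Agent.Gag.W3
import Cfsg.Prelude.Def_CaseTheorems

/-!
# S4594 from the pieces
-/

set_option autoImplicit false
set_option linter.style.haveILetI false

namespace Cfsg.GW

open Subgroup Cfsg.FT Cfsg.Gag
open scoped Pointwise commutatorElement

universe u

variable {G : Type u} [Group G] [Finite G] {R X : Subgroup G}

theorem card_map_mk (X N : Subgroup G) [N.Normal] :
    Nat.card ↥(X ⊓ N) * Nat.card (X.map (QuotientGroup.mk' N)) = Nat.card X := by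
  rw [← relIndex_ker, QuotientGroup.ker_mk', inf_comm, ← inf_relIndex_right]
  exact card_mul_relIndex inf_le_right

theorem syl_center_le {p : ℕ} [Fact p.Prime] (hG : commutator G = ⊤) (hR : Syl p R ⊤) :
    R ⊓ center G ≤ ⁅R, R⁆ := fun x hx => der_center_syl_le hR
  ⟨⟨by rw [← commutator_def, hG]; trivial, trivial, fun g _ => mem_center_iff.1 hx.2 g⟩, hx.1⟩

theorem card_der_le {p : ℕ} [hp : Fact p.Prime] (hR : IsPGroup p R)
    (h : Nat.card R ≤ Nat.card ↥(R ⊓ center G) * p * p) : Nat.card ↥⁅R, R⁆ ≤ p := by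
  by_cases hab : IsMulCommutative R
  · rw [derG1P.2 hab, card_bot]; exact hp.out.pos
  obtain ⟨a, ha, b, hb, hne⟩ := Two.exists_noncomm hab
  set Z := R ⊓ center G
  have hZ : ∀ g, Z ≤ 𝐂₁[g] := fun g z hz => mem_cent1.2 (mem_center_iff.1 hz.2 g).symm
  have hne' : a * b ≠ b * a := mt commutatorElement_eq_one_iff_mul_comm.2 hne
  have l1 : Z ⊔ ⟪a⟫ ≤ R := sup_le inf_le_left (zpowers_le.2 ha)
  have l2 : Z ⊔ ⟪a⟫ ⊔ ⟪b⟫ ≤ R := sup_le l1 (zpowers_le.2 hb)
  have h1 := card_mul_le_of_lt (hR.to_le l1) (left_lt_sup.2 fun e =>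
    hne' (mem_cent1.1 (hZ b (zpowers_le.1 e))))
  have h2 := card_mul_le_of_lt (hR.to_le l2) (left_lt_sup.2 fun e => hne' (mem_cent1.1
    ((sup_le (hZ a) (zpowers_le.2 (mem_cent1.2 rfl))) (zpowers_le.1 e))).symm)
  have h3 : Z ⊔ ⟪a⟫ ⊔ ⟪b⟫ = R := card_eq_of_le l2 (h.trans ((Nat.mul_le_mul_right p h1).trans h2))
  have h4 : Nat.card ↥(Z ⊔ ⟪a⟫) = Nat.card Z * p := le_antisymm
    (Nat.le_of_mul_le_mul_right (h2.trans (h3 ▸ h)) hp.out.pos) h1
  have hn : ∀ K, Z ≤ K → K ≤ R → Z ⊴ K := fun K h1 h2 => ⟨h1, fun g _ =>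
    cents_norm (centsC.1 (hZ g |>.trans (cent_cycle g).ge)) (mem_zpowers g)⟩
  have h5 : a ^ p ∈ Z := by
    have := card_mul_relIndex (le_sup_left : Z ≤ Z ⊔ ⟪a⟫)
    rw [h4] at this
    rw [← Nat.eq_of_mul_eq_mul_left Nat.card_pos this]
    exact Fin5.pow_relIndex_mem' (hn _ le_sup_left l1) (mem_sup_right (mem_zpowers a))
  have h6 : ⁅a, b⁆ ∈ Z := by
    refine der1_min (hn R inf_le_left le_rfl).2 (p2group_abelian (p := p) ?_)
      (commutator_mem_commutator ha hb)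
    have h7 := card_quo_mul (hn R inf_le_left le_rfl)
    have h8 := ((Nat.mul_le_mul_right p h1).trans h2).trans (card_le_of_le l2)
    rw [le_antisymm h h8, mul_assoc] at h7
    rw [Nat.eq_of_mul_eq_mul_left Nat.card_pos h7, pow_two]
  have h7 : ∀ k : ℕ, a ^ k * b = ⁅a, b⁆ ^ k * (b * a ^ k) := fun k => by
    induction k with
    | zero => simp
    | succ k ih =>
      calc a ^ (k + 1) * b = a * ⁅a, b⁆ ^ k * (b * a ^ k) := by rw [pow_succ', mul_assoc, ih, mul_assoc]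
        _ = ⁅a, b⁆ ^ k * (a * b) * a ^ k := by
          rw [← mem_cent1.1 (hZ a (pow_mem h6 k))]; simp only [mul_assoc]
        _ = _ := by rw [pow_succ, pow_succ', commutatorElement_def]; group
  have h8 : ⁅a, b⁆ ^ p = 1 := by
    have := h7 p
    rw [mem_cent1.1 (hZ b h5)] at this
    exact right_eq_mul.1 this
  haveI : (⟪⁅a, b⁆⟫).Normal := ⟨fun n hn g => by
    rwa [mem_center_iff.1 (zpowers_le.2 h6 hn).2 g, mul_inv_cancel_right]⟩
  have h9 : ⁅R, R⁆ ≤ ⟪⁅a, b⁆⟫ := by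
    rw [← QuotientGroup.ker_mk' ⟪⁅a, b⁆⟫, ← Subgroup.map_eq_bot_iff, map_commutator, derG1P, ← h3,
      Subgroup.map_sup, Subgroup.map_sup, MonoidHom.map_zpowers, MonoidHom.map_zpowers]
    have hc : ∀ K : Subgroup (G ⧸ ⟪⁅a, b⁆⟫), Z.map (QuotientGroup.mk' ⟪⁅a, b⁆⟫) ≤ 𝐂[K] := by
      rintro K _ ⟨z, hz, rfl⟩ g -
      obtain ⟨g, rfl⟩ := QuotientGroup.mk'_surjective _ g
      rw [← map_mul, ← map_mul, mem_center_iff.1 hz.2 g]
    refine abelianY.2 ⟨abelianY.2 ⟨abelian_iff.2 (hc _), cycle_abelian _, centsC.1 (hc _)⟩,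
      cycle_abelian _, centsC.1 (sup_le (hc _) (zpowers_le.2 ?_))⟩
    rw [cent_cycle, mem_cent1, ← commutatorElement_eq_one_iff_mul_comm, ← map_commutatorElement]
    exact (QuotientGroup.eq_one_iff _).2 (mem_zpowers _)
  exact (card_le_of_le h9).trans (by rw [Nat.card_zpowers]; exact orderOf_le_of_pow_eq_one hp.out.pos h8)

theorem card_center_A7 (hG : commutator G = ⊤) (h2 : ¬ 2 ∣ Nat.card (center G))
    (hc : Nat.card (G ⧸ center G) = 2520) : Nat.card (center G) ∣ 3 := by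
  refine (Nat.dvd_iff_prime_pow_dvd_dvd _ _).2 fun p k hp hk => ?_
  haveI := Fact.mk hp
  obtain ⟨R, hR⟩ := Sylow_exists p (⊤ : Subgroup G)
  have hS : Syl p (R ⊓ center G) (center G) := Sylow_setI_normal (normalIn_top.2 inferInstance) hR
  have h1 : p ^ k ∣ Nat.card ↥(R ⊓ center G) := by
    rw [card_Syl hS]
    exact pow_dvd_pow p ((hp.pow_dvd_iff_le_factorization Nat.card_pos.ne').1 hk)
  refine h1.trans ?_
  have h3 := card_map_mk R (center G)
  obtain ⟨j, hj⟩ := IsPGroup.iff_card.1 (hR.pgroup.map (QuotientGroup.mk' (center G)))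
  have h4 : p ^ j ∣ 2520 := hc ▸ hj ▸ card_subgroup_dvd_card _
  have h5 := syl_center_le hG hR
  by_cases h6 : j ≤ 1
  · have : IsMulCommutative R := by
      refine cyclic_factor_abelian (K := R ⊓ center G)
        (inf_le_inf_left _ fun z hz g _ => mem_center_iff.1 hz g) ?_
      have h7 := card_quo_mul (⟨inf_le_left, fun g _ => mem_norm_of_conj_le
        (conj_le_iff_forall.2 fun z hz => by
          rwa [mem_center_iff.1 hz.2 g, mul_inv_cancel_right])⟩ : R ⊓ center G ⊴ R)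
      rw [← h3, hj] at h7
      exact isCyclic_of_card_dvd_prime (p := p)
        (Nat.eq_of_mul_eq_mul_left Nat.card_pos h7 ▸ (pow_dvd_pow p h6).trans (pow_one p).dvd)
    rw [derG1P.2 this, le_bot_iff] at h5
    rw [h5, card_bot]
    exact one_dvd _
  have h7 : p ^ 2 ∣ 2520 := (pow_dvd_pow p (by omega)).trans h4
  have h8 : p = 2 ∨ p = 3 := by
    have := hp.eq_one_or_self_of_dvd
    have h9 : p ∣ 2 ^ 3 * 3 ^ 2 * 5 * 7 := (dvd_pow_self p two_ne_zero).trans h7
    rcases (Nat.Prime.dvd_mul hp).1 h9 with h | h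
    · rcases (Nat.Prime.dvd_mul hp).1 h with h | h
      · exact ((Nat.Prime.dvd_mul hp).1 h).imp
          (fun h => (Nat.prime_dvd_prime_iff_eq hp Nat.prime_two).1 (hp.dvd_of_dvd_pow h))
          fun h => (Nat.prime_dvd_prime_iff_eq hp Nat.prime_three).1 (hp.dvd_of_dvd_pow h)
      · rw [(Nat.prime_dvd_prime_iff_eq hp Nat.prime_five).1 h] at h7; omega
    · rw [(Nat.prime_dvd_prime_iff_eq hp (by norm_num : Nat.Prime 7)).1 h] at h7; omega
  rcases h8 with rfl | rfl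
  · rw [hS.eq_bot_iff.2 h2, card_bot]; exact one_dvd _
  have h9 : j ≤ 2 := by
    by_contra h
    have := (pow_dvd_pow 3 (show 3 ≤ j by omega)).trans h4
    omega
  have h10 := (card_le_of_le h5).trans (card_der_le hR.pgroup (by
    rw [← h3, hj, mul_assoc, ← pow_two]
    exact Nat.mul_le_mul_left _ (Nat.pow_le_pow_right (by norm_num) h9)))
  obtain ⟨i, hi⟩ := IsPGroup.iff_card.1 hS.pgroup
  rw [hi] at h10 ⊢
  exact (pow_dvd_pow 3 ((Nat.pow_le_pow_iff_right (by norm_num)).1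
    (h10.trans (pow_one 3).ge))).trans (pow_one 3).dvd

theorem final (h1 : StA1.{u}) (h2 : StA2.{u}) (hK : StGWK.{u}) (hD : StGWD.{u})
    (hq : Cfsg.IsQuasisimple G) (P : Sylow 2 G) (hna : ¬ IsMulCommutative (P : Subgroup G))
    (hZ : (Subgroup.center (P : Subgroup G)).index = 4) :
    Nat.card (P : Subgroup G) = 8 ∧
      (Nonempty (G ≃* alternatingGroup (Fin 7)) ∨
       (Nat.card (Subgroup.center G) = 3 ∧
        Nonempty (G ⧸ Subgroup.center G ≃* alternatingGroup (Fin 7))) ∨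
       ∃ (F : Type) (_ : Field F) (_ : Fintype F), Odd (Fintype.card F) ∧
        Nonempty (G ⧸ Subgroup.center G ≃* Matrix.ProjectiveSpecialLinearGroup (Fin 2) F)) := by
  haveI := Fact.mk Nat.prime_two
  haveI := hq.2
  have hG : commutator G = ⊤ := hq.1.commutator_eq_top
  have hS := syl_top P
  have hc : Nat.card (P : Subgroup G) = 4 * Nat.card ↥𝐙[(P : Subgroup G)] := by
    rw [← hZ, ← (center (P : Subgroup G)).index_mul_card, ← card_subgroupOf_of_le
      (inf_le_left : 𝐙[(P : Subgroup G)] ≤ P)]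
    congr 3
    ext x
    exact mem_center_iff.trans ⟨fun h => ⟨x.2, fun g hg => congrArg Subtype.val (h ⟨g, hg⟩)⟩,
      fun h g => Subtype.ext (h.2 g g.2)⟩
  generalize (P : Subgroup G) = Q at hna hS hc
  obtain ⟨z, E⟩ := exists_e4 hS.pgroup hna hc
  let π := QuotientGroup.mk' (center G)
  have hS' : Syl 2 (Q.map π) ⊤ :=
    map_top_of_surjective π (QuotientGroup.mk'_surjective _) ▸ hS.map π
  have hd : ⁅Q, Q⁆ ≤ ⟪z⟫ := commg_le_iff.2 fun a ha b hb => by
    rcases E.comm a ha b hb with e | e <;> rw [e]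
    · simp
    · simp [mul_assoc]
  have hQ := (syl_center_le hG hS).trans hd
  have oz : Nat.card ⟪z⟫ = 2 := by
    rw [Nat.card_zpowers, orderOf_eq_prime (by rw [pow_two, E.zz]) E.z1]
  by_cases hz : z ∈ center G
  · have e1 : Q ⊓ center G = ⟪z⟫ := le_antisymm hQ (zpowers_le.2 ⟨E.zP, hz⟩)
    have e2 : 𝐙[Q] ⊓ center G = ⟪z⟫ := le_antisymm ((inf_le_inf_right _ inf_le_left).trans hQ)
      (zpowers_le.2 ⟨⟨E.zP, E.zc⟩, hz⟩)
    have c1 := card_map_mk Q (center G)
    have c2 := card_map_mk 𝐙[Q] (center G)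
    rw [e1, oz] at c1
    rw [e2, oz] at c2
    have kl := h1 _ (Q.map π) (𝐙[Q].map π) (fun h => hna (abelian_iff_forall.2 fun a _ b _ => ?_))
      hS' ?_ (map_mono inf_le_left) (normsP.2 fun n hn => ?_) (by simp only [π]; omega)
    · exact ⟨by rw [← c1, kl.1], .inr (.inr (hK _ _ hS' kl))⟩
    · refine mem_center_iff.1 (?_ : b ∈ center G) a
      refine (?_ : commutator G ≤ center G) (hG.ge (mem_top b))
      rw [← QuotientGroup.ker_mk' (center G), ← Subgroup.map_eq_bot_iff, commutator_def, map_commutator,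
        derG1P]
      exact abelian_iff_forall.2 fun a _ b _ => h.1.1 a b
    · rw [← derG1P, ← map_commutator, Subgroup.map_eq_bot_iff, QuotientGroup.ker_mk']
      exact hd.trans (zpowers_le.2 hz)
    · obtain ⟨n, rfl⟩ := QuotientGroup.mk'_surjective _ n
      rintro _ ⟨c, hc, rfl⟩
      have key : ∀ m : G, π m ∈ 𝐍[Q.map π] → ∀ a ∈ Q, ∃ s ∈ Q, ∃ w ∈ center G,
          m * a * m⁻¹ = s * w := fun m hm a ha => by
        obtain ⟨s, hs, e⟩ := (memJ_norm hm).2 (mem_map_of_mem π ha)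
        exact ⟨s, hs, s⁻¹ * (m * a * m⁻¹), QuotientGroup.eq.1 e, by group⟩
      obtain ⟨s, hs, w, hw, e⟩ := key n hn c hc.1
      refine ⟨s, ⟨hs, fun a ha => ?_⟩, ?_⟩
      · obtain ⟨s', hs', w', hw', e'⟩ := key n⁻¹ (by rw [map_inv]; exact inv_mem hn) a ha
        refine mul_right_cancel (b := w) ?_
        rw [mul_assoc s, mem_center_iff.1 hw a, ← mul_assoc s, mul_assoc a, ← e]
        calc a * (n * c * n⁻¹) = n * (n⁻¹ * a * n⁻¹⁻¹ * c) * n⁻¹ := by group
          _ = n * (c * (n⁻¹ * a * n⁻¹⁻¹)) * n⁻¹ := by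
            rw [e', mul_assoc s', ← mem_center_iff.1 hw' c, ← mul_assoc s', hc.2 s' hs', mul_assoc c]
          _ = _ := by group
      · change π s = π n * π c * (π n)⁻¹
        rw [← map_inv, ← map_mul, ← map_mul, e, map_mul,
          show π w = 1 from (QuotientGroup.eq_one_iff w).2 hw, mul_one]
  have e1 : Q ⊓ center G = ⊥ := eq_bot_iff.2 fun a ha =>
    (Fin5.mem_cycle2 E.zz (hQ ha)).resolve_right fun e => hz (e ▸ ha.2)
  have hi : InjM π Q := fun a ha e => mem_bot.1 (e1 ▸ ⟨ha, (QuotientGroup.eq_one_iff a).1 e⟩)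
  obtain ⟨f, x, h8⟩ := h2 _ _ hS' (mt hi.abelian.1 hna)
    (by rw [← hi.map_center, hi.card_map le_rfl, hi.card_map inf_le_left, hc])
  refine ⟨(hi.card_map le_rfl).symm.trans h8.card, ?_⟩
  rcases hD _ _ f x hS' h8 with h | ⟨⟨φ⟩⟩
  · exact .inr (.inr h)
  have h3 := card_center_A7 hG ((Sylow_setI_normal (normalIn_top.2 inferInstance) hS).eq_bot_iff.1 e1)
    (by rw [Nat.card_congr φ.toEquiv, nat_card_alternatingGroup, Nat.card_fin]; rfl)
  rcases (Nat.dvd_prime Nat.prime_three).1 h3 with h | h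
  · exact .inl ⟨((QuotientGroup.quotientMulEquivOfEq (card_eq_one.1 h)).trans
      QuotientGroup.quotientBot).symm.trans φ⟩
  · exact .inr (.inl ⟨h, ⟨φ⟩⟩)

end Cfsg.GW
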