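import Cfsg.Agent.GW.DLa

/-!
# S4594 core: D-groups with `O(X) = 1`
-/

set_option autoImplicit false
set_option linter.style.haveILetI false
set_option linter.unusedSectionVars false

namespace Cfsg.GW.DL

open Subgroup Cfsg.FT Cfsg.Gag Cfsg.Gag.Fin5 Cfsg.GW.PFs
open scoped Pointwise commutatorElement

universe u

variable {G : Type u} [Group G] [Finite G] {A E K T V X Y Y' : Subgroup G} {s t v w x z : G} {r : ℕ}
  {ε : ℤ}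

/-- four-groups normalize no subgroup of odd order -/
def Triv (X : Subgroup G) : Prop :=
  ∀ V Y : Subgroup G, Klein V → V ≤ X → Y ≤ X → Odd (Nat.card Y) → V ≤ 𝐍[Y] → Y = ⊥

theorem cases0 (hS : StSol.{u}) (hR : StRes.{u}) (hC : StComp.{u}) (h : DG X) (o : od X = ⊥) :
    Triv X ∨ ∃ E, ResF E X ∧ (T2 X E ∨ T3 X E) := by
  by_cases hs : Group.IsSolvable X
  · exact .inl fun V Y hV h1 h2 h3 h4 => eq_bot_iff.2 (o ▸ (hS G X V h.dih hs hV h1).1 Y h2 h3 h4)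
  obtain ⟨E, hE⟩ := hR G X h hs
  rcases hC G X E h hE (o ▸ cents1 E) with h1 | h1
  · exact .inl fun V Y hV h2 h3 h4 h5 => eq_bot_iff.2 (o ▸ h1.sig V Y hV h2 h3 h4 h5)
  · exact .inr ⟨E, hE, h1⟩

theorem eq_one_of_odd (ho : Odd (orderOf x)) (h : x * x = 1) : x = 1 :=
  orderOf_eq_one_iff.1 (Nat.Coprime.eq_one_of_dvd ho.coprime_two_right
    (orderOf_dvd_of_pow_eq_one ((sq x).trans h)))

theorem odd_mem (ho : Odd (Nat.card Y)) (hx : x ∈ Y) : Odd (orderOf x) :=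
  ho.of_dvd_nat (orderOf_dvd_natCard Y hx)

theorem cyc_norm (hc : IsCyclic K) (ht : t ∈ K) (ot : orderOf t = 2) : 𝐍[K] ≤ 𝐂₁[t] := fun g hg => by
  have h1 := (memJ_norm ((sub_cyclic_char hc (zpowers_le.2 ht)).norm_le hg)).2 (mem_zpowers t)
  rcases mem_cycle2 ((sq t).symm.trans (ot ▸ pow_orderOf_eq_one t)) h1 with e | e
  · rw [conj_eq_one_iff] at e
    simp [e] at ot
  · exact mem_cent1.2 (mul_inv_eq_iff_eq_mul.1 e)

/-- the torus of `E` centralizing the involution `v` -/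
structure Tor (E : Subgroup G) (v : G) (A : Subgroup G) : Prop where
  le : A ≤ 𝐂₁[v]
  mem : ∀ x ∈ E ⊓ 𝐂₁[v], Odd (orderOf x) → x ∈ A
  cent : ∀ x ∈ A, Odd (orderOf x) → x ≠ 1 → E ⊓ 𝐂₁[x] = A
  norm : E ⊓ 𝐍[A] ≤ 𝐂₁[v]
  card : Nat.card ↥(E ⊓ 𝐂₁[v]) = 2 * Nat.card A
  one : 1 < Nat.card A

theorem lt_even (h : LT X E t K ε) (ot : orderOf t = 2) : 2 ∣ Nat.card K :=
  ot ▸ orderOf_dvd_natCard K h.tK

theorem tor_in (h : LT X E t K ε) (ot : orderOf t = 2) : Tor E t K where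
  le := h.le.trans inf_le_right
  mem x hx ho := by_contra fun e => e (eq_one_of_odd ho (h.inv x hx e).1 ▸ one_mem K)
  cent x hx ho x1 := h.cent x hx fun e => x1 (eq_one_of_odd ho e)
  norm := inf_le_right.trans (cyc_norm h.cyc h.tK ot)
  card := h.idx
  one := Nat.le_of_dvd Nat.card_pos (lt_even h ot)

theorem tor_out (h : LT X E t K ε) (ot : orderOf t = 2) (hs : s ∈ X ⊓ 𝐂₁[t]) (sE : s ∉ E)
    (s2 : s * s = 1) : ∃ A, Tor E s A ∧ (Nat.card A : ℤ) = Nat.card K + ε := by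
  obtain ⟨-, A, -, h1, h2, h3, h4, h5, h6⟩ := h.out s hs sE s2
  have t2 : t * t = 1 := (sq t).symm.trans (ot ▸ pow_orderOf_eq_one t)
  have tA : ⟪t⟫ ≤ 𝐍[A] := zpowers_le.2 (mem_norm_of_conj_le (conj_le_iff_forall.2 fun x hx => by
    rw [inv_eq_of_mul_eq_one_right t2, h3 x hx]
    exact inv_mem hx))
  have ho : Odd (Nat.card A) := by
    obtain ⟨k, hk⟩ := lt_even h ot
    rw [Nat.odd_iff]
    rcases h.eps with e | e <;> omega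
  have h7 : Nat.card ↥(E ⊓ 𝐂₁[s]) = 2 * Nat.card A := by
    have := (mulEq_of_norm tA).card
    rw [TI_odd ho (prime_pgroup ((Nat.card_zpowers t).trans ot)), card_bot, Nat.card_zpowers, ot,
      ← h4] at this
    omega
  refine ⟨A, ⟨(le_sup_left.trans h4.ge).trans inf_le_right, fun x hx ox => ?_,
    fun x hx _ => h6 x hx, ?_, h7, h2⟩, h1⟩
  · obtain ⟨a, ha, b, hb, rfl⟩ := (mem_join_norm tA).1 (h4.le hx)
    rcases mem_cycle2 t2 hb with rfl | rfl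
    · simpa using ha
    · rw [eq_one_of_odd ox (by rw [mul_assoc, ← mul_assoc b, h3 a ha, mul_inv_cancel])]
      exact one_mem A
  · exact (card_eq_of_le (le_inf inf_le_left (h4.le.trans (sup_le (normG A) tA)))
      (h5.trans h7.symm).le).ge.trans inf_le_right

theorem sup_cent_in (h : ResF E X) (hv : v ∈ E) (ov : orderOf v = 2) : X ≤ E ⊔ X ⊓ 𝐂₁[v] :=
  fun g hg => by
    obtain ⟨e, he, h1⟩ := h.conj _ (h.nrm.conj_mem hg hv) v hv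
      ((MulAut.conj g).orderOf_eq v ▸ ov) ov
    have : e * g ∈ X ⊓ 𝐂₁[v] := mem_inf.2 ⟨mul_mem (h.nrm.le he) hg, mem_cent1.2 (by
      conv_rhs => rw [← h1]
      group)⟩
    simpa using mul_mem_sup (inv_mem he) this

theorem card_cent_in (h : ResF E X) (hv : v ∈ E) (ov : orderOf v = 2) (hw : w ∈ E)
    (ow : orderOf w = 2) : Nat.card ↥(E ⊓ 𝐂₁[v]) = Nat.card ↥(E ⊓ 𝐂₁[w]) := by
  obtain ⟨e, he, rfl⟩ := h.conj v hv w hw ov ow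
  rw [cent1_conj, ← card_conj e, conj_inf, conj_eq_of_mem he]

theorem exists_in (h : ResF E X) (hV : Klein V) (hl : V ≤ X) : ∃ z ∈ V, z ∈ E ∧ z ≠ 1 :=
  let ⟨z, hz, z1⟩ := exists_ne_one (h.meet V hV hl)
  ⟨z, hz.1, hz.2, z1⟩

theorem klein_le_cent1 (hV : Klein V) (hv : v ∈ V) : V ≤ 𝐂₁[v] :=
  (abelian_iff.1 hV.ab).trans (cent_le_cent1 hv)

theorem klein_cases (h : Klein V) (hs : s ∈ V) (hl : v ∈ V) (h1 : s ≠ 1) (h2 : v ≠ 1)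
    (h3 : s ≠ v) (ht : t ∈ V) : t = 1 ∨ t = s ∨ t = v ∨ t = v * s := by
  rw [h.gen hs hl h1 h2 h3] at ht
  obtain ⟨a, ha, b, hb, rfl⟩ := (mem_join_norm
    ((zpowers_le.2 hs).trans (sub_abelian_norm h.ab (zpowers_le.2 hl)))).1 ht
  rcases mem_cycle2 (h.2 v hl) ha with rfl | rfl <;>
    rcases mem_cycle2 (h.2 s hs) hb with rfl | rfl <;> simp

section two

variable (h : ResF E X) (h2 : T2 X E) (hV : Klein V) (hl : V ≤ X)
include h h2 hV hl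

theorem tor1 : ∃ (k : ℕ) (ε : ℤ), (ε = 1 ∨ ε = -1) ∧ ∀ v ∈ V, v ≠ 1 → ∃ A, Tor E v A ∧
    (v ∈ E → Nat.card A = k) ∧ (v ∉ E → (Nat.card A : ℤ) = k + ε) := by
  obtain ⟨z, hz, zE, z1⟩ := exists_in h hV hl
  have oz := hV.orderOf hz z1
  obtain ⟨K, ε, hK⟩ := h2.lt z zE oz
  refine ⟨Nat.card K, ε, hK.eps, fun v hv v1 => ?_⟩
  by_cases vE : v ∈ E
  · obtain ⟨K', ε', hK'⟩ := h2.lt v vE (hV.orderOf hv v1)
    refine ⟨K', tor_in hK' (hV.orderOf hv v1), fun _ => ?_, fun e => absurd vE e⟩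
    have := card_cent_in h vE (hV.orderOf hv v1) zE oz
    rw [hK.idx, hK'.idx] at this
    omega
  · obtain ⟨A, h3, h4⟩ := tor_out hK oz ⟨hl hv, klein_le_cent1 hV hz hv⟩ vE (hV.2 v hv)
    exact ⟨A, h3, fun e => absurd e vE, fun _ => h4⟩

theorem tors (hv : v ∈ V) (v1 : v ≠ 1) (hw : w ∈ V) (w1 : w ≠ 1) : ∃ A B, Tor E v A ∧ Tor E w B ∧
    ((v ∈ E ↔ w ∈ E) ∧ Nat.card A = Nat.card B ∨
      ¬ (v ∈ E ↔ w ∈ E) ∧ (Nat.card A).Coprime (Nat.card B)) := by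
  obtain ⟨k, ε, he, h3⟩ := tor1 h h2 hV hl
  obtain ⟨A, a1, a2, a3⟩ := h3 v hv v1
  obtain ⟨B, b1, b2, b3⟩ := h3 w hw w1
  have key : ∀ n : ℕ, (n : ℤ) = k + ε → n.Coprime k := fun n e => by
    rcases he with rfl | rfl
    · rw [show n = k + 1 by omega]
      simp
    · rw [show k = n + 1 by omega]
      simp
  refine ⟨A, B, a1, b1, ?_⟩
  by_cases vE : v ∈ E <;> by_cases wE : w ∈ E
  · exact .inl ⟨by simp [vE, wE], (a2 vE).trans (b2 wE).symm⟩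
  · exact .inr ⟨by simp [vE, wE], a2 vE ▸ (key _ (b3 wE)).symm⟩
  · exact .inr ⟨by simp [vE, wE], b2 wE ▸ key _ (a3 vE)⟩
  · exact .inl ⟨by simp [vE, wE], Nat.cast_injective ((a3 vE).trans (b3 wE).symm)⟩

/-- a four-group of `E` normalized by `V` -/
theorem exists_V1 (hz : z ∈ V) (zE : z ∈ E) (z1 : z ≠ 1) :
    ∃ T V1, Syl 2 T (X ⊓ 𝐂₁[z]) ∧ V ≤ T ∧ Klein V1 ∧ V1 ≤ T ⊓ E ∧ z ∈ V1 := by
  have oz := hV.orderOf hz z1
  obtain ⟨K, ε, hK⟩ := h2.lt z zE oz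
  obtain ⟨T, hT, hVT⟩ := Sylow_superset (le_inf hl (klein_le_cent1 hV hz)) hV.pgroup
  have hn : E ⊓ 𝐂₁[z] ⊴ X ⊓ 𝐂₁[z] := ⟨inf_le_inf_right _ h.nrm.le,
    normsI (inf_le_left.trans h.nrm.norm) (normsG inf_le_right)⟩
  have h3 := Sylow_setI_normal hn hT
  obtain ⟨s, hs, sK⟩ := SetLike.not_le_iff_exists.1 fun e : T ⊓ (E ⊓ 𝐂₁[z]) ≤ K => by
    have h4 := card_mul_relIndex hK.le
    rw [hK.idx, mul_comm 2] at h4
    exact h3.index ((Nat.eq_of_mul_eq_mul_left Nat.card_pos h4) ▸ indexgS _ e)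
  refine ⟨T, ⟪z⟫ ⊔ ⟪s⟫, hT, hVT, klein2 oz (orderOf_eq_prime ((sq s).trans (hK.inv s hs.2 sK).1)
    fun e => sK (e ▸ one_mem K)) (fun e => sK (e ▸ hK.tK)) (mem_cent1.1 hs.2.2).symm,
    sup_le (zpowers_le.2 ⟨hVT hz, zE⟩) (zpowers_le.2 ⟨hs.1, hs.2.1⟩), mem_sup_left (mem_zpowers z)⟩

variable (hF : StFrob.{u}) (hD : Dih G) (o : od X = ⊥)
include hF hD o

theorem sup_cent (hv : v ∈ V) (v1 : v ≠ 1) : X ≤ E ⊔ X ⊓ 𝐂₁[v] := by
  by_cases vE : v ∈ E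
  · exact sup_cent_in h vE (hV.orderOf hv v1)
  obtain ⟨z, hz, zE, z1⟩ := exists_in h hV hl
  have oz := hV.orderOf hz z1
  obtain ⟨T, V1, hT, hVT, k1, h1, z1'⟩ := exists_V1 h h2 hV hl hz zE z1
  have hp : PNil 2 (X ⊓ 𝐂₁[z]) := (pnil_cent hF hD oz).mono inf_le_right
  have hU := od_normal (X ⊓ 𝐂₁[z])
  have hT1 := h1.trans inf_le_left
  have hTX := hT.le.trans inf_le_left
  refine (sup_cent_in h zE oz).trans (sup_le le_sup_left ?_)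
  rw [← hp.ppCore_eq, ← Sylow_ppCore (P := T) (hp.ppCore_eq.symm ▸ hT)]
  refine sup_le ?_ ?_
  · refine (split2 (odd_od _) k1.pgroup ((hT1.trans hT.le).trans hU.norm)).ge.trans
      (sup_le_sup ((commgS _ (h1.trans inf_le_right)).trans
      (commg_subr.2 ((hU.le.trans inf_le_left).trans h.nrm.norm)))
      (le_inf (inf_le_left.trans (hU.le.trans inf_le_left)) ?_))
    have h3 := h2.kw V1 V k1 (hT1.trans hTX) hV.pgroup
      (le_inf hl (hVT.trans (klein_norm hD hT.pgroup k1 hT1)))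
    rw [o, le_bot_iff, commG1P] at h3
    exact ((odd_le_od (hp.mono (inf_le_inf_left _ (cent_le_cent1 z1')))
      (inf_le_inf_right _ (hU.le.trans inf_le_left)) (oddSg inf_le_left (odd_od _))).trans h3).trans
      (cent_le_cent1 hv)
  · have h3 : V1 < V1 ⊔ V := left_lt_sup.2 fun e => vE ((e.trans h1) hv).2
    have h4 : Nat.card T ≤ Nat.card ↥(V1 ⊔ V) := by
      obtain ⟨k, hk⟩ := card_dvd_of_le h3.le
      have h5 : Nat.card V1 ≠ Nat.card ↥(V1 ⊔ V) := fun e => h3.ne (card_eq_of_le h3.le e.ge)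
      have h6 := card_le8 hD hT.pgroup
      have h7 : 0 < Nat.card ↥(V1 ⊔ V) := Nat.card_pos
      rw [k1.1] at hk h5
      omega
    exact (card_eq_of_le (sup_le hT1 hVT) h4).ge.trans (sup_le_sup (h1.trans inf_le_right)
      (le_inf hl (klein_le_cent1 hV hv)))

theorem comm_le : ⁅X, V⁆ ≤ E := commg_le_iff.2 fun x hx v hv => by
  by_cases v1 : v = 1
  · simp [v1]
  obtain ⟨e, he, c, hc, rfl⟩ := (mem_join_norm (inf_le_left.trans h.nrm.norm)).1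
    (sup_cent h h2 hV hl hF hD o hv v1 hx)
  have := mul_mem he (h.nrm.conj_mem (hl hv) (inv_mem he))
  rwa [show e * c * v * (e * c)⁻¹ * v⁻¹ = e * (c * v * c⁻¹ * e⁻¹ * v⁻¹) by group,
    mem_cent1.1 hc.2, mul_inv_cancel_right]

theorem cent_of_TI (hY : Y ≤ X) (ho : Odd (Nat.card Y)) (hn : V ≤ 𝐍[Y]) (hi : Y ⊓ E ≤ 𝐂₁[v])
    (hv : v ∈ V) : Y ≤ 𝐂₁[v] :=
  (split2 ho hV.pgroup hn).ge.trans (sup_le ((le_inf (commg_subl.2 hn)
    ((commSg _ hY).trans (comm_le h h2 hV hl hF hD o))).trans hi) (inf_le_right.trans (cent_le_cent1 hv)))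

theorem sig2_0 [Fact r.Prime] (r2 : r ≠ 2) (hY : InvP X V r Y) : ∃ v ∈ V, v ≠ 1 ∧ Y ≤ 𝐂₁[v] := by
  have ho := odd_pgroup r2 hY.2.1
  by_cases h0 : Y ⊓ E = ⊥
  · obtain ⟨v, hv, v1⟩ := exists_ne_one hV.ne_bot
    exact ⟨v, hv, v1, cent_of_TI h h2 hV hl hF hD o hY.1 ho hY.2.2 (h0 ▸ bot_le) hv⟩
  have h3 := meet_center_nil (pgroup_nil hY.2.1) (normalGI hY.1 h.nrm) h0
  have hZ : Odd (Nat.card ↥(Y ⊓ E ⊓ 𝐙[Y])) := oddSg (inf_le_left.trans inf_le_left) ho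
  obtain ⟨v, hv, v1, h4⟩ := coprime_abelian_exists_cent1 hV.ab hV.not_cyclic
    (normsI (normsI hY.2.2 (hl.trans h.nrm.norm)) (norms_center hY.2.2)) (cop2 hZ hV.pgroup)
    (mt le_bot_iff.1 h3)
  obtain ⟨x, hx, x1⟩ := exists_ne_one (mt eq_bot_iff.1 h4)
  obtain ⟨A, -, hA, -⟩ := tors h h2 hV hl hv v1 hv v1
  have ox := odd_mem hZ hx.1
  refine ⟨v, hv, v1, cent_of_TI h h2 hV hl hF hD o hY.1 ho hY.2.2 (le_trans ?_ hA.le) hv⟩
  rw [← hA.cent x (hA.mem x ⟨hx.1.1.2, hx.2⟩ ox) ox x1]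
  exact le_inf inf_le_right (inf_le_left.trans (le_cent1.2 hx.1.2.2))

theorem sig2_2 [hr : Fact r.Prime] (r2 : r ≠ 2) (hY : InvP X V r Y) (hY' : InvP X V r Y') :
    ∃ n ∈ X ⊓ 𝐍[V], ∃ v ∈ V, v ≠ 1 ∧ n •ᶜ Y ≤ 𝐂₁[v] ∧ Y' ≤ 𝐂₁[v] := by
  obtain ⟨v, hv, v1, h3⟩ := sig2_0 h h2 hV hl hF hD o r2 hY
  obtain ⟨w, hw, w1, h4⟩ := sig2_0 h h2 hV hl hF hD o r2 hY'
  have key : ∀ n ∈ X ⊓ 𝐍[V], n * v * n⁻¹ = w → ∃ n ∈ X ⊓ 𝐍[V], ∃ v ∈ V, v ≠ 1 ∧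
      n •ᶜ Y ≤ 𝐂₁[v] ∧ Y' ≤ 𝐂₁[v] := fun n hn e =>
    ⟨n, hn, w, hw, w1, e ▸ cent1_conj n v ▸ conj_le_conj.2 h3, h4⟩
  by_cases vw : v = w
  · exact key 1 (one_mem _) (by simp [vw])
  obtain ⟨A, B, hA, hB, ⟨h5, -⟩ | ⟨-, h5⟩⟩ := tors h h2 hV hl hv v1 hw w1
  · by_cases vE : v ∈ E
    · obtain ⟨n, hn, e⟩ := h.fus V hV ((hV.gen hv hw v1 w1 vw).le.trans
        (sup_le (zpowers_le.2 (h5.1 vE)) (zpowers_le.2 vE))) v hv w hw v1 w1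
      exact key n ⟨h.nrm.le hn.1, hn.2⟩ e
    obtain ⟨z, hz, zE, z1⟩ := exists_in h hV hl
    obtain ⟨T, V1, hT, hVT, k1, h1, z1'⟩ := exists_V1 h h2 hV hl hz zE z1
    have zv : z ≠ v := fun e => vE (e ▸ zE)
    obtain ⟨s, hs, h6⟩ := SetLike.not_le_iff_exists.1 fun e : V1 ≤ 𝐂₁[v] => vE ((h1.trans
      inf_le_right) ((card_eq_of_le ((le_inf (h1.trans inf_le_left) (by
        rw [hV.gen hz hv z1 v1 zv, centY, cent_cycle, cent_cycle]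
        exact le_inf e (klein_le_cent1 k1 z1'))).trans (klein_cent hD hT.pgroup hV hVT))
        (hV.1.trans k1.1.symm).le).ge hv))
    have sN := klein_norm hD hT.pgroup hV hVT (h1 hs).1
    have sz := mem_cent1.1 (hT.le (h1 hs).1).2
    refine key s ⟨(hT.le (h1 hs).1).1, sN⟩ ?_
    have h7 : w = v * z := by
      rcases klein_cases hV hz hv z1 v1 zv hw with e | e | e | e
      exacts [absurd e w1, absurd (h5.2 (e ▸ zE)) vE, absurd e.symm vw, e]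
    rcases klein_cases hV hz hv z1 v1 zv ((memJ_norm sN).2 hv) with e | e | e | e
    · exact absurd (conj_eq_one_iff.1 e) v1
    · exact absurd (mul_left_cancel ((mul_inv_eq_iff_eq_mul.1 e).trans sz.symm)).symm zv
    · exact absurd (mem_cent1.2 (mul_inv_eq_iff_eq_mul.1 e)) h6
    · exact e.trans h7.symm
  have dv : ∀ {Y A : Subgroup G} {v : G}, InvP X V r Y → Tor E v A → Y ≤ 𝐂₁[v] → Y ⊓ E ≠ ⊥ →
      r ∣ Nat.card A := fun hY hA h3 h0 => by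
    obtain ⟨x, hx, ox⟩ := exists_order_p (hY.2.1.to_le inf_le_left) h0
    exact ox ▸ orderOf_dvd_natCard _ (hA.mem x ⟨hx.2, h3 hx.1⟩ (ox ▸ hr.out.odd_of_ne_two r2))
  by_cases h0 : Y ⊓ E = ⊥
  · exact ⟨1, one_mem _, w, hw, w1, (one_conj Y).le.trans (cent_of_TI h h2 hV hl hF hD o hY.1
      (odd_pgroup r2 hY.2.1) hY.2.2 (h0 ▸ bot_le) hw), h4⟩
  by_cases h0' : Y' ⊓ E = ⊥
  · exact ⟨1, one_mem _, v, hv, v1, (one_conj Y).le.trans h3, cent_of_TI h h2 hV hl hF hD o hY'.1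
      (odd_pgroup r2 hY'.2.1) hY'.2.2 (h0' ▸ bot_le) hv⟩
  exact absurd (Nat.eq_one_of_dvd_coprimes h5 (dv hY hA h3 h0) (dv hY' hB h4 h0')) hr.out.ne_one

theorem l1_2 [hr : Fact r.Prime] (r2 : r ≠ 2) (ht : t ∈ V) (t1 : t ≠ 1) (hY : Y ≤ X)
    (hp : IsPGroup r Y) (hn : X ⊓ 𝐂₁[t] ≤ 𝐍[Y]) (e : ⁅Y, ⟪t⟫⁆ = Y) : Y ≤ 𝐂₁[t] := by
  obtain ⟨v, hv, v1, h3⟩ := sig2_0 h h2 hV hl hF hD o r2
    ⟨hY, hp, (le_inf hl (klein_le_cent1 hV ht)).trans hn⟩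
  have h4 : Y ≤ E := e.ge.trans ((commgSS hY (zpowers_le.2 ht)).trans (comm_le h h2 hV hl hF hD o))
  by_cases h0 : Y = ⊥
  · exact h0 ▸ bot_le
  obtain ⟨x, hx, x1⟩ := exists_ne_one h0
  obtain ⟨A, B, hA, hB, h5⟩ := tors h h2 hV hl ht t1 hv v1
  have h6 : ∀ x ∈ Y, x ≠ 1 → E ⊓ 𝐂₁[x] = B := fun x hx x1 =>
    have ox := odd_mem (odd_pgroup r2 hp) hx
    hB.cent x (hB.mem x ⟨h4 hx, h3 hx⟩ ox) ox x1
  have h7 : E ⊓ 𝐂₁[t] ≤ E ⊓ 𝐂₁[v] := le_inf inf_le_left (le_trans (le_inf inf_le_left fun g hg => by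
    rw [← conj_eq_iff_mem_norm, ← h6 x hx x1, conj_inf, conj_eq_of_mem hg.1, ← cent1_conj, h6 x hx x1]
    exact h6 _ ((memJ_norm (hn ⟨h.nrm.le hg.1, hg.2⟩)).2 hx) (mt conj_eq_one_iff.1 x1)) hB.norm)
  rcases h5 with ⟨-, h5⟩ | ⟨-, h5⟩
  · exact ((le_inf h4 h3).trans (card_eq_of_le h7 (by rw [hA.card, hB.card, h5])).ge).trans
      inf_le_right
  · have := card_dvd_of_le h7
    rw [hA.card, hB.card] at this
    exact absurd (h5.eq_one_of_dvd (Nat.dvd_of_mul_dvd_mul_left two_pos this)) hA.one.ne'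

end two

theorem t3_eq (h : T3 X E) (o : od X = ⊥) : E = X := by simpa [o] using h.sup

section bar

variable (hF : StFrob.{u}) (hD : Dih G) (o : od X = ⊥)
  (h : Triv X ∨ ∃ E, ResF E X ∧ (T2 X E ∨ T3 X E)) [hr : Fact r.Prime] (r2 : r ≠ 2)
include hF hD o h r2

theorem sig0 (hV : Klein V) (hl : V ≤ X) (hY : InvP X V r Y) : ∃ v ∈ V, v ≠ 1 ∧ Y ≤ 𝐂₁[v] := by
  have ho := odd_pgroup r2 hY.2.1
  rcases h with h | ⟨E, h, h2 | h3⟩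
  · obtain ⟨v, hv, v1⟩ := exists_ne_one hV.ne_bot
    exact ⟨v, hv, v1, h V Y hV hl hY.1 ho hY.2.2 ▸ bot_le⟩
  · exact sig2_0 h h2 hV hl hF hD o r2 hY
  · obtain ⟨v, hv, v1, e⟩ := h3.sig V Y hV hl hY.1 ho hY.2.2
    rw [o, bot_sup_eq] at e
    exact ⟨v, hv, v1, e.trans ((od_normal _).le.trans inf_le_right)⟩

theorem sig2 (hV : Klein V) (hl : V ≤ X) (hY : InvP X V r Y) (hY' : InvP X V r Y') :
    ∃ n ∈ X ⊓ 𝐍[V], ∃ v ∈ V, v ≠ 1 ∧ n •ᶜ Y ≤ 𝐂₁[v] ∧ Y' ≤ 𝐂₁[v] := by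
  obtain ⟨v, hv, v1, h3⟩ := sig0 hF hD o h r2 hV hl hY
  obtain ⟨w, hw, w1, h4⟩ := sig0 hF hD o h r2 hV hl hY'
  rcases h with h | ⟨E, h, h2 | h5⟩
  · exact ⟨1, one_mem _, v, hv, v1, (one_conj Y).le.trans h3,
      h V Y' hV hl hY'.1 (odd_pgroup r2 hY'.2.1) hY'.2.2 ▸ bot_le⟩
  · exact sig2_2 h h2 hV hl hF hD o r2 hY hY'
  · obtain ⟨n, hn, e⟩ := h.fus V hV (hl.trans (t3_eq h5 o).ge) v hv w hw v1 w1
    exact ⟨n, ⟨h.nrm.le hn.1, hn.2⟩, w, hw, w1, e ▸ cent1_conj n v ▸ conj_le_conj.2 h3, h4⟩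

theorem l1_bar (ht : t ∈ X) (ot : orderOf t = 2) (hY : Y ≤ X) (hp : IsPGroup r Y)
    (hn : X ⊓ 𝐂₁[t] ≤ 𝐍[Y]) (e : ⁅Y, ⟪t⟫⁆ = Y) : Y = ⊥ := by
  have ho := odd_pgroup r2 hp
  have t1 : t ≠ 1 := fun e => by simp [e] at ot
  obtain ⟨T, hT, tT⟩ := Sylow_superset (zpowers_le.2 ht) (prime_pgroup ((Nat.card_zpowers t).trans ot))
  rcases exists_klein_mem hD hT.pgroup (zpowers_le.1 tT)
    ((sq t).symm.trans (ot ▸ pow_orderOf_eq_one t)) with hc | ⟨V, hV, hl, tV⟩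
  · exact eq_bot_iff.2 (o ▸ odd_le_od (cyclic_Sylow_pNil hT hc (by simp)) hY ho)
  replace hl := hl.trans hT.le
  rw [← e, commG1P, cent_cycle]
  rcases h with h | ⟨E, h, h2 | h3⟩
  · exact h V Y hV hl hY ho ((le_inf hl (klein_le_cent1 hV tV)).trans hn) ▸ bot_le
  · exact l1_2 h h2 hV hl hF hD o r2 tV t1 hY hp hn e
  obtain rfl := t3_eq h3 o
  obtain ⟨V, hV, tV, hl, h4⟩ := h3.v1 t ht ot
  obtain ⟨c, hc, oc, -⟩ := h3.ex3 t ht ot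
  have h5 : Nat.card ⟪c⟫ = 3 := (Nat.card_zpowers c).trans oc
  have h6 : Odd (Nat.card ⟪c⟫) := h5 ▸ by decide
  obtain ⟨v, hv, v1, h7⟩ := h3.sig V Y hV hl hY ho ((le_inf hl (klein_le_cent1 hV tV)).trans hn)
  rw [o, bot_sup_eq] at h7
  have h8 := h3.three v (hl hv) (hV.orderOf hv v1) (Y ⊔ ⟪c⟫) (sup_le (h7.trans (od_normal _).le)
    (le_inf (zpowers_le.2 hc.1) ((h4 _ (zpowers_le.2 hc) h6).trans (cent_le_cent1 hv))))
    (odd_sup ho h6 ((zpowers_le.2 hc).trans hn))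
  rw [o, relIndex_bot_left] at h8
  exact (le_sup_left.trans (card_eq_of_le le_sup_right
    ((Nat.le_of_dvd three_pos h8).trans h5.ge)).ge).trans (zpowers_le.2 hc.2)

theorem kw_bar (hV : Klein V) (hl : V ≤ X) (ox : orderOf x = r) (hx : x ∈ X ⊓ 𝐂[V])
    (hs : s ∈ X ⊓ 𝐍[V]) (s2 : s * s = 1) (e : s * x * s = x⁻¹) : r = 3 := by
  have h1 : Nat.card ⟪x⟫ = r := (Nat.card_zpowers x).trans ox
  have ho : Odd (Nat.card ⟪x⟫) := h1 ▸ hr.out.odd_of_ne_two r2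
  obtain ⟨v, hv, v1⟩ := exists_ne_one hV.ne_bot
  rcases h with h | ⟨E, h, h2 | h3⟩
  · exact absurd (h V _ hV hl (zpowers_le.2 hx.1) ho (cents_norm (centsC.1 (zpowers_le.2 hx.2))))
      (ne_bot_of_prime (h1 ▸ hr.out))
  · have h3 := h2.kw V ⟪s⟫ hV hl (IsPGroup.of_card_dvd_pow (n := 1) (by
      simpa using orderOf_dvd_of_pow_eq_one ((sq s).trans s2))) (zpowers_le.2 hs)
    rw [o, le_bot_iff, commG1P, cent_cycle] at h3
    have h4 := mem_cent1.1 (h3 (odd_le_od ((pnil_cent hF hD (hV.orderOf hv v1)).mono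
      (inf_le_right.trans (cent_le_cent1 hv))) (zpowers_le.2 hx) ho (mem_zpowers x)))
    rw [← h4, mul_assoc, s2, mul_one] at e
    rw [eq_one_of_odd (odd_mem ho (mem_zpowers x)) (mul_eq_one_iff_eq_inv.2 e), orderOf_one] at ox
    exact absurd ox.symm hr.out.ne_one
  · obtain rfl := t3_eq h3 o
    have := h3.three v (hl hv) (hV.orderOf hv v1) _
      (zpowers_le.2 ⟨hx.1, cent_le_cent1 hv hx.2⟩) ho
    rw [o, relIndex_bot_left, h1] at this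
    exact (Nat.prime_dvd_prime_iff_eq hr.out Nat.prime_three).1 this

end bar

end Cfsg.GW.DL
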