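import Cfsg.Agent.GW.Base
import Cfsg.Agent.GW.Obs
import Cfsg.Agent.GW.DLb

/-!
# S4594 core: piece G2
-/

set_option autoImplicit false
set_option linter.unusedSectionVars false

namespace Cfsg.GW.G2

open Subgroup Cfsg.FT Cfsg.Gag Cfsg.Gag.Fin5
open scoped Pointwise

universe u

theorem perm15 {α : Type*} [Finite α] (h : Nat.card α = 7) (σ : Equiv.Perm α) :
    orderOf σ ≠ 15 := fun e => by
  classical
  have := Fintype.ofFinite α
  have h1 : σ.cycleType.sum ≤ 7 := by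
    rw [σ.sum_cycleType, ← h, Nat.card_eq_fintype_card]
    exact Finset.card_le_univ _
  have h2 : 15 ∣ σ.cycleType.prod :=
    e ▸ σ.lcm_cycleType ▸ Multiset.lcm_dvd.2 fun b hb => Multiset.dvd_prod hb
  obtain ⟨a, ha, a3⟩ := Nat.prime_three.prime.exists_mem_multiset_dvd ((by decide : 3 ∣ 15).trans h2)
  obtain ⟨b, hb, b5⟩ := Nat.prime_five.prime.exists_mem_multiset_dvd ((by decide : 5 ∣ 15).trans h2)
  have h3 := Equiv.Perm.two_le_of_mem_cycleType ha
  have h4 := Equiv.Perm.two_le_of_mem_cycleType hb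
  rw [← Multiset.cons_erase ha, Multiset.sum_cons] at h1
  by_cases ab : b = a
  · omega
  · have := Multiset.le_sum_of_mem ((Multiset.mem_erase_of_ne ab).2 hb)
    omega

theorem num {κ N j u d : ℕ} {ε y a b : ℤ} (hk : Odd κ) (he : ε = 1 ∨ ε = -1) (h1 : 1 < 2 * κ + ε)
    (hj : (j : ℤ) = (4 * κ + ε) * (2 * κ + ε)) (hu : κ ≤ u) (hN : u * 8 * (j * N) ≤ N.factorial)
    (N0 : 0 < N) (hd : Odd d) (h : Num.OD (j * N : ℕ) κ (d * κ) y a b) :
    κ = 1 ∧ j = 15 ∧ N = 7 ∧ d = 3 := by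
  have k0 := hk.pos
  have h2 : κ = 1 ∧ j = 15 ∨ 3 ≤ κ ∧ 6 * κ ^ 2 < j := by
    obtain ⟨m, rfl⟩ := hk
    rcases m with _ | m
    · rcases he with rfl | rfl
      · exact .inl ⟨rfl, by exact_mod_cast hj⟩
      · simp at h1
    · refine .inr ⟨by omega, ?_⟩
      zify
      rcases he with rfl | rfl <;> push_cast at hj <;> nlinarith
  have hc : IsCoprime (j : ℤ) (κ ^ 2) := IsCoprime.pow_right ⟨1, -(8 * κ + 6 * ε), by
    rcases he with rfl | rfl <;> rw [hj] <;> ring⟩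
  have key : ∀ m : ℕ, m = 105 ∨ m = 189 → ((j * N : ℕ) : ℤ) = m * κ ^ 2 →
      κ = 1 ∧ j = 15 ∧ j * N = 105 := fun m hm e => by
    have h3 : j ∣ m := Int.natCast_dvd_natCast.1 (hc.dvd_of_dvd_mul_right (e ▸ ⟨N, by push_cast; rfl⟩))
    rcases h2 with ⟨rfl, rfl⟩ | ⟨h4, h5⟩
    · exact ⟨rfl, rfl, by omega⟩
    · have h6 : j ≤ 189 := (Nat.le_of_dvd (by omega) h3).trans (by omega)
      have h7 : κ ≤ 5 := by nlinarith
      exfalso
      interval_cases κ <;> rcases he with rfl | rfl <;> rcases hm with rfl | rfl <;>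
        norm_num at hj <;> norm_cast at hj <;> subst hj <;> revert h3 <;> decide
  rcases h.odd_ratio (by exact_mod_cast k0) (by exact_mod_cast hd.pos) (by exact_mod_cast hd) with
    e | ⟨e, -, e'⟩ | ⟨-, -, e'⟩
  · have h3 := h.upper (by exact_mod_cast k0) (by rw [e]; positivity)
    rw [e] at h3
    have h4 : j * N ≤ 45 * κ ^ 2 := by zify at h3 ⊢; nlinarith
    exfalso
    rcases h2 with ⟨rfl, rfl⟩ | ⟨h5, h6⟩
    · have : N ≤ 3 := by omega
      interval_cases N <;> simp [Nat.factorial] at hN <;> omega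
    · have : N ≤ 7 := by nlinarith
      have h7 : 1320 * N ≤ N.factorial := le_trans (by
        have : 55 ≤ j := by nlinarith
        calc 1320 * N = 3 * 8 * (55 * N) := by ring
          _ ≤ _ := by gcongr; omega) hN
      interval_cases N <;> simp [Nat.factorial] at h7
  · obtain ⟨rfl, rfl, h3⟩ := key 105 (.inl rfl) e'
    exact ⟨rfl, rfl, by omega, by exact_mod_cast e⟩
  · obtain ⟨rfl, rfl, h3⟩ := key 189 (.inr rfl) e'
    rw [h3] at e'
    norm_num at e'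

variable {G : Type u} [Group G] [Finite G] {S A E L U C : Subgroup G} {t f x : G}

theorem relIndex_eq (hL : L ⊴ U) (h : L ⊓ C = ⊥) :
    C.relIndex U = (L ⊔ U ⊓ C).relIndex U * Nat.card L := by
  have h1 := sdprod_card (⟨rfl, eq_bot_iff.2 (h ▸ inf_le_inf_left _ inf_le_right),
    inf_le_left.trans hL.2⟩ : SDProd L (U ⊓ C) _)
  have h2 := card_mul_relIndex (sup_le hL.1 inf_le_left : L ⊔ U ⊓ C ≤ U)
  have h3 := card_inf_mul_relIndex C U
  rw [inf_comm, ← h2, ← h1] at h3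
  exact Nat.eq_of_mul_eq_mul_left (Nat.card_pos (α := ↥(U ⊓ C))) (by rw [h3]; ring)

variable [IsSimpleGroup G]

theorem main (hD : StOD.{u}) (c : Ctx S t) (hA : A ≠ ⊤) (hl : 𝐂₁[t] ≤ A) (r : ResF E A)
    (hE : E ≤ 𝐂[od A]) (t2 : T2 A E) (h : D8 S f x) (e : f ^ 2 = t)
    (hV : ¬ ⟪f ^ 2⟫ ⊔ ⟪x⟫ ≤ E) : False := by
  subst e
  have h' := d8_swap h
  have SA := c.cen.trans hl
  have hP := Sylow_setI_normal r.nrm (c.syl.subl SA le_top)
  have tE : f ^ 2 ∈ E := by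
    obtain ⟨y, hy, y1⟩ := (Subgroup.bot_or_exists_ne_one _).resolve_left (meet_center_nil
      (pgroup_nil c.S2) (normalGI SA r.nrm) fun e => r.meet _ (d8_klein h) ((d8_TA h).trans SA)
        (eq_bot_iff.2 (e ▸ inf_le_inf_right _ (d8_TA h))))
    exact (Fr.d8_center h hy.1.1 hy.2.2).resolve_left y1 ▸ hy.1.2
  have xE : x ∉ E := fun hx => hV (sup_le (zpowers_le.2 tE) (zpowers_le.2 hx))
  obtain ⟨K, ε, l⟩ := t2.lt _ tE c.ot
  have K0 : 0 < Nat.card K := Nat.card_pos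
  have sE : x * f ∈ E := by
    obtain ⟨s, hs, sK⟩ := SetLike.not_le_iff_exists.1 fun e : E ⊓ 𝐂₁[f ^ 2] ≤ K => by
      have := card_le_of_le e
      rw [l.idx] at this
      omega
    have hW := klein_pair c.ot (orderOf_eq_prime (x := s) (by rw [pow_two, (l.inv s hs sK).1])
      fun e => sK (e ▸ one_mem _)) hs.2 fun e => sK (e ▸ l.tK)
    obtain ⟨g, -, hg⟩ := Sylow_Jsub hP (sup_le (zpowers_le.2 tE) (zpowers_le.2 hs.1)) hW.pgroup
    exact ((d8_klein_eq h (Fin5.klein_conj hW g) (hg.trans inf_le_left)).resolve_left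
      fun e => hV (e.ge.trans (hg.trans inf_le_right))).ge.trans (hg.trans inf_le_right) d8_xT
  have K4 : ¬ 4 ∣ Nat.card K := fun h4 => by
    have h8 : 8 ∣ Nat.card E := (l.idx ▸ Nat.mul_dvd_mul_left 2 h4 :
      8 ∣ Nat.card ↥(E ⊓ 𝐂₁[f ^ 2])).trans (card_dvd_of_le inf_le_left)
    rw [← card_mul_relIndex hP.le] at h8
    exact xE ((eq_of_le_of_card_ge inf_le_left (h.card ▸ Nat.le_of_dvd Nat.card_pos
      (Nat.Coprime.dvd_of_dvd_mul_right (Nat.Coprime.pow_left 3 ((Nat.Prime.coprime_iff_not_dvd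
        Nat.prime_two).2 hP.index)) h8))).ge (d8_xA h)).2
  have ab := cyclic_abelian l.cyc
  have hK : Nat.card K = 2 * Nat.card (od K) := by
    obtain ⟨k, hk⟩ := (piNat_singleton (relIndex_pos _ _).ne').1
      (PNil.index (nilpotent_pcore_Hall _ (abelian_nil ab) : PNil 2 K))
    have h1 := card_mul_relIndex (pcore_sub {2}ᶜ K)
    have h2 := DL.lt_even l c.ot
    rw [hk] at h1
    rcases k with _ | _ | k
    · exact absurd (h1 ▸ h2) (by simpa using (od_odd K).not_two_dvd_nat)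
    · rw [← h1, mul_comm]; rfl
    · exact absurd (h1 ▸ Dvd.dvd.mul_left ⟨2 ^ k, by ring⟩ _) K4
  have hL : oc (f ^ 2) ⊓ E = od K := by
    have ho := oddSg (inf_le_left (b := E)) (oc_odd (f ^ 2))
    have h1 := l.odd_le (le_inf inf_le_right (inf_le_left.trans (oc_le _))) ho
    have h2 := (pcore_sub {2}ᶜ K).trans l.le
    exact le_antisymm (le_od ho (sub_abelian_normal ab h1))
      (le_inf (c.odd_le c.ot (h2.trans inf_le_right) (od_odd K)) (h2.trans inf_le_left))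
  have UA := (oc_le _).trans hl
  have hn : od K ⊴ oc (f ^ 2) := hL ▸ normalGI UA r.nrm
  have ti : ∀ s : G, s * s = 1 → (∀ y ∈ K, s * y * s = y⁻¹) → od K ⊓ 𝐂₁[s] = ⊥ := fun s s2 hs =>
    eq_bot_iff.2 fun y hy => mem_bot.2 (eq_one_of_sq (od_odd K) hy.1 (by
      have := hs y (pcore_sub _ K hy.1)
      rw [← mem_cent1.1 hy.2, mul_assoc, s2, mul_one] at this
      exact mul_eq_one_iff_eq_inv.2 this))
  obtain ⟨xi, B, -, hB, B1, -⟩ := l.out x ⟨SA (d8_xA h), c.cen (d8_xA h)⟩ xE (inv_sq h.ox)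
  have k1 := relIndex_eq hn (ti _ (inv_sq h'.ox) (l.inv _ ⟨sE, c.cen (d8_xA h')⟩ (l.not_mem c.ot
    h'.ox (c.cen (d8_xA h')) fun e => d8_x_notin h' (e ▸ mem_zpowers _))).2)
  have k2 := relIndex_eq hn (ti _ (inv_sq h.ox) xi)
  have sU := zpowers_le.2 (c.SU (d8_xA h'))
  rw [relIndex_eq_one.2 ((coprime_cent_prod sU (cop_inv (oc_odd _) h'.ox) (.inl c.U_sol)).ge.trans
    (sup_le_sup (hL ▸ commg_subI (le_inf le_rfl (UA.trans r.nrm.2)) (le_inf (zpowers_le.2 sE) sU))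
      (inf_le_inf_left _ (cent_cycle _).le))), one_mul] at k1
  have i1 : ii (f ^ 2) = 𝐂₁[f ^ 2].relIndex E * A.index := by
    rw [← (mulEq_of_sup (hl.trans r.nrm.2) (le_antisymm (sup_le r.nrm.1 hl) ((DL.sup_cent_in r tE
      c.ot).trans (sup_le_sup_left inf_le_right _)))).symm.relIndex_eq, relIndex_mul_index hl]
  have hj : (𝐂₁[f ^ 2].relIndex E : ℤ) =
      (4 * Nat.card (od K) + ε) * (2 * Nat.card (od K) + ε) := by
    have h1 := l.card
    rw [← card_inf_mul_relIndex 𝐂₁[f ^ 2] E, inf_comm, l.idx, Nat.cast_mul, Nat.cast_mul, mul_assoc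
      (2 * _ : ℤ)] at h1
    rw [mul_left_cancel₀ (by positivity) h1, hK]
    push_cast
    ring
  have hG := Fr.card_le_fact hA
  rw [← card_mul_index 𝐂₁[f ^ 2], ← sdprod_card ⟨c.sup, odd_inf_two (oc_odd _) c.S2, c.SU⟩, h.card,
    show 𝐂₁[f ^ 2].index = _ from i1] at hG
  obtain ⟨y, a, b, e1, e2, e3, e4, e5, e6⟩ := hD G S f x c.syl h c.conj
  have o := Num.OD.symm ⟨e1, e2, e3, e4, e5, e6⟩
  rw [i1, show kk _ (x * f) = _ from k1, show kk _ x = _ from k2, Nat.cast_mul _ (Nat.card _)] at o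
  obtain ⟨n1, n2, n3, n4⟩ := num (od_odd K) l.eps (by rw [hK] at hB; push_cast at hB; omega) hj
    (card_le_of_le hn.1) hG (Nat.pos_of_ne_zero index_ne_zero_of_finite)
    ((oc_odd _).of_dvd_nat (FT.relIndex_dvd_card _ _)) o
  have := Fact.mk Nat.prime_three
  have := Fact.mk Nat.prime_five
  obtain ⟨⟨u, hu⟩, ou⟩ := exists_prime_orderOf_dvd_card' (G := oc (f ^ 2)) 3
    (n4 ▸ FT.relIndex_dvd_card _ _)
  obtain ⟨⟨v, hv⟩, ov⟩ := exists_prime_orderOf_dvd_card' (G := E) 5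
    ((by rw [n2]; decide : 5 ∣ _).trans (FT.relIndex_dvd_card 𝐂₁[f ^ 2] E))
  rw [orderOf_mk] at ou ov
  have h5 : Commute u v := mem_cent.1 (hE hv) u (l.small (IsPGroup.of_card (n := 1) (by
    rw [hK, n1]; rfl)) _ (le_inf UA (oc_le _)) (oc_odd _) hu)
  refine perm15 ((index_eq_card A).symm.trans n3) (MulAction.toPermHom G (G ⧸ A) (u * v)) ?_
  rw [orderOf_injective _ ((MonoidHom.ker_eq_bot_iff _).1 (normalCore_eq_ker A ▸
    A.normalCore_normal.eq_bot_or_eq_top.resolve_right fun e =>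
      hA (top_le_iff.1 (e.ge.trans A.normalCore_le)))),
    h5.orderOf_mul_eq_mul_orderOf_of_coprime (by rw [ou, ov]; decide), ou, ov]

theorem _root_.Cfsg.GW.stG2 (hC : StComp.{u}) (hD : StOD.{u}) : StG2.{u} := by
  intro G _ _ _ S A t c hA hl hs ho
  obtain ⟨E, r⟩ := Fr.res c.dih hs
  have hE := r.le_cent (pcore_normal _ A).2 (hl (cent1id t)) (le_cent1.1 ho) c.ot
  obtain ⟨V, hV, VS, hf⟩ := c.i1 A hA.1 hl
  have VE : ¬ V ≤ E := fun e => hf ((r.fus V hV e).mono r.nrm.1)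
  have SA := c.cen.trans hl
  have hP := Sylow_setI_normal r.nrm (c.syl.subl SA le_top)
  have n8 : ¬ ∃ (D : Subgroup G) (f x : G), D ≤ E ∧ D8 D f x := fun ⟨D, f, x, h1, h2⟩ =>
    VE (VS.trans ((eq_of_le_of_card_ge inf_le_left ((Fr.card_le8 c.dih c.S2).trans (h2.card ▸
      (hP.card_eq (Fr.d8_syl c.dih h2 h1)).ge))).ge.trans inf_le_right))
  have t2 := ((hC G A E (c.dg hA.1) r hE).resolve_left fun h => n8 h.d8).resolve_right
    fun h => n8 h.d8
  rcases c.shape with h | ⟨f, x, h, e⟩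
  · obtain rfl := eq_of_le_of_card_ge VS (by rw [h.1, hV.1])
    rcases Fr.syl_shape c.dih r.not_sol hP with h1 | ⟨f, x, h1⟩
    exacts [VE ((eq_of_le_of_card_ge inf_le_left (by rw [h.1, h1.1])).ge.trans inf_le_right),
      n8 ⟨_, f, x, inf_le_right, h1⟩]
  rcases d8_klein_eq h hV VS with rfl | rfl
  exacts [main hD c hA.1 hl r hE t2 h e VE, main hD c hA.1 hl r hE t2 (d8_swap h) e VE]

end Cfsg.GW.G2
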