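import Cfsg.Agent.GW.GBc
import Cfsg.Agent.GW.BSWb

/-! The Brauer-Suzuki-Wall order formula modulo `N` (piece `StGB`). -/

set_option autoImplicit false
set_option linter.style.haveILetI false
set_option linter.unusedSectionVars false

namespace Cfsg.GW

open Subgroup Cfsg.FT Cfsg.Gag Cfsg.GW.DL
open scoped ComplexConjugate

universe u

variable {G : Type u} [Group G] {H N A : Subgroup G} {t σ : G}

theorem ite_le_four {p q r s u v : Prop} [Decidable p] [Decidable q] [Decidable r] [Decidable s]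
    [Decidable u] [Decidable v] {z : ℤ} (h : (1 - if p then 1 else 0) - ((if q then 1 else 0) - 1) +
      (((if r then 1 else 0) - if s then 1 else 0) - ((if u then 1 else 0) - if v then 1 else 0)) =
        (z : ℂ)) : z ≤ 4 := by
  have : (1 - if p then 1 else 0) - ((if q then 1 else 0) - 1) + (((if r then 1 else 0) -
      if s then 1 else 0) - ((if u then 1 else 0) - if v then 1 else 0)) = z :=
    Int.cast_injective (α := ℂ) (by push_cast; exact h)
  split_ifs at this <;> omega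

set_option maxHeartbeats 1000000 in
open Classical in
theorem GB.main [Finite G] [IsSimpleGroup G] (h : GB H N A t σ) {L : Type u} [CommGroup L] [Fintype L]
    (ev : L → H →* ℂˣ) (hmul : ∀ l m x, ev (l * m) x = ev l x * ev m x) (hinj : Function.Injective ev)
    (hk : ∀ l (x : H), x.1 ∈ N → ev l x = 1) (hreg : ∀ x : H, x.1 ∉ N → ∑ l, (ev l x : ℂ) = 0)
    (hq : Nat.card L = N.relIndex H) : ∃ X D : ℤ, 1 + X + 2 * D = 0 ∧ (Nat.card L : ℤ) ∣ X - 1 ∧
      (Nat.card ⟪σ⟫ : ℤ) ∣ D + 1 ∧ 2 ≤ |D| ∧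
      1 + (X : ℚ)⁻¹ + 2 * (D : ℚ)⁻¹ = 2 * (GB.J H t).ncard ^ 2 / 𝐂₁[t].index := by
  have := Fintype.ofFinite G
  have := Fintype.ofFinite H
  obtain ⟨s, hsC, sH⟩ := h.exists_s
  obtain ⟨M, hM⟩ := exists_isPModular Nat.prime_two
  have hH : (Nat.card H : ℂ) ≠ 0 := Nat.cast_ne_zero.2 Nat.card_pos.ne'
  set t' : H := ⟨t, h.tH⟩
  have ht' : t'.1 ∉ N := h.not_mem h.ot.symm.dvd
  have hone : ev 1 = 1 := MonoidHom.ext fun x =>
    mul_eq_left.1 ((hmul 1 1 x).symm.trans (by rw [mul_one]))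
  have hinv : ∀ l x, ev l⁻¹ x = (ev l x)⁻¹ := fun l x =>
    eq_inv_of_mul_eq_one_left (by rw [← hmul, inv_mul_cancel, hone]; rfl)
  have hsq : ∀ l, l * l = 1 → ev l * ev l = 1 := fun l hl =>
    MonoidHom.ext fun x => (hmul l l x).symm.trans (by rw [hl, hone])
  obtain ⟨μ, hμ, hμ'⟩ : ∃ μ : L, μ ≠ 1 ∧ ∀ l, l * l = 1 ↔ l = 1 ∨ l = μ := by
    obtain ⟨μ, hμ⟩ := exists_prime_orderOf_dvd_card' (G := L) 2
      (hq ▸ (Nat.prime_two.dvd_mul.1 (card_mul_relIndex h.NH ▸ h.ot ▸
        orderOf_dvd_natCard H h.tH)).resolve_left h.odd.not_two_dvd_nat)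
    have h2 : μ * μ = 1 := by rw [← sq, ← hμ, pow_orderOf_eq_one]
    have h3 : ∀ l : L, l * l = 1 → ev l ⟨σ, h.σH⟩ = 1 → l = 1 := fun l hl e =>
      hinj ((h.hom_eq_one (hsq l hl) e).trans hone.symm)
    have h4 : ∀ l : L, l * l = 1 → l ≠ 1 → ev l ⟨σ, h.σH⟩ = -1 := fun l hl e =>
      (mul_self_eq_one_iff.1 (congrArg Units.val (DFunLike.congr_fun (hsq l hl) _))).elim
        (fun e' => absurd (h3 l hl (Units.ext e')) e) fun e' => Units.ext e'
    have h5 : μ ≠ 1 := fun e => by simp [e] at hμ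
    refine ⟨μ, h5, fun l => ⟨fun e => or_iff_not_imp_left.2 fun e' => ?_, ?_⟩⟩
    · rw [← mul_one l, ← h2, ← mul_assoc, h3 (l * μ) (by rw [mul_mul_mul_comm, e, h2, mul_one])
        (by rw [hmul, h4 l e e', h4 μ h2 h5]; simp), one_mul]
    · rintro (rfl | rfl)
      exacts [mul_one _, h2]
  set T := Finset.univ.filter fun l : L => ¬ l * l = 1 with hT
  have hT' : ∀ l, l ∈ T ↔ l ≠ 1 ∧ l ≠ μ := fun l => by simp [hT, hμ']
  have hsum : ∀ {M : Type} [AddCommMonoid M] (F : L → M),
      ∑ l, F l = F 1 + F μ + ∑ l ∈ T, F l := fun F => by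
    rw [← Finset.sum_filter_add_sum_filter_not _ fun l => l * l = 1, ← Finset.sum_pair hμ.symm]
    congr 2
    ext l; simp [hμ']
  have hμμ : μ⁻¹ = μ := inv_eq_of_mul_eq_one_right ((hμ' μ).2 (Or.inr rfl))
  have hTi : ∀ l ∈ T, l⁻¹ ∈ T ∧ l⁻¹ ≠ l := fun l hl => by
    simp only [hT, Finset.mem_filter, Finset.mem_univ, true_and] at hl ⊢
    exact ⟨fun e => hl (inv_eq_one.1 ((mul_inv l l).trans e)),
      fun e => hl (by nth_rw 1 [← e]; exact inv_mul_cancel l)⟩
  have hcard : Nat.card L = 2 + T.card := by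
    have := hsum fun _ => (1 : ℕ)
    rwa [Finset.sum_const, Finset.sum_const, smul_eq_mul, smul_eq_mul, mul_one, mul_one,
      Finset.card_univ, ← Nat.card_eq_fintype_card] at this
  set O := fun l : L => IrrCharacter.ofHom (ev l) with hO
  set o := fun l => (O l).1 with ho
  have hov : ∀ l x, o l x = ev l x := fun _ _ => rfl
  have ho1 : ∀ x, o 1 x = 1 := fun x => by simp [hov, hone]
  have hoo : ∀ l m, classInner (o l) (o m) = if l = m then 1 else 0 := fun l m => by
    simp only [ho, hO, IrrCharacter.classInner_eq, IrrCharacter.ofHom_injective.eq_iff, hinj.eq_iff]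
  replace hreg : ∀ x : H, x.1 ∉ N → ∑ l, o l x = 0 := hreg
  have hcj : ∀ l x, o l (h.cj hsC x) = o l⁻¹ x := fun l x => by
    have := hk l (h.cj hsC x * x) (h.inv s hsC sH x x.2)
    rw [map_mul, mul_eq_one_iff_eq_inv] at this
    rw [hov, hov, this, hinv]
  have havg : ∀ (f : H → ℂ) (x : H), (∀ y : H, (y⁻¹ * x).1 ∈ N → f y = f x) →
      ∑ l, classInner f (o l) * o l x = f x := fun f x hf => by
    have key : ∀ f : H → ℂ, ∑ l, classInner f (o l) * o l x =
        (Nat.card H : ℂ)⁻¹ * ∑ y, f y * ∑ l, o l (y⁻¹ * x) := fun f => by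
      simp only [classInner_def, Finset.mul_sum, Finset.sum_mul]
      rw [Finset.sum_comm]
      refine Finset.sum_congr rfl fun y _ => Finset.sum_congr rfl fun l _ => ?_
      simp only [hov, conj_unitsHom, map_mul, map_inv, Units.val_mul]
      ring
    have h1 := key (o 1)
    simp only [hoo, ite_mul, one_mul, zero_mul, Finset.sum_ite_eq, Finset.mem_univ, if_true,
      ho1] at h1
    rw [key, Finset.sum_congr rfl (g := fun y => f x * ∑ l, o l (y⁻¹ * x)) fun y _ => by
      by_cases hy : (y⁻¹ * x).1 ∈ N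
      · rw [hf y hy]
      · rw [hreg _ hy, mul_zero, mul_zero], ← Finset.mul_sum, mul_left_comm, ← h1, mul_one]
  choose n hn using fun (l : L) (χ : IrrCharacter G) =>
    (χ.isCharacter.res H).exists_classInner_eq_nat (O l).isCharacter
  replace hn : ∀ l χ, classInner (fun x : H => χ.1 x) (o l) = n l χ := hn
  set v : L → IrrCharacter G → ℤ := fun l χ => n 1 χ - n l χ with hv
  have h0 : ∀ l (x : H), x.1 ∈ N → (o 1 - o l) x = 0 := fun l x hx => by simp [hov, hk _ x hx]
  have hcl : ∀ l, IsClassFunction H (o 1 - o l) := fun l =>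
    (O 1).isClassFunction.sub (O l).isClassFunction
  have hv1 : ∀ l χ, classInner (o 1 - o l) (fun x : H => χ.1 x) = v l χ := fun l χ => by
    rw [← conj_classInner, classInner_sub_right, hn, hn]; simp [hv]
  have hv2 : ∀ l χ, classInner (indFun H (o 1 - o l)) χ.1 = v l χ := fun l χ => by
    rw [classInner_indFun_left _ _ χ.isClassFunction, hv1]
  have hin : ∀ (φ : H → ℂ) (u : IrrCharacter G → ℤ), (∀ x : H, x.1 ∈ N → φ x = 0) →
      (∀ χ, classInner (indFun H φ) χ.1 = u χ) → ∀ m, ((∑ χ, u χ * v m χ : ℤ) : ℂ) =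
        classInner φ (o 1 - o m) + classInner φ (o 1 - o m⁻¹) := fun φ u h1 h2 m => by
    have h3 := (indFun_isClassFunction H φ).classInner_eq_sum (indFun_isClassFunction H (o 1 - o m))
    rw [h.inner_ind hsC sH (hcl m) h1 (h0 m), show (fun x => (o 1 - o m) (h.cj hsC x)) =
      o 1 - o m⁻¹ from funext fun x => by simp [hcj]] at h3
    simp only [h2, hv2, map_intCast] at h3
    rw [h3]; push_cast; rfl
  have hvo : ∀ l, l ≠ 1 → v l (IrrCharacter.triv G) = 1 := fun l hl => by
    apply Int.cast_injective (α := ℂ)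
    rw [← hv1, show (fun x : H => (IrrCharacter.triv G).1 x) = o 1 from funext fun x => (ho1 x).symm, classInner_sub_left]
    simp [hoo, hl]
  set S := Finset.univ.erase (IrrCharacter.triv G) with hS
  have hS' : ∀ {M : Type} [AddCommMonoid M] (F : IrrCharacter G → M),
      ∑ χ, F χ = F (IrrCharacter.triv G) + ∑ χ ∈ S, F χ := fun F =>
    (Finset.add_sum_erase _ _ (Finset.mem_univ _)).symm
  have hVS : ∀ l m, l ≠ 1 → m ≠ 1 → ∑ χ ∈ S, v l χ * v m χ =
      1 + (if l = m then 1 else 0) + if l = m⁻¹ then 1 else 0 := fun l m hl hm => by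
    have h1 := hin _ _ (h0 l) (hv2 l) m
    simp only [classInner_sub_right, classInner_sub_left, hoo, hl, hm.symm,
      show ¬ 1 = m⁻¹ from fun e => hm (inv_eq_one.1 e.symm), if_true, if_false] at h1
    rw [hS', hvo l hl, hvo m hm] at h1
    apply Int.cast_injective (α := ℂ)
    push_cast at h1 ⊢
    linear_combination h1
  have hev : ∀ (φ : H → ℂ) (u : IrrCharacter G → ℤ), (∀ χ, classInner (indFun H φ) χ.1 = u χ) →
      ∀ g, indFun H φ g = u (.triv G) + ∑ χ ∈ S, u χ * χ.1 g := fun φ u h1 g => by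
    rw [(indFun_isClassFunction H φ).eq_sum_irr g, hS']
    simp [h1]
  have hdeg0 : ∀ (φ : H → ℂ) (u : IrrCharacter G → ℤ), (∀ x : H, x.1 ∈ N → φ x = 0) →
      (∀ χ, classInner (indFun H φ) χ.1 = u χ) →
      ∑ χ ∈ S, u χ * charDegree χ.1 = -u (.triv G) := fun φ u h1 h2 => by
    have h3 := hev φ u h2 1
    rw [indFun_one, h1 1 (one_mem N), mul_zero] at h3
    simp only [IrrCharacter.one_eq_charDegree] at h3
    have h4 : 0 = u (.triv G) + ∑ χ ∈ S, u χ * charDegree χ.1 := by exact_mod_cast h3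
    omega
  have hdeg : ∀ l, l ≠ 1 → ∑ χ ∈ S, v l χ * charDegree χ.1 = -1 := fun l hl => by
    rw [hdeg0 _ _ (h0 l) (hv2 l), hvo l hl]
  have hB : ∀ χ, v μ χ ≠ 0 → ∀ x : H, x.1 ∈ ⟪σ⟫ → x ≠ 1 →
      χ.1 x = -(v μ χ * o μ x + ∑ l ∈ T, v l χ * o l x) := fun χ hχ x hx x1 => by
    have ox := exists_orderOf_eq_pow_of_mem h.syl.pgroup hx
    have x1' : x.1 ≠ 1 := fun e => x1 (Subtype.ext e)
    have xN : x.1 ∉ N := h.not_mem (pPart_ne_one_iff.1 (by rwa [pPart_eq_self_iff.2 ox]))
    have h1 : χ ∈ principalBlock M G := by_contra fun e => hχ (by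
      apply Int.cast_injective (α := ℂ)
      rw [← hv2, Int.cast_zero, show o 1 - o μ = fun x => 1 - (ev μ x : ℂ) from
        funext fun x => by simp [ho1, hov]]
      exact inner_eq_zero_of_section hM (fun u => h.pnil) (indFun_isClassFunction _ _)
        (h.ind_pPart (hsq μ ((hμ' μ).2 (.inr rfl)))) (by simp [indFun_one]) e)
    have h2 := havg (fun x : H => χ.1 x) x fun y hy =>
      hM.apply_eq_of_hasNormalPComplement rfl (h.pnil ox x1') h1 (by
        rw [show y.1 = x * (y⁻¹ * x).1⁻¹ by simp, pPart_mul_of_commute (mem_cent1.1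
          (cent1_le_cent1_of_mem hx (h.cen (inv_mem (y⁻¹ * x).2)))).symm ox
          (odd_mem h.odd (inv_mem hy)).not_two_dvd_nat])
    have h3 := hsum fun l => v l χ * o l x
    simp only [hn] at h2
    simp only [hv, sub_self, Int.cast_zero, zero_mul, zero_add] at h3
    rw [← h3, ← h2]
    push_cast
    simp only [sub_mul, Finset.sum_sub_distrib, ← Finset.mul_sum, hreg x xN]
    ring
  have he : ∀ l, ∃ e : ℤ, e ^ 2 = 1 ∧ o l t' = e := fun l => by
    have : o l t' ^ 2 = 1 := by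
      rw [hov, ← Units.val_pow_eq_pow_val, ← map_pow, sq,
        show t' * t' = 1 from Subtype.ext h.tt, map_one, Units.val_one]
    rcases sq_eq_one_iff.1 this with h | h
    exacts [⟨1, rfl, by simpa using h⟩, ⟨-1, rfl, by simpa using h⟩]
  choose e he he' using he
  have hei : ∀ l, e l⁻¹ = e l := fun l => by
    apply Int.cast_injective (α := ℂ)
    rw [← he', ← he', ← hcj]
    exact congrArg _ (Subtype.ext (mul_inv_eq_iff_eq_mul.2 (mem_cent1.1 hsC)))
  have hes : 1 + e μ + ∑ l ∈ T, e l = 0 := by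
    have h1 := hreg t' ht'
    rw [hsum, he' μ, Finset.sum_congr rfl fun l _ => he' l, ho1] at h1
    exact_mod_cast h1
  choose τ₀ hτ₀ using fun χ : IrrCharacter G =>
    χ.isCharacter.exists_int_of_sq_eq_one (g := t) (by rw [sq, h.tt])
  set τ : IrrCharacter G → ℤ := fun χ => charDegree χ.1 - 2 * τ₀ χ with hτ
  have hτ1 : ∀ χ, χ.1 t = τ χ := fun χ => by simp [hτ, (hτ₀ χ).2.1]
  set τ' : IrrCharacter G → ℤ := fun χ => -(v μ χ * e μ + ∑ l ∈ T, v l χ * e l) with hτ'
  have hw : ∑ χ ∈ S, v μ χ ^ 2 = 3 := by simpa [sq, hμμ] using hVS μ μ hμ hμ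
  have hvv : ∀ l ∈ T, ∑ χ ∈ S, v l χ ^ 2 = 2 := fun l hl => by
    simpa [sq, (hTi l hl).2.symm] using hVS l l ((hT' l).1 hl).1 ((hT' l).1 hl).1
  have hvw : ∀ l ∈ T, ∑ χ ∈ S, v l χ * v μ χ = 1 := fun l hl => by
    simpa [hμμ, ((hT' l).1 hl).2] using hVS l μ ((hT' l).1 hl).1 hμ
  have hlm : ∀ l ∈ T, ∀ m ∈ T, m ≠ l → m ≠ l⁻¹ → ∑ χ ∈ S, v l χ * v m χ = 1 :=
    fun l hl m hm h1 h2 => by
      have := hVS l m ((hT' l).1 hl).1 ((hT' m).1 hm).1
      rwa [if_neg h1.symm, if_neg fun e => h2 (inv_eq_iff_eq_inv.2 e).symm] at this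
  have hτμ : ∀ χ, v μ χ ≠ 0 → τ χ = τ' χ := fun χ hχ => by
    have h1 := hB χ hχ t' h.tσ fun e => h.t_ne (congrArg Subtype.val e)
    simp only [he'] at h1
    exact_mod_cast (hτ1 χ).symm.trans h1
  have hτT : ∀ l ∈ T, ∀ χ ∈ S, v l χ ≠ 0 → τ χ = τ' χ := fun l hl χ hχ h1 => by
    have l1 := ((hT' l).1 hl).1
    have h2 := hev _ _ (hv2 l) t
    rw [h.ind_apply hsC sH (hcl l) (h0 l) t' ht', hvo l l1] at h2
    simp only [Pi.sub_apply, hcj, he', hei, hτ1, show e 1 = 1 from Int.cast_injective (α := ℂ)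
      ((he' 1).symm.trans (by simp [ho1]))] at h2
    have h3 : ∑ χ ∈ S, v l χ * τ χ = 1 - 2 * e l := by
      have : (1 : ℤ) - e l + (1 - e l) = 1 + ∑ χ ∈ S, v l χ * τ χ := by exact_mod_cast h2
      omega
    have h4 : ∑ χ ∈ S, v l χ * τ' χ = 1 - 2 * e l := by
      simp only [hτ', mul_neg, mul_add, Finset.mul_sum, ← mul_assoc, Finset.sum_neg_distrib,
        Finset.sum_add_distrib]
      rw [Finset.sum_comm]
      simp only [← Finset.sum_mul]
      rw [hvw l hl, Finset.sum_congr rfl fun m hm => by rw [hVS l m l1 ((hT' m).1 hm).1]]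
      simp only [add_mul, one_mul, ite_mul, zero_mul, Finset.sum_add_distrib, ← inv_eq_iff_eq_inv,
        Finset.sum_ite_eq, hl, (hTi l hl).1, if_true, hei]
      omega
    obtain ⟨a, ha, b, hb, y, a1, -, y1, hab⟩ := bsw_pair hw (hvv l hl) (hvw l hl)
    have h5 := hτμ a fun e => by simp [e] at a1
    rw [← h4, ← sub_eq_zero, ← Finset.sum_sub_distrib, Finset.sum_congr rfl fun i hi => by
      rw [← mul_sub, hab i hi]] at h3
    simp only [add_mul, ite_mul, zero_mul, Finset.sum_add_distrib, Finset.sum_ite_eq', ha, hb,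
      if_true, h5, sub_self, mul_zero, zero_add, mul_eq_zero, sub_eq_zero] at h3
    by_cases c1 : χ = a
    · exact c1 ▸ h5
    by_cases c2 : χ = b
    · exact c2 ▸ h3.resolve_left fun e => by simp [e] at y1
    simp [hab χ hχ, c1, c2] at h1
  have hi : (𝐂₁[t].index : ℂ) ≠ 0 := Nat.cast_ne_zero.2 index_ne_zero_of_finite
  have hG : Nat.card G = 2 * Nat.card H * 𝐂₁[t].index := by rw [← h.card_C, card_mul_index]
  have hκ : ∀ l, l ≠ 1 → 1 + ∑ χ ∈ S, v l χ * ((τ χ : ℚ) ^ 2 / (charDegree χ.1 : ℤ)) =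
      2 * (GB.J H t).ncard ^ 2 / 𝐂₁[t].index := fun l hl => by
    have h1 : ∀ χ : IrrCharacter G, ∑ x : H, (o 1 - o l) x * conj (χ.1 x) = Nat.card H * v l χ :=
      fun χ => by rw [← hv1, classInner_def, mul_inv_cancel_left₀ hH]
    have h2 := h.pairs_sum (h0 l)
    have h2' : ∀ y ∈ (GB.J H t).toFinset, ∑ u ∈ (GB.J H t).toFinset,
        extendByZero H (o 1 - o l) (u * y) = (GB.J H t).toFinset.card := fun y hy => by
      have h3 := h.J_sum (hk l) (fun e => hl (hinj (e.trans hone.symm))) (Set.mem_toFinset.1 hy)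
      rw [← sub_zero (Nat.cast _ : ℂ), ← h3, Finset.card_eq_sum_ones, Nat.cast_sum,
        ← Finset.sum_sub_distrib]
      refine Finset.sum_congr rfl fun x hx => ?_
      have h4 := h.J_mul (Set.mem_toFinset.1 hx) (Set.mem_toFinset.1 hy)
      simp [extendByZero_of_mem _ _ h4, ho1, hov]
    rw [Finset.sum_congr rfl h2', Finset.sum_const, nsmul_eq_mul,
      ← Set.ncard_eq_toFinset_card'] at h2
    simp only [card_isConj_mul_isConj_eq, Finset.mul_sum] at h2
    rw [Finset.sum_comm, Finset.sum_congr rfl (g := fun χ =>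
      𝐂₁[t].index / 2 * (v l χ * (χ.1 t ^ 2 / χ.1 1))) fun χ _ => by
        rw [← mul_right_inj' hH, mul_left_comm, ← mul_assoc (Nat.card H : ℂ), ← h1, hG,
          Finset.sum_mul, Finset.mul_sum, Finset.mul_sum]
        refine Finset.sum_congr rfl fun x _ => ?_
        push_cast
        field_simp, ← Finset.mul_sum, hS', hvo l hl] at h2
    apply Rat.cast_injective (α := ℂ)
    simp only [IrrCharacter.triv_apply] at h2
    simp only [hτ1, IrrCharacter.one_eq_charDegree] at h2
    push_cast at h2 ⊢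
    rw [eq_div_iff hi]
    linear_combination 2 * h2
  have hni : ∀ l, v l⁻¹ = v l := fun l => funext fun χ => by
    simp only [hv, sub_right_inj, Nat.cast_inj]
    apply Nat.cast_injective (R := ℂ)
    rw [← hn, ← hn, ← classInner_comp_surjective (h.cj hsC).toMonoidHom (h.cj hsC).surjective _ (o l)]
    congr 1
    · exact funext fun x => (χ.isClassFunction _ _).symm
    · exact funext fun x => (hcj l x).symm
  have hd : ∀ χ ∈ S, 2 ≤ charDegree χ.1 := fun χ hχ => by
    by_contra! h1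
    obtain ⟨f, rfl⟩ := χ.exists_eq_ofHom (by have := χ.charDegree_pos; omega)
    refine (Finset.mem_erase.1 hχ).1 ?_
    rw [← IrrCharacter.ofHom_one]
    congr 1
    ext1 g
    exact Abelianization.commutator_subset_ker f (h.commutator_eq ▸ Subgroup.mem_top g)
  have hT4 : 2 < T.card := by have := h.big; omega
  set d : IrrCharacter G → ℤ := fun χ => if τ χ = τ' χ then charDegree χ.1 else 2 + τ' χ ^ 2 with hd'
  have hdd : ∀ {χ}, τ χ = τ' χ → d χ = charDegree χ.1 := fun e => if_pos e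
  have hc1 : ∀ l, (∀ χ ∈ S, v l χ ≠ 0 → τ χ = τ' χ) → l ≠ 1 → ∑ χ ∈ S, v l χ * d χ = -1 ∧
      1 + ∑ χ ∈ S, v l χ * ((τ' χ : ℚ) ^ 2 / d χ) = 2 * (GB.J H t).ncard ^ 2 / 𝐂₁[t].index :=
    fun l h1 hl => by
      rw [← hdeg l hl, ← hκ l hl, add_right_inj]
      constructor <;> refine Finset.sum_congr rfl fun χ hχ => ?_ <;> by_cases e : v l χ = 0
      · simp [e]
      · rw [hdd (h1 χ hχ e)]
      · simp [e]
      · rw [hdd (h1 χ hχ e), h1 χ hχ e]
  obtain ⟨a, ha, b, hb, c, hc, a1, b1, c1, hF, hab, hbc, hq'⟩ := bsw_comb (s := S) (T := T) (v := v)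
    (w := v μ) (d := d) (τ := τ') (e := e) (e₀ := e μ) hTi hni hei he (he μ) hes hw hvv hvw hlm
    (fun _ _ => rfl)
    (fun χ hχ => by
      have := hd χ hχ
      simp only [hd']
      split_ifs
      exacts [by omega, by nlinarith [sq_nonneg (τ' χ)]])
    (hc1 μ (fun χ _ => hτμ χ) hμ).1 (fun l hl => (hc1 l (hτT l hl) ((hT' l).1 hl).1).1)
    (hc1 μ (fun χ _ => hτμ χ) hμ).2 (fun l hl => (hc1 l (hτT l hl) ((hT' l).1 hl).1).2)
    (fun e => by simp [e] at hT4) rfl
    (fun χ _ => by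
      simp only [hd']
      split_ifs with e
      · exact e ▸ ⟨τ₀ χ, by simp only [hτ]; ring⟩
      · rw [add_sub_assoc, sq, ← mul_sub_one]
        exact even_two.add (Int.even_mul_pred_self _))
  have a0 : v μ a ≠ 0 := fun e => by simp [e] at a1
  have b0 : v μ b ≠ 0 := fun e => by simp [e] at b1
  have c0 : v μ c ≠ 0 := fun e => by simp [e] at c1
  rw [hdd (hτμ b b0), hdd (hτμ c c0)] at hbc
  rw [hdd (hτμ a a0), hdd (hτμ b b0)] at hq'
  have a2 : (v μ a : ℂ) ^ 2 = 1 := by exact_mod_cast a1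
  have b2 : (v μ b : ℂ) ^ 2 = 1 := by exact_mod_cast b1
  have key : ∀ (θ : IrrCharacter H) (l : L), classInner (fun x : H => v μ a * a.1 x - 1)
      (θ.1 - (θ.twist (ev l)).1) = 0 := fun θ l => by
    have h1 : (fun x : H => v μ a * a.1 x - 1) = (v μ a : ℂ) • (fun x : H => a.1 x) - o 1 :=
      funext fun x => by simp [ho1]
    have h2 : ∀ m, (O m).twist (ev l) = O (l * m) := fun m => Subtype.ext (funext fun x => by
      simp [hO, hmul])
    rw [h1, classInner_sub_left, classInner_smul_left]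
    by_cases hθ : ∃ m, θ = O m
    · obtain ⟨m, rfl⟩ := hθ
      have h3 : ∀ m, (v μ a : ℂ) * classInner (fun x : H => a.1 x) (o m) -
          classInner (o 1) (o m) = v μ a * n 1 a - 1 := fun m => by
        rw [hn, hoo]
        by_cases m1 : 1 = m
        · simp [← m1]
        have h4 : v m a = v μ a := (_root_.em (m = μ)).elim (fun e => e ▸ rfl) fun e =>
          (hab m ((hT' m).2 ⟨Ne.symm m1, e⟩)).1
        have h5 : (n 1 a : ℂ) - n m a = v μ a := by rw [← h4]; simp [hv]
        rw [if_neg m1]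
        linear_combination -(v μ a : ℂ) * h5 - a2
      rw [h2, classInner_sub_right, classInner_sub_right]
      linear_combination h3 m - h3 (l * m)
    have h3 : ∀ m, classInner (θ.1 - (θ.twist (ev l)).1) (o m) = 0 := fun m => by
      rw [classInner_sub_left, IrrCharacter.classInner_of_ne fun e => hθ ⟨m, e⟩,
        IrrCharacter.classInner_of_ne fun e => hθ ⟨l⁻¹ * m, Subtype.ext (funext fun x => by
          have := congrFun (congrArg Subtype.val e) x
          simp only [IrrCharacter.twist_apply, hO, IrrCharacter.ofHom_apply] at this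
          simp [hO, hmul, hinv, ← this])⟩, sub_zero]
    set φ := θ.1 - (θ.twist (ev l)).1 with hφ
    have h4 : ∀ x : H, x.1 ∈ N → φ x = 0 := fun x hx => by simp [hφ, hk l x hx]
    have h5 : IsGeneralizedCharacter H φ := θ.isCharacter.isGeneralizedCharacter.sub
      (θ.twist (ev l)).isCharacter.isGeneralizedCharacter
    choose u hu using fun χ : IrrCharacter G =>
      h5.exists_classInner_eq_int (χ.isCharacter.res H).isGeneralizedCharacter
    have h6 : ∀ χ, classInner (indFun H φ) χ.1 = u χ := fun χ => by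
      rw [classInner_indFun_left _ _ χ.isClassFunction, hu]
    have h7 : u (.triv G) = 0 := by
      apply Int.cast_injective (α := ℂ)
      rw [← hu, show (fun x : H => (IrrCharacter.triv G).1 x) = o 1 from
        funext fun x => (ho1 x).symm, h3, Int.cast_zero]
    have h8 : ∀ m, ∑ χ ∈ S, u χ * v m χ = 0 := fun m => by
      have := hin φ u h4 h6 m
      simp only [classInner_sub_right, h3, sub_self, add_zero, Int.cast_eq_zero] at this
      rwa [hS', h7, zero_mul, zero_add] at this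
    have h9 : ∑ χ ∈ S, u χ ^ 2 ≤ 4 := by
      have h9 := (indFun_isClassFunction H φ).classInner_eq_sum (indFun_isClassFunction H φ)
      let c : IrrCharacter H → IrrCharacter H := fun θ =>
        ⟨_, θ.2.comp_surjective (h.cj hsC).toMonoidHom (h.cj hsC).surjective⟩
      rw [h.inner_ind hsC sH h5.isClassFunction h4 h4, show (fun x => φ (h.cj hsC x)) =
        (c θ).1 - (c (θ.twist (ev l))).1 from rfl] at h9
      simp only [h6, map_intCast] at h9
      simp only [hφ, classInner_sub_left, classInner_sub_right, IrrCharacter.classInner_eq,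
        if_true] at h9
      rw [hS', h7] at h9
      exact ite_le_four (h9.trans (by simp [sq]))
    obtain ⟨l₁, hl₁⟩ := Finset.card_pos.1 (two_pos.trans hT4)
    obtain ⟨l₂, hl₂, h10⟩ := Finset.exists_mem_notMem_of_card_lt_card
      ((Finset.card_le_two (a := l₁) (b := l₁⁻¹)).trans_lt hT4)
    simp only [Finset.mem_insert, Finset.mem_singleton, not_or] at h10
    have h11 := gb_comb (u := u) (d := fun χ => charDegree χ.1) (fun i hi => bsw_sq_le hw hi) a1
      (fun F => hF F) (hab l₁ hl₁).1 (hab l₂ hl₂).1 hbc h9 (hvv l₁ hl₁) (hvv l₂ hl₂)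
      (hlm l₁ hl₁ l₂ hl₂ h10.1 h10.2) (h8 l₁) (h8 l₂) (h8 μ) (hvw l₁ hl₁) (hvw l₂ hl₂)
      (by rw [hdeg0 φ u h4 h6, h7, neg_zero]) (hdeg l₁ ((hT' _).1 hl₁).1)
      (hdeg l₂ ((hT' _).1 hl₂).1) (hdeg μ hμ)
    rw [← conj_classInner, hu, h11, ← conj_classInner, h3]
    simp
  have hA : ∀ x : H, x.1 ∉ N → v μ a * a.1 x - 1 = 0 := fun x hx => by
    obtain ⟨l, hl⟩ : ∃ l, o l x ≠ 1 := by
      by_contra! e
      simpa [e] using hreg x hx
    have h1 := congrFun (IsClassFunction.eq_zero_of_classInner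
      (θ := fun y : H => (v μ a * a.1 y - 1) * (1 - conj (o l y)))
      (fun x y => by
        have h1 : o l (y * x * y⁻¹) = o l x := (O l).isClassFunction x y
        have h2 : a.1 (y * x * y⁻¹ : H) = a.1 x := a.isClassFunction x y
        simp only [h1, h2]) fun θ => by
        rw [← key θ l, classInner_def, classInner_def]
        congr 1
        exact Finset.sum_congr rfl fun y _ => by simp [hov]; ring) x
    exact (mul_eq_zero.1 h1).resolve_right fun e => hl (by
      rw [← (starRingEnd ℂ).injective.eq_iff, map_one]; exact (sub_eq_zero.1 e).symm)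
  have AH : A ≤ H := le_sup_left.trans h.sup.le
  refine ⟨v μ a * charDegree a.1, v μ b * charDegree b.1, ?_, ?_, ?_, ?_, hq'⟩
  · have := (hdeg μ hμ).symm.trans (hF fun χ => (charDegree χ.1 : ℤ))
    simp only [Int.cast_id] at this
    omega
  · haveI := h.ab
    have := dvd_of_vanish (N.subgroupOf A) (f := fun x : A => v μ a * a.1 x - 1)
      (((a.isCharacter.res A).isGeneralizedCharacter.zsmul _).sub
        IsCharacter.one.isGeneralizedCharacter) (fun x hx => hA ⟨x, AH x.2⟩ hx)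
      (z := v μ a * charDegree a.1 - 1) (by simp [IrrCharacter.one_eq_charDegree])
    rwa [hq, ← card_quotient h.NH'.norm, ← h.sup, quotientYidr (AH.trans h.NH'.norm),
      card_quotient (AH.trans h.NH'.norm)]
  · haveI := cycle_abelian σ
    have := dvd_of_vanish (⊥ : Subgroup ⟪σ⟫)
      (f := fun x => v μ b * b.1 x + o μ (inclusion h.syl.le x))
      (((b.isCharacter.res _).isGeneralizedCharacter.zsmul _).add
        ((O μ).isCharacter.comp _).isGeneralizedCharacter) (fun x hx => by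
        have h1 := hB b b0 (inclusion h.syl.le x) x.2 fun e => hx (inclusion_injective _ e)
        rw [Finset.sum_eq_zero fun l hl => by rw [(hab l hl).2, Int.cast_zero, zero_mul]] at h1
        rw [show b.1 x = _ from h1]
        linear_combination -o μ (inclusion h.syl.le x) * b2)
      (z := v μ b * charDegree b.1 + 1) (by simp [IrrCharacter.one_eq_charDegree, hov])
    rwa [index_bot] at this
  · have := hd b hb
    rcases sq_eq_one_iff.1 b1 with e | e <;> simp [e, this]

theorem stGB : StGB.{u} := fun G _ _ _ H N A t σ h => by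
  haveI := h.NH'.normal
  letI : CommGroup (H ⧸ N.subgroupOf H) := { (inferInstance : Group _) with
    mul_comm := fun a b => QuotientGroup.induction_on a fun a => QuotientGroup.induction_on b
      fun b => QuotientGroup.eq.2 (h.comm_mem a.2 b.2) }
  haveI : Fintype (H ⧸ N.subgroupOf H →* ℂˣ) := .ofEquiv _ (IrrCharacter.equivHomOfComm _).symm
  obtain ⟨X, D, h1, h2, h3, h4, h5⟩ := h.main (L := H ⧸ N.subgroupOf H →* ℂˣ)
    (fun l => l.comp (QuotientGroup.mk' _)) (fun _ _ _ => rfl)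
    (fun l m => (MonoidHom.cancel_right (QuotientGroup.mk'_surjective _)).1)
    (fun l x hx => (congrArg l ((QuotientGroup.eq_one_iff x).2 hx)).trans (map_one l))
    (fun x hx => by
      have := sum_irr_one_mul (x : H ⧸ N.subgroupOf H)
      rw [if_neg (mt (QuotientGroup.eq_one_iff x).1 hx)] at this
      rw [← this]
      exact Fintype.sum_equiv (IrrCharacter.equivHomOfComm _) _ _ fun l => by simp)
    (by rw [Nat.card_congr (IrrCharacter.equivHomOfComm _), card_irr_of_comm]; rfl)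
  rw [Nat.card_congr (IrrCharacter.equivHomOfComm _), card_irr_of_comm] at h2
  change (N.relIndex H : ℤ) ∣ _ at h2
  obtain ⟨j, hj⟩ := Nat.odd_iff.2 (Nat.two_dvd_ne_zero.1 h.syl.index)
  have h6 : (N.relIndex H : ℤ) ∣ Nat.card ⟪σ⟫ * (2 * j + 1) := by
    have := Subgroup.relIndex_dvd_card N H
    rw [← card_mul_relIndex h.syl.le, hj] at this
    exact_mod_cast this
  obtain ⟨c, hc⟩ : (N.relIndex H : ℤ) ∣ -(D + 1) := by
    have := (h6.trans (mul_dvd_mul_right h3 _)).add (h2.mul_left j)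
    rwa [show (D + 1) * (2 * j + 1) + j * (X - 1) = D + 1 by linear_combination j * h1,
      ← Int.dvd_neg] at this
  have h7 : D ≠ 0 := by rintro rfl; simp at h4
  refine ⟨c, by rintro rfl; rw [show D = -1 by omega] at h4; simp at h4, ?_⟩
  have a1 : (X : ℚ) ≠ 0 := Int.cast_ne_zero.2 (by omega)
  have a2 : (D : ℚ) ≠ 0 := Int.cast_ne_zero.2 h7
  have a3 : (𝐂₁[t].index : ℚ) ≠ 0 := Nat.cast_ne_zero.2 index_ne_zero_of_finite
  rw [show X = 1 + 2 * N.relIndex H * c by linarith] at a1 h5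
  rw [show D = -(1 + N.relIndex H * c) by linarith] at a2 h5
  apply Int.cast_injective (α := ℚ)
  change _ = ((((GB.J H t).ncard : ℤ) ^ 2 * _ : ℤ) : ℚ)
  push_cast at *
  rw [neg_ne_zero] at a2
  field_simp at h5
  linear_combination (1 / 2) * h5

end Cfsg.GW
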