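import Cfsg.Agent.GW.PFsB
import Cfsg.Agent.Gag.WS

/-!
# S4594, piece PF: reduction of the product fusion theorem to simple groups (tools)
-/

set_option autoImplicit false
set_option linter.unusedSectionVars false
set_option linter.style.haveILetI false

namespace Cfsg.GW

open Subgroup Cfsg.FT Cfsg.Gag Cfsg.Gag.WS Cfsg.GW.PFs
open scoped Pointwise commutatorElement

universe u

namespace PFr

variable {G : Type u} [Group G] {D K N P R X : Subgroup G} {d g r : G}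

theorem ncl_le (hK : K ⊴ ⊤) (h : R ≤ K) : ncl R ⊤ ≤ K :=
  iSup₂_le fun _ hg => conj_le_of_mem_norm (hK.norm hg) h

theorem ncl_le_LL (hX : ncl D ⊤ ≤ X) : ncl D ⊤ ≤ LL (cl D) X :=
  iSup₂_le fun g hg => le_LL (fun x hx => ⟨g⁻¹, by simpa using mem_conj.1 hx⟩)
    ((WS.conj_le_ncl hg).trans hX)

theorem ncl_top : ncl D ⊤ ⊴ ⊤ := ncl_normal le_top

theorem ncl_bot : ncl (⊥ : Subgroup G) ⊤ = ⊥ := eq_bot_iff.2 (ncl_le (normal1 ⊤) le_rfl)

theorem cent_top (hN : N ⊴ ⊤) : 𝐂[N] ⊴ ⊤ := ⟨le_top, norms_cent hN.norm⟩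

variable [Finite G]

theorem sc_norm (h : SC D P) (hX : ⁅X, D⁆ ≤ P) : X ≤ 𝐍[D] := fun x hx =>
  mem_norm_of_conj_le (conj_le_iff_forall.2 fun d hd => h.2 d hd x (by
    simpa [commutatorElement_def] using mul_mem (hX (mem_commg hx hd)) (h.1 hd)))

theorem sc_normP (h : SC D P) : P ≤ 𝐍[D] := sc_norm h ((commgS P h.1).trans (der_sub P))

theorem sc_inf (h : SC D P) (hN : N ⊴ ⊤) (hP : N ≤ P) : N ⊓ D ⊴ ⊤ :=
  ⟨le_top, fun g hg => mem_norm_of_conj_le (conj_le_iff_forall.2 fun x hx =>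
    have := (memJ_norm (hN.norm hg)).2 hx.1
    ⟨this, h.2 x hx.2 g (hP this)⟩)⟩

theorem cl4_sub (h : Cl4 G) (X : Subgroup G) : Cl4 X := fun Q hQ => by
  have := h _ (hQ.map X.subtype)
  rwa [← (injM_subtype Q).map_center, (injM_subtype Q).card_map le_rfl,
    (injM_subtype Q).card_map inf_le_left] at this

theorem cl4_quo (h : Cl4 G) (N : Subgroup G) : Cl4 (Q N) := fun S hS => by
  obtain ⟨T, hT⟩ := Sylow_exists (p := 2) (pre N S)
  have hn := hT.le.trans (pre_le_norm S)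
  have e := hT.quo hn
  rw [cosetpreK] at e
  rw [← e.eq_self hS, ← card_mul_relIndex (quotientS N (inf_le_left : 𝐙[T] ≤ T)), mul_comm]
  refine Nat.mul_le_mul ((Nat.le_of_dvd (Nat.pos_of_ne_zero index_ne_zero_of_finite)
    (index_quotient inf_le_left hn)).trans ?_) (card_le_of_le (quotient_center T N))
  have h1 := h T hT.pgroup
  rw [← card_mul_relIndex (inf_le_left : 𝐙[T] ≤ T), mul_comm 4] at h1
  exact Nat.le_of_mul_le_mul_left h1 Nat.card_pos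

theorem sc_quo (hP : Syl 2 P ⊤) (h : SC D P) (hN : N ⊴ ⊤) : SC (D ⁄ N) (P ⁄ N) := by
  have hn : ∀ x, x ∈ 𝐍[N] := fun x => hN.norm (mem_top x)
  refine ⟨quotientS N h.1, fun y hy k hk => ?_⟩
  obtain ⟨d, hd, -, rfl⟩ := mem_quo.1 hy
  obtain ⟨g, -, rfl⟩ := cosetP k
  rw [← coset_conj (hn g) (hn d)] at hk ⊢
  rw [← quotientYidl fun x _ => hn x, coset_mem_quo_iff (hn _) le_sup_left] at hk
  have hc := cl_ci D d (mem_cl hd) g
  obtain ⟨x, hx, hx'⟩ := Sylow_Jsub (hP.subl le_sup_right le_top) (zpowers_le.2 hk)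
    (cl_two (hP.pgroup.to_le h.1) hc)
  have h2 := mem_quotient N (sc_conj h hc (conj_le_iff_forall.1 hx' _ (mem_zpowers _)))
  have h3 := mem_quotient N hx
  rw [quotientYidl fun x _ => hn x] at h3
  rwa [coset_conj (hn _) (hn _), memJ_norm (quotient_norms N (sc_normP h) h3)] at h2

section
variable (h : PFH P D R)
include h

theorem uniq {d' r' : G} (hd : d ∈ D) (hr : r ∈ R) (hd' : d' ∈ D) (hr' : r' ∈ R)
    (e : d * r = d' * r') : r = r' := by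
  have : r * r'⁻¹ ∈ D ⊓ R := mem_inf.2 ⟨by
    rw [show r * r'⁻¹ = d⁻¹ * d' by rw [eq_inv_mul_iff_mul_eq, ← mul_assoc, e]; simp]
    exact mul_mem (inv_mem hd) hd', mul_mem hr (inv_mem hr')⟩
  rwa [h.inf, mem_bot, mul_inv_eq_one] at this

theorem pfh_quo (hN : N ⊴ ⊤) (hi : N ⊓ P ≤ D ∨ N ⊓ P ≤ R) : PFH (P ⁄ N) (D ⁄ N) (R ⁄ N) where
  syl := quotientT N ▸ h.syl.quo (le_top.trans hN.norm)
  scD := sc_quo h.syl h.scD hN
  scR := sc_quo h.syl h.scR hN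
  sup := by rw [← quotientY (le_top.trans hN.norm) (le_top.trans hN.norm), h.sup]
  inf := eq_bot_iff.2 fun y hy => by
    obtain ⟨d, hd, hd', rfl⟩ := mem_quo.1 hy.1
    obtain ⟨r, hr, hr', e⟩ := mem_quo.1 hy.2
    have h1 : d⁻¹ * r ∈ N ⊓ P :=
      mem_inf.2 ⟨(coset_eq_iff hd' hr').1 e.symm, mul_mem (inv_mem (h.scD.1 hd)) (h.scR.1 hr)⟩
    rcases hi with hi | hi
    · have : r ∈ D ⊓ R := ⟨by simpa using mul_mem hd (hi h1), hr⟩
      rw [h.inf, mem_bot] at this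
      rw [← e, this, coset_one]; exact one_mem _
    · have : d ∈ D ⊓ R := ⟨hd, by simpa using mul_mem (hi h1) (inv_mem hr)⟩
      rw [h.inf, mem_bot] at this
      rw [this, coset_one]; exact one_mem _
  cen := quotient_cents N h.cen

theorem le_pre (hN : N ⊴ ⊤) (hi : N ⊓ P ≤ D ∨ N ⊓ P ≤ R) (hQ : PF (Q N)) :
    ⁅ncl D ⊤, ncl R ⊤⁆ ≤ pre N (core {2}ᶜ ⊤) := by
  have hn : ∀ X : Subgroup G, X ≤ 𝐍[N] := fun X => le_top.trans hN.norm
  rw [← sub_quotient_pre (hn _), quotientR (hn _) (hn _), ncl_quo le_top (hn _),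
    ncl_quo le_top (hn _), quotientT]
  exact hQ _ _ _ (pfh_quo h hN hi)

theorem lemA (hO : core {2}ᶜ (⊤ : Subgroup G) = ⊥) (hN : N ⊴ ⊤) (hi : N ≤ D ∨ N ≤ R)
    (hQ : PF (Q N)) : ⁅ncl D ⊤, ncl R ⊤⁆ = ⊥ := by
  have hn : ∀ X : Subgroup G, X ≤ 𝐍[N] := fun X => le_top.trans hN.norm
  have hP : N ≤ P := hi.elim (·.trans h.scD.1) (·.trans h.scR.1)
  have hY : pre N (core {2}ᶜ ⊤) ⊴ ⊤ := NormalIn.pre (by rw [quotientT]; exact pcore_normal _ _) hN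
  have hW : pre N (core {2}ᶜ ⊤) ⊓ 𝐂[N] ⊴ ⊤ := ⟨le_top, normsI hY.norm (cent_top hN).norm⟩
  have hS := Sylow_setI_normal hW h.syl
  have h1 : P ⊓ (pre N (core {2}ᶜ ⊤) ⊓ 𝐂[N]) ≤ N := by
    refine (inf_le_inf_left _ inf_le_left).trans ((quotient_sub1 (hn _)).1 ?_)
    rw [quo_inf_pre]
    exact coprime_TIg (coprime_pgroup (quotient_pgroup N h.syl.pgroup) (p'core_not_dvd 2 ⊤))
  have h2 := ((Burnside_normal_complement hS (inf_le_left.trans (inf_le_right.trans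
    (centS h1)))).sdprod hS).sup_eq
  rw [eq_bot_iff.2 ((hW.core_le _).trans hO.le), bot_sup_eq] at h2
  have h3 : ⁅ncl D ⊤, ncl R ⊤⁆ ≤ N := (le_inf (le_pre h hN (hi.imp inf_le_left.trans
    inf_le_left.trans) hQ) ((commg_subr.2 (le_top.trans ncl_top.norm)).trans (ncl_le (cent_top hN)
      (h.cen.trans (centS hP))))).trans (h2.ge.trans h1)
  rcases hi with hi | hi
  · have h4 := (commgS (ncl D ⊤) (WS.le_ncl (V := R) (C := ⊤))).trans h3
    refine commG1P'.2 (ncl_le (cent_top ncl_top) (commG1P'.1 (eq_bot_iff.2 (le_trans ?_ h.inf.le))))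
    exact le_inf (h4.trans hi) (commg_subr.2 (sc_norm h.scR (h4.trans hP)))
  · have h4 := (commSg (ncl R ⊤) (WS.le_ncl (V := D) (C := ⊤))).trans h3
    refine commG1P.2 (ncl_le (cent_top ncl_top) (commG1P.1 (eq_bot_iff.2 (le_trans ?_ h.inf.le))))
    exact le_inf (commg_subl.2 (sc_norm h.scD (commGC D _ ▸ h4.trans hP))) (h4.trans hi)

theorem iso (hZ : StZ4.{u}) (h4 : Cl4 G) (hO : core {2}ᶜ (⊤ : Subgroup G) = ⊥) (hr : r ∈ R)
    (or : orderOf r = 2) (hi : ∀ g, g * r * g⁻¹ ∈ R → g * r * g⁻¹ = r) : ⟪r⟫ ⊴ ⊤ := by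
  refine ⟨le_top, norms_cycle fun g _ => mem_cent1.2
    (mem_center_iff.1 (hZ G r h4 or (fun t ht hc' => ?_) hO) g)⟩
  obtain ⟨k, rfl⟩ := isConj_iff.1 ht
  have ot : orderOf (k * r * k⁻¹) = 2 := ((MulAut.conj k).orderOf_eq r).trans or
  obtain ⟨c, h1, h2⟩ := Sylow_Jsub (h.syl.subl (le_cent1.2 (h.cen hr)) le_top)
    (zpowers_le.2 (mem_cent1.2 hc'.eq.symm)) (prime_pgroup ((Nat.card_zpowers _).trans ot))
  rw [conj_zpowers, zpowers_le] at h2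
  have h3 := sc_conj h.scR (cl_ci R r (mem_cl hr) k) h2
  have e : c * (k * r * k⁻¹) * c⁻¹ = c * k * r * (c * k)⁻¹ := by group
  have := hi (c * k) (e ▸ h3)
  rwa [← e, mul_inv_eq_iff_eq_mul, ← mem_cent1.1 h1, mul_right_inj] at this

theorem lemB (hO : core {2}ᶜ (⊤ : Subgroup G) = ⊥) (hN : N ⊴ ⊤) (hd : ⁅N, N⁆ = N)
    (hZ : N ⊓ 𝐂[N] = ⊥) (hi : D ⊓ N = ⊥) : D ≤ 𝐂[N] := fun d hdD => by
  have hS := Sylow_setI_normal hN h.syl
  have h1 : P ⊓ N ≤ 𝐂[P] := by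
    conv_rhs => rw [← h.sup, centY]
    refine le_inf (commG1P.1 (eq_bot_iff.2 (le_trans (le_inf ?_ ?_) hi.le)))
      (inf_le_left.trans (centsC.1 h.cen))
    · exact commg_subr.2 (inf_le_left.trans (sc_normP h.scD))
    · exact (commSg _ inf_le_right).trans (commg_subl.2 (le_top.trans hN.norm))
  have hab : IsMulCommutative ↥(P ⊓ N) := abelian_iff.2 (h1.trans (centS inf_le_left))
  obtain ⟨v, hv, hc⟩ := inner hZ (eq_bot_iff.2 ((hN.core_le _).trans hO.le)) hS hab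
    (hN.norm (mem_top d)) ((piSub_singleton.2 h.syl.pgroup).piElt (h.scD.1 hdD))
    (centsC.1 h1 (h.scD.1 hdD))
  have h2 : v ∈ P ⊓ N ⊓ ⁅N, N⁆ ⊓ 𝐂[N ⊓ 𝐍[P ⊓ N]] := ⟨⟨hv, hd.ge hv.2⟩, fun g hg => by
    have h3 : g * v * g⁻¹ * v⁻¹ ∈ P ⊓ N := mul_mem ((memJ_norm hg.2).2 hv) (inv_mem hv)
    have e : g * d * g⁻¹ = g * v * g⁻¹ * v⁻¹ * d := by
      have := hc g hg.1
      calc g * d * g⁻¹ = g * v * g⁻¹ * (g * (v⁻¹ * d)) * g⁻¹ := by group
        _ = _ := by rw [this]; group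
    have h5 : g * v * g⁻¹ * v⁻¹ ∈ D ⊓ N := ⟨by
      simpa [e] using mul_mem (h.scD.2 d hdD g (e ▸ mul_mem h3.1 (h.scD.1 hdD))) (inv_mem hdD), h3.2⟩
    rwa [hi, mem_bot, mul_inv_eq_one, mul_inv_eq_iff_eq_mul] at h5⟩
  rw [abelian_Sylow_der1_TI_center hS hab, mem_bot] at h2
  simpa [h2] using hc

theorem fus (hd : d ∈ D) (hr : r ∈ R) (hg : g * (d * r) * g⁻¹ ∈ P) : ∃ k : G,
    k * (d * r) * k⁻¹ = g * (d * r) * g⁻¹ ∧ k * d * k⁻¹ ∈ D ∧ k * r * k⁻¹ ∈ R := by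
  have hc := cl_ci R r (mem_cl hr) g
  obtain ⟨c, h1, h2⟩ := conjR h (R_cent h hg) (S := ⟪g * r * g⁻¹⟫) (zpowers_le.2 (by
      rw [cent1_conj, conj_mem_conj]
      exact R_cent h (mul_mem (h.scD.1 hd) (h.scR.1 hr)) hr))
    (cl_two (h.syl.pgroup.to_le h.scR.1) hc) fun x hx => by
      rw [← conj_zpowers] at hx
      exact ⟨g⁻¹, by simpa using zpowers_le.2 hr (mem_conj.1 hx)⟩
  rw [conj_zpowers, zpowers_le] at h2
  have e : c * g * (d * r) * (c * g)⁻¹ = g * (d * r) * g⁻¹ := by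
    calc _ = c * (g * (d * r) * g⁻¹) * c⁻¹ := by group
      _ = _ := by rw [mem_cent1.1 h1]; group
  have h3 : c * g * r * (c * g)⁻¹ ∈ R := by convert h2 using 1; group
  refine ⟨c * g, e, h.scD.2 d hd _ ?_, h3⟩
  convert mul_mem (e ▸ hg) (inv_mem (h.scR.1 h3)) using 1
  group

theorem focal : P ⊓ ⁅(⊤ : Subgroup G), ⊤⁆ ≤ (D ⊓ ⁅(⊤ : Subgroup G), ⊤⁆) ⊔ (R ⊓ ⁅(⊤ : Subgroup G), ⊤⁆) :=
  focal_subgroup_le h.syl fun x hx g _ hg => by
    obtain ⟨d, hd, r, hr, rfl⟩ := dec_P h hx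
    obtain ⟨k, e, h1, h2⟩ := fus h hd hr hg
    have h3 : k * r * k⁻¹ * r⁻¹ ∈ R := mul_mem h2 (inv_mem hr)
    have h4 := mem_cent.1 (h.cen h3) _ (inv_mem (h.scD.1 hd))
    have : g * (d * r) * g⁻¹ * (d * r)⁻¹ = k * d * k⁻¹ * d⁻¹ * (k * r * k⁻¹ * r⁻¹) := by
      rw [← e, mul_assoc _ d⁻¹, h4]; group
    rw [this]
    exact mul_mem_sup ⟨D.mul_mem h1 (D.inv_mem hd), mem_commg (mem_top k) (mem_top d)⟩
      ⟨h3, mem_commg (mem_top k) (mem_top r)⟩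

/-- the hypothesis in a normal subgroup whose Sylow subgroup splits -/
theorem pf_normal (hN : N ⊴ ⊤) (hs : P ⊓ N ≤ (D ⊓ N) ⊔ (R ⊓ N)) (hX : PF N) :
    ⁅ncl (D ⊓ N) N, ncl (R ⊓ N) N⁆ ≤ core {2}ᶜ N := by
  have := hX (P.subgroupOf N) (D.subgroupOf N) (R.subgroupOf N)
    { syl := by simpa using (Sylow_setI_normal hN h.syl).subgroupOf le_rfl
      scD := ⟨fun x hx => h.scD.1 hx, fun d hd k hk => h.scD.2 _ hd k hk⟩
      scR := ⟨fun x hx => h.scR.1 hx, fun d hd k hk => h.scR.2 _ hd k hk⟩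
      sup := le_antisymm (sup_le (fun x hx => h.scD.1 hx) fun x hx => h.scR.1 hx) fun x hx => by
        obtain ⟨d, hd, r, hr, e⟩ := (mem_join_norm (cents_norm (centsS (inf_le_left.trans h.scD.1)
          (inf_le_left.trans h.cen)))).1 (hs ⟨hx, x.2⟩)
        have h3 := mul_mem_sup (S := D.subgroupOf N) (T := R.subgroupOf N)
          (x := ⟨d, hd.2⟩) (y := ⟨r, hr.2⟩) hd.1 hr.1
        rwa [show (⟨d, hd.2⟩ * ⟨r, hr.2⟩ : N) = x from Subtype.ext e] at h3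
      inf := eq_bot_iff.2 fun x hx => mem_bot.2 (Subtype.ext (mem_bot.1 (h.inf.le hx)))
      cen := fun x hx => mem_cent.2 fun y hy => Subtype.ext (mem_cent.1 (h.cen hx) _ hy) }
  have key : ∀ E : Subgroup G, ncl (E ⊓ N) N ≤ (ncl (E.subgroupOf N) ⊤).map N.subtype := fun E =>
    iSup₂_le fun g hg => conj_le_iff_forall.2 fun x hx =>
      ⟨⟨g, hg⟩ * ⟨x, hx.2⟩ * ⟨g, hg⟩⁻¹, WS.conj_le_ncl (mem_top _) 
        (conj_mem_conj.2 (show (⟨x, hx.2⟩ : N) ∈ E.subgroupOf N from hx.1)), rfl⟩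
  refine (commgSS (key D) (key R)).trans ?_
  rw [← map_commutator]
  refine (map_mono this).trans (le_of_eq ?_)
  rw [← core_map _ (injM_subtype _), map_subtype_top]

variable (hZ : StZ4.{u}) (h4 : Cl4 G) (hO : core {2}ᶜ (⊤ : Subgroup G) = ⊥)
  (hsub : ∀ X : Subgroup G, X ≠ ⊤ → PF X) (hne : ⁅ncl D ⊤, ncl R ⊤⁆ ≠ ⊥)
  (hA : ∀ N : Subgroup G, N ⊴ ⊤ → N ≤ D ∨ N ≤ R → N = ⊥)
include hO hsub

theorem comm_sub (hR : R ≤ X) (hX : X ≠ ⊤) (hc : core {2}ᶜ X = ⊥) :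
    LL (cl D) X ≤ 𝐂[LL (cl R) X] :=
  commG1P.1 (eq_bot_iff.2 ((pf_sub h hR (hsub X hX)).trans hc.le))

omit hsub in
include hZ h4 hA in
theorem not_iso (hr : r ∈ R) (or : orderOf r = 2) :
    ¬ ∀ g, g * r * g⁻¹ ∈ R → g * r * g⁻¹ = r := fun hi => by
  have := hA _ (iso h hZ h4 hO hr or hi) (.inr (zpowers_le.2 hr))
  rw [zpowers_eq_bot] at this
  simp [this] at or

include hZ h4 hA hne in
theorem case_two (hN : N ⊴ ⊤) (h1 : N ≠ ⊥) (h2 : IsPGroup 2 N) : False := by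
  have hP := h.syl.le_of_normal h2 hN
  have hD := hA _ (sc_inf h.scD hN hP) (.inl inf_le_right)
  have hL : ncl D ⊤ ⊔ ncl R ⊤ = ⊤ := by
    by_contra e
    have hn : ncl D ⊤ ⊔ ncl R ⊤ ⊴ ⊤ := ⟨le_top, normsY ncl_top.norm ncl_top.norm⟩
    exact hne (commG1P.2 (centsS (ncl_le_LL le_sup_right) ((ncl_le_LL le_sup_left).trans
      (comm_sub h hO hsub (le_sup_of_le_right WS.le_ncl) e
        (eq_bot_iff.2 ((hn.core_le _).trans hO.le))))))
  have hc : ⊤ ≤ 𝐂[N] := hL.ge.trans (sup_le (ncl_le (cent_top hN) (commG1P'.1 (eq_bot_iff.2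
    (le_trans (le_inf (commg_subl.2 (le_top.trans hN.norm)) (commg_subr.2 (hP.trans
      (sc_normP h.scD)))) hD.le)))) (ncl_le (cent_top hN) (h.cen.trans (centS hP))))
  obtain ⟨n, hn, on⟩ := exists_order_p h2 h1
  obtain ⟨d, hd, r, hr, rfl⟩ := dec_P h (hP hn)
  have hdr := mem_cent.1 (h.cen hr) d (h.scD.1 hd)
  have r2 : r * r = 1 := uniq h (mul_mem hd hd) (mul_mem hr hr) (one_mem _) (one_mem _) (by
    rw [one_mul, ← pow_orderOf_eq_one (d * r), on, sq, mul_assoc, mul_assoc, ← mul_assoc r d, ← hdr,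
      mul_assoc])
  have r1 : r ≠ 1 := fun e => by
    rw [e, mul_one] at hn on
    have : d = 1 := mem_bot.1 (hD.le (mem_inf.2 ⟨hn, hd⟩))
    simp [this] at on
  refine not_iso h hZ h4 hO hA hr (orderOf_eq_prime (by rw [sq, r2]) r1) fun g hg => ?_
  have e : g * d * g⁻¹ * (g * r * g⁻¹) = d * r := by
    rw [conj_mul, mem_cent.1 (hc (mem_top g)) _ hn |>.symm, mul_inv_cancel_right]
  exact uniq h (h.scD.2 d hd g (by
    rw [eq_mul_inv_of_mul_eq e]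
    exact mul_mem (hP hn) (inv_mem (h.scR.1 hg)))) hg hd hr e

include hZ h4 hA in
theorem case_na (hS : StPFs.{u}) (hm : MinNormalIn N ⊤) (hM : N ≤ ⁅ncl D ⊤, ncl R ⊤⁆)
    (hc : N ⊓ 𝐂[N] = ⊥) : False := by
  have hN : N ⊴ ⊤ := ⟨le_top, hm.norm⟩
  have nc : ¬ N ≤ 𝐂[N] := fun e => hm.ne_bot (by rw [← hc, inf_eq_left.2 e])
  have hd : ⁅N, N⁆ = N := hm.eq (der_sub N) hN.der.norm fun e => nc (commG1P.1 e)
  have hM1 := hM.trans (commg_subl.2 (le_top.trans ncl_top.norm))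
  have hM2 := hM.trans (commg_subr.2 (le_top.trans ncl_top.norm))
  have hD : D ⊓ N ≠ ⊥ := fun e => nc (hM1.trans (ncl_le (cent_top hN) (lemB h hO hN hd hc e)))
  have hR : ¬ R ≤ 𝐂[N] := fun e => nc (hM2.trans (ncl_le (cent_top hN) e))
  have hON : core {2}ᶜ N = ⊥ := eq_bot_iff.2 ((hN.core_le _).trans hO.le)
  have hQ := Sylow_setI_normal hN h.syl
  have key : ∀ X, N ≤ X → R ≤ X → core {2}ᶜ X = ⊥ →
      (∀ Y, Y ≤ N → 𝐍[X] ≤ 𝐍[Y] → Y = ⊥ ∨ Y = N) → X = ⊤ := fun X h1 h2 h3 h5 => by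
    by_contra e
    have h6 := (h5 (N ⊓ LL (cl D) X) inf_le_left (normsI (le_top.trans hN.norm)
      ((cl_ci D).norms le_rfl))).resolve_left fun e' => hD (eq_bot_iff.2 (le_trans (le_inf
        inf_le_right (le_LL (fun x hx => mem_cl hx.1) (inf_le_right.trans h1))) e'.le))
    exact hR (centsC.1 (centsS (le_LL (fun x => mem_cl) h2)
      ((inf_eq_left.1 h6).trans (comm_sub h hO hsub h2 e h3))))
  have hX : N ⊔ 𝐂[P ⊓ N] ⊴ ⊤ := ⟨le_top, (Frattini_arg hN hQ).sup_eq.ge.trans (sup_le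
    (normsG le_sup_left) (normsY (le_top.trans hN.norm) (norms_cent inf_le_right)))⟩
  have hX' := key _ le_sup_left (le_sup_of_le_right (h.cen.trans (centS inf_le_left)))
    (eq_bot_iff.2 ((hX.core_le _).trans hO.le)) fun Y h1 h2 => hm.eq_or h1 (hX.norm.trans h2)
  have simp : ∀ Y, Y ⊴ N → Y = ⊥ ∨ Y = N := fun Y hY => by
    rw [or_iff_not_imp_left]
    intro y1
    obtain ⟨K, hK, hKY⟩ := minnormal_exists y1 hY.norm
    have hKN : K ⊴ N := ⟨hKY.trans hY.le, hK.norm⟩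
    have h1 : P ⊓ N ⊓ K ≠ ⊥ := fun e => hK.ne_bot (eq_bot_iff.2 (le_trans (le_core_of_odd
      (Nat.odd_iff.2 (Nat.two_dvd_ne_zero.1 ((Sylow_setI_normal hKN hQ).eq_bot_iff.1 e))) hKN) hON.le))
    refine hY.le.antisymm (le_trans (hm.eq hKN.le (hX'.ge.trans (sup_le hK.norm fun c hc => ?_))
      hK.ne_bot).ge hKY)
    have hK' : MinNormalIn (c •ᶜ K) N :=
      conj_eq_of_mem_norm (hN.norm (mem_top c)) ▸ minNormalJ.2 hK
    refine conj_eq_iff_mem_norm.1 (hK.eq (hK'.le_of_meet hK.norm fun e => h1 (eq_bot_iff.2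
      (le_trans (le_inf ?_ inf_le_right) e.le))) hK'.norm hK'.ne_bot)
    rw [← conj_eq_of_mem_norm (cent_sub _ (centS inf_le_left hc))]
    exact conj_le_conj.2 inf_le_right
  have hRn : R ≤ 𝐍[N] := le_top.trans hN.norm
  have hG := key (N ⊔ R) le_sup_left le_sup_right (eq_bot_iff.2 (le_trans (le_core_of_odd
      (Nat.odd_iff.2 (Nat.two_dvd_ne_zero.1 (p'core_not_dvd 2 _))) ⟨?_,
        le_sup_left.trans (pcore_normal _ _).norm⟩) hON.le))
    fun Y h1 h2 => simp Y ⟨h1, le_sup_left.trans ((normG _).trans h2)⟩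
  swap
  · refine (quotient_sub1 (le_top.trans hN.norm)).1 (eq_bot_iff.2 (le_trans (le_inf
      ((quotientS N (pcore_sub _ _)).trans (quotientYidl hRn).le) le_rfl) (coprime_TIg
        (coprime_pgroup (quotient_pgroup N (h.syl.pgroup.to_le h.scR.1)) fun e =>
          p'core_not_dvd 2 _ (e.trans (dvdn_quotient _ _)))).le))
  have R1 : R ≠ ⊥ := fun e => hR (e ▸ bot_le)
  by_cases hT : N = ⊤
  · subst hT
    haveI : Nontrivial G := Subgroup.nontrivial_iff.1 ⟨_, _, hm.ne_bot⟩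
    haveI : IsSimpleGroup G := ⟨fun H hH => simp H (normalIn_top.2 hH)⟩
    exact (hS G h4 (fun e => nc fun x _ y _ => e.is_comm.comm y x) hsub P D R h).elim
      (fun e => hD (by rw [e, bot_inf_eq])) R1
  have hder : ⁅(⊤ : Subgroup G), ⊤⁆ = N := le_antisymm (der1_min (le_top.trans hN.norm) (by
    rw [← hG, quotientYidl hRn]; exact quotient_abelian N (ab_R h))) (hd.ge.trans (dergS le_top))
  have h5 := pf_normal h hN (hder ▸ focal h) (hsub N hT)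
  have hRN : R ⊓ N = ⊥ := by
    by_contra e
    rw [(simp _ (ncl_normal inf_le_right)).resolve_left fun e' =>
        hD (eq_bot_iff.2 (WS.le_ncl.trans e'.le)),
      (simp _ (ncl_normal inf_le_right)).resolve_left fun e' =>
        e (eq_bot_iff.2 (WS.le_ncl.trans e'.le)), hd, hON] at h5
    exact hm.ne_bot (eq_bot_iff.2 h5)
  obtain ⟨r, hr, or⟩ := exists_order_p (h.syl.pgroup.to_le h.scR.1) R1
  refine not_iso h hZ h4 hO hA hr or fun g hg => mul_inv_eq_one.1 (mem_bot.1 (hRN.le ?_))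
  exact mem_inf.2 ⟨mul_mem hg (inv_mem hr), hder.le (mem_commg (mem_top g) (mem_top r))⟩

end

end PFr

open PFr WS PFs in
theorem stPF (hZ : StZ4.{u}) (hS : StPFs.{u}) : StPF.{u} := by
  intro G _ _
  induction hn : Nat.card G using Nat.strong_induction_on generalizing G with
  | _ n ih =>
  intro h4 P D R h
  have hquo : ∀ N : Subgroup G, N ≠ ⊥ → PF (Q N) := fun N h1 => ih _ (by
    simpa [← hn] using ltn_quotient h1 le_top) (Q N) rfl (cl4_quo h4 N)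
  have hsub : ∀ X : Subgroup G, X ≠ ⊤ → PF X := fun X h1 => ih _ (by
    simpa [← hn] using card_lt_of_lt (lt_top_iff_ne_top.2 h1)) X rfl (cl4_sub h4 X)
  by_cases hO : core {2}ᶜ (⊤ : Subgroup G) = ⊥
  swap
  · have := le_pre h (pcore_normal {2}ᶜ ⊤) (.inl ((coprime_TIg
      (coprime_pgroup h.syl.pgroup (p'core_not_dvd 2 ⊤)).symm).le.trans bot_le)) (hquo _ hO)
    rwa [← quotientT, trivg_pcore_quotient, pre_bot] at this
  rw [hO, le_bot_iff]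
  by_contra hne
  have hA : ∀ N : Subgroup G, N ⊴ ⊤ → N ≤ D ∨ N ≤ R → N = ⊥ := fun N hN hi =>
    not_not.1 fun e => hne (lemA h hO hN hi (hquo N e))
  obtain ⟨N, hm, hM⟩ := minnormal_exists hne (normsR ncl_top.norm ncl_top.norm)
  have hN : N ⊴ ⊤ := ⟨le_top, hm.norm⟩
  rcases hm.eq_or inf_le_left hN.center.norm with e | e
  · exact case_na h hZ h4 hO hsub hA hS hm hM e
  · have h1 := (nilpotent_pcoreC {2} (abelian_nil (abelian_iff.2 (inf_eq_left.1 e)))).sup_eq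
    rw [eq_bot_iff.2 ((hN.core_le _).trans hO.le), sup_bot_eq] at h1
    exact case_two h hZ h4 hO hsub hne hA hN hm.ne_bot (h1 ▸ pcore_pgroup' 2 N)

end Cfsg.GW
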