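import Cfsg.Agent.GW.PFsB

/-!
# S4594, piece PFs: the endgame
-/

set_option autoImplicit false
set_option linter.unusedSectionVars false

namespace Cfsg.GW

open Subgroup Cfsg.FT Cfsg.Gag
open scoped Pointwise

universe u

namespace PFs

variable {G : Type u} [Group G] [Finite G] {D H L M P Q R S T W X Y : Subgroup G}
  {a b e g r s t v x y z : G}

theorem dihedral (hz : z * z = 1) (hb : b * b = 1) (hn : ¬ IsConj z b) :
    ∃ u : G, orderOf u = 2 ∧ z * u = u * z ∧ b * u = u * b ∧ (IsConj z (z * u) ∨ IsConj b (z * u)) := by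
  obtain ⟨m, hm⟩ : 2 ∣ orderOf (z * b) := by
    by_contra h
    exact hn (app4568_isConj_of_odd hz hb h)
  obtain ⟨w, rfl⟩ : ∃ w, b = z * w := ⟨z * b, by rw [← mul_assoc, hz, one_mul]⟩
  rw [← mul_assoc, hz, one_mul] at hm
  have h0 : z * w * z⁻¹ = w⁻¹ := by
    rw [inv_eq_of_mul_eq_one_right hz, eq_inv_iff_mul_eq_one, mul_assoc, hb]
  have h1 : ∀ k : ℕ, z * w ^ k * z⁻¹ = (w ^ k)⁻¹ := fun k => by rw [← conj_pow, h0, inv_pow]
  have h2 : ∀ k : ℕ, (w ^ k)⁻¹ * z = z * w ^ k := fun k => by rw [← h1]; group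
  have h3 : orderOf (w ^ m) = 2 := by
    have := orderOf_pos w
    rw [orderOf_pow_of_dvd (by omega) (by rw [hm]; simp), hm, Nat.mul_div_cancel _ (by omega)]
  have h4 : z * w ^ m = w ^ m * z := by
    rw [← h2, inv_eq_of_mul_eq_one_right (by rw [← sq, ← h3, pow_orderOf_eq_one])]
  refine ⟨w ^ m, h3, h4, by rw [mul_assoc, ← pow_succ', pow_succ, ← mul_assoc, h4, mul_assoc], ?_⟩
  obtain ⟨k, rfl | rfl⟩ := Nat.even_or_odd' m
  · exact .inl (isConj_iff.2 ⟨(w ^ k)⁻¹, by rw [inv_inv, h2, mul_assoc, ← pow_add, two_mul]⟩)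
  · exact .inr (isConj_iff.2 ⟨(w ^ k)⁻¹, by
      rw [inv_inv, ← mul_assoc, h2, mul_assoc, mul_assoc, ← pow_succ', ← pow_add]
      congr 2
      omega⟩)

/-- the intermediate goal -/
def Goal (D R : Subgroup G) (z : G) (M : Subgroup G) : Prop := M ≠ ⊤ ∧ z ∈ M ∧
  ∀ T, KD D z T → ∀ v ∈ T, v ≠ 1 → ∀ g ∈ 𝐂₁[v], ∃ m ∈ M, ∃ y ∈ LL (cl R) 𝐂[T], g = m * y

namespace Cx
variable (J : Cx P D R z)
include J

theorem T_cent (k : KD D z T) (hv : v ∈ T) : T ≤ 𝐂₁[v] := le_cent1.2 (abelian_iff.1 k.k.ab hv)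

theorem oc_le_of (hv : v ∈ P) (h : ∀ r ∈ Ohm1 2 R, r ≠ 1 → 𝐂₁[v] ⊓ 𝐂₁[r] ≤ L) : oc v ≤ L :=
  coprime_abelian_gen_cent1_le (abelianS (Ohm_sub 2 R) (ab_R J.h)) J.T2_nc
    (((Ohm_sub 2 R).trans (R_cent J.h hv)).trans (oc_norm v))
    (cop2 (oc_odd v) (J.c.two.to_le ((Ohm_sub 2 R).trans J.h.scR.1)))
    fun r hr r1 => (inf_le_inf_right _ (oc_le v)).trans (h r hr r1)

theorem cvr (k : KD D z T) (hv : v ∈ T) (v1 : v ≠ 1) (hr : r ∈ Ohm1 2 R) (r1 : r ≠ 1) :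
    𝐂₁[v] ⊓ 𝐂₁[r] ≤ 𝐍[tY D R z] := by
  have rR := Ohm_sub 2 R hr
  have hH : ⟪v⟫ ⊔ ⟪r⟫ ≤ T ⊔ Ohm1 2 R := sup_le_sup (zpowers_le.2 hv) (zpowers_le.2 hr)
  refine J.norms_Y k hH (klein2 (k.k.orderOf hv v1) (abelem_order_p (Ohm1_abelem (ab_R J.h)) hr r1)
    (fun e => r1 (mem_bot.1 (J.h.inf.le ⟨e ▸ k.le hv, rR⟩)))
    (mem_cent.1 (J.h.cen rR) v ((J.inT k).le hv))).not_cyclic fun a ha _ => ?_
  refine J.norms_tt k hv v1 rR r1 (J.V_le k (hH ha)) (le_sup_left.trans (J.V_cent k (hH ha)))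
    (le_trans ?_ (cent_le_cent1 ha)) inf_le_left inf_le_right
  rw [centY, cent_cycle, cent_cycle]

theorem nR (k : KD D z T) (hv : v ∈ T) (v1 : v ≠ 1) : 𝐂₁[v] ⊓ 𝐍[R] ≤ 𝐍[tY D R z] := by
  obtain ⟨r, hr, r1⟩ := J.exists_r
  refine normsP''.2 fun n hn => conj_le_iff.2 (iSup₂_le fun a ha => iSup_le fun a1 =>
    conj_le_iff.1 ?_)
  have ha' : n * a * n⁻¹ ∈ Ohm1 2 R := (memJ_norm ((Ohm_char 2 R).norm_le hn.2)).2 ha
  refine le_trans ?_ (le_iSup₂_of_le _ ha' (le_iSup (fun _ : n * a * n⁻¹ ≠ 1 => _)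
    (mt conj_eq_one_iff.1 a1)))
  have hP : ∀ b ∈ Ohm1 2 R, b ∈ P := fun b hb => J.h.scR.1 (Ohm_sub 2 R hb)
  have hT : ∀ b ∈ Ohm1 2 R, T ≤ 𝐂₁[b] := fun b hb =>
    le_sup_left.trans (J.V_cent k (mem_sup_right hb))
  rw [tt, tt, ← J.dR hr r1 (hP a ha), J.dD k hv v1 (hT a ha), J.dD k hv v1 (hT _ ha'), conj_inf,
    ← J.dR ((memJ_norm hn.2).2 hr) (mt conj_eq_one_iff.1 r1) (hP _ ha')]
  refine inf_le_inf ((cl_ci D).db_conj_le n) (((cl_ci R).db_conj_le n).trans (le_of_eq ?_))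
  rw [mem_cent1.1 hn.1, mul_inv_cancel_right]

theorem goal1 [IsSimpleGroup G] (k : KD D z T) (hY : tY D R z ≠ ⊥) : Goal D R z 𝐍[tY D R z] := by
  refine ⟨simple_norm_ne_top hY fun e => ?_, (J.complete k).2.1 (mem_sup_left k.mem),
    fun T k v hv v1 g hg => ?_⟩
  · have := (J.complete k).1.of_dvd_nat (orderOf_dvd_natCard _ (e ▸ mem_top z))
    rw [J.oz] at this
    exact absurd this (by decide)
  have vP := (J.inT k).le hv
  have hR : R ≤ LL (cl R) 𝐂₁[v] := le_LL (fun _ => mem_cl) (R_cent J.h vP)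
  have hn := (cl_ci R).norm 𝐂₁[v]
  obtain ⟨l, hl, hl'⟩ := conjR J.h hR (conj_le_of_mem_norm (hn hg) hR)
    (isPGroup_conj.2 (J.c.two.to_le J.h.scR.1)) fun x hx => ⟨g⁻¹, by simpa using mem_conj.1 hx⟩
  rw [conj_conj] at hl'
  have h1 : l * g ∈ 𝐂₁[v] := mul_mem (LL_sub _ _ hl) hg
  obtain ⟨o, ho, y, hy, e⟩ := (mem_join_norm ((LL_sub _ _).trans (inf_le_left.trans (oc_norm v)))).1
    (J.c.symm.lift vP v1 (J.inT k) (J.T_cent k hv) ((memJ_norm' (hn h1)).2 (inv_mem hl)))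
  refine ⟨l * g * o, mul_mem (J.nR k hv v1 ⟨h1, mem_norm_of_conj_le hl'⟩)
    (J.oc_le_of vP (fun r hr r1 => J.cvr k hv v1 hr r1) ho), y, LL_mono inf_le_right hy, ?_⟩
  rw [mul_assoc, e]; group

theorem L2_eq (hY : tY D R z = ⊥) (k : KD D z T) (hv : v ∈ T) (v1 : v ≠ 1) :
    LL (cl R) 𝐂₁[v] = LL (cl R) 𝐂[T] := by
  refine le_antisymm (LL_le.2 fun x hx hxv => mem_LL hx ?_) (LL_mono (cent_le_cent1 hv))
  have vP := (J.inT k).le hv
  have Tv := J.T_cent k hv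
  have To := Tv.trans (oc_norm v)
  have Ro := (R_cent J.h vP).trans (oc_norm v)
  have TR : T ≤ 𝐂[R] := centsC.1 (centsS (J.inT k).le J.h.cen)
  have h1 : ⁅oc v, T⁆ ⊓ ⁅oc v, R⁆ ≤ ⊥ := by
    rw [← bot_inf_eq 𝐂₁[v], ← hY, (J.complete k).2.2 v (mem_sup_left hv) v1, tt,
      J.c.symm.db_eq (J.inT k) k.k.ab k.mem J.z1 Tv]
    exact le_inf (inf_le_right.trans le_sup_left) (inf_le_left.trans le_sup_left)
  have h2 : ⁅oc v, T⁆ ⊔ T ≤ 𝐂[R] := sup_le (commG1P.1 (le_bot_iff.1 ((le_inf (commg_subl.2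
    (normsR Ro (cents_norm (centsC.1 TR)))) (commSg _ (commg_subl.2 To))).trans h1))) TR
  have h3 : oc v ⊔ T ≤ 𝐍[⁅oc v, T⁆ ⊔ T] := by
    refine sup_le ?_ (normsG le_sup_right)
    rw [← commg_subl]
    exact commg_sup_le (normsG le_sup_left) (normsG le_sup_right)
      (le_sup_of_le_left (commg_subl.2 (commg_norml _ _))) (commGC _ T ▸ le_sup_left)
  have hS : Syl 2 T (oc v ⊔ T) := by
    have := (hall_sup_of_norm To (pcore_pgroup {2}ᶜ 𝐂₁[v])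
      (by rw [compl_compl]; exact piSub_singleton.2 k.k.pgroup)).2
    rw [compl_compl] at this
    exact this.syl
  have hn : LL (cl R) 𝐂₁[v] ≤ 𝐍[oc v ⊔ T] := by
    rw [← commg_subl]
    exact commg_sup_le (normsG le_sup_left) (normsG le_sup_right)
      (le_sup_of_le_left (commg_subl.2 ((LL_sub _ _).trans (oc_norm v))))
      (le_sup_of_le_left (le_commStab.1 (J.c.symm.le_trr vP v1 (J.inT k).mem Tv)).2)
  obtain ⟨l, hl, hl'⟩ := conjR J.h (le_LL (fun _ => mem_cl) (R_cent J.h vP))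
    (zpowers_le.2 (mem_LL hx hxv)) (J.c.twoB x hx) fun y ⟨j, hj⟩ => by
      obtain ⟨g, hg⟩ := hx
      exact ⟨g, by rw [← hj, ← conj_zpow]; exact zpow_mem hg j⟩
  obtain ⟨w, hw, e⟩ := Sylow_trans hS ((sylJnorm (hn hl)).2 hS)
  have h4 : l •ᶜ T ≤ 𝐂[R] := e ▸ (conj_le_of_mem_norm (h3 hw) le_sup_right).trans h2
  rw [← conj_mem_conj (g := l), ← cent_conj]
  exact centsC.1 h4 (conj_le_iff_forall.1 hl' x (mem_zpowers x))

theorem goal2 [IsSimpleGroup G] (hG : ¬ IsMulCommutative G) (hY : tY D R z = ⊥) :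
    Goal D R z 𝐍[LL (cl R) 𝐂₁[z]] := by
  obtain ⟨r, hr, r1⟩ := J.exists_r
  refine ⟨simple_norm_ne_top (ne_bot_of_mem (mem_LL (mem_cl hr) (R_cent J.h J.zP hr)) r1)
    (ne_top_of_le_ne_top (simple_cent1_ne_top hG J.z1) (LL_sub _ _)),
    (cl_ci R).norm _ (cent1id z), fun T k v hv v1 g hg => ⟨g, ?_, 1, one_mem _, (mul_one g).symm⟩⟩
  rw [J.L2_eq hY k k.mem J.z1, ← J.L2_eq hY k hv v1]
  exact (cl_ci R).norm _ hg

theorem endgame [IsSimpleGroup G] (k : KD D z T) (hM : Goal D R z M) : False := by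
  obtain ⟨hM, zM, hf⟩ := hM
  let St : Subgroup G :=
    { carrier := {g | ∀ x, (∃ m ∈ M, ∃ y ∈ 𝐂₁[z], x = m * y) ↔ ∃ m ∈ M, ∃ y ∈ 𝐂₁[z], x * g = m * y}
      one_mem' := fun x => by rw [mul_one]
      mul_mem' := fun {g g'} hg hg' x => by rw [hg x, hg' (x * g), mul_assoc]
      inv_mem' := fun {g} hg x => by rw [hg (x * g⁻¹), inv_mul_cancel_right] }
  have hSt : ∀ X : Subgroup G, (∀ g ∈ X, ∀ m ∈ M, ∀ y ∈ 𝐂₁[z],
      ∃ m' ∈ M, ∃ y' ∈ 𝐂₁[z], m * y * g = m' * y') → X ≤ St := fun X hX g hg x =>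
    ⟨fun ⟨m, hm, y, hy, e⟩ => e ▸ hX g hg m hm y hy, fun ⟨m, hm, y, hy, e⟩ => by
      have := hX _ (X.inv_mem hg) m hm y hy
      rwa [← e, mul_inv_cancel_right] at this⟩
  have hz : 𝐂₁[z] ≤ St := hSt _ fun g hg m hm y hy => ⟨m, hm, y * g, mul_mem hy hg, mul_assoc _ _ _⟩
  have hD : ∀ v ∈ D, orderOf v = 2 → 𝐂₁[v] ≤ St := fun v hv ov => by
    by_cases e : v = z
    · exact e ▸ hz
    have k' : KD D z (⟪z⟫ ⊔ ⟪v⟫) := ⟨klein2 J.oz ov e (mem_cent.1 J.zc v (J.h.scD.1 hv)).symm,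
      sup_le (zpowers_le.2 J.zD) (zpowers_le.2 hv), mem_sup_left (mem_zpowers z)⟩
    have hv' : v ∈ ⟪z⟫ ⊔ ⟪v⟫ := mem_sup_right (mem_zpowers v)
    refine hSt _ fun g hg m hm y hy => ?_
    obtain ⟨m₁, h1, y₁, h2, rfl⟩ := hf _ k' z k'.mem J.z1 y hy
    obtain ⟨m₂, h3, y₂, h4, e⟩ := hf _ k' v hv' (fun e => by simp [e] at ov) (y₁ * g)
      (mul_mem (cent_le_cent1 hv' (LL_sub _ _ h2)) hg)
    exact ⟨m * m₁ * m₂, mul_mem (mul_mem hm h1) h3, y₂, cent_le_cent1 k'.mem (LL_sub _ _ h4), by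
      rw [mul_assoc _ m₂, ← e]; group⟩
  have h8 : St ≠ ⊤ := fun e => simple_conj_false hM J.z1 fun g => by
    obtain ⟨m, hm, y, hy, e⟩ := ((e ▸ mem_top g : g ∈ St) 1).1 ⟨1, M.one_mem, 1, one_mem _, by simp⟩
    rw [one_mul] at e
    rw [e, mul_assoc m, mem_cent1.1 hy, mul_inv_rev, ← mul_assoc, ← mul_assoc, mul_inv_cancel_right]
    exact M.mul_mem (M.mul_mem hm zM) (M.inv_mem hm)
  obtain ⟨S, hS, hSR⟩ := J.kR
  obtain ⟨r, hr, r1⟩ := exists_ne_one hS.ne_bot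
  refine simple_conj_false h8 r1 fun g => ?_
  have hb : g * r * g⁻¹ ∈ cl R := cl_ci R _ (mem_cl (hSR hr)) g
  have hb2 : g * r * g⁻¹ * (g * r * g⁻¹) = 1 := by rw [conj_mul, hS.2 r hr]; simp
  generalize g * r * g⁻¹ = b at hb hb2
  have zR : z ∉ cl R := fun h => J.z1 (mem_bot.1 (J.h.inf.le ⟨J.zD, sc_mem J.h.scR h J.zP⟩))
  have cc : ∀ {E : Subgroup G} {p q : G}, p ∈ cl E → IsConj p q → q ∈ cl E := fun hp hc => by
    obtain ⟨c, rfl⟩ := isConj_iff.1 hc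
    exact cl_ci _ _ hp c
  obtain ⟨u, ou, zu, bu, hu⟩ := dihedral (by rw [← sq, ← J.oz, pow_orderOf_eq_one]) hb2
    fun hc => zR (cc hb hc.symm)
  obtain ⟨c, hc, hc'⟩ := Sylow_Jsub (J.h.syl.subl (le_cent1.2 J.zc) le_top)
    (zpowers_le.2 (mem_cent1.2 zu.symm)) (prime_pgroup ((Nat.card_zpowers u).trans ou))
  rw [conj_zpowers, zpowers_le] at hc'
  rw [← memJ_norm (normG St (hz hc))]
  have h1 : c * b * c⁻¹ ∈ 𝐂₁[c * u * c⁻¹] := by
    rw [cent1_conj]; exact conj_mem_conj.2 (mem_cent1.2 bu)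
  have h2 : IsConj (z * u) (z * (c * u * c⁻¹)) := isConj_iff.2 ⟨c, by
    rw [← conj_mul, mem_cent1.1 hc, mul_inv_cancel_right]⟩
  have h3 : orderOf (c * u * c⁻¹) = 2 := ((MulAut.conj c).orderOf_eq u).trans ou
  have h4 := cl_ci R b hb c
  generalize c * u * c⁻¹ = u' at *
  rcases hu with hu | hu
  · exact hD u' ((D.mul_mem_cancel_left J.zD).1 (sc_mem J.h.scD (cc (mem_cl J.zD) (hu.trans h2))
      (mul_mem J.zP hc'))) h3 h1
  have h5 : z * u' ∈ R := sc_mem J.h.scR (cc hb (hu.trans h2)) (mul_mem J.zP hc')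
  have h6 : T ≤ 𝐂₁[u'] := le_cent1.2 ((𝐂[T].mul_mem_cancel_left (centS (J.inT k).le J.zc)).1
    (centS (J.inT k).le (J.h.cen h5)))
  refine (J.c.symm.lift hc' (fun e => by simp [e] at h3) (J.inT k) h6).trans (sup_le ?_ ?_)
    (mem_LL h4 h1)
  · exact coprime_abelian_gen_cent1_le k.k.ab k.k.not_cyclic (h6.trans (oc_norm _))
      (cop2 (oc_odd _) k.k.pgroup) fun v hv v1 =>
        inf_le_right.trans (hD v (k.le hv) (k.k.orderOf hv v1))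
  · exact (LL_sub _ _).trans (inf_le_right.trans ((cent_le_cent1 k.mem).trans hz))

end Cx

theorem exists_klein [IsSimpleGroup G] (hZ : StZ4.{u}) (h4 : Cl4 G) (hG : ¬ IsMulCommutative G)
    (hP : Syl 2 P ⊤) (h : SC D P) (hz : z ∈ D) (hc : z ∈ 𝐂[P]) (oz : orderOf z = 2) :
    ∃ T, KD D z T := by
  have z1 : z ≠ 1 := fun e => by simp [e] at oz
  by_contra hn
  refine simple_cent1_ne_top hG z1 (eq_top_iff.2 fun g _ => mem_cent1.2
    (mem_center_iff.1 (hZ G z h4 oz (fun t ht hc' => ?_) ?_) g))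
  · obtain ⟨k, rfl⟩ := isConj_iff.1 ht
    have ot : orderOf (k * z * k⁻¹) = 2 := ((MulAut.conj k).orderOf_eq z).trans oz
    obtain ⟨c, h1, h2⟩ := Sylow_Jsub (hP.subl (le_cent1.2 hc) le_top)
      (zpowers_le.2 (mem_cent1.2 hc'.eq.symm)) (prime_pgroup ((Nat.card_zpowers _).trans ot))
    rw [conj_zpowers, zpowers_le] at h2
    have h3 := sc_conj h (cl_ci D z (mem_cl hz) k) h2
    by_contra hne
    refine hn ⟨_, klein2 oz (((MulAut.conj c).orderOf_eq _).trans ot) (fun e => hne ?_)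
      (mem_cent.1 hc _ h2).symm, sup_le (zpowers_le.2 hz) (zpowers_le.2 h3),
      mem_sup_left (mem_zpowers z)⟩
    change c * (k * z * k⁻¹) * c⁻¹ = z at e
    rwa [mul_inv_eq_iff_eq_mul, ← mem_cent1.1 h1, mul_right_inj] at e
  · refine ((normalIn_top.1 (pcore_normal {2}ᶜ ⊤)).eq_bot_or_eq_top).resolve_right fun e => ?_
    exact p'core_not_dvd 2 ⊤ (oz ▸ orderOf_dvd_natCard _ (e ▸ mem_top z))

end PFs

open PFs in
theorem stPFs (hZ : StZ4.{u}) : StPFs.{u} := by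
  intro G _ _ _ h4 hG hPF P D R h
  by_contra hn
  push Not at hn
  have hD := h.syl.pgroup.to_le h.scD.1
  obtain ⟨z, hz, oz⟩ := exists_order_p hD.to_inf_left (center_nil_ne_bot (pgroup_nil hD) hn.1)
  have zc : z ∈ 𝐂[P] := by
    rw [← h.sup, centY]
    exact ⟨hz.2, centsC.1 h.cen (h.scD.1 hz.1)⟩
  obtain ⟨r, hr, or⟩ := exists_order_p (h.syl.pgroup.to_le h.scR.1) hn.2
  obtain ⟨T, k⟩ := exists_klein hZ h4 hG h.syl h.scD hz.1 zc oz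
  obtain ⟨S, k'⟩ := exists_klein hZ h4 hG h.syl h.scR hr (h.cen hr) or
  have J : Cx P D R z := ⟨h, pr h fun e e1 => hPF _ (simple_cent1_ne_top hG e1), hz.1, zc, oz,
    S, k'.k, k'.le⟩
  by_cases hY : tY D R z = ⊥
  · exact J.endgame k (J.goal2 hG hY)
  · exact J.endgame k (J.goal1 k hY)

end Cfsg.GW
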