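import Cfsg.Agent.GW.Main
import Cfsg.Agent.GW.Final
import Cfsg.Agent.GW.Frob
import Cfsg.Agent.GW.Res
import Cfsg.Agent.GW.Comp
import Cfsg.Agent.GW.DL
import Cfsg.Agent.GW.OrdA
import Cfsg.Agent.GW.C1c
import Cfsg.Agent.GW.C1d
import Cfsg.Agent.GW.GB
import Cfsg.Agent.GW.A7
import Cfsg.Agent.GW.Base
import Cfsg.Agent.GW.B
import Cfsg.Agent.GW.An
import Cfsg.Agent.GW.Ao1
import Cfsg.Agent.GW.Ao2
import Cfsg.Agent.GW.Ao3
import Cfsg.Agent.GW.Ao4
import Cfsg.Agent.GW.G1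
import Cfsg.Agent.GW.G2
import Cfsg.Agent.GW.BSW
import Cfsg.Agent.GW.BS8
import Cfsg.Agent.GW.PFr
import Cfsg.Agent.GW.PFs
import Cfsg.Agent.GW.A1
import Cfsg.Agent.GW.A2

set_option autoImplicit false

namespace Cfsg.GW

universe u

theorem pieces (h2 : StC1D.{u}) : Pieces.{u} where
  frob := stFrob
  sol := stSol
  l1 := stL1 stFrob stSol stRes stComp
  base := stBase stOK stOD (stTrX stFrob stSol stRes stComp)
  b1 := stB1 (stL1 stFrob stSol stRes stComp)
  b2 := stB2 (stL1 stFrob stSol stRes stComp)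
  an := stAn stFrob (stKW stFrob stSol stRes stComp) stC1K h2
  ao1 := stAo1 stSol stRes stComp
  ao2 := stAo2
  ao3 := stAo3 stOK stOD
  ao4 := stAo4 stC1K h2 stGB
  g1 := stG1 stSol stOD stA7 (stG2 stComp stOD)
  g2 := stG2 stComp stOD
  bsw := stBSW

theorem stPF' : StPF.{u} := stPF stZ4 (stPFs stZ4)

theorem final' (h2 : StC1D.{u}) {G : Type u} [Group G] [Finite G]
    (hq : Cfsg.IsQuasisimple G) (P : Sylow 2 G) (hna : ¬ IsMulCommutative (P : Subgroup G))
    (hZ : (Subgroup.center (P : Subgroup G)).index = 4) :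
    Nat.card (P : Subgroup G) = 8 ∧
      (Nonempty (G ≃* alternatingGroup (Fin 7)) ∨
       (Nat.card (Subgroup.center G) = 3 ∧
        Nonempty (G ⧸ Subgroup.center G ≃* alternatingGroup (Fin 7))) ∨
       ∃ (F : Type) (_ : Field F) (_ : Fintype F), Odd (Fintype.card F) ∧
        Nonempty (G ⧸ Subgroup.center G ≃* Matrix.ProjectiveSpecialLinearGroup (Fin 2) F)) :=
  final (stA1 stPF') (stA2 stZ4 stPF') (pieces h2).gwk (pieces h2).gwd hq P hna hZ

end Cfsg.GW
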