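import Cfsg.Agent.GW.Defs
import Cfsg.Agent.Gag.Two
import Cfsg.Agent.Gag.WL1

/-!
# Sylow 2-subgroups with centre of index four: structure and local configurations
-/

set_option autoImplicit false
set_option linter.style.haveILetI false

namespace Cfsg.GW

open Subgroup Cfsg.FT Cfsg.Gag
open scoped Pointwise

universe u

variable {G : Type u} [Group G] {P P₁ K X C : Subgroup G} {a b c g h n u v y z : G}

/-- `P` has centre of index 4 and derived group `⟨z⟩` -/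
structure E4 (P : Subgroup G) (z : G) : Prop where
  zP : z ∈ P
  zc : z ∈ 𝐂[P]
  zz : z * z = 1
  z1 : z ≠ 1
  comm : ∀ a ∈ P, ∀ b ∈ P, a * b = b * a ∨ a * b = z * (b * a)
  cent : ∀ u ∈ P, u ∉ 𝐂[P] → ∀ a ∈ P, a * u = u * a → a ∈ 𝐂[P] ∨ a * u ∈ 𝐂[P]
  ex : ∃ a ∈ P, ∃ b ∈ P, a * b = z * (b * a)

theorem card_cent_two [Finite G] (hP : IsPGroup 2 P) (hc : Nat.card P = 4 * Nat.card ↥𝐙[P])
    (hu : u ∈ P) (hu' : u ∉ 𝐂[P]) : Nat.card ↥(P ⊓ 𝐂₁[u]) = 2 * Nat.card ↥𝐙[P] := by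
  haveI := Fact.mk Nat.prime_two
  have h1 : 𝐙[P] < P ⊓ 𝐂₁[u] := lt_of_le_of_ne (inf_le_inf_left _ (cent_le_cent1 hu))
    fun e => hu' (e.ge ⟨hu, mem_cent1.2 rfl⟩).2
  have h2 : P ⊓ 𝐂₁[u] < P := lt_of_le_of_ne inf_le_left fun e =>
    hu' fun a ha => mem_cent1.1 (e.ge ha).2
  have h3 := card_mul_le_of_lt (hP.to_le inf_le_left) h1
  have h4 := card_mul_le_of_lt hP h2
  omega

theorem exists_e4 [Finite G] (hP : IsPGroup 2 P) (hn : ¬ IsMulCommutative P)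
    (hc : Nat.card P = 4 * Nat.card ↥𝐙[P]) : ∃ z, E4 P z := by
  have cent : ∀ u ∈ P, u ∉ 𝐂[P] → ∀ a ∈ P, a * u = u * a → a ∈ 𝐂[P] ∨ a * u ∈ 𝐂[P] :=
    fun u hu hu' a ha e => or_iff_not_imp_left.2 fun ha' =>
      (Two.idx2 (inf_le_inf_left _ (cent_le_cent1 hu)) (card_cent_two hP hc hu hu')
        ⟨ha, mem_cent1.2 e⟩ ⟨hu, mem_cent1.2 rfl⟩ (fun h => ha' h.2) fun h => hu' h.2).2
  have two : ∀ u ∈ P, ∀ a ∈ P, ∀ b ∈ P, u * a ≠ a * u → u * b ≠ b * u → a * b * u = u * (a * b) :=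
    fun u hu a ha b hb h1 h2 => mem_cent1.1 (Two.idx2 (K := P ⊓ 𝐂₁[u]) inf_le_left
      (by rw [card_cent_two hP hc hu fun h => h1 (h a ha).symm, hc]; ring) ha hb
      (fun h => h1 (mem_cent1.1 h.2).symm) fun h => h2 (mem_cent1.1 h.2).symm).2
  have sq : ∀ u ∈ P, u * u ∈ 𝐂[P] := fun u hu => by
    by_cases h : u ∈ 𝐂[P]
    · exact mul_mem h h
    · exact (cent u hu h u hu rfl).resolve_left h
  obtain ⟨a, ha, b, hb, hab⟩ : ∃ a ∈ P, ∃ b ∈ P, a * b ≠ b * a := by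
    simpa [abelian_iff_forall] using hn
  obtain ⟨z, hz⟩ : ∃ z, a * b = z * (b * a) := ⟨a * b * (b * a)⁻¹, by group⟩
  have zP : z ∈ P := by
    rw [← mul_inv_eq_iff_eq_mul.2 hz]; exact mul_mem (mul_mem ha hb) (inv_mem (mul_mem hb ha))
  have zc : z ∈ 𝐂[P] := by
    have : z = a * b * (a * b) * (a * a)⁻¹ * (b * b)⁻¹ := by
      rw [← mul_inv_eq_iff_eq_mul.2 hz, mul_assoc (a * b), mul_assoc (a * b)]
      congr 1
      rw [mul_assoc, mul_assoc, ← mul_assoc b, inv_mem (sq a ha) b hb]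
      group
    rw [this]
    exact mul_mem (mul_mem (sq _ (mul_mem ha hb)) (inv_mem (sq a ha))) (inv_mem (sq b hb))
  have zz : z * z = 1 := by
    have h1 : a * a * b = z * z * (b * (a * a)) := by
      calc a * a * b = a * z * (b * a) := by rw [mul_assoc, hz, mul_assoc]
        _ = z * (a * b) * a := by rw [zc a ha]; group
        _ = _ := by rw [hz]; group
    rw [← sq a ha b hb] at h1
    exact (right_eq_mul.1 h1)
  have flip : ∀ {s t : G}, s * t = z * (t * s) → t * s = z * (s * t) := fun e => by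
    rw [e, ← mul_assoc, zz, one_mul]
  have ne : ∀ {s t : G}, s * t = z * (t * s) → s * t ≠ t * s := fun e e' =>
    hab (by rw [hz, right_eq_mul.1 (e'.symm.trans e), one_mul])
  have step : ∀ s ∈ P, ∀ t ∈ P, s * t = z * (t * s) → ∀ t' ∈ P, s * t' ≠ t' * s →
      s * t' = z * (t' * s) := fun s hs t ht e t' ht' e' => by
    have h1 := two s hs t ht t' ht' (ne e) e'
    rw [← mul_assoc, e, mul_assoc, mul_assoc, mul_assoc, ← mul_assoc z, ← zc t ht, mul_assoc,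
      mul_right_inj] at h1
    exact flip h1
  refine ⟨z, zP, zc, zz, fun e => hab (by rw [hz, e, one_mul]), fun s hs t ht => ?_, cent,
    a, ha, b, hb, hz⟩
  refine or_iff_not_imp_left.2 fun e => ?_
  by_cases h : a * s = s * a
  · have h1 := (cent a ha (fun h => hab (h b hb).symm) s hs h.symm).resolve_left
      fun h => e (h t ht).symm
    have h2 := step a ha b hb hz t ht fun e' => e (by
      have := h1 t ht
      rw [mul_assoc s, e', ← mul_assoc, ← mul_assoc, mul_left_inj] at this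
      exact this.symm)
    have h3 := h1 t ht
    rw [mul_assoc s, h2, ← mul_assoc s, zc s hs, ← mul_assoc, ← mul_assoc, mul_left_inj,
      mul_assoc] at h3
    exact flip h3
  · exact step s hs a ha (flip (step a ha b hb hz s hs h)) t ht e

namespace E4

variable (E : E4 P z)
include E

theorem zinv : z⁻¹ = z := inv_eq_of_mul_eq_one_right E.zz

theorem zmul (a : G) : z * (z * a) = a := by rw [← mul_assoc, E.zz, one_mul]

theorem nc (ha : a ∈ P) (hb : b ∈ P) (h : a * b ≠ b * a) : a * b = z * (b * a) :=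
  (E.comm a ha b hb).resolve_left h

theorem two (hu : u ∈ P) (ha : a ∈ P) (hb : b ∈ P) (h1 : a * u ≠ u * a) (h2 : b * u ≠ u * b) :
    a * b * u = u * (a * b) := by
  rw [mul_assoc, E.nc hb hu h2, ← mul_assoc, E.zc a ha, mul_assoc, ← mul_assoc a, E.nc ha hu h1,
    mul_assoc, E.zmul, mul_assoc]

theorem conj_cases (ha : a ∈ P) (hb : b ∈ P) : a * b * a⁻¹ = b ∨ a * b * a⁻¹ = z * b :=
  (E.comm a ha b hb).imp (fun e => by rw [e, mul_inv_cancel_right]) fun e => by rw [e]; group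

theorem conj (g : G) : E4 (g •ᶜ P) (g * z * g⁻¹) where
  zP := conj_mem_conj.2 E.zP
  zc := by rw [cent_conj]; exact conj_mem_conj.2 E.zc
  zz := by rw [conj_mul, E.zz, mul_one, mul_inv_cancel]
  z1 := fun e => E.z1 (by simpa using e)
  comm := fun a ha b hb => by
    obtain ⟨a, ha', rfl⟩ := mem_conj_iff_exists.1 ha
    obtain ⟨b, hb', rfl⟩ := mem_conj_iff_exists.1 hb
    simp only [conj_mul]
    exact (E.comm a ha' b hb').imp (fun e => by rw [e]) fun e => by rw [e]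
  cent := fun u hu hu' a ha e => by
    obtain ⟨a, ha', rfl⟩ := mem_conj_iff_exists.1 ha
    obtain ⟨u, hu1, rfl⟩ := mem_conj_iff_exists.1 hu
    simp only [conj_mul, cent_conj, conj_mem_conj, mul_left_inj, mul_right_inj] at hu' e ⊢
    exact E.cent u hu1 hu' a ha' e
  ex := by
    obtain ⟨a, ha, b, hb, e⟩ := E.ex
    exact ⟨_, conj_mem_conj.2 ha, _, conj_mem_conj.2 hb, by simp only [conj_mul, e]⟩

theorem norm_fix (hn : n ∈ 𝐍[P]) : n * z * n⁻¹ = z := by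
  obtain ⟨a, ha, b, hb, e⟩ := E.ex
  have h1 : n * a * n⁻¹ * (n * b * n⁻¹) = n * z * n⁻¹ * (n * b * n⁻¹ * (n * a * n⁻¹)) := by
    simp only [conj_mul, e]
  rcases E.comm _ ((memJ_norm hn).2 ha) _ ((memJ_norm hn).2 hb) with h | h
  · exact absurd (by simpa using right_eq_mul.1 (h.symm.trans h1)) E.z1
  · exact mul_right_cancel (h1.symm.trans h)

/-- elements commuting with a non-central element commute with each other -/
theorem comm_of (hu : u ∈ P) (hu' : u ∉ 𝐂[P]) (ha : a ∈ P) (hb : b ∈ P) (h1 : a * u = u * a)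
    (h2 : b * u = u * b) : a * b = b * a := by
  rcases E.cent u hu hu' a ha h1 with h | h
  · exact (h b hb).symm
  · have := h b hb
    rw [mul_assoc a, ← h2, ← mul_assoc, ← mul_assoc, mul_left_inj] at this
    exact this.symm

end E4

theorem fus_center [Finite G] (hS : Syl 2 P ⊤) (ha : a ∈ 𝐂[P]) (hb : b ∈ 𝐂[P]) (h : IsConj a b) :
    ∃ n ∈ 𝐍[P], n * a * n⁻¹ = b := by
  haveI := Fact.mk Nat.prime_two
  obtain ⟨g, rfl⟩ := isConj_iff.1 h
  obtain ⟨k, hk, e⟩ := Sylow_trans ((hS.conj_top g).subl (K := 𝐂₁[g * a * g⁻¹])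
    (le_cent1.2 (by rw [cent_conj]; exact conj_mem_conj.2 ha)) le_top)
    (hS.subl (le_cent1.2 hb) le_top)
  refine ⟨k * g, mem_norm_of_conj_le (by rw [← conj_conj, ← e]), ?_⟩
  calc k * g * a * (k * g)⁻¹ = k * (g * a * g⁻¹) * k⁻¹ := by group
    _ = _ := by rw [mem_cent1.1 hk, mul_inv_cancel_right]

theorem E4.eq_of_conj [Finite G] (E : E4 P z) (hS : Syl 2 P ⊤) (hc : c ∈ 𝐂[P]) (h : IsConj z c) :
    c = z := by
  obtain ⟨n, hn, rfl⟩ := fus_center hS E.zc hc h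
  exact E.norm_fix hn

/-- elements acting trivially on `⟨z⟩` and on `X` modulo `z` -/
def gam (X : Subgroup G) (hz : z * z = 1) : Subgroup G where
  carrier := {n | n * z * n⁻¹ = z ∧ ∀ a ∈ X, n * a * n⁻¹ = a ∨ n * a * n⁻¹ = z * a}
  one_mem' := ⟨by group, fun _ _ => .inl (by group)⟩
  mul_mem' := fun {n m} hn hm => ⟨by
      calc n * m * z * (n * m)⁻¹ = n * (m * z * m⁻¹) * n⁻¹ := by group
        _ = z := by rw [hm.1, hn.1], fun a ha => by
    have e : n * m * a * (n * m)⁻¹ = n * (m * a * m⁻¹) * n⁻¹ := by group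
    rw [e]
    rcases hm.2 a ha with h | h <;> rw [h]
    · exact hn.2 a ha
    · rw [← conj_mul, hn.1]
      rcases hn.2 a ha with h | h <;> rw [h]
      · exact .inr rfl
      · exact .inl (by rw [← mul_assoc, hz, one_mul])⟩
  inv_mem' := fun {n} hn => by
    have h1 : n⁻¹ * z * n⁻¹⁻¹ = z := by
      conv_lhs => rw [← hn.1]
      group
    refine ⟨h1, fun a ha => (hn.2 a ha).imp (fun h => ?_) fun h => ?_⟩
    · conv_lhs => rw [← h]
      group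
    · calc n⁻¹ * a * n⁻¹⁻¹ = n⁻¹ * z * n⁻¹⁻¹ * (n⁻¹ * (z * a) * n⁻¹⁻¹) := by
            rw [conj_mul, ← mul_assoc z, hz, one_mul]
        _ = z * a := by rw [h1, show n⁻¹ * (z * a) * n⁻¹⁻¹ = a by rw [← h]; group]

theorem E4.le_gam (E : E4 P z) (hX : X ≤ P) : P ≤ gam X E.zz := fun n hn =>
  ⟨by rw [E.zc n hn, mul_inv_cancel_right], fun _ ha => E.conj_cases hn (hX ha)⟩

theorem gam_norm (hz : z * z = 1) : gam X hz ≤ 𝐍[𝐂[X] ⊓ 𝐂₁[z]] := normsP.2 fun n hn k hk => by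
  have h1 := inv_mem hn
  have h2 : ∀ a, n⁻¹ * a * n⁻¹⁻¹ * k = k * (n⁻¹ * a * n⁻¹⁻¹) →
      a * (n * k * n⁻¹) = n * k * n⁻¹ * a := fun a e => by
    calc a * (n * k * n⁻¹) = n * (n⁻¹ * a * n⁻¹⁻¹ * k) * n⁻¹ := by group
      _ = _ := by rw [e]; group
  have h3 := mem_cent1.1 hk.2
  refine ⟨fun a ha => h2 a ?_, mem_cent1.2 (h2 z (by rw [h1.1, h3])).symm⟩
  rcases h1.2 a ha with h | h <;> rw [h]
  · exact hk.1 a ha
  · rw [mul_assoc, hk.1 a ha, ← mul_assoc, ← h3, mul_assoc]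

theorem gam_sq (hz : z * z = 1) (hn : n ∈ gam X hz) : n * n ∈ 𝐂[X] ⊓ 𝐂₁[z] := by
  have h2 : ∀ a, n * (n * a * n⁻¹) * n⁻¹ = a → a * (n * n) = n * n * a := fun a e => by
    conv_lhs => rw [← e]
    group
  refine ⟨fun a ha => h2 a ?_, mem_cent1.2 (h2 z (by rw [hn.1, hn.1])).symm⟩
  rcases hn.2 a ha with h | h
  · rw [h, h]
  · rw [h, ← conj_mul, hn.1, h, ← mul_assoc, hz, one_mul]

theorem gam_le [Finite G] (hz : z * z = 1) (hS : Syl 2 P ⊤) (hP : P ≤ gam X hz) :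
    gam X hz ≤ (𝐂[X] ⊓ 𝐂₁[z]) ⊔ P := fun n hn => by
  haveI := Fact.mk Nat.prime_two
  have hK : 𝐂[X] ⊓ 𝐂₁[z] ≤ gam X hz := fun k hk =>
    ⟨by rw [mem_cent1.1 hk.2, mul_inv_cancel_right], fun a ha =>
      .inl (by rw [← hk.1 a ha, mul_inv_cancel_right])⟩
  refine Fin5.mem_of_syl (p := 2) (k := 1) (sub_der1_normal (commg_le_iff.2 fun a ha b hb => ?_)
    (sup_le hK hP)) (hS.subl hP le_top) le_sup_right hn
    (mem_sup_left (by rw [pow_one, pow_two]; exact gam_sq hz hn))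
  rw [show a * b * a⁻¹ * b⁻¹ = a * b * (a * b) * (b⁻¹ * (a * a)⁻¹ * b) * (b * b)⁻¹ by group]
  exact mem_sup_left (mul_mem (mul_mem (gam_sq hz (mul_mem ha hb))
    ((memJ_norm' (gam_norm hz hb)).2 (inv_mem (gam_sq hz ha)))) (inv_mem (gam_sq hz hb)))

/-- two such Sylow subgroups with the same derived group act alike on a common subgroup -/
theorem same_act [Finite G] (hS : Syl 2 P ⊤) (E : E4 P z) (E₁ : E4 P₁ z) (hX : X ≤ P) (hX₁ : X ≤ P₁)
    (hc : c ∈ X) (h : c ∈ 𝐂[P]) : c ∈ 𝐂[P₁] :=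
  centsC.1 ((E₁.le_gam hX₁).trans ((gam_le E.zz hS (E.le_gam hX)).trans (sup_le
    (inf_le_left.trans (centS (zpowers_le.2 hc))) (centsC.1 (zpowers_le.2 h))))) (mem_zpowers c)

/-- the local configuration at the maximal subgroup `C_P(y)` -/
structure Cf (P : Subgroup G) (z y : G) (C : Subgroup G) : Prop where
  yP : y ∈ P
  yZ : y ∉ 𝐂[P]
  yy : y * y = 1
  cj : IsConj z y
  le : C ≤ 𝐙[P]
  zC : z ∉ C
  dec : ∀ c ∈ P, c ∈ 𝐂[P] → c ∈ C ∨ z * c ∈ C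
  fus : ∀ c ∈ C, IsConj (z * c) (y * c)
  nrm : ∀ n ∈ 𝐍[P], n * y * n⁻¹ = y → n ∈ 𝐍[C]

theorem exists_cf [Finite G] (hS : Syl 2 P ⊤) (E : E4 P z) (hc4 : Nat.card P = 4 * Nat.card ↥𝐙[P])
    (hu : u ∈ P) (hu' : u ∉ 𝐂[P]) (hc : c ∈ 𝐂[P]) (h : IsConj c u) :
    ∃ y C, Cf P z y C ∧ y * u = u * y := by
  haveI := Fact.mk Nat.prime_two
  obtain ⟨g, hg, hA⟩ : ∃ g, u ∈ 𝐂[g •ᶜ P] ∧ P ⊓ 𝐂₁[u] ≤ g •ᶜ P := by
    obtain ⟨g, e⟩ := isConj_iff.1 h
    have h1 : g •ᶜ P ≤ 𝐂₁[u] := le_cent1.2 (by rw [cent_conj, ← e]; exact conj_mem_conj.2 hc)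
    obtain ⟨k, hk, e⟩ := Sylow_subJ ((hS.conj_top g).subl h1 le_top) inf_le_right
      (hS.pgroup.to_le (inf_le_left : P ⊓ 𝐂₁[u] ≤ P))
    refine ⟨k * g, le_cent1.1 ?_, by rwa [← conj_conj]⟩
    rw [← conj_conj]
    exact (conj_le_iff_of_mem hk).2 h1
  set A := P ⊓ 𝐂₁[u]
  set y := g * z * g⁻¹ with hy
  have E₁ : E4 (g •ᶜ P) y := E.conj g
  have hS₁ := hS.conj_top g
  have hcard : Nat.card ↥(g •ᶜ P) = 2 * Nat.card A := by
    rw [card_conj, card_cent_two hS.pgroup hc4 hu hu', hc4]; ring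
  have hab : ∀ a ∈ A, ∀ b ∈ A, a * b = b * a := fun a ha b hb =>
    E.comm_of hu hu' ha.1 hb.1 (mem_cent1.1 ha.2) (mem_cent1.1 hb.2)
  have hcen : ∀ k ∈ g •ᶜ P, k ∉ A → ∀ a ∈ 𝐂[A], k * a = a * k → a ∈ 𝐂[g •ᶜ P] :=
    fun k hk hk' a ha e s hs => by
      by_cases h : s ∈ A
      · exact ha s h
      · have := ha _ (Two.idx2 hA hcard hs hk h hk')
        rw [mul_assoc, e, ← mul_assoc, ← mul_assoc, mul_left_inj] at this
        exact this
  obtain ⟨k, hk, hk'⟩ : ∃ k ∈ g •ᶜ P, k ∉ A := by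
    by_contra hcon
    push Not at hcon
    obtain ⟨a, ha, b, hb, e⟩ := E₁.ex
    exact E₁.z1 (right_eq_mul.1 ((hab b (hcon b hb) a (hcon a ha)).trans e))
  have hyA : y ∈ A := by
    by_contra hcon
    obtain ⟨a, ha, b, hb, e⟩ := E₁.ex
    have h1 : ∀ s ∈ g •ᶜ P, s ∈ 𝐂[A] := fun s hs t ht => by
      by_cases h : s ∈ A
      · exact hab t ht s h
      · have := hab t ht _ (Two.idx2 hA hcard hs E₁.zP h hcon)
        rw [mul_assoc s, ← E₁.zc t (hA ht), ← mul_assoc t, ← mul_assoc s, mul_left_inj] at this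
        exact this
    exact E₁.z1 (right_eq_mul.1 ((hcen y E₁.zP hcon a (h1 a ha) (E₁.zc a ha).symm b hb).trans e))
  have hzA : z ∈ A := ⟨E.zP, mem_cent1.2 (E.zc u hu).symm⟩
  have cj : IsConj z y := isConj_iff.2 ⟨g, rfl⟩
  have hne : y ≠ z := fun e =>
    hu' (same_act hS₁ (e ▸ E₁) E hA inf_le_left ⟨hu, mem_cent1.2 rfl⟩ hg)
  have yZ : y ∉ 𝐂[P] := fun h => hne (E.eq_of_conj hS h cj)
  have zZ : k * z ≠ z * k := fun h => hne
    (E₁.eq_of_conj hS₁ (hcen k hk hk' z (fun a ha => hab a ha z hzA) h) cj.symm).symm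
  have hZA : ∀ c ∈ P, c ∈ 𝐂[P] → c ∈ A := fun c h1 h2 => ⟨h1, mem_cent1.2 (h2 u hu).symm⟩
  refine ⟨y, 𝐙[P] ⊓ 𝐂[g •ᶜ P], ⟨hyA.1, yZ, E₁.zz, cj, inf_le_left, fun h => zZ (h.2 k hk),
    fun c h1 h2 => or_iff_not_imp_left.2 fun h3 => ⟨⟨mul_mem E.zP h1, mul_mem E.zc h2⟩, ?_⟩,
    fun c hc => ?_, fun n hn e => ?_⟩, mem_cent1.1 hyA.2⟩
  · refine hcen k hk hk' _ (fun a ha => hab a ha _ (mul_mem hzA (hZA c h1 h2))) ?_
    exact (E₁.two hk (hA hzA) (hA (hZA c h1 h2)) zZ.symm fun h => h3 ⟨⟨h1, h2⟩,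
      hcen k hk hk' c (fun a ha => hab a ha c (hZA c h1 h2)) h.symm⟩).symm
  · obtain ⟨s, hs, e⟩ : ∃ s ∈ P, s * y ≠ y * s := by
      by_contra hcon
      push Not at hcon
      exact yZ hcon
    refine (isConj_iff.2 ⟨k, ?_⟩ : IsConj _ (z * y * c)).trans (isConj_iff.2 ⟨s, ?_⟩).symm
    · rw [← conj_mul, E₁.nc hk (hA hzA) zZ, hc.2 k hk, ← E.zc y hyA.1]; group
    · rw [← conj_mul, E.nc hs hyA.1 e, hc.1.2 s hs]; group
  · have hAy : A = P ⊓ 𝐂₁[y] := le_antisymm (fun a ha => ⟨ha.1, mem_cent1.2 (hab a ha y hyA)⟩)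
      fun a ha => ⟨ha.1, mem_cent1.2
        (E.comm_of hyA.1 yZ ha.1 hu (mem_cent1.1 ha.2) (mem_cent1.1 hyA.2).symm)⟩
    have hnA : n ∈ 𝐍[A] := by
      rw [hAy]
      exact normsGI (zpowers_le.2 hn) (zpowers_le.2 (mem_cent1.2 (mul_inv_eq_iff_eq_mul.1 e)))
        (mem_zpowers n)
    have E₂ := E₁.conj n
    rw [e] at E₂
    refine mem_norm_of_conj_le fun c hc => ?_
    obtain ⟨c, hc', rfl⟩ := mem_conj_iff_exists.1 hc
    have h1 : n * c * n⁻¹ ∈ 𝐙[P] :=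
      (memJ_norm (norms_center (zpowers_le.2 hn) (mem_zpowers n))).2 hc'.1
    exact ⟨h1, same_act (hS₁.conj_top n) E₂ E₁ (conj_eq_of_mem_norm hnA ▸ conj_le_conj.2 hA) hA
      (hZA _ h1.1 h1.2) (by rw [cent_conj]; exact conj_mem_conj.2 hc'.2)⟩

end Cfsg.GW
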