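import Cfsg.Agent.GW.Defs
import Cfsg.Agent.Gag.FinBase
import Cfsg.Agent.Lin.Scott
import Cfsg.Agent.Grp.Landau

/-! Moore's presentation of `A₇`: index bounds. -/

set_option autoImplicit false
set_option linter.unusedSectionVars false

namespace Cfsg.GW.A7

open Subgroup Cfsg.FT Cfsg.Gag.Fin5
open scoped Pointwise

universe u

variable {G : Type u} [Group G] [Finite G] {A B L : Subgroup G} {a b c d e : G}

/-- `g` lies in `B` or in the double coset `BaB` -/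
def DC (B : Subgroup G) (a g : G) : Prop := g ∈ B ∨ ∃ u ∈ B, ∃ v ∈ B, g = u * a * v

theorem dc (ha : a * a = 1) (h : ∀ g ∈ B, DC B a (a * g * a)) : ∀ g ∈ B ⊔ ⟪a⟫, DC B a g := by
  have l : ∀ x ∈ B, ∀ y ∈ B, ∀ g, DC B a g → DC B a (x * g * y) := by
    rintro x hx y hy g (h | ⟨u, hu, v, hv, rfl⟩)
    · exact Or.inl (mul_mem (mul_mem hx h) hy)
    · exact Or.inr ⟨_, mul_mem hx hu, _, mul_mem hv hy, by group⟩
  let K : Subgroup G :=
    { carrier := {g | DC B a g}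
      one_mem' := Or.inl (one_mem _)
      mul_mem' := by
        rintro x y (h1 | ⟨u, hu, v, hv, rfl⟩) h2
        · simpa using l x h1 1 (one_mem _) y h2
        rcases h2 with h2 | ⟨u', hu', v', hv', rfl⟩
        · exact Or.inr ⟨u, hu, _, mul_mem hv h2, by group⟩
        · simpa [mul_assoc] using l u hu v' hv' _ (h _ (mul_mem hv hu'))
      inv_mem' := by
        rintro x (h1 | ⟨u, hu, v, hv, rfl⟩)
        · exact Or.inl (inv_mem h1)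
        · exact Or.inr ⟨_, inv_mem hv, _, inv_mem hu, by
            rw [mul_inv_rev, mul_inv_rev, inv_eq_of_mul_eq_one_right ha, mul_assoc]⟩ }
  exact fun g hg => sup_le (b := ⟪a⟫) (c := K) (fun x hx => Or.inl hx)
    (zpowers_le.2 (Or.inr ⟨1, one_mem _, 1, one_mem _, by simp⟩)) hg

theorem rel_le (hN : a ∈ 𝐍[A]) (hA : A ≤ B) (h : ∀ g ∈ B ⊔ ⟪a⟫, DC B a g) :
    B.relIndex (B ⊔ ⟪a⟫) ≤ A.relIndex B + 1 := by
  have m : a ∈ B ⊔ ⟪a⟫ := mem_sup_right (mem_zpowers a)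
  refine (Nat.card_le_card_of_surjective (α := Option (B ⧸ A.subgroupOf B))
    (fun x => x.elim ((1 : ↥(B ⊔ ⟪a⟫)) : _ ⧸ B.subgroupOf _) fun q =>
      ((⟨_, mul_mem (mem_sup_left q.out.2) m⟩ : ↥(B ⊔ ⟪a⟫)) : _ ⧸ B.subgroupOf _)) ?_).trans_eq
    Finite.card_option
  rintro ⟨g, hg⟩
  rcases h g hg with h | ⟨u, hu, v, hv, rfl⟩
  · exact ⟨none, QuotientGroup.eq.2 (by simpa [mem_subgroupOf] using h)⟩
  obtain ⟨k, hk⟩ := QuotientGroup.mk_out_eq_mul (A.subgroupOf B) ⟨u, hu⟩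
  refine ⟨some (⟨u, hu⟩ : B), QuotientGroup.eq.2 ?_⟩
  have := mul_mem (hA ((memJ_norm' hN).2 (inv_mem (mem_subgroupOf.1 k.2)))) hv
  simpa [mem_subgroupOf, hk, mul_assoc] using this

theorem dc_step (ha : a * a = 1) (hN : a ∈ 𝐍[A]) (hb : a * b * a = b * a * b)
    (h : ∀ g ∈ A ⊔ ⟪b⟫, DC A b g) : ∀ g ∈ A ⊔ ⟪b⟫ ⊔ ⟪a⟫, DC (A ⊔ ⟪b⟫) a g := dc ha fun g hg => by
  have i := inv_eq_of_mul_eq_one_right ha
  have n : ∀ u ∈ A, a * u * a ∈ A ⊔ ⟪b⟫ := fun u hu =>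
    mem_sup_left (by simpa only [i] using (memJ_norm hN).2 hu)
  have m : b ∈ A ⊔ ⟪b⟫ := mem_sup_right (mem_zpowers b)
  rcases h g hg with h | ⟨u, hu, v, hv, rfl⟩
  · exact Or.inl (n g h)
  refine Or.inr ⟨_, mul_mem (n u hu) m, _, mul_mem m (n v hv), ?_⟩
  calc _ = a * u * (a * a) * b * (a * a) * v * a := by rw [ha]; group
    _ = a * u * a * (a * b * a) * (a * v * a) := by group
    _ = _ := by rw [hb]; group

theorem braid (ha : a * a = 1) (hb : b * b = 1) (h : (b * a) ^ 3 = 1) : a * b * a = b * a * b := by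
  rw [eq_inv_of_mul_eq_one_right (show b * a * b * (a * b * a) = 1 by
    simpa [pow_succ, mul_assoc] using h)]
  simp [inv_eq_of_mul_eq_one_right ha, inv_eq_of_mul_eq_one_right hb, mul_assoc]

theorem moore (ha : a ^ 3 = 1) (hb : b * b = 1) (hc : c * c = 1) (hd : d * d = 1) (he : e * e = 1)
    (ab : (a * b) ^ 3 = 1) (bc : (b * c) ^ 3 = 1) (cd : (c * d) ^ 3 = 1) (de : (d * e) ^ 3 = 1)
    (ac : c * a * c⁻¹ = a⁻¹) (ad : d * a * d⁻¹ = a⁻¹) (ae : e * a * e⁻¹ = a⁻¹)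
    (bd : d * b = b * d) (be : e * b = b * e) (ce : e * c = c * e) :
    Nat.card ↥(⟪a⟫ ⊔ ⟪b⟫ ⊔ ⟪c⟫ ⊔ ⟪d⟫) ≤ 360 ∧
      (⟪a⟫ ⊔ ⟪b⟫ ⊔ ⟪c⟫ ⊔ ⟪d⟫).relIndex (⟪a⟫ ⊔ ⟪b⟫ ⊔ ⟪c⟫ ⊔ ⟪d⟫ ⊔ ⟪e⟫) ≤ 7 := by
  have n : ∀ x y : G, y * x * y⁻¹ = x⁻¹ → ⟪y⟫ ≤ 𝐍[⟪x⟫] := fun x y h =>
    zpowers_le.2 (mem_norm_of_conj_le (by rw [conj_zpowers, h, zpowers_inv]))
  have m : ∀ x y : G, y * x = x * y → ⟪y⟫ ≤ 𝐍[⟪x⟫] := fun x y h =>
    norms_cycle (zpowers_le.2 (mem_cent1.2 h))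
  have e1 : b * a * b = a⁻¹ * b * a⁻¹ := by
    calc _ = a⁻¹ * (a * b) ^ 3 * b⁻¹ * a⁻¹ := by simp [pow_succ, mul_assoc]
      _ = _ := by rw [ab, mul_one, inv_eq_of_mul_eq_one_right hb]
  have d1 : ∀ g ∈ ⟪a⟫ ⊔ ⟪b⟫, DC ⟪a⟫ b g := dc hb fun g hg => by
    rcases mem_cycle3 ha hg with rfl | rfl | rfl
    · exact Or.inl (by simp [hb])
    · exact Or.inr ⟨_, inv_mem hg, _, inv_mem hg, e1⟩
    · refine Or.inr ⟨_, mem_zpowers a, _, mem_zpowers a, inv_injective ?_⟩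
      simpa [inv_eq_of_mul_eq_one_right hb, mul_assoc] using e1
  have n2 := zpowers_le.1 (n a c ac)
  have n3 := zpowers_le.1 (normsY (n a d ad) (m b d bd))
  have d2 := dc_step hc n2 (braid hc hb bc) d1
  have d3 := dc_step hd n3 (braid hd hc cd) d2
  have n4 := zpowers_le.1 (normsY (normsY (n a e ae) (m b e be)) (m c e ce))
  have r0 : Nat.card ⟪a⟫ ≤ 3 := Nat.card_zpowers a ▸ orderOf_le_of_pow_eq_one (by decide) ha
  have r1 := rel_le (A := ⊥) (norm_bot (G := G) ▸ mem_top b) bot_le d1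
  have r2 := rel_le n2 le_sup_left d2
  have r3 := rel_le n3 le_sup_left d3
  have r4 := rel_le n4 le_sup_left (dc_step he n4 (braid he hd de) d3)
  rw [relIndex_bot_left] at r1
  refine ⟨?_, by omega⟩
  rw [← card_mul_relIndex (le_sup_left (a := _ ⊔ _ ⊔ _)), ← card_mul_relIndex (le_sup_left (a := _ ⊔ _)),
    ← card_mul_relIndex (le_sup_left (a := ⟪a⟫))]
  exact Nat.mul_le_mul (Nat.mul_le_mul (Nat.mul_le_mul r0 (by omega : _ ≤ 4)) (by omega : _ ≤ 5))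
    (by omega : _ ≤ 6)

theorem alt_of_index [IsSimpleGroup G] (hG : Nat.card G = 2520) (h : L.index ≤ 7) :
    L = ⊤ ∨ IsA7 G := by
  rcases h.eq_or_lt with h | h
  · exact Or.inr (nonempty_alt_of_index (by decide) h (by rw [hG]; decide))
  refine Or.inl (top_le_iff.1 ((L.normalCore_normal.eq_bot_or_eq_top.resolve_left fun e => ?_).ge.trans
    L.normalCore_le))
  have := (index_normalCore_dvd_factorial L).trans (Nat.factorial_dvd_factorial (Nat.le_of_lt_succ h))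
  rw [e, index_bot, hG] at this
  exact absurd this (by decide)

end Cfsg.GW.A7
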