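import Cfsg.Agent.GW.Alpha
import Cfsg.Agent.GW.DLa
import Cfsg.Agent.FT.Base.Frob
import Cfsg.Agent.FT.Base.Rank

/-!
# S4594 core, piece `StAo4`: general lemmas
-/

set_option autoImplicit false

namespace Cfsg.GW.Ao4

open Subgroup Cfsg.FT Cfsg.Gag
open scoped Pointwise

universe u

variable {G : Type u} [Group G] [Finite G] {K M N U Y T : Subgroup G} {s u v x a : G} {p : ℕ}

theorem odd_ord (ho : Odd (Nat.card Y)) (hx : x ∈ Y) : Odd (orderOf x) :=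
  ho.of_dvd_nat (orderOf_dvd_natCard Y hx)

omit [Finite G] in
theorem mem_of_sq (ho : Odd (orderOf x)) (h : x * x ∈ N) : x ∈ N := by
  obtain ⟨j, hj⟩ := ho
  have : x = (x * x) ^ (j + 1) := by
    rw [← pow_two, ← pow_mul, show 2 * (j + 1) = orderOf x + 1 by omega, pow_succ,
      pow_orderOf_eq_one, one_mul]
  exact this ▸ pow_mem h _

omit [Finite G] in
theorem conj_mem2 (ss : s * s = 1) (hn : s ∈ 𝐍[Y]) (hx : x ∈ Y) : s * x * s ∈ Y := by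
  simpa [inv_eq_of_mul_eq_one_right ss] using (memJ_norm hn).2 hx

omit [Finite G] in
theorem cent2 (ss : s * s = 1) : x ∈ 𝐂₁[s] ↔ s * x * s = x := by
  rw [mem_cent1, eq_comm, ← mul_inv_eq_iff_eq_mul, inv_eq_of_mul_eq_one_right ss]

omit [Finite G] in
theorem eq_one_of_inv (ss : s * s = 1) (ho : Odd (orderOf x)) (h : s * x * s = x⁻¹)
    (hc : x ∈ 𝐂₁[s]) : x = 1 :=
  mem_bot.1 (mem_of_sq ho (mem_bot.2 (by rw [(cent2 ss).1 hc] at h; nth_rw 1 [h]; simp)))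

theorem decomp (ho : Odd (Nat.card Y)) (ss : s * s = 1) (hn : s ∈ 𝐍[Y]) (hu : u ∈ Y) :
    ∃ w ∈ Y ⊓ 𝐂₁[s], ∃ v ∈ Y, s * v * s = v⁻¹ ∧ u = w * v := by
  have si := inv_eq_of_mul_eq_one_right ss
  set x := u⁻¹ * (s * u * s) with hx
  have h1 : x ∈ Y := mul_mem (inv_mem hu) (conj_mem2 ss hn hu)
  have h2 : s * x * s⁻¹ = x⁻¹ := by
    rw [hx, show s * (u⁻¹ * (s * u * s)) * s⁻¹ = s * u⁻¹ * s * u by group]
    simp [si, mul_assoc]
  obtain ⟨j, hj⟩ := odd_ord ho h1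
  have h3 : s * x ^ j * s⁻¹ = (x ^ j)⁻¹ := by rw [← conj_pow, h2, inv_pow]
  have h4 : x * x ^ j = (x ^ j)⁻¹ := by
    rw [eq_inv_iff_mul_eq_one, ← pow_succ', ← pow_add, show j + 1 + j = orderOf x by omega,
      pow_orderOf_eq_one]
  refine ⟨u * (x ^ j)⁻¹, mem_inf.2 ⟨mul_mem hu (inv_mem (pow_mem h1 j)), (cent2 ss).2 ?_⟩, x ^ j,
    pow_mem h1 j, by rwa [si] at h3, by simp⟩
  calc _ = u * (u⁻¹ * (s * u * s⁻¹)) * (s * x ^ j * s⁻¹)⁻¹ := by nth_rw 2 [← si]; group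
    _ = _ := by rw [h3, si, ← hx, inv_inv, mul_assoc, h4]

theorem inv_mod (ho : Odd (Nat.card Y)) (ss : s * s = 1) (hn : s ∈ 𝐍[Y]) (hN : Y ≤ 𝐍[N])
    (h : Y ⊓ 𝐂₁[s] ≤ N) (hu : u ∈ Y) : s * u * s * u ∈ N := by
  obtain ⟨w, hw, v, hv, e, rfl⟩ := decomp ho ss hn hu
  have : s * (w * v) * s * (w * v) = w * (v⁻¹ * w * v) := by
    rw [show s * (w * v) * s = s * w * (s * s) * v * s by rw [ss, mul_one, mul_assoc s w],
      show s * w * (s * s) * v * s = (s * w * s) * (s * v * s) by group, (cent2 ss).1 hw.2, e]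
    group
  exact this ▸ mul_mem (h hw) ((memJ_norm' (hN hv)).2 (h hw))

omit [Finite G] in
theorem der_le_of_inv (ss : s * s = 1) (hN : Y ≤ 𝐍[N]) (h : ∀ u ∈ Y, s * u * s * u ∈ N) :
    ⁅Y, Y⁆ ≤ N := commg_le_iff.2 fun x hx y hy => by
  have h1 := mul_mem (mul_mem (inv_mem ((memJ_norm (hN hx)).2 (h _ (inv_mem hy))))
    (inv_mem (h _ (inv_mem hx)))) (h _ (mul_mem (inv_mem hx) (inv_mem hy)))
  rwa [show (x * (s * y⁻¹ * s * y⁻¹) * x⁻¹)⁻¹ * (s * x⁻¹ * s * x⁻¹)⁻¹ * (s * (x⁻¹ * y⁻¹) * s *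
    (x⁻¹ * y⁻¹)) = x * y * s⁻¹ * y * (s * s)⁻¹ * y⁻¹ * s * x⁻¹ * y⁻¹ by group, ss,
    show x * y * s⁻¹ * y * 1⁻¹ * y⁻¹ * s * x⁻¹ * y⁻¹ = x * y * x⁻¹ * y⁻¹ by group] at h1

theorem ncard_inv (ho : Odd (Nat.card Y)) (ss : s * s = 1) (hn : s ∈ 𝐍[Y]) :
    {v | v ∈ Y ∧ s * v * s = v⁻¹}.ncard = 𝐂₁[s].relIndex Y := by
  refine Nat.eq_of_mul_eq_mul_left (Nat.card_pos (α := ↥(Y ⊓ 𝐂₁[s]))) ?_
  have e := card_mul_relIndex (inf_le_left : Y ⊓ 𝐂₁[s] ≤ Y)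
  rw [inf_relIndex_left] at e
  rw [e, ← Nat.card_coe_set_eq, ← Nat.card_prod]
  refine Nat.card_congr (Equiv.ofBijective (fun z => ⟨z.1 * z.2, mul_mem z.1.2.1 z.2.2.1⟩)
    ⟨?_, fun ⟨u, hu⟩ => ?_⟩)
  · rintro ⟨⟨w, hw⟩, v, hv, e⟩ ⟨⟨w', hw'⟩, v', hv', e'⟩ h
    have h1 : w * v = w' * v' := congrArg Subtype.val h
    have key : ∀ w ∈ 𝐂₁[s], ∀ v, s * v * s = v⁻¹ → (s * (w * v) * s)⁻¹ * (w * v) = v * v :=
      fun w hw v e => by
        rw [show s * (w * v) * s = s * w * (s * s) * v * s by rw [ss, mul_one, mul_assoc s w],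
          show s * w * (s * s) * v * s = (s * w * s) * (s * v * s) by group, (cent2 ss).1 hw, e]
        group
    have h2 : v * v = v' * v' := by rw [← key w hw.2 v e, h1, key w' hw'.2 v' e']
    obtain ⟨j, hj⟩ := ho
    have h3 : ∀ v ∈ Y, v = (v * v) ^ (j + 1) := fun v hv => by
      rw [← pow_two, ← pow_mul, show 2 * (j + 1) = Nat.card Y + 1 by omega, pow_succ,
        orderOf_dvd_iff_pow_eq_one.1 (orderOf_dvd_natCard Y hv), one_mul]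
    obtain rfl : v = v' := by rw [h3 v hv, h2, ← h3 v' hv']
    obtain rfl : w = w' := mul_right_cancel h1
    rfl
  · obtain ⟨w, hw, v, hv, e, rfl⟩ := decomp ho ss hn hu
    exact ⟨(⟨w, hw⟩, ⟨v, hv, e⟩), rfl⟩

theorem cent_le_der (ho : Odd (Nat.card Y)) (os : orderOf s = 2) (hn : s ∈ 𝐍[Y])
    (h : ⁅Y, ⟪s⟫⁆ = Y) : Y ⊓ 𝐂₁[s] ≤ ⁅Y, Y⁆ := by
  have h1 : ⟪s⟫ ≤ 𝐍[Y] := zpowers_le.2 hn
  have h2 := coprime_abel_cent_TI (quotient_norms ⁅Y, Y⁆ h1) (coprime_quo2 _ (cop_inv ho os))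
    (der_abelian Y)
  rw [coprime_quo_commg_eq (der_norm Y) (normsR h1 h1) h] at h2
  rw [← quotient_sub1 (inf_le_left.trans (der_norm Y)), eq_bot_iff, ← h2, ← cent_cycle]
  exact quotient_subcent _ _ _

theorem dvd_pred_quo (hp : (orderOf x).Prime) (hK : x ∈ 𝐍[K]) (hN : x ∈ 𝐍[N]) (hn : N ⊴ K)
    (hc : (Nat.card N).Coprime (orderOf x)) (h : K ⊓ 𝐂₁[x] ≤ N) :
    orderOf x ∣ N.relIndex K - 1 := by
  have h1 : orderOf (coset N x) = orderOf x :=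
    ((Nat.dvd_prime hp).1 (orderOf_coset_dvd N x)).resolve_left fun e =>
      hp.one_lt.ne' (Nat.eq_one_of_dvd_coprimes hc
        (orderOf_dvd_natCard N (coset_idr hN (orderOf_eq_one_iff.1 e))) dvd_rfl)
  have h2 := regular_norm_dvd_pred (K := K ⁄ N) (R := ⟪coset N x⟫)
    (quotient_cycle hN ▸ quotient_norms N (zpowers_le.2 hK))
    (semiregular_prime (by rwa [Nat.card_zpowers, h1]) (by
      rw [cent_cycle, ← coprime_quotient_cent1 (.inl hn.1) hN hc, quotientS1 h]))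
  rwa [Nat.card_zpowers, h1, card_quotient hn.2] at h2

theorem index_le_lines [Fact p.Prime] (hU : U ≤ 𝐍[T]) (he : ∀ x ∈ T, x ^ p = 1) (ha : a ∈ T)
    (oa : orderOf a = p) (hM : 𝐍[⟪a⟫] ≤ M) : M.relIndex U * (p - 1) ≤ Nat.card T - 1 := by
  rw [← card_p1Elem_abelem he]
  refine Nat.mul_le_mul_right _ (Nat.card_le_card_of_injective
    (fun q : U ⧸ M.subgroupOf U => (⟨(q.out : G) •ᶜ ⟪a⟫,
      (pnElemJ_norm (hU q.out.2)).2 (cycle_p1Elem ha oa)⟩ : pnElem p 1 T)) fun q q' e => ?_)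
  have e' : (q.out : G) •ᶜ ⟪a⟫ = (q'.out : G) •ᶜ ⟪a⟫ := congrArg Subtype.val e
  rw [← q.out_eq', ← q'.out_eq', QuotientGroup.eq]
  exact hM (conj_eq_iff_mem_norm.1 (by
    change ((q.out : G)⁻¹ * q'.out) •ᶜ ⟪a⟫ = _
    rw [← conj_conj, ← e', inv_conj_conj]))

theorem pp_dvd {q : ℕ} {x y : ℤ} (hq : IsPrimePow q) (hc : IsCoprime x y) (h : (q : ℤ) ∣ x * y) :
    (q : ℤ) ∣ x ∨ (q : ℤ) ∣ y := by
  simp only [Int.natCast_dvd, Int.natAbs_mul] at h ⊢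
  exact (Nat.Coprime.isPrimePow_dvd_mul (Int.isCoprime_iff_gcd_eq_one.1 hc) hq).1 h

theorem arith {p k m q : ℕ} {ε δ : ℤ} (p3 : 3 ≤ p) (po : Odd p) (hk : 2 * p ∣ k) (k0 : 0 < k)
    (hm : Odd m) (hpm : p ∣ m) (hpm' : ¬ p ^ 2 ∣ m) (h2 : m ≤ p ^ 2 + p + 1)
    (hε : ε = 1 ∨ ε = -1) (hδ : δ = 1 ∨ δ = -1) (hq : IsPrimePow q) (hq' : (q : ℤ) = 2 * k + ε)
    (h : (q : ℤ) ∣ m * ((m * k + δ) * (2 * (m * k) + δ))) : False := by
  obtain ⟨k, rfl⟩ := hk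
  obtain ⟨d, rfl⟩ := hpm
  have k1 : 1 ≤ k := Nat.pos_of_mul_pos_left k0
  have d1 : Odd d := (Nat.odd_mul.1 hm).2
  have d2 : d + 2 ≤ p := by
    have : d < p + 2 := by nlinarith
    have : d ≠ p := fun e => hpm' (by rw [e, pow_two])
    obtain ⟨i, hi⟩ := d1
    obtain ⟨j, hj⟩ := po
    omega
  obtain ⟨n, hn⟩ := hm
  have hn' : (p : ℤ) * d = 2 * n + 1 := by exact_mod_cast hn
  have e2 : ε * ε = 1 := by rcases hε with rfl | rfl <;> norm_num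
  obtain ⟨η, hη, hη'⟩ : ∃ η, δ = ε * η ∧ (η = 1 ∨ η = -1) :=
    ⟨ε * δ, by rw [← mul_assoc, e2, one_mul], by
      rcases hε with rfl | rfl <;> rcases hδ with rfl | rfl <;> norm_num⟩
  have f2 : η * η = 1 := by rcases hη' with rfl | rfl <;> norm_num
  push_cast at h hq'
  have p3' : (3 : ℤ) ≤ p := by exact_mod_cast p3
  have k1' : (1 : ℤ) ≤ k := by exact_mod_cast k1
  have d0 : (1 : ℤ) ≤ d := by exact_mod_cast d1.pos
  have d2' : (d : ℤ) + 2 ≤ p := by exact_mod_cast d2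
  have q1 : 4 * p - 1 ≤ (q : ℤ) := by rcases hε with rfl | rfl <;> nlinarith
  have h3 : (q : ℤ) ∣ p * d * ((p * d - η) * (p * d - 2 * η)) := by
    have := (h.mul_left 2).sub (Dvd.intro (p * d * (p * d * (p * d * (q - 2 * ε) + 3 * δ))) rfl)
    refine this.trans (dvd_of_eq ?_)
    rw [hη, hq']
    linear_combination (p * d * ((p * d - η) * (p * d - 2 * η))) * e2
  have key : ∀ c : ℤ, (c = 1 ∨ c = 2) → (q : ℤ) ∣ p * d - c * η → False := by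
    rintro c hc ⟨j, hj⟩
    have b1 : -2 ≤ c * η ∧ c * η ≤ 2 := by
      rcases hc with rfl | rfl <;> rcases hη' with rfl | rfl <;> norm_num
    have j1 : 0 < j := by
      by_contra! e
      nlinarith
    have j2 : j + 2 < p := by
      by_contra! e
      nlinarith
    have h4 : (p : ℤ) ∣ ε * j + c * η := ⟨d - 4 * k * j, by rw [hq'] at hj; linear_combination -hj⟩
    have h5 := Int.eq_zero_of_abs_lt_dvd h4 (abs_lt.2 (by
      rcases hε with rfl | rfl <;> constructor <;> linarith))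
    rw [hq', hn'] at hj
    rcases hε with rfl | rfl <;> rcases hc with rfl | rfl <;> rcases hη' with rfl | rfl <;>
      first | omega | (rw [show j = 1 by omega] at hj; omega) | (rw [show j = 2 by omega] at hj; omega)
  rcases pp_dvd hq (IsCoprime.mul_right ⟨η, -η, by linear_combination f2⟩
    ⟨1 - n * η, n * η, by linear_combination hn' - 2 * n * f2⟩) h3 with h4 | h4
  · have := Int.le_of_dvd d0 (IsCoprime.dvd_of_dvd_mul_left
      ⟨ε, -4 * k * ε, by rw [hq']; linear_combination e2⟩ h4)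
    linarith
  · exact (pp_dvd hq ⟨η, -η, by linear_combination f2⟩ h4).elim (fun h => key 1 (.inl rfl)
      (by simpa using h)) (key 2 (.inr rfl))

end Cfsg.GW.Ao4
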