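import Cfsg.Agent.GW.Ao4a
import Cfsg.Agent.GW.An
import Cfsg.Agent.FT.P.BG2
import Cfsg.Agent.FT.P.BG4f

/-!
# S4594 core, piece `StAo4`: the extraspecial configuration
-/

set_option autoImplicit false
set_option linter.unusedSectionVars false

namespace Cfsg.GW.Ao4

open Subgroup Cfsg.FT Cfsg.Gag
open scoped Pointwise

universe u

variable {G : Type u} [Group G] [Finite G]

structure XS (S : Subgroup G) (t s σ : G) (Z T : Subgroup G) (p : ℕ) : Prop where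
  c : Ctx S t
  co : IsCoatom 𝐂₁[t]
  os : orderOf s = 2
  gen : ⟪σ⟫ ⊔ ⟪s⟫ = S
  tσ : t ∈ ⟪σ⟫
  sσ : s ∉ ⟪σ⟫
  inv : s * σ * s = σ⁻¹
  σU : oc t ≤ 𝐂₁[σ]
  comm : ⁅oc t, ⟪s⟫⁆ = oc t
  nrm : 𝐂₁[t] ≤ 𝐍[T]
  TU : T ≤ oc t
  exp : ∀ x ∈ T, x ^ p = 1
  card : Nat.card T = p ^ 3
  nab : ¬ IsMulCommutative T
  Wc : Nat.card ↥(T ⊓ 𝐂₁[s]) = p
  Zc : IsCyclic Z
  ZU : Z ≤ oc t
  nZ : oc t ≤ 𝐍[Z]
  Zinv : ∀ z ∈ Z, s * z * s = z⁻¹
  fit : fit (oc t) ≤ T ⊔ Z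
  cZ : 𝐙[T] ≤ Z

namespace XS

variable {S Z T B N P Q R : Subgroup G} {t s σ v x y : G} {p l : ℕ} [hp : Fact p.Prime]
  [IsSimpleGroup G] (h : XS S t s σ Z T p)
include h

local notation "U" => oc t

theorem ss : s * s = 1 := inv_sq h.os
theorem sS : s ∈ S := h.gen ▸ mem_sup_right (mem_zpowers s)
theorem σS : σ ∈ S := h.gen ▸ mem_sup_left (mem_zpowers σ)
theorem sH : s ∈ 𝐂₁[t] := h.c.cen h.sS
theorem sU : s ∈ 𝐍[U] := h.c.SU h.sS
theorem st : s ≠ t := fun e => h.sσ (e ▸ h.tσ)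
theorem Tp : IsPGroup p T := IsPGroup.of_card h.card
theorem T_ne : T ≠ ⊥ := fun e => h.nab (e ▸ abelian_bot)
theorem p2 : p ≠ 2 := ne_two_of_le (oc_odd t) h.Tp h.TU h.T_ne
theorem UT : U ≤ 𝐍[T] := (oc_le t).trans h.nrm
theorem UZ : U ≤ 𝐂[Z] := h.comm ▸ DL.comm_cent_of_inv h.ss h.nZ h.Zinv
theorem ZT : Z ≤ 𝐂[T] := centsS h.TU (centsC.1 h.UZ)
theorem UZT : U ≤ 𝐂[𝐙[T]] := centsS h.cZ h.UZ
theorem FU : T ⊔ Z ≤ U := sup_le h.TU h.ZU
theorem nF : U ≤ 𝐍[T ⊔ Z] := normsY h.UT h.nZ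

theorem cardZT : Nat.card ↥𝐙[T] = p ∧ 𝐙[T].relIndex T = p ^ 2 := by
  obtain ⟨a, ha⟩ := pgroup_pdiv (h.Tp.to_le inf_le_left) (center_nil_ne_bot (pgroup_nil h.Tp) h.T_ne)
  obtain ⟨b, hb⟩ := pow_sq_dvd_center_index h.Tp h.nab
  have := card_mul_relIndex (inf_le_left : 𝐙[T] ≤ T)
  rw [ha, hb, h.card] at this
  have h1 : a * b = 1 := Nat.eq_of_mul_eq_mul_left (pow_pos hp.out.pos 3) (by linarith)
  rw [ha, hb, Nat.eq_one_of_mul_eq_one_right h1, Nat.eq_one_of_mul_eq_one_left h1]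
  simp

theorem pZ : p ∣ Nat.card Z := h.cardZT.1 ▸ card_dvd_of_le h.cZ

theorem der_T : ⁅T, T⁆ ≤ 𝐙[T] := der1_min (center_normal T).2
  (card_p2group_abelian (p := p) (by rw [card_quotient (center_normal T).2, h.cardZT.2]))

theorem normH (hB : B ≤ Z) (h1 : B ≠ ⊥) : 𝐍[B] = 𝐂₁[t] := by
  refine h.c.norm_eq h.co (oddSg (hB.trans h.ZU) (oc_odd t)) h1 ?_
  rw [← h.c.sup, ← h.gen]
  exact sup_le (cents_norm (centsS hB h.UZ)) (sup_le (cents_norm (centsC.1 (by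
    rw [cent_cycle]; exact (hB.trans h.ZU).trans h.σU))) (zpowers_le.2 (norm_of_inverts h.os h.Zinv hB)))

theorem centT : U ⊓ 𝐂[T] ≤ Z := fun x hx => by
  obtain ⟨a, ha, z, hz, rfl⟩ := (mem_join_norm (cents_norm h.ZT)).1 (h.fit (cent_sub_Fitting h.c.U_sol
    ⟨hx.1, centS h.fit (centsY inf_le_right (inf_le_left.trans h.UZ) hx)⟩))
  exact mul_mem (h.cZ ⟨ha, (mul_mem_cancel_right (h.ZT hz)).1 hx.2⟩) hz

theorem cent_of_fix (hR : R ≤ U) (hc : ¬ p ∣ Nat.card R) (hx : x ∈ T) (hx' : x ∉ 𝐙[T])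
    (hf : R ≤ 𝐂₁[x]) : R ≤ Z := by
  have h1 : 𝐙[T] ⊔ ⟪x⟫ ≤ T := sup_le inf_le_left (zpowers_le.2 hx)
  have h2 : IsMulCommutative ↥(𝐙[T] ⊔ ⟪x⟫) := abelianY.2 ⟨center_abelian T, inferInstance,
    centsC.1 (centsS (zpowers_le.2 hx) inf_le_right)⟩
  have h3 : (𝐙[T] ⊔ ⟪x⟫).relIndex T = p := by
    obtain ⟨i, hi, e⟩ := (Nat.dvd_prime_pow hp.out).1 (h.cardZT.2 ▸ indexgS T le_sup_left :
      (𝐙[T] ⊔ ⟪x⟫).relIndex T ∣ p ^ 2)
    interval_cases i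
    · exact absurd (abelianS (relIndex_eq_one.1 e) h2) h.nab
    · simpa using e
    · have := card_mul_relIndex h1
      rw [e, h.card, pow_succ' p 2, Nat.mul_left_inj (pow_pos hp.out.pos 2).ne', ← h.cardZT.1] at this
      exact absurd (card_eq_of_le le_sup_left this.le ▸ mem_sup_right (mem_zpowers x)) hx'
  refine (le_inf hR (coprime_cent_selfcent (hR.trans h.UT) (coprime_pgroup h.Tp hc)
    (sub_der1_normal (h.der_T.trans le_sup_left) h1) ?_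
    (centsY (hR.trans h.UZT) (by rwa [cent_cycle])))).trans h.centT
  refine ((p_index_maximal h1 (h3 ▸ hp.out)).eq_or (le_inf h1 (abelian_iff.1 h2))
    inf_le_left).elim le_of_eq fun e => absurd ⟨hx, ?_⟩ hx'
  exact centsC.1 (inf_eq_left.1 e) (mem_sup_right (mem_zpowers x))

theorem le_F (hN : Z ⊔ N ⊴ U) (hi : PiNat {p} (Z.relIndex N)) : N ≤ T ⊔ Z := by
  have h1 := hN.1.trans h.nZ
  rw [← relIndex_sup_of_le_normalizer (le_sup_right.trans h1)] at hi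
  exact le_sup_right.trans ((Fitting_max hN (quotient_center_nil
    (le_inf le_sup_left (centsC.1 (hN.1.trans h.UZ))) (pgroup_nil ((pgroup_quo h1).2 hi)))).trans h.fit)

theorem der_F : ⁅U, U⁆ ≤ T ⊔ Z := by
  refine h.le_F (normalY ⟨h.ZU, h.nZ⟩ (der_normal U))
    (BG4P.piNat_relIndex_of_forall fun q hq hqp Q hQ hQq => ?_)
  haveI := Fact.mk hq
  have n1 := (center_normal T).2
  have n2 : U ≤ 𝐍[𝐙[T]] := cents_norm h.UZT
  have h1 := BG4P.abelem2_der (p := p) ((quotient_abelem_iff n1).2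
    ⟨h.der_T, fun x hx => h.exp x hx ▸ one_mem _⟩) (by rw [card_quotient n1, h.cardZT.2])
    (quotient_norms _ h.UT) (quotient_odd _ (oc_odd t))
  rw [← quotient_der n2] at h1
  have h2 := not_dvd_card_of_pgroup hQq hqp
  have hU := hQ.trans (der_sub U)
  have h3 := ((piSub_compl.2 h2).quo 𝐙[T]).le_of_relIndex
    (norms_cent (quotient_norms _ ((der_sub U).trans h.UT))) (quotientS _ hQ) (by rwa [compl_compl])
  rw [quotient_cents2 (hU.trans n2) n1, commGC] at h3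
  exact (le_inf hU (stable_factor_cent (hU.trans h.UZT) h3
    (coprime_pgroup (h.Tp.to_le inf_le_left) h2))).trans h.centT

theorem W_le : U ⊓ 𝐂₁[s] ≤ T := fun x hx => by
  obtain ⟨a, ha, z, hz, rfl⟩ := (mem_join_norm (cents_norm h.ZT)).1
    (h.der_F (cent_le_der (oc_odd t) h.os h.sU h.comm hx))
  have h1 := (cent2 h.ss).1 hx.2
  rw [show s * (a * z) * s = s * a * (s * s) * z * s by rw [h.ss, mul_one, mul_assoc s a],
    show s * a * (s * s) * z * s = (s * a * s) * (s * z * s) by group, h.Zinv z hz] at h1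
  refine mul_mem ha (mem_of_sq (odd_ord (oc_odd t) (h.ZU hz)) ?_)
  rw [show z * z = a⁻¹ * (a * z * z) by group, ← h1, inv_mul_cancel_right]
  exact mul_mem (inv_mem ha) (conj_mem2 h.ss (h.nrm h.sH) ha)

theorem invU (hx : x ∈ U) : s * x * s * x ∈ T := inv_mod (oc_odd t) h.ss h.sU h.UT h.W_le hx

theorem der_U : ⁅U, U⁆ ≤ T := der_le_of_inv h.ss h.UT fun _ => h.invU

theorem syl_le (hP : Syl p P U) : P ≤ T ⊔ Z :=
  h.le_F (sub_der1_normal (h.der_U.trans ((hP.le_of_normal h.Tp ⟨h.TU, h.UT⟩).trans le_sup_right))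
    (sup_le h.ZU hP.le)) ((piSub_singleton.2 hP.pgroup).relIndex Z)

theorem pF : ¬ p ∣ (T ⊔ Z).relIndex U := fun e =>
  let ⟨_, hP⟩ := Sylow_exists p U
  hP.index (e.trans (indexgS U (h.syl_le hP)))

theorem syl_core : Syl p (core {p} U) U := by
  obtain ⟨P, hP⟩ := Sylow_exists p U
  have := pgroup_le_Fitting hP.pgroup ((h.syl_le hP).trans (sup_le
    (Fitting_max ⟨h.TU, h.UT⟩ (pgroup_nil h.Tp)) (Fitting_max ⟨h.ZU, h.nZ⟩ (cyclic_nil h.Zc))))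
  rwa [hP.eq_of_le (pcore_pgroup' p U) this (pcore_sub _ _)]

theorem not_dvd : ¬ p ∣ ii t := by
  have h1 : Syl p (core {p} U) 𝐂₁[t] := subHall_Sylow h.c.hall h.p2 h.syl_core
  have h2 := h.c.norm_eq h.co (oddSg (pcore_sub {p} U) (oc_odd t))
    (fun e => h.T_ne (eq_bot_iff.2 (e ▸ pcore_max' h.Tp ⟨h.TU, h.UT⟩))) (norms_pcore _ (oc_norm t))
  have h3 := (Sylow_subnorm le_top).1 (by rwa [top_inf_eq, h2])
  exact fun e => h3.index (e.trans (by simpa using indexgS ⊤ h1.le))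

variable [hl : Fact l.Prime]

theorem lcyc (hZ : ¬ l ∣ Nat.card Z) (hP : IsPGroup l P) (hU : P ≤ U) :
    IsCyclic P ∧ (P ≠ ⊥ → l ≤ p + 1) := by
  have lp : l ≠ p := fun e => hZ (e ▸ h.pZ)
  have h1 : ∀ a ∈ P, a ≠ 1 → T ⊓ 𝐂₁[a] ≤ 𝐙[T] := fun a ha a1 x hx => by_contra fun hx' => by
    have h2 := hP.to_le (zpowers_le.2 ha)
    exact hZ ((pgroup_pdiv h2 (by simpa using a1)).trans (card_dvd_of_le (h.cent_of_fix
      ((zpowers_le.2 ha).trans hU) (not_dvd_card_of_pgroup h2 lp) hx.1 hx' (zpowers_le.2 (cent1C.1 hx.2)))))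
  have h2 := coprime_pgroups h.Tp hP lp.symm
  refine ⟨by_contra fun e => h.nab (center_eq_iff.1 (le_antisymm inf_le_left
    (coprime_abelian_gen_cent1_le (derG1P.1 (eq_bot_iff.2 ((le_inf ((dergS hU).trans h.der_U)
      (der_sub P)).trans (coprime_TIg h2).le))) e (hU.trans h.UT) h2 h1))), fun e => ?_⟩
  obtain ⟨a, ha, oa⟩ := exists_order_p hP e
  have h3 := dvd_pred_quo (oa ▸ hl.out) (h.UT (hU ha)) (cents_norm h.UZT (hU ha)) (center_normal T)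
    (by rw [h.cardZT.1, oa]; exact (Nat.coprime_primes hp.out hl.out).2 lp.symm)
    (h1 a ha fun e => hl.out.one_lt.ne (by rw [← oa, e, orderOf_one]))
  rw [oa, h.cardZT.2, ← one_pow 2, Nat.sq_sub_sq] at h3
  have := hp.out.two_le
  exact (hl.out.dvd_mul.1 h3).elim (Nat.le_of_dvd (by omega))
    fun e => (Nat.le_of_dvd (by omega) e).trans (by omega)

theorem lcyc' (hZ : ¬ l ∣ Nat.card Z) (l2 : l ≠ 2) (hP : IsPGroup l P) (hv : orderOf v = 2)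
    (hU : P ≤ 𝐂₁[v]) : IsCyclic P ∧ (P ≠ ⊥ → l ≤ p + 1) := by
  obtain ⟨g, rfl⟩ := h.c.exists_conj hv
  rw [cent1_conj, le_conj_iff] at hU
  have h1 := isPGroup_conj (g := g⁻¹).2 hP
  simpa only [isCyclic_conj, conj_ne_bot] using
    h.lcyc hZ h1 (h.c.odd_le h.c.ot hU (odd_card_of_pgroup h1 l2))

theorem Qcent (l2 : l ≠ 2) (hQ : IsPGroup l Q) (ht : t ∈ 𝐍[Q]) (hs : s ∈ 𝐍[Q]) (hZ : Z ≤ 𝐍[Q]) :
    Q ≤ 𝐂₁[t] := by
  by_cases hd : l ∣ Nat.card Z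
  · obtain ⟨B, hB, e⟩ := exists_card_p hd
    exact (h.c.alpha0 (al_H h.co) l2 (prime_pgroup e) (hB.trans (h.ZU.trans (oc_le t)))
      ((cent_sub B).trans (h.normH hB (ne_bot_of_prime (e ▸ hl.out))).le) hQ ht
      (hB.trans hZ)).trans (oc_le t)
  have ht' := zpowers_le.2 ht
  have ho := odd_card_of_pgroup hQ l2
  have h0 := coprime_commGid ht' (cop_inv ho h.c.ot)
  rw [← cent_cycle, ← commG1P]
  have n1 : ∀ A, A ≤ 𝐍[Q] → A ≤ 𝐂₁[t] → A ≤ 𝐍[⁅Q, ⟪t⟫⁆] := fun A a b => normsR a (norms_cycle b)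
  have hV := n1 _ (sup_le ht' (zpowers_le.2 hs)) ((h.c.pairS h.sS).trans h.c.cen)
  have hZ' := n1 _ hZ (h.ZU.trans (oc_le t))
  have hR := hQ.to_le (commg_subl.2 ht')
  generalize ⁅Q, ⟪t⟫⁆ = R at h0 hV hZ' hR
  by_contra e
  have ho := odd_card_of_pgroup hR l2
  have kV := h.c.klein h.sS h.os h.st
  have tR : t ∈ 𝐍[R] := hV (mem_sup_left (mem_zpowers t))
  have h1 : R ⊓ 𝐂₁[t] ≤ frat R := (cent_le_der ho h.c.ot tR h0).trans (der1_le_Phi hR)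
  have n2 := (Phi_normal R).2
  have ost : orderOf (s * t) = 2 := kV.orderOf
    (mul_mem (mem_sup_right (mem_zpowers s)) (mem_sup_left (mem_zpowers t)))
    fun e => h.st (by rw [eq_inv_of_mul_eq_one_left e, inv_inv' h.c.ot])
  have c1 := h.lcyc' hd l2 (hR.to_le inf_le_left) h.os (inf_le_right : R ⊓ 𝐂₁[s] ≤ _)
  have c2 := h.lcyc' hd l2 (hR.to_le inf_le_left) ost (inf_le_right : R ⊓ 𝐂₁[s * t] ≤ _)
  have h2 : R ≤ frat R ⊔ (R ⊓ 𝐂₁[s] ⊔ R ⊓ 𝐂₁[s * t]) :=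
    coprime_abelian_gen_cent1_le kV.ab kV.not_cyclic hV (cop_two ho kV.pgroup) fun a ha a1 => by
      rcases Cj.klein_mem kV (mem_sup_left (mem_zpowers t)) (mem_sup_right (mem_zpowers s)) h.c.t1
        (inv_ne_one h.os) h.st.symm ha with rfl | rfl | rfl | rfl
      · exact absurd rfl a1
      · exact h1.trans le_sup_left
      · exact le_sup_of_le_right le_sup_left
      · exact le_sup_of_le_right le_sup_right
  have h3 := Phi_nongen' (sup_le inf_le_left inf_le_left) h2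
  have h4 : l ≤ p + 1 := by
    by_contra e'
    rw [of_not_not (mt c1.2 e'), of_not_not (mt c2.2 e'), bot_sup_eq] at h3
    exact e h3.symm
  have ab := Phi_quotient_abelem hR
  have h5 : (frat R).relIndex R ∣ l ^ 2 := by
    have a1 : ∀ A, A ≤ R → IsCyclic A → Nat.card (A ⁄ frat R) ∣ l := fun A a b =>
      card_dvd_of_abelem_cyclic (abelemS (quotientS _ a) ab) (quotient_cyclic _ b)
    rw [← card_quotient n2, pow_two, ← congrArg (· ⁄ frat R) h3,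
      quotientY (inf_le_left.trans n2) (inf_le_left.trans n2)]
    exact (card_sup_dvd_mul (cents_norm (sub_abelian_cent2 ab.1 (quotientS _ inf_le_left)
      (quotientS _ inf_le_left)))).trans (mul_dvd_mul (a1 _ inf_le_left c1.1) (a1 _ inf_le_left c2.1))
  obtain ⟨z, hz, oz⟩ := Cauchy hp.out h.pZ
  have lp : l ≠ p := fun e => hd (e ▸ h.pZ)
  have h6 := dvd_pred_quo (oz ▸ hp.out) (hZ' hz) (norms_Phi hZ' hz) (Phi_normal R)
    (Nat.card_zpowers z ▸ coprime_pgroup (hR.to_le (Phi_sub R)) (B := ⟪z⟫) (by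
      rw [Nat.card_zpowers, oz, Nat.prime_dvd_prime_iff_eq hl.out hp.out]; exact lp))
    (le_trans (inf_le_inf_left R ((norms_cycle le_rfl).trans (h.normH (zpowers_le.2 hz) (by
      rw [Ne, zpowers_eq_bot]; rintro rfl; exact hp.out.one_lt.ne (by simpa using oz))).le)) h1)
  rw [oz] at h6
  have o1 := hp.out.odd_of_ne_two h.p2
  have o2 := hl.out.odd_of_ne_two l2
  have l1 := hl.out.two_le
  have key : ¬ p ∣ l + 1 ∧ ¬ p ∣ l - 1 := by
    obtain ⟨i, hi⟩ := o1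
    obtain ⟨j, hj⟩ := o2
    constructor <;> intro e <;> have := Nat.le_of_dvd (by omega) e
    · obtain ⟨_ | _ | k, hk⟩ := e
      · omega
      · omega
      · nlinarith [hp.out.two_le, h.p2.lt_of_le' hp.out.two_le]
    · omega
  obtain ⟨i, hi, e'⟩ := (Nat.dvd_prime_pow hl.out).1 h5
  rw [e'] at h6
  interval_cases i
  · exact (Phi_proper e).not_ge (relIndex_eq_one.1 e')
  · exact key.2 (by simpa using h6)
  · rw [← one_pow 2, Nat.sq_sub_sq] at h6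
    exact (hp.out.dvd_mul.1 h6).elim key.1 key.2

end XS

end Cfsg.GW.Ao4
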