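import Cfsg.Agent.GW.Ao4b

/-!
# S4594 core, piece `StAo4`: the order formula in the extraspecial configuration
-/

set_option autoImplicit false
set_option linter.unusedSectionVars false

namespace Cfsg.GW.Ao4

open Subgroup Cfsg.FT Cfsg.Gag
open scoped Pointwise

universe u

variable {G : Type u} [Group G] [Finite G]

theorem inv_cyc {s y : G} (ss : s * s = 1) (e : s * y * s = y⁻¹) : ∀ x ∈ ⟪y⟫, s * x * s = x⁻¹ := by
  rintro _ ⟨k, rfl⟩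
  have si := inv_eq_of_mul_eq_one_right ss
  rw [← congrArg (s * y ^ k * ·) si, ← conj_zpow, si, e, inv_zpow]

theorem conj_mul2 {s : G} (ss : s * s = 1) (a b : G) : s * (a * b) * s = (s * a * s) * (s * b * s) := by
  rw [show s * a * s * (s * b * s) = s * a * (s * s) * b * s by group, ss]; group

theorem gb_arith {p : ℕ} {i μ c : ℤ} (hp : p.Prime) (hi : ¬ (p : ℤ) ∣ i) (h0 : μ ≠ 0)
    (h : i * (μ * c) ^ 2 = (μ * p ^ 2) ^ 2 * ((1 + μ * c) * (1 + 2 * μ * c))) :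
    ∃ δ : ℤ, (δ = 1 ∨ δ = -1) ∧ i = (μ * p ^ 2 + δ) * (2 * (μ * p ^ 2) + δ) := by
  have h1 : i * c ^ 2 = (p ^ 2) ^ 2 * ((1 + μ * c) * (1 + 2 * μ * c)) :=
    mul_left_cancel₀ (pow_ne_zero 2 h0) (by linear_combination h)
  have h2 : ((p : ℤ) ^ 2) ^ 2 ∣ c ^ 2 := IsCoprime.dvd_of_dvd_mul_left
    ((Nat.prime_iff_prime_int.1 hp).coprime_iff_not_dvd.2 hi).pow_left.pow_left ⟨_, h1⟩
  have h3 : c ^ 2 ∣ ((p : ℤ) ^ 2) ^ 2 := IsCoprime.dvd_of_dvd_mul_right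
    (y := ((p : ℤ) ^ 2) ^ 2) (z := (1 + μ * c) * (1 + 2 * μ * c))
    (IsCoprime.pow_left (IsCoprime.mul_right ⟨-μ, 1, by ring⟩ ⟨-2 * μ, 1, by ring⟩)) ⟨i, by
      rw [← h1, mul_comm]⟩
  have h4 := Int.dvd_antisymm (sq_nonneg _) (sq_nonneg _) h3 h2
  have h5 : ((p : ℤ) ^ 2) ^ 2 ≠ 0 := by simpa using hp.ne_zero
  rw [h4, mul_comm] at h1
  have h6 := mul_left_cancel₀ h5 h1
  rcases sq_eq_sq_iff_eq_or_eq_neg.1 h4 with rfl | rfl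
  · exact ⟨1, .inl rfl, by rw [h6]; ring⟩
  · exact ⟨-1, .inr rfl, by rw [h6]; ring⟩

namespace XS

variable {S Z T : Subgroup G} {t s σ v x y : G} {p : ℕ} [hp : Fact p.Prime]
  [IsSimpleGroup G] (h : XS S t s σ Z T p)
include h

local notation "U" => oc t
local notation "H0" => ⟪σ⟫ ⊔ oc t

theorem s_prime : (Nat.card ⟪s⟫).Prime := by rw [Nat.card_zpowers, h.os]; exact Nat.prime_two

theorem sσn : ⟪s⟫ ≤ 𝐍[⟪σ⟫] := zpowers_le.2 (norm_of_inverts h.os (inv_cyc h.ss h.inv) le_rfl)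

theorem cent_inv (hy : y ∈ U) (y1 : y ≠ 1) (e : s * y * s = y⁻¹) : 𝐂₁[y] ≤ 𝐂₁[t] := by
  have h1 : ⟪σ⟫ ≤ 𝐂₁[y] := zpowers_le.2 (cent1C.1 (h.σU hy))
  have h2 : s ∈ 𝐍[𝐂₁[y]] :=
    cent_cycle y ▸ cent_norm _ (norm_of_inverts h.os (inv_cyc h.ss e) le_rfl)
  have h3 := Sylow_setI_normal (normalG 𝐂₁[y]) (h.c.syl.subl
    (h.gen ▸ sup_le (normsG h1) (zpowers_le.2 h2)) le_top)
  rw [← h.gen, group_modl h.sσn h1, prime_TIg h.s_prime fun e' => y1 (eq_one_of_inv h.ss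
    (odd_ord (oc_odd t) hy) e (cent1C.1 (zpowers_le.1 e'))), sup_bot_eq] at h3
  rw [← ((cyclic_Sylow_pNil h3 inferInstance (by simp)).sdprod h3).sup_eq]
  have h4 := normG _ (h1 h.tσ)
  exact sup_le (cent_od h.c.ot h4 fun l hl l2 => haveI := Fact.mk hl
    h.Qcent l2 (pcore_pgroup' l _) (norms_pcore _ le_rfl h4) (norms_pcore _ le_rfl h2)
      (norms_pcore _ (normsG (le_cent1.2 (h.UZ hy))))) (zpowers_le.2 (h.c.cen h.σS))

theorem cent_le (hy : y ∈ U) (hT : y ∉ T) : 𝐂₁[y] ≤ 𝐂₁[t] := by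
  by_cases hF : y ∈ T ⊔ Z
  · obtain ⟨a, ha, z, hz, rfl⟩ := (mem_join_norm (cents_norm h.ZT)).1 hF
    refine (cent1_le_pow _ p).trans ?_
    rw [Commute.mul_pow (h.ZT hz a ha), h.exp a ha, one_mul]
    exact h.cent_inv (h.ZU (pow_mem hz p)) (fun e => hT (mul_mem ha
      (Ohm1_cyclic_eq h.Zc h.cZ h.cardZT.1 ▸ mem_Ohm1 hz e).1)) (h.Zinv _ (pow_mem hz p))
  obtain ⟨r, hr, h1⟩ : ∃ r, r.Prime ∧ constt {r} y ∉ T ⊔ Z := by
    by_contra! e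
    exact hF (mem_of_forall_constt fun r hr _ => e r hr)
  haveI := Fact.mk hr
  refine (cent1_le_constt {r} y).trans ?_
  have h2 := piElt_singleton_iff_pgroup.1 (p_elt_constt {r} y)
  have h3 := zpowers_le.2 (constt_mem {r} hy)
  generalize constt {r} y = z at h1 h2 h3
  have rp : r ≠ p := by
    rintro rfl
    obtain ⟨P, hP, e⟩ := Sylow_superset h3 h2
    exact h1 (h.syl_le hP (zpowers_le.1 e))
  obtain ⟨P, hP, hs⟩ := sol_coprime_Sylow_exists r (solOr_cycle U s) (zpowers_le.2 h.sU)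
    (cop_inv (oc_odd t) h.os)
  obtain ⟨g, hg, e⟩ := Sylow_Jsub hP h3 h2
  rw [conj_zpowers, zpowers_le] at e
  rw [← conj_le_iff_of_mem (oc_le t hg), ← cent1_conj]
  exact h.cent_inv (hP.le e) (fun e => h1 (by rw [conj_eq_one_iff.1 e]; exact one_mem _))
    (inverts_of_fpf (oddSg hP.le (oc_odd t)) h.os (zpowers_le.1 hs) (eq_bot_iff.2
      ((le_inf inf_le_left ((inf_le_inf_right _ hP.le).trans h.W_le)).trans
        (coprime_TIg (coprime_pgroups hP.pgroup h.Tp rp)).le)) e)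

theorem Uσ : U ≤ 𝐂[⟪σ⟫] := by rw [cent_cycle]; exact h.σU

theorem H0σ : H0 ≤ 𝐂[⟪σ⟫] := sup_le (abelian_iff.1 inferInstance) h.Uσ

theorem σ2 : IsPGroup 2 ⟪σ⟫ := h.c.S2.to_le (zpowers_le.2 h.σS)

theorem syl0 : Syl 2 ⟪σ⟫ H0 :=
  (hall_sup_of_norm (cents_norm h.Uσ) (piSub_singleton.2 h.σ2) (pcore_pgroup _ _)).1.syl

theorem uniq (hv : v ∈ H0) (ov : orderOf v = 2) : v = t :=
  (cyclic_inv_uniq inferInstance h.tσ h.c.ot (zpowers_le.1 (sub_normal_Sylow h.syl0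
    ⟨le_sup_left, cents_norm h.H0σ⟩ (zpowers_le.2 hv) (inv_pgroup ov))) (inv_sq ov)).resolve_left
    (inv_ne_one ov)

theorem sd : SDProd H0 ⟪s⟫ 𝐂₁[t] := ⟨by rw [← h.c.sup, ← h.gen, sup_comm ⟪σ⟫, sup_assoc],
  inf_comm ⟪s⟫ _ ▸ prime_TIg h.s_prime fun e => h.st (h.uniq (zpowers_le.1 e) h.os),
  normsY h.sσn (zpowers_le.2 h.sU)⟩

theorem out (hv : v ∈ 𝐂₁[t]) (h0 : v ∉ H0) : ∃ k ∈ H0, v = s * k := by
  obtain ⟨a, ha, k, hk, rfl⟩ := h.sd.exists_mul' hv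
  rcases DL.mem_cycle2 h.ss ha with rfl | rfl
  · exact absurd (by simpa using hk) h0
  · exact ⟨k, hk, rfl⟩

theorem inv_eq (hv : v ∈ ⟪σ⟫) (hx : x ∈ U) : s * (v * x) * s * (v * x) = s * x * s * x := by
  rw [conj_mul2 h.ss, inv_cyc h.ss h.inv v hv, mul_assoc, ← mul_assoc _ v,
    ← h.Uσ (conj_mem2 h.ss h.sU hx) v hv]
  group

theorem inv0 (hx : x ∈ H0) : s * x * s * x ∈ T := by
  obtain ⟨a, ha, u, hu, rfl⟩ := (mem_join_norm (cents_norm h.Uσ)).1 hx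
  exact h.inv_eq ha hu ▸ h.invU hu

theorem inv1 (hv : v ∈ 𝐂₁[t]) (h0 : v ∉ H0) (hx : x ∈ H0) : v * x * v⁻¹ * x ∈ T := by
  obtain ⟨k, hk, rfl⟩ := h.out hv h0
  have := mul_mem (conj_mem2 h.ss (h.nrm h.sH) (commg_le_iff.1 (der_le_of_inv h.ss
    (h.sd.left_le.trans h.nrm) fun _ => h.inv0) k hk x hx)) (h.inv0 hx)
  rwa [← mul_assoc, ← conj_mul2 h.ss, ← congrArg (_ * · * x) (inv_inv' h.os),
    show s * (k * x * k⁻¹ * x⁻¹ * x) * s⁻¹ * x = s * k * x * (s * k)⁻¹ * x by group] at this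

theorem ti (g : G) (hx : x ∈ H0) (h1 : g * x * g⁻¹ ∈ H0) (h2 : g * x * g⁻¹ ∉ T) : g ∈ 𝐂₁[t] := by
  have ot : orderOf (g * t * g⁻¹) = 2 := by rw [orderOf_conj', h.c.ot]
  suffices g * t * g⁻¹ ∈ H0 from mem_cent1.2 (mul_inv_eq_iff_eq_mul.1 (h.uniq this ot))
  rcases Nat.even_or_odd (orderOf x) with e | e
  · obtain ⟨v, hv, ov⟩ := Cauchy (H := ⟪x⟫) Nat.prime_two (by rw [Nat.card_zpowers]; exact e.two_dvd)
    rw [h.uniq (zpowers_le.2 hx hv) ov] at hv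
    exact zpowers_le.2 h1 (conj_zpowers g x ▸ conj_mem_conj.2 hv)
  rw [← orderOf_conj' g] at e
  have h3 : g * t * g⁻¹ ∈ 𝐂₁[g * x * g⁻¹] := by
    rw [cent1_conj, conj_mem_conj, cent1C]
    exact h.sd.left_le hx
  by_contra h4
  have h5 := h.inv1 (h.cent_le (h.c.odd_mem h.c.ot (h.sd.left_le h1) e) h2 h3) h4 h1
  rw [mem_cent1.1 h3, mul_inv_cancel_right] at h5
  exact h2 (mem_of_sq e h5)

theorem sd0 : SDProd U ⟪σ⟫ H0 :=
  ⟨sup_comm _ _, odd_inf_two (oc_odd t) h.σ2, zpowers_le.2 (h.c.SU h.σS)⟩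

theorem big : 6 ≤ T.relIndex H0 := by
  rw [← relIndex_mul_relIndex T U H0 h.TU le_sup_right, index_sdprod h.sd0]
  have h1 : 2 ≤ Nat.card ⟪σ⟫ := h.c.ot ▸ Nat.le_of_dvd Nat.card_pos (orderOf_dvd_natCard _ h.tσ)
  have h2 : T.relIndex U ≠ 1 := fun e => hp.out.one_lt.ne' (by
    have e' := relIndex_eq_one.1 e
    rw [← h.Wc, card_eq_one, eq_bot_iff]
    exact fun x hx => eq_one_of_inv h.ss (odd_ord (oc_odd t) (h.TU hx.1)) (h.Zinv x (h.cZ (h.der_T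
      (dergS e' (cent_le_der (oc_odd t) h.os h.sU h.comm ⟨h.TU hx.1, hx.2⟩))))) hx.2)
  obtain ⟨k, hk⟩ := (oc_odd t).of_dvd_nat (FT.relIndex_dvd_card T U)
  nlinarith [show 1 ≤ k by omega]

theorem gb : ∃ A, GB H0 T A t σ := by
  obtain ⟨R, hR⟩ := Hall_exists {p}ᶜ h.c.U_sol
  refine ⟨⟪σ⟫ ⊔ (Z ⊔ R), h.c.conj, h.c.ot, h.sd.left_le, by
    rw [index_sdprod h.sd, Nat.card_zpowers, h.os], cent_cycle σ ▸ h.H0σ, h.tσ, h.syl0,
    fun v hv h0 => ?_, ⟨h.TU.trans (oc_le t), h.nrm⟩, h.TU.trans le_sup_right,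
    oddSg h.TU (oc_odd t), fun v hv h0 x => h.inv1 hv h0, abelianY.2 ⟨inferInstance, abelianY.2
      ⟨cyclic_abelian h.Zc, derG1P.1 (eq_bot_iff.2 ((le_inf ((dergS hR.le).trans h.der_U)
        (der_sub R)).trans (coprime_TIg (coprime_pgroup h.Tp (piSub_compl.1 hR.pi))).le)),
        hR.le.trans h.UZ⟩, (sup_le h.ZU hR.le).trans h.Uσ⟩, ?_,
    fun x hx _ g => h.ti g hx, h.big⟩
  · obtain ⟨k, hk, rfl⟩ := h.out hv h0
    rw [mul_assoc s, ← h.H0σ hk σ (mem_zpowers σ), show s * (σ * k) * (s * k)⁻¹ = s * σ * s⁻¹ by group,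
      inv_inv' h.os, h.inv]
  · rw [sup_assoc, sup_right_comm, sup_comm Z, sup_comm _ R,
      (hR.mulEq_of_index h.FU (piNat_compl_singleton.2 h.pF)).sup_eq]

theorem count : {v : G | v ∈ 𝐂₁[t] ∧ v ∉ H0 ∧ v * v = 1}.ncard = orderOf σ * kk t s := by
  rw [kk, ← ncard_inv (oc_odd t) h.ss h.sU, ← Nat.card_zpowers, ← Nat.card_coe_set_eq,
    ← Nat.card_coe_set_eq, ← Nat.card_prod]
  have key : ∀ a ∈ ⟪σ⟫, ∀ u ∈ U, s * (a * u) * (s * (a * u)) = 1 ↔ s * u * s = u⁻¹ :=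
    fun a ha u hu => by rw [← mul_assoc, h.inv_eq ha hu, mul_eq_one_iff_eq_inv]
  refine (Nat.card_congr (Equiv.ofBijective (fun z => ⟨s * (z.1 * z.2),
    have := mul_mem (mem_sup_left z.1.2) (mem_sup_right z.2.2.1 : _ ∈ H0)
    ⟨mul_mem h.sH (h.sd.left_le this), fun e => h.st (h.uniq
      ((mul_mem_cancel_right this).1 e) h.os), (key _ z.1.2 _ z.2.2.1).2 z.2.2.2⟩⟩) ⟨?_, ?_⟩)).symm
  · rintro ⟨a, u⟩ ⟨a', u'⟩ e
    obtain ⟨e1, e2⟩ := eq_of_mul_eq_of_TI h.sd0.inf_eq' a.2 a'.2 u.2.1 u'.2.1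
      (mul_left_cancel (congrArg Subtype.val e))
    exact Prod.ext (Subtype.ext e1) (Subtype.ext e2)
  · rintro ⟨v, hv, h0, e⟩
    obtain ⟨k, hk, rfl⟩ := h.out hv h0
    obtain ⟨a, ha, u, hu, rfl⟩ := (mem_join_norm (cents_norm h.Uσ)).1 hk
    exact ⟨(⟨a, ha⟩, ⟨u, hu, (key a ha u hu).1 e⟩), rfl⟩

theorem W_card : Nat.card ↥(U ⊓ 𝐂₁[s]) = p := by
  rw [← h.Wc, le_antisymm (le_inf h.W_le inf_le_right) (inf_le_inf_right _ h.TU)]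

theorem main (hG : StGB.{u}) : ∃ δ : ℤ, (δ = 1 ∨ δ = -1) ∧
    (ii t : ℤ) = ((orderOf σ * kk t s : ℕ) + δ) * (2 * (orderOf σ * kk t s : ℕ) + δ) := by
  obtain ⟨A, hA⟩ := h.gb
  obtain ⟨c, -, e⟩ := hG G _ _ _ _ _ hA
  have h1 := card_mul_relIndex (inf_le_left : U ⊓ 𝐂₁[s] ≤ U)
  have h2 := card_mul_relIndex hA.NH
  rw [inf_relIndex_left, h.W_card] at h1
  rw [← sdprod_card h.sd0, ← h1, h.card, Nat.card_zpowers] at h2
  have h3 : orderOf σ * kk t s = T.relIndex H0 * p ^ 2 :=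
    Nat.eq_of_mul_eq_mul_left hp.out.pos (by rw [kk]; linarith)
  rw [h.count, h3] at e
  rw [h3]
  push_cast at e ⊢
  exact gb_arith hp.out (by exact_mod_cast h.not_dvd) (by have := h.big; omega) e

end XS

end Cfsg.GW.Ao4
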