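import Cfsg.Agent.Blk.Principal
import Cfsg.Agent.Blk.InvCount
import Cfsg.Agent.Blk.ZStar
import Cfsg.Agent.Blk.BlockGalois
import Cfsg.Agent.Blk.ExtraVal
import Cfsg.Agent.Blk.TameComb

/-! # Brauer-Suzuki for `Q₈`: the centraliser of the involution -/

set_option autoImplicit false

namespace Cfsg.GW

open Subgroup
open scoped ComplexConjugate

universe u

variable {G : Type u} [Group G] [Finite G] {M : Ideal AlgInt} {z u x : G}

/-- the `2`-fusion data of a group with Sylow `2`-subgroup `Q₈` and no normal `2`-complement -/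
structure QD (z u : G) : Prop where
  uu : u * u = z
  oz : orderOf z = 2
  inv : ∀ t, orderOf t = 2 → IsConj z t
  uniq : ∀ t, orderOf t = 2 → Commute z t → t = z
  four : ∀ v, (∃ k, orderOf v = 2 ^ k) → v * v ≠ 1 → IsConj u v
  cen : ∀ v, (∃ k, orderOf v = 2 ^ k) → Commute u v → v ∈ zpowers u
  c16 : ¬ 16 ∣ Nat.card G

theorem half_sub_central {θ : G → ℂ} (hθ : IsGeneralizedCharacter G θ) {v : G} (hv : v ∈ center G)
    (h : ∀ y, θ (v * (v * y)) = θ y) :
    IsGeneralizedCharacter G fun y => (θ y - θ (v * y)) / 2 := by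
  have := Fintype.ofFinite G
  obtain ⟨m, rfl⟩ := isGeneralizedCharacter_iff_exists_sum.1 hθ
  have h1 := fun χ : IrrCharacter G =>
    χ.isCharacter.apply_mul_of_mem_charCenter (χ.center_le_charCenter hv)
  have h2 : ∀ χ : IrrCharacter G, ∃ n : ℤ, (n : ℂ) = m χ * (1 - χ.1 v / χ.1 1) / 2 := fun χ => by
    have h3 := classInner_sum_irr (fun χ => m χ * (χ.1 v / χ.1 1) ^ 2) χ
    rw [show (fun g => ∑ χ : IrrCharacter G, m χ * (χ.1 v / χ.1 1) ^ 2 * χ.1 g) =
      fun g => ∑ χ : IrrCharacter G, m χ * χ.1 g from funext fun g => (Finset.sum_congr rfl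
        fun χ _ => by rw [h1, h1]; ring).trans (h g), classInner_sum_irr] at h3
    by_cases e : (m χ : ℂ) = 0
    · exact ⟨0, by simp [e]⟩
    rcases sq_eq_one_iff.1 ((mul_right_eq_self₀.1 h3.symm).resolve_right e) with e | e
    · exact ⟨0, by simp [e]⟩
    · exact ⟨m χ, by rw [e]; ring⟩
  choose n hn using h2
  refine isGeneralizedCharacter_iff_exists_sum.2 ⟨n, funext fun y => ?_⟩
  rw [← Finset.sum_sub_distrib, Finset.sum_div]
  exact Finset.sum_congr rfl fun χ _ => by rw [hn, h1]; ring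

open Classical in
/-- the sign function of the sections -/
noncomputable def sg (z x : G) : ℂ := if pPart 2 x = 1 then 1 else if pPart 2 x = z then -1 else 0

namespace QD

variable (h : QD z u)
include h

omit [Finite G] in
theorem zz : z * z = 1 := by rw [← sq, ← h.oz, pow_orderOf_eq_one]

omit [Finite G] in
theorem z1 : z ≠ 1 := fun e => by simpa [e] using h.oz

omit [Finite G] in
theorem ou : orderOf u = 2 ^ 2 := orderOf_eq_prime_pow (by rw [pow_one, sq, h.uu]; exact h.z1)
  (by rw [show 2 ^ (1 + 1) = 2 * 2 from rfl, pow_mul, sq u, h.uu, sq, h.zz])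

omit [Finite G] in
theorem sub : QD (⟨z, mem_centralizer_singleton_iff.2 rfl⟩ : centralizer ({z} : Set G))
    ⟨u, mem_centralizer_singleton_iff.2 (by rw [← h.uu, mul_assoc])⟩ := by
  have h1 : ∀ t : centralizer ({z} : Set G), orderOf t = 2 → t.1 = z := fun t ht =>
    h.uniq t (by rwa [orderOf_coe]) (mem_centralizer_singleton_iff.1 t.2).symm
  refine ⟨Subtype.ext h.uu, (orderOf_coe _).symm.trans h.oz, fun t ht => ?_,
    fun t ht _ => Subtype.ext (h1 t ht), fun v hv e => ?_, fun v hv e => ?_,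
    fun e => h.c16 (e.trans (card_subgroup_dvd_card _))⟩
  · exact (Subtype.ext (h1 t ht) : t = ⟨z, _⟩) ▸ IsConj.refl _
  · obtain ⟨c, hc⟩ := isConj_iff.1 (h.four v (by rwa [orderOf_coe]) fun e' => e (Subtype.ext e'))
    have h2 : c * z * c⁻¹ = (v * v :) := by rw [coe_mul, ← hc, conj_mul, h.uu]
    rw [h1 (v * v) (by rw [← orderOf_coe, ← h2, ← h.oz]; exact (MulAut.conj c).orderOf_eq z)] at h2
    exact isConj_iff.2 ⟨⟨c, mem_centralizer_singleton_iff.2 (mul_inv_eq_iff_eq_mul.1 h2)⟩,
      Subtype.ext hc⟩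
  · obtain ⟨k, hk⟩ := h.cen v (by rwa [orderOf_coe]) (congrArg Subtype.val e)
    exact ⟨k, Subtype.ext hk⟩

theorem nil : HasNormalPComplement 2 (centralizer ({u} : Set G)) ∧
    (Nat.card (centralizer ({u} : Set G))).factorization 2 = 2 := by
  obtain ⟨P, hP⟩ := exists_mem_sylow_of_orderOf (p := 2)
    (g := (⟨u, mem_centralizer_singleton_iff.2 rfl⟩ : centralizer ({u} : Set G)))
    ⟨2, (orderOf_coe _).symm.trans h.ou⟩
  have h1 : (P : Subgroup (centralizer ({u} : Set G))) = zpowers ⟨u, _⟩ :=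
    le_antisymm (fun v hv => by
      obtain ⟨k, hk⟩ := h.cen v (by
        simpa using IsPGroup.iff_orderOf.1 P.isPGroup' ⟨v, hv⟩)
        (mem_centralizer_singleton_iff.1 v.2).symm
      exact ⟨k, Subtype.ext hk⟩) (zpowers_le.2 hP)
  refine ⟨hasNormalPComplement_two_of_isCyclic P (h1 ▸ inferInstance), ?_⟩
  have h2 := P.card_eq_multiplicity
  rw [h1, Nat.card_zpowers, ← orderOf_coe, h.ou] at h2
  exact (Nat.pow_right_injective le_rfl h2).symm

theorem int (χ : IrrCharacter G) : ∃ n : ℤ, χ.1 u = n :=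
  exists_int_of_isIntegral_of_rat (χ.isIntegral u)
    (χ.isCharacter.isGeneralizedCharacter.exists_rat_of_forall_pow fun k hk => by
      have h1 : (orderOf u).Coprime k := (hk.symm.coprime_dvd_left (orderOf_dvd_natCard u))
      refine (χ.isClassFunction.eq_of_isConj (h.four _ ⟨2, h1.orderOf_pow.trans h.ou⟩
        fun e => ?_)).symm
      have := orderOf_dvd_of_pow_eq_one ((sq _).trans e)
      rw [h1.orderOf_pow, h.ou] at this
      omega)

theorem conj_u (χ : IrrCharacter G) : conj (χ.1 u) = χ.1 u := by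
  obtain ⟨n, hn⟩ := h.int χ
  rw [hn, map_intCast]

variable (hM : IsPModular 2 M)
include hM

theorem sec {χ : IrrCharacter G} (hχ : χ ∈ principalBlock M G) (hx : pPart 2 x * pPart 2 x ≠ 1) :
    χ.1 x = χ.1 u :=
  hM.apply_eq_of_hasNormalPComplement rfl h.nil.1 hχ (h.four _ (exists_orderOf_pPart x) hx)

theorem sum_sq : ∑ χ ∈ irrFinset (principalBlock M G), χ.1 u * χ.1 u = 4 := by
  have := hM.sum_principalBlock_mul_conj_of_hasNormalPComplement ⟨2, h.ou⟩ rfl h.nil.1
  simp only [h.conj_u, h.nil.2] at this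
  exact this.trans (by norm_num)

open Classical in
theorem col (x : G) : ∑ χ ∈ irrFinset (principalBlock M G), χ.1 u * χ.1 x =
    if pPart 2 x * pPart 2 x = 1 then 0 else 4 := by
  split_ifs with e
  · rw [← isPBlock_principalBlock.sum_mul_conj_eq_zero hM (g := x) (h := u) fun e' => by
      rw [pPart_eq_self_iff.2 ⟨2, h.ou⟩] at e'
      exact h.z1 (h.uu.symm.trans (mul_self_eq_one_of_isConj e e'))]
    exact Finset.sum_congr rfl fun χ _ => by rw [h.conj_u, mul_comm]
  · rw [← h.sum_sq hM]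
    exact Finset.sum_congr rfl fun χ hχ => by rw [h.sec hM (mem_irrFinset.1 hχ) e]

open Classical in
theorem card_four : ((irrFinset (principalBlock M G)).filter fun χ => χ.1 u ≠ 0).card = 4 ∧
    ∀ χ ∈ principalBlock M G, χ.1 u ≠ 0 → χ.1 u * χ.1 u = 1 := by
  choose n hn using h.int
  have h1 := h.sum_sq hM
  simp only [hn, ne_eq, Int.cast_eq_zero]
  simp only [hn] at h1
  norm_cast at h1 ⊢
  obtain ⟨h2, h3⟩ := eq_one_or_of_sum_sq_eq_four h1 ⟨_, mem_irrFinset.2 hM.triv_mem_principalBlock,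
    (Int.cast_injective (α := ℂ) (Int.cast_one.trans (hn (IrrCharacter.triv G)))) ▸ odd_one⟩
  exact ⟨by convert h2, fun χ hχ e => by rcases h3 χ (mem_irrFinset.2 hχ) e with e | e <;> simp [e]⟩

omit hM
variable (hz : z ∈ center G)
include hz

theorem tri (x : G) : pPart 2 x = 1 ∨ pPart 2 x = z ∨ pPart 2 x * pPart 2 x ≠ 1 := by
  by_contra! e
  exact e.2.1 (h.uniq _ (orderOf_eq_two_of_mul_self e.2.2 e.1) (mem_center_iff.1 hz _).symm)

theorem pPart_z (x : G) : pPart 2 (z * x) = z * pPart 2 x := by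
  have h1 : Commute z (pPart 2 x) := (mem_center_iff.1 hz _).symm
  obtain ⟨k, hk⟩ := exists_orderOf_pPart (p := 2) x
  conv_lhs => rw [← pPart_mul_pRegPart 2 x, ← mul_assoc]
  refine pPart_mul_of_commute (Commute.mul_left (mem_center_iff.1 hz _).symm
    (commute_pPart_pRegPart 2 x)) ?_ (not_dvd_orderOf_pRegPart x)
  obtain ⟨j, -, hj⟩ := (Nat.dvd_prime_pow Nat.prime_two).1 (h1.orderOf_mul_dvd_mul_orderOf.trans
    (by rw [h.oz, hk, ← pow_succ'] : _ ∣ 2 ^ (k + 1)))
  exact ⟨j, hj⟩

theorem sg_z (x : G) : sg z (z * x) = - sg z x := by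
  have h1 := h.z1
  rw [sg, sg, h.pPart_z hz]
  rcases h.tri hz x with e | e | e
  · simp [e, h1]
  · simp [e, h1, h.zz]
  · rw [if_neg fun e' => e (by rw [eq_inv_of_mul_eq_one_right e', ← mul_inv_rev, h.zz, inv_one]),
      if_neg fun e' => e (by rw [mul_eq_left.1 e', one_mul]), if_neg fun e' => e (by simp [e']),
      if_neg fun e' => e (by rw [e', h.zz]), neg_zero]

omit h [Finite G] in
theorem sg_cf : IsClassFunction G (sg z) := fun g c => by
  classical
  rw [sg, pPart_conj]
  exact if_congr conj_eq_one_iff rfl (if_congr (by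
    rw [mul_inv_eq_iff_eq_mul, ← mem_center_iff.1 hz, mul_right_inj]) rfl rfl)

theorem pm (χ : IrrCharacter G) : (∀ x, χ.1 (z * x) = χ.1 x) ∨ ∀ x, χ.1 (z * x) = -χ.1 x := by
  have h1 := χ.isCharacter.apply_mul_of_mem_charCenter (χ.center_le_charCenter hz)
  have h2 := h1 (z * 1)
  rw [← mul_assoc, h.zz, one_mul, h1, ← mul_assoc, eq_comm, mul_eq_right₀ χ.one_ne_zero,
    mul_self_eq_one_iff] at h2
  exact h2.imp (fun e x => by rw [h1, e, one_mul]) fun e x => by rw [h1, e, neg_one_mul]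

theorem zero_of_neg {χ : IrrCharacter G} (hχ : ∀ x, χ.1 (z * x) = -χ.1 x) : χ.1 u = 0 := by
  have h1 := hχ u
  rw [← inv_eq_of_mul_eq_one_left (show z * u * u = 1 by rw [mul_assoc, h.uu, h.zz]),
    χ.apply_inv, h.conj_u] at h1
  linear_combination h1 / 2

theorem tau : IsGeneralizedCharacter G fun x => 2 * sg z x := by
  classical
  have h1 : IsGeneralizedCharacter G fun x => 4 * sg z x := by
    have h2 : (Nat.card G).factorization 2 ≤ 3 := by
      by_contra! e
      exact h.c16 ((Nat.prime_two.pow_dvd_iff_le_factorization (k := 4) Nat.card_pos.ne').2 e)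
    convert (half_sub_central (isGeneralizedCharacter_pReg_indicator 2) hz fun y => by
      rw [← mul_assoc, h.zz, one_mul]).zsmul (2 ^ (3 - (Nat.card G).factorization 2)) using 2 with x
    have h3 : (2 : ℂ) ^ (3 - (Nat.card G).factorization 2) * 2 ^ (Nat.card G).factorization 2 = 8 := by
      rw [← pow_add, Nat.sub_add_cancel h2]; norm_num
    have h4 : ∀ y : G, 2 ∣ orderOf y ↔ pPart 2 y ≠ 1 := fun y => by
      rw [Ne, pPart_eq_one_iff, not_not]
    simp only [h4, h.pPart_z hz, sg, mul_eq_one_iff_eq_inv', inv_eq_of_mul_eq_one_left h.zz,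
      ne_eq, ite_not]
    have := h.z1
    push_cast
    split_ifs with a b b
    · exact (this (b.symm.trans a)).elim
    · linear_combination -h3 / 2
    · linear_combination h3 / 2
    · ring
  obtain ⟨η, h2, h3⟩ : ∃ η : IrrCharacter G, (∀ x, η.1 (z * x) = -η.1 x) ∧ ¬ 4 ∣ charDegree η.1 := by
    by_contra! e
    refine h.c16 ?_
    have h2 := sum_irr_one_mul z
    have h3 := sum_irr_one_mul (1 : G)
    rw [if_neg h.z1] at h2
    rw [if_pos rfl, ← sub_zero (∑ χ, _), ← h2, ← Finset.sum_sub_distrib] at h3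
    have h4 : ∀ χ : IrrCharacter G, ∃ n : ℕ, χ.1 1 * χ.1 1 - χ.1 1 * χ.1 z = (16 * n : ℕ) := fun χ => by
      rcases h.pm hz χ with e' | e'
      · exact ⟨0, by rw [← mul_one z, e']; simp⟩
      · obtain ⟨n, hn⟩ := e χ e'
        exact ⟨2 * n ^ 2, by rw [← mul_one z, e', χ.one_eq_charDegree, hn]; push_cast; ring⟩
    choose n hn using h4
    simp only [hn] at h3
    exact ⟨∑ χ, n χ, by rw [Finset.mul_sum]; exact_mod_cast h3.symm⟩
  have h4 : IsGeneralizedCharacter G fun x => charDegree η.1 * sg z x := by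
    convert η.isCharacter.isGeneralizedCharacter.comp_pPart 2 using 2 with x
    rw [sg, ← η.one_eq_charDegree]
    rcases h.tri hz x with e | e | e
    · simp [e]
    · rw [if_neg (e ▸ h.z1), if_pos e, e, ← mul_one z, h2]; simp
    · rw [if_neg fun e' => e (by simp [e']), if_neg fun e' => e (by rw [e', h.zz]), mul_zero,
        ← η.isClassFunction.eq_of_isConj (h.four _ (exists_orderOf_pPart x) e), h.zero_of_neg hz h2]
  obtain ⟨a, b, h5⟩ : ∃ a b : ℤ, a * charDegree η.1 + b * 4 = 2 := by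
    have h5 := Nat.div_add_mod (charDegree η.1) 4
    generalize charDegree η.1 / 4 = k at h5
    have h6 : charDegree η.1 % 4 = 1 ∨ charDegree η.1 % 4 = 2 ∨ charDegree η.1 % 4 = 3 := by omega
    rcases h6 with e | e | e
    exacts [⟨2, -2 * k, by omega⟩, ⟨1, -k, by omega⟩, ⟨2, -2 * k - 1, by omega⟩]
  convert (h4.zsmul a).add (h1.zsmul b) using 2 with x
  have h6 : (a : ℂ) * charDegree η.1 + b * 4 = 2 := by exact_mod_cast h5
  rw [Pi.add_apply, ← h6]
  ring

theorem theta {g : G → ℂ} (hg : IsGeneralizedCharacter G g) (h1 : ∀ x, g (z * x) = g x)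
    (h2 : ∀ x, pPart 2 x * pPart 2 x ≠ 1 → g x = 2) : IsGeneralizedCharacter G (g * sg z) := by
  classical
  refine isGeneralizedCharacter_of_nilpotent (hg.isClassFunction.mul (sg_cf hz)) fun E hE => ?_
  by_cases e : ∃ w ∈ E, pPart 2 w * pPart 2 w ≠ 1
  · obtain ⟨w, hw, e⟩ := e
    obtain ⟨k, hk⟩ := exists_orderOf_pPart (p := 2) w
    have h3 : ∀ x : E, Commute (pPart 2 w) (pRegPart 2 (x : G)) := fun x =>
      commute_of_isNilpotent_of_coprime hE (pPart_mem 2 hw) (pRegPart_mem 2 x.2)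
        (hk ▸ (Nat.coprime_two_left.2 (Nat.not_even_iff_odd.1 (mt even_iff_two_dvd.1
          (not_dvd_orderOf_pRegPart _)))).pow_left k)
    have h4 := half_sub_central (hg.comp (centralizer {pPart 2 w}).subtype)
      (v := ⟨pPart 2 w, mem_centralizer_singleton_iff.2 rfl⟩)
      (mem_center_iff.2 fun y => Subtype.ext (mem_centralizer_singleton_iff.1 y.2)) fun y => by
        obtain ⟨c, hc⟩ := isConj_iff.1 (h.four _ ⟨k, hk⟩ e)
        have h5 : pPart 2 w * pPart 2 w = z := by
          rw [← hc, conj_mul, h.uu, mem_center_iff.1 hz, mul_inv_cancel_right]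
        rw [← h1 (Subgroup.subtype _ y), ← mul_assoc, map_mul, map_mul, subtype_apply, h5]
    convert ((h.tau hz).comp E.subtype).mul ((h4.comp (MonoidHom.mk' (fun x : E =>
      ⟨pRegPart 2 (x : G), mem_centralizer_singleton_iff.2 (h3 x).eq.symm⟩) fun a b => Subtype.ext (by
        simp only [← coe_pRegPart, pRegPart_mul_of_isNilpotent]; rfl))).add
      IsCharacter.one.isGeneralizedCharacter) using 2 with x
    simp only [Pi.mul_apply, Pi.add_apply, MonoidHom.mk'_apply, subtype_apply, coe_mul]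
    rw [h2 (pPart 2 w * _) (by
      rwa [pPart_mul_of_commute (h3 x) ⟨k, hk⟩ (not_dvd_orderOf_pRegPart _)]), sg]
    have h5 := pPart_mul_pRegPart 2 (x : G)
    split_ifs with a b
    · rw [a, one_mul] at h5; rw [h5]; ring
    · rw [b] at h5; rw [← h1 (pRegPart 2 _), h5]; ring
    · ring
  · push Not at e
    have h3 : ∀ x : E, pPart 2 (x : G) = 1 ∨ pPart 2 (x : G) = z := fun x =>
      (h.tri hz x).imp_right fun e' => e'.resolve_right (not_not.2 (e x x.2))
    have h4 := h.z1
    convert (hg.comp E.subtype).mul (IrrCharacter.ofHom (MonoidHom.mk' (fun x : E =>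
      if pPart 2 (x : G) = 1 then (1 : ℂˣ) else -1) fun a b => by
        rw [← coe_pPart, pPart_mul_of_isNilpotent, coe_mul, coe_pPart, coe_pPart]
        rcases h3 a with a | a <;> rcases h3 b with b | b <;>
          simp [a, b, h4, h.zz])).isCharacter.isGeneralizedCharacter using 2 with x
    simp only [Pi.mul_apply, IrrCharacter.ofHom_apply, MonoidHom.mk'_apply, subtype_apply, sg]
    rcases h3 x with a | a <;> simp [a, h4]

end QD

end Cfsg.GW
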