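import Cfsg.Agent.GW.BS1

/-! # Brauer-Suzuki for `Q₈`: the character theoretic part -/

set_option autoImplicit false

namespace Cfsg.GW

open Subgroup
open scoped ComplexConjugate

universe u

theorem orth_two {ι : Type*} [DecidableEq ι] {B : Finset ι} {w w' d : ι → ℤ}
    (hd : ∀ x, 0 < d x) (h1 : ∑ x ∈ B, w x * w x = 2) (h2 : ∑ x ∈ B, w' x * w' x = 2)
    (h3 : ∑ x ∈ B, w x * w' x = 0) (h4 : ∑ x ∈ B, w x * d x = -1) (h5 : ∑ x ∈ B, w' x * d x = -1)
    {x : ι} (hx : x ∈ B) (h0 : w x ≠ 0) : w' x = 0 := by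
  obtain ⟨a, ha, b, hb, hab, e1, e2, e3, e4⟩ := exists_of_sum_sq_eq_two h1
  obtain ⟨a', -, b', -, -, f1, f2, f3, f4⟩ := exists_of_sum_sq_eq_two h2
  rw [e4] at h3 h4
  rw [f4] at h5
  have := hd a
  have := hd b
  by_contra h6
  have h7 : w' a ≠ 0 ∧ w' b ≠ 0 := by
    have : x = a ∨ x = b := by
      by_contra! e
      exact h0 (e3 x hx e.1 e.2)
    rcases this with rfl | rfl <;> rcases e1 with e | e <;> rcases e2 with e' | e' <;>
      rw [e, e'] at h3 <;> omega
  have h8 : a = a' ∨ a = b' := by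
    by_contra! e
    exact h7.1 (f3 a ha e.1 e.2)
  have h9 : b = a' ∨ b = b' := by
    by_contra! e
    exact h7.2 (f3 b hb e.1 e.2)
  rcases h8 with rfl | rfl <;> rcases h9 with rfl | rfl <;> (try exact hab rfl) <;>
    rcases e1 with e | e <;> rcases e2 with e' | e' <;> rcases f1 with f | f <;>
    rcases f2 with f' | f' <;> simp only [e, e', f, f'] at h3 h4 h5 <;> omega

variable {G : Type u} [Group G] [Fintype G] {M : Ideal AlgInt} {z u x : G}

/-- the generalized characters of norm three -/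
noncomputable def bsGam (z u : G) (ξ : IrrCharacter G) : G → ℂ :=
  fun x => (1 + ξ.1 u * ξ.1 x) * (1 - sg z x)

theorem sum_eq_of_mul_left (z : G) {f : G → ℂ} (h : ∀ x, f (z * x) = -f x) : ∑ x, f x = 0 := by
  have h1 := Equiv.sum_comp (Equiv.mulLeft z) f
  simp only [Equiv.coe_mulLeft, h, Finset.sum_neg_distrib] at h1
  linear_combination -h1 / 2

namespace QD

variable (h : QD z u) (hM : IsPModular 2 M) (hz : z ∈ center G) {ξ ξ' : IrrCharacter G}
include h hz

theorem ker_of_ne (h0 : ξ.1 u ≠ 0) (x : G) : ξ.1 (z * x) = ξ.1 x :=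
  (h.pm hz ξ).resolve_right (mt (h.zero_of_neg hz) h0) x

theorem sg_eq (hx : pPart 2 x * pPart 2 x ≠ 1) : sg z x = 0 := by
  rw [sg, if_neg fun e => hx (by simp [e]), if_neg fun e => hx (by rw [e, h.zz])]

theorem sg_sq (hx : pPart 2 x * pPart 2 x = 1) : sg z x * sg z x = 1 := by
  rcases h.tri hz x with e | e | e
  · simp [sg, e]
  · simp [sg, e, h.z1]
  · exact (e hx).elim

include hM

theorem neg_of_eq (hξ : ξ ∈ principalBlock M G) (h0 : ξ.1 u = 0) (x : G) :
    ξ.1 (z * x) = -ξ.1 x := by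
  refine (h.pm hz ξ).resolve_left (fun h1 => ?_) x
  refine isPBlock_principalBlock.classInner_pRegularPart_ne_zero hM hξ hM.triv_mem_principalBlock
    ((hM.blockHeight_principalBlock_eq_zero_iff hM.triv_mem_principalBlock).2 (by
      rw [charDegree_eq_of_one_eq (n := 1) (by simp)]; norm_num)) ?_
  have h2 := ξ.classInner_of_ne (ψ := IrrCharacter.triv G) fun e => by simp [e] at h0
  have h3 := sum_eq_of_mul_left z (f := fun x => ξ.1 x * sg z x) fun x => by
    rw [h1, h.sg_z hz, mul_neg]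
  simp only [classInner_def, IrrCharacter.triv_apply, map_one, mul_one, mul_eq_zero] at h2 ⊢
  refine h2.imp_right fun h2 => ?_
  suffices h4 : ∑ x, 2 * pRegularPart 2 ξ.1 x = ∑ x, (ξ.1 x + ξ.1 x * sg z x) by
    rw [Finset.sum_add_distrib, ← Finset.mul_sum] at h4
    linear_combination (h4 + h2 + h3) / 2
  refine Finset.sum_congr rfl fun x _ => ?_
  rcases h.tri hz x with e | e | e
  · rw [pRegularPart_of_not_dvd (pPart_eq_one_iff.1 e), sg, if_pos e]; ring
  · rw [pRegularPart_of_dvd (by_contra fun e' => h.z1 (e.symm.trans (pPart_eq_one_iff.2 e'))), sg,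
      if_neg (e ▸ h.z1), if_pos e]; ring
  · rw [pRegularPart_of_dvd (by_contra fun e' => e (by simp [pPart_eq_one_iff.2 e'])),
      h.sec hM hξ e, h0]; ring

theorem gam_two (hξ : ξ ∈ principalBlock M G) (h0 : ξ.1 u ≠ 0) (hx : pPart 2 x * pPart 2 x ≠ 1) :
    1 + ξ.1 u * ξ.1 x = 2 := by
  rw [h.sec hM hξ hx, (h.card_four hM).2 ξ hξ h0]; norm_num

theorem gam_gen (hξ : ξ ∈ principalBlock M G) (h0 : ξ.1 u ≠ 0) :
    IsGeneralizedCharacter G (bsGam z u ξ) := by
  obtain ⟨n, hn⟩ := h.int ξ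
  have h1 := IsCharacter.one.isGeneralizedCharacter.add
    (ξ.isCharacter.isGeneralizedCharacter.zsmul n)
  convert h1.sub (h.theta hz h1 (fun x => by simp [h.ker_of_ne hz h0])
    fun x hx => hn ▸ h.gam_two hM hz hξ h0 hx) using 1
  funext x
  simp only [bsGam, hn, Pi.sub_apply, Pi.add_apply, Pi.mul_apply]
  ring

omit hz in
theorem sum_col : ∑ x, ∑ χ ∈ irrFinset (principalBlock M G), χ.1 u * χ.1 x = Nat.card G := by
  classical
  rw [Finset.sum_comm, Finset.sum_eq_single_of_mem _ (mem_irrFinset.2 hM.triv_mem_principalBlock)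
    fun χ _ e => by
      have := χ.classInner_of_ne e
      simp only [classInner_def, IrrCharacter.triv_apply, map_one, mul_one, mul_eq_zero, inv_eq_zero,
        Nat.cast_eq_zero, Nat.card_pos.ne', false_or] at this
      rw [← Finset.mul_sum, this, mul_zero]]
  simp

open Classical in
theorem gam_inner (hξ : ξ ∈ principalBlock M G) (h0 : ξ.1 u ≠ 0) (h1 : ξ ≠ IrrCharacter.triv G)
    (hξ' : ξ' ∈ principalBlock M G) (h0' : ξ'.1 u ≠ 0) (h1' : ξ' ≠ IrrCharacter.triv G) :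
    classInner (bsGam z u ξ) (bsGam z u ξ') = (if ξ = ξ' then 3 else 1) ∧
    classInner (bsGam z u ξ) (fun _ => 1) = 1 ∧
    classInner (bsGam z u ξ) (fun x => ∑ χ ∈ irrFinset (principalBlock M G), χ.1 u * χ.1 x) = 2 := by
  have hG : (Nat.card G : ℂ) ≠ 0 := Nat.cast_ne_zero.2 Nat.card_pos.ne'
  have a0 : ∑ x : G, (1 : ℂ) = Nat.card G := by simp
  have a1 := ξ.classInner_of_ne h1
  have a2 := (IrrCharacter.triv G).classInner_of_ne h1'.symm
  have a3 := ξ.classInner_eq ξ'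
  have a4 := h.sum_col hM
  have a5 := sum_eq_of_mul_left z (f := fun x => (1 + ξ.1 u * ξ.1 x) * sg z x) fun x => by
    rw [h.ker_of_ne hz h0, h.sg_z hz, mul_neg]
  have a6 := sum_eq_of_mul_left z (f := fun x => (1 + ξ.1 u * ξ.1 x) *
      (1 + ξ'.1 u * conj (ξ'.1 x)) * sg z x) fun x => by
    rw [h.ker_of_ne hz h0, h.ker_of_ne hz h0', h.sg_z hz, mul_neg]
  simp only [classInner_def, IrrCharacter.triv_apply, map_one, mul_one, one_mul,
    inv_mul_eq_iff_eq_mul₀ hG, mul_zero] at a1 a2 a3 ⊢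
  refine ⟨?_, ?_, ?_⟩
  · rw [Finset.sum_congr rfl (g := fun x => 2 * (1 + ξ.1 u * ξ.1 x + ξ'.1 u * conj (ξ'.1 x) +
        ξ.1 u * ξ'.1 u * (ξ.1 x * conj (ξ'.1 x))) - 2 * ((1 + ξ.1 u * ξ.1 x) *
        (1 + ξ'.1 u * conj (ξ'.1 x)) * sg z x) -
        ∑ χ ∈ irrFinset (principalBlock M G), χ.1 u * χ.1 x) fun x _ => ?_]
    · simp only [Finset.sum_sub_distrib, Finset.sum_add_distrib, ← Finset.mul_sum, a0, a1, a2, a3,
        a4, a6]
      split_ifs with e
      · subst e
        rw [(h.card_four hM).2 ξ hξ h0]; ring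
      · ring
    · have e1 : conj (sg z x) = sg z x := by rw [sg]; split_ifs <;> simp
      simp only [bsGam, map_mul, map_add, map_sub, map_one, h.conj_u, e1, h.col hM]
      split_ifs with e
      · linear_combination (1 + ξ.1 u * ξ.1 x) * (1 + ξ'.1 u * conj (ξ'.1 x)) * h.sg_sq hz e
      · rw [h.sg_eq hz e, h.sec hM hξ e, h.sec hM hξ' e, h.conj_u]
        linear_combination (-2 - (ξ'.1 u * ξ'.1 u - 1)) * (h.card_four hM).2 ξ hξ h0 -
          2 * (h.card_four hM).2 ξ' hξ' h0'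
  · simp only [bsGam, mul_sub, mul_one, Finset.sum_sub_distrib, Finset.sum_add_distrib,
      ← Finset.mul_sum, a0, a1, a5]
    ring
  · rw [mul_comm, ← a4, Finset.mul_sum]
    refine Finset.sum_congr rfl fun x _ => ?_
    rw [h.col hM, bsGam]
    split_ifs with e
    · simp
    · rw [h.sg_eq hz e, h.gam_two hM hz hξ h0 e, map_ofNat]; ring

open Classical in
theorem rho {s : G} (hs : ¬ 2 ∣ orderOf s) : ∑ ξ ∈ irrFinset (principalBlock M G), ξ.1 s * ξ.1 1 =
    2 * ∑ ξ ∈ (irrFinset (principalBlock M G)).filter fun ξ => ξ.1 u ≠ 0, ξ.1 s * ξ.1 1 := by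
  have h1 := (isPBlock_principalBlock.isBlockUnion hM).sum_one_mul_eq_zero hM (g := z * s) (by
    rw [← not_not (a := 2 ∣ _), ← pPart_eq_one_iff, h.pPart_z hz, pPart_eq_one_iff.2 hs, mul_one]
    exact h.z1)
  rw [← sub_eq_zero, Finset.sum_filter, Finset.mul_sum, ← Finset.sum_sub_distrib, ← neg_eq_zero,
    ← Finset.sum_neg_distrib]
  refine (Finset.sum_congr rfl fun ξ hξ => ?_).trans h1
  split_ifs with e
  · rw [h.ker_of_ne hz e]; ring
  · rw [h.neg_of_eq hM hz (mem_irrFinset.1 hξ) (not_not.1 e)]; ring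

end QD

end Cfsg.GW
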