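import Cfsg.Agent.GW.BS2

/-! # Brauer-Suzuki for `Q₈`: a character with the involution in its kernel -/

set_option autoImplicit false

namespace Cfsg.GW

open Subgroup
open scoped ComplexConjugate

universe u

theorem bs_comb {ι κ : Type*} [DecidableEq ι] [DecidableEq κ] {B : Finset ι} {S : Finset κ}
    {a : κ → ι → ℤ} {e d : ι → ℤ} (hd : ∀ x, 0 < d x)
    (h1 : ∀ i ∈ S, ∀ j ∈ S, ∑ x ∈ B, a i x * a j x = if i = j then 2 else 0)
    (h2 : ∀ i ∈ S, ∑ x ∈ B, a i x * d x = -1) {i : κ} (hi : i ∈ S)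
    (h3 : ∑ x ∈ B, a i x * e x = 1) (h4 : ∑ x ∈ B, e x * e x = 3) :
    ∃ x ∈ B, ∃ y ∈ B, x ≠ y ∧ a i x * a i x = 1 ∧ a i y * a i y = 1 ∧ e x = a i x ∧ e y = 0 ∧
      (∀ w ∈ B, w ≠ x → w ≠ y → a i w = 0) ∧ ∀ j ∈ S, j ≠ i → a j x = 0 ∧ a j y = 0 := by
  have h5 := fun j hj => (h1 j hj j hj).trans (if_pos rfl)
  have h6 : ∀ x ∈ B, a i x ≠ 0 → ∀ j ∈ S, j ≠ i → a j x = 0 := fun x hx h0 j hj e =>
    orth_two hd (h5 i hi) (h5 j hj) ((h1 i hi j hj).trans (if_neg e.symm)) (h2 i hi) (h2 j hj) hx h0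
  obtain ⟨x, hx, y, hy, hxy, e1, e2, e3, e4⟩ := exists_of_sum_sq_eq_two (h5 i hi)
  rw [e4] at h3
  have f1 := eq_one_or_of_sum_sq_le_three h4.le hx
  have f2 := eq_one_or_of_sum_sq_le_three h4.le hy
  have g1 : a i x * a i x = 1 := by rcases e1 with e | e <;> simp [e]
  have g2 : a i y * a i y = 1 := by rcases e2 with e | e <;> simp [e]
  have g3 := fun j hj e => And.intro (h6 x hx (by omega) j hj e) (h6 y hy (by omega) j hj e)
  have : e x = a i x ∧ e y = 0 ∨ e y = a i y ∧ e x = 0 := by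
    rcases e1 with e | e <;> rcases e2 with e' | e' <;> rw [e, e'] at h3 ⊢ <;> omega
  rcases this with e | e
  · exact ⟨x, hx, y, hy, hxy, g1, g2, e.1, e.2, e3, g3⟩
  · exact ⟨y, hy, x, hx, hxy.symm, g2, g1, e.1, e.2, fun w hw a b => e3 w hw b a,
      fun j hj e => (g3 j hj e).symm⟩

variable {G : Type u} [Group G] [Fintype G] {M : Ideal AlgInt} {H : Subgroup G} {z u : H}

theorem gam_odd {z u x : G} (ξ : IrrCharacter G) (hx : ¬ 2 ∣ orderOf x) : bsGam z u ξ x = 0 := by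
  rw [bsGam, sg, if_pos (pPart_eq_one_iff.2 hx), sub_self, mul_zero]

namespace QD

variable (hH : H = centralizer {(z : G)}) (h : QD (z : G) (u : G))
include hH h

theorem ti (x : G) (hx : x ∉ H) (a : G) (ha : a ∈ {g | g ∈ H ∧ 2 ∣ orderOf g}) :
    x * a * x⁻¹ ∉ {g | g ∈ H ∧ 2 ∣ orderOf g} := fun hb => by
  obtain ⟨t, ⟨k, rfl⟩, ht⟩ := exists_orderOf_two_mem_zpowers ha.2
  have h1 : ∀ g ∈ H, Commute (z : G) g := fun g hg =>
    (mem_centralizer_singleton_iff.1 (hH ▸ hg)).symm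
  have h2 := h.uniq _ ((MulAut.conj x).orderOf_eq _ |>.trans ht) (h1 _ (by
    rw [map_zpow]; exact zpow_mem hb.1 k))
  rw [h.uniq _ ht (h1 _ (zpow_mem ha.1 k))] at h2
  exact hx (hH ▸ mem_centralizer_singleton_iff.2 (mul_inv_eq_iff_eq_mul.1 h2))

theorem ext {f g : G → ℂ} (hf : IsClassFunction G f) (hg : IsClassFunction G g)
    (h1 : ∀ x, ¬ 2 ∣ orderOf x → f x = g x) (h2 : ∀ x : H, 2 ∣ orderOf x → f x = g x) : f = g := by
  funext x
  by_cases e : 2 ∣ orderOf x
  · obtain ⟨t, ⟨k, rfl⟩, ht⟩ := exists_orderOf_two_mem_zpowers e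
    obtain ⟨c, hc⟩ := isConj_iff.1 (h.inv _ ht).symm
    rw [← hf x c, ← hg x c]
    have h3 : c * x * c⁻¹ ∈ H := hH ▸ mem_centralizer_singleton_iff.2 (by
      rw [← hc, ← conj_zpow]; exact (Commute.self_zpow _ k).eq)
    exact h2 ⟨_, h3⟩ (e.trans (orderOf_mk _ _ |>.trans ((MulAut.conj c).orderOf_eq x)).symm.dvd)
  · exact h1 x e

variable [Fintype H] (h' : QD z u) (hM : IsPModular 2 M)
include h' hM

omit hH in
theorem res_col (x : H) : ∑ χ ∈ irrFinset (principalBlock M G), χ.1 u * χ.1 x =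
    ∑ χ ∈ irrFinset (principalBlock M H), χ.1 u * χ.1 x := by
  rw [h.col hM, h'.col hM, ← coe_pPart, ← coe_mul]
  congr 1
  exact propext OneMemClass.coe_eq_one

open Classical in
theorem rho_eq {S : Finset (IrrCharacter H)} (hS : S = ((irrFinset (principalBlock M H)).filter
      fun ξ => ξ.1 u ≠ 0).erase (IrrCharacter.triv H)) :
    ∑ ξ ∈ S, (1 + ξ.1 u * ξ.1 1) = 2 ∧ ∑ χ ∈ irrFinset (principalBlock M G), χ.1 z • χ.1 =
      ∑ ξ ∈ S, (1 + ξ.1 u * ξ.1 1) • indFun H (bsGam z u ξ) -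
        ∑ χ ∈ irrFinset (principalBlock M G), χ.1 u • χ.1 := by
  have hz : z ∈ center H := mem_center_iff.2 fun y =>
    Subtype.ext (mem_centralizer_singleton_iff.1 (hH ▸ y.2))
  have ht : IrrCharacter.triv H ∈ (irrFinset (principalBlock M H)).filter fun ξ => ξ.1 u ≠ 0 :=
    Finset.mem_filter.2 ⟨mem_irrFinset.2 hM.triv_mem_principalBlock, by simp⟩
  have h1 : ∑ _ξ ∈ S, (1 : ℂ) = 3 := by
    rw [Finset.sum_const, hS, Finset.card_erase_of_mem ht, (h'.card_four hM).1]; norm_num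
  have h2 : ∀ x : H, pPart 2 x * pPart 2 x = 1 → ∑ ξ ∈ S, ξ.1 u * ξ.1 x = -1 := fun x hx => by
    have := h'.col hM x
    rw [if_pos hx, ← Finset.sum_filter_of_ne (p := fun ξ => ξ.1 u ≠ 0)
      fun _ _ e => left_ne_zero_of_mul e, ← Finset.add_sum_erase _ _ ht, ← hS] at this
    simp only [IrrCharacter.triv_apply] at this
    linear_combination this
  have h3 := h2 1 (by simp)
  have h4 : ∀ ξ ∈ S, ξ ∈ principalBlock M H ∧ ξ.1 u ≠ 0 := fun ξ hξ => by
    rw [hS, Finset.mem_erase, Finset.mem_filter, mem_irrFinset] at hξ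
    exact hξ.2
  have h5 : ∑ ξ ∈ S, (1 + ξ.1 u * ξ.1 1) = 2 := by rw [Finset.sum_add_distrib, h1, h3]; norm_num
  have hc : ∀ χ : IrrCharacter G, conj (χ.1 z) = χ.1 z := fun χ => χ.conj_apply_of_mul_self h.zz
  have h6 : ∀ x : G, pPart 2 x = 1 ∨ pPart 2 x * pPart 2 x ≠ 1 →
      ∑ χ ∈ irrFinset (principalBlock M G), χ.1 z * χ.1 x = 0 := fun x hx => by
    rw [← isPBlock_principalBlock.sum_mul_conj_eq_zero hM (g := x) (h := z) fun e => by
      rw [pPart_eq_self_iff.2 ⟨1, h.oz.trans (pow_one 2).symm⟩] at e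
      rcases hx with hx | hx
      · exact h.z1 (isConj_one_right.1 (hx ▸ e))
      · exact hx (mul_self_eq_one_of_isConj h.zz e.symm)]
    exact Finset.sum_congr rfl fun χ _ => by rw [hc, mul_comm]
  refine ⟨h5, h.ext hH (IsClassFunction.sum _ fun χ _ => χ.isClassFunction.smul _)
    ((IsClassFunction.sum _ fun ξ _ => (indFun_isClassFunction _ _).smul _).sub
      (IsClassFunction.sum _ fun χ _ => χ.isClassFunction.smul _)) (fun x hx => ?_) fun x hx => ?_⟩
  · simp only [Pi.sub_apply, Finset.sum_apply, Pi.smul_apply, smul_eq_mul]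
    rw [h6 x (.inl (pPart_eq_one_iff.2 hx)), h.col hM, if_pos (by simp [pPart_eq_one_iff.2 hx]),
      Finset.sum_eq_zero fun ξ _ => by
        rw [indFun_eq_zero_of_forall_isConj _ _ fun y hy => gam_odd ξ (by
          rwa [← orderOf_coe, ← orderOf_eq_of_isConj' hy]), mul_zero], sub_zero]
  simp only [Pi.sub_apply, Finset.sum_apply, Pi.smul_apply, smul_eq_mul]
  rw [Finset.sum_congr rfl (s₁ := S) fun ξ hξ => by
    rw [indFun_apply_of_ti _ (h'.gam_gen hM hz (h4 ξ hξ).1 (h4 ξ hξ).2).isClassFunction (h.ti hH)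
      (fun y hy => gam_odd ξ fun e => hy ⟨y.2, by rwa [orderOf_coe]⟩) x
      ⟨x.2, by rwa [orderOf_coe]⟩], h.res_col h' hM, h'.col hM]
  rcases h'.tri hz x with e | e | e
  · exact (pPart_eq_one_iff.1 e hx).elim
  · have h7 := pPart_mul_pRegPart 2 x
    have h8 := hM.sum_principalBlock_mul_conj_section ⟨1, h.oz.trans (pow_one 2).symm⟩ hH
      (not_dvd_orderOf_pRegPart x) (t := 1) (by simp)
    have h9 := h2 x (by rw [e, h'.zz])
    rw [e] at h7
    simp only [← coe_mul, h7, mul_one, hc, OneMemClass.coe_one,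
      IrrCharacter.conj_apply_of_mul_self _ (one_mul 1)] at h8
    rw [h'.rho hM hz (not_dvd_orderOf_pRegPart x), ← Finset.add_sum_erase _ _ ht, ← hS] at h8
    rw [if_pos (by rw [e, h'.zz]), Finset.sum_congr rfl fun χ _ => mul_comm _ _, h8,
      Finset.sum_congr rfl (s₁ := S) (f := fun ξ => _ * bsGam z u ξ x) (g := fun ξ => 2 * (1 + ξ.1 u * ξ.1 1 +
        ξ.1 u * ξ.1 x + ξ.1 (pRegPart 2 x) * ξ.1 1)) fun ξ hξ => by
        rw [bsGam, sg, if_neg (e ▸ h'.z1), if_pos e, ← h'.ker_of_ne hz (h4 ξ hξ).2 (pRegPart 2 x), h7]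
        linear_combination 2 * ξ.1 1 * ξ.1 x * (h'.card_four hM).2 ξ (h4 ξ hξ).1 (h4 ξ hξ).2]
    simp only [← Finset.mul_sum, Finset.sum_add_distrib, h1, h3, h9, IrrCharacter.triv_apply]
    ring
  · rw [if_neg e, h6 x (.inr (by rwa [← coe_pPart, ← coe_mul, Ne, OneMemClass.coe_eq_one])),
      Finset.sum_congr rfl fun ξ hξ => by
        rw [bsGam, h'.gam_two hM hz (h4 ξ hξ).1 (h4 ξ hξ).2 e, h'.sg_eq hz e], ← Finset.sum_mul, h5]
    norm_num

end QD

theorem QD.exists_ker {z u : G} (h : QD z u) :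
    ∃ χ : IrrCharacter G, χ ≠ IrrCharacter.triv G ∧ χ.1 z = χ.1 1 := by
  classical
  obtain ⟨M, hM⟩ := exists_isPModular Nat.prime_two
  obtain ⟨H, hH⟩ : ∃ H, H = centralizer {z} := ⟨_, rfl⟩
  obtain ⟨z, u, rfl, rfl, h'⟩ : ∃ z' u' : H, z' = z ∧ u' = u ∧ QD z' u' := by
    subst hH
    exact ⟨_, _, rfl, rfl, h.sub⟩
  have hz : z ∈ center H := mem_center_iff.2 fun y =>
    Subtype.ext (mem_centralizer_singleton_iff.1 (hH ▸ y.2))
  obtain ⟨h1, h2⟩ := h.rho_eq hH h' hM rfl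
  generalize hS : ((irrFinset (principalBlock M H)).filter
      fun ξ => ξ.1 u ≠ 0).erase (IrrCharacter.triv H) = S at h1 h2
  have h4 : ∀ ξ ∈ S, ξ ≠ IrrCharacter.triv H ∧ ξ ∈ principalBlock M H ∧ ξ.1 u ≠ 0 := fun ξ hξ => by
    rwa [← hS, Finset.mem_erase, Finset.mem_filter, mem_irrFinset] at hξ
  have h5 := fun ξ hξ => h'.gam_gen hM hz (h4 ξ hξ).2.1 (h4 ξ hξ).2.2
  have h6 := fun ξ hξ ξ' hξ' => h'.gam_inner hM hz (h4 ξ hξ).2.1 (h4 ξ hξ).2.2 (h4 ξ hξ).1
    (h4 ξ' hξ').2.1 (h4 ξ' hξ').2.2 (h4 ξ' hξ').1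
  have h7 : ∀ ξ (y : H), (y : G) ∉ {g | g ∈ H ∧ 2 ∣ orderOf g} → bsGam z u ξ y = 0 :=
    fun ξ y hy => gam_odd ξ fun e => hy ⟨y.2, by rwa [orderOf_coe]⟩
  have h8 : ∀ ξ (g : G), ¬ 2 ∣ orderOf g → indFun H (bsGam z u ξ) g = 0 := fun ξ g hg =>
    indFun_eq_zero_of_forall_isConj _ _ fun y hy => gam_odd ξ (by
      rwa [← orderOf_coe, ← orderOf_eq_of_isConj' hy])
  have ha : ∀ ξ χ, ∃ n : ℤ, ξ ∈ S → classInner (indFun H (bsGam z u ξ)) (χ : IrrCharacter G).1 = n :=
    fun ξ χ => by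
      by_cases e : ξ ∈ S
      · exact ((h5 ξ e).indFun.exists_classInner_eq_int χ.isCharacter.isGeneralizedCharacter).imp
          fun _ e _ => e
      · exact ⟨0, fun e' => (e e').elim⟩
  choose a ha using ha
  have he : ∀ χ : IrrCharacter G, ∃ n : ℤ, (if χ ∈ principalBlock M G then χ.1 u else 0) = n :=
    fun χ => by
      split_ifs
      exacts [h.int χ, ⟨0, by simp⟩]
  choose e he using he
  have hD := IsClassFunction.sum (irrFinset (principalBlock M G))
    fun χ _ => χ.isClassFunction.smul (χ.1 u)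
  have hI := fun ξ => indFun_isClassFunction H (bsGam z u ξ)
  have ht := Finset.mem_univ (IrrCharacter.triv G)
  have a1 : ∀ ξ ∈ S, a ξ (IrrCharacter.triv G) = 1 := fun ξ hξ => by
    have := (classInner_indFun_left H _ (IrrCharacter.triv G).isClassFunction).trans (h6 ξ hξ ξ hξ).2.1
    rw [ha ξ _ hξ] at this
    exact_mod_cast this
  have e1 : e (IrrCharacter.triv G) = 1 := by
    have := he (IrrCharacter.triv G)
    rw [if_pos hM.triv_mem_principalBlock, IrrCharacter.triv_apply] at this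
    exact_mod_cast this.symm
  obtain ⟨ξ, hξ, hc⟩ := Finset.exists_ne_zero_of_sum_ne_zero (h1.trans_ne two_ne_zero)
  obtain ⟨x, hx, y, hy, hxy, g1, g2, g3, g4, g5, g6⟩ := bs_comb
    (B := Finset.univ.erase (IrrCharacter.triv G)) (a := a) (e := e)
    (d := fun χ => charDegree χ.1) (fun χ => by exact_mod_cast χ.charDegree_pos)
    (fun i hi j hj => by
      have := (classInner_indFun_of_ti _ (h5 i hi).isClassFunction (h.ti hH) (h7 i) (h7 j)).trans
        (h6 i hi j hj).1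
      simp only [(hI i).classInner_eq_sum (hI j), ha _ _ hi, ha _ _ hj, map_intCast] at this
      rw [← Finset.add_sum_erase _ _ ht, a1 i hi, a1 j hj] at this
      split_ifs at this ⊢ <;> norm_cast at this <;> omega)
    (fun i hi => by
      have := ((hI i).eq_sum_irr 1).symm.trans (h8 i 1 (by simp))
      simp only [ha _ _ hi, IrrCharacter.one_eq_charDegree] at this
      rw [← Finset.add_sum_erase _ _ ht, a1 i hi, ← IrrCharacter.one_eq_charDegree,
        IrrCharacter.triv_apply] at this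
      norm_cast at this
      omega) hξ
    (by
      have := (classInner_indFun_left H (bsGam z u ξ) hD).trans ((congrArg _ (funext fun x => by
        simpa using h.res_col h' hM x)).trans (h6 ξ hξ ξ hξ).2.2)
      simp only [(hI ξ).classInner_eq_sum hD, ha _ _ hξ, classInner_sum_smul_irr, he,
        map_intCast] at this
      rw [← Finset.add_sum_erase _ _ ht, a1 ξ hξ, e1] at this
      norm_cast at this
      omega)
    (by
      have := h.sum_sq hM
      rw [Finset.sum_congr rfl (g := fun χ => (e χ * e χ : ℂ)) fun χ hχ => by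
        rw [← he, if_pos (mem_irrFinset.1 hχ)], Finset.sum_subset (Finset.subset_univ _)
        fun χ _ hχ => by rw [← he, if_neg (mt mem_irrFinset.2 hχ), mul_zero],
        ← Finset.add_sum_erase _ _ ht, e1] at this
      norm_cast at this
      omega)
  have r : ∀ w, (∀ j ∈ S, j ≠ ξ → a j w = 0) → (if w ∈ principalBlock M G then w.1 z else 0) =
      (1 + ξ.1 u * ξ.1 1) * a ξ w - e w := fun w hw => by
    rw [← classInner_sum_smul_irr (principalBlock M G) fun χ => χ.1 (z : G), h2, classInner_sub_left, classInner_sum_smul_irr, he,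
      classInner_sum_left, Finset.sum_eq_single_of_mem ξ hξ fun j hj e => by
        rw [classInner_smul_left, ha _ _ hj, hw j hj e, Int.cast_zero, mul_zero],
      classInner_smul_left, ha _ _ hξ]
  have r1 := r x fun j hj e => (g6 j hj e).1
  have r2 := r y fun j hj e => (g6 j hj e).2
  have g1' : (a ξ x * a ξ x : ℂ) = 1 := by exact_mod_cast g1
  have g2' : (a ξ y * a ξ y : ℂ) = 1 := by exact_mod_cast g2
  rw [if_pos (by_contra fun e' => by
    have := he x
    rw [if_neg e', g3] at this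
    simp [← this] at g1'), g3] at r1
  rw [g4, Int.cast_zero, sub_zero] at r2
  rw [if_pos (by_contra fun e' => by
    rw [if_neg e', eq_comm, mul_eq_zero] at r2
    simp [r2.resolve_left hc] at g2')] at r2
  have hG : ∀ g, indFun H (bsGam z u ξ) g = 1 + a ξ x * x.1 g + a ξ y * y.1 g := fun g => by
    rw [(hI ξ).eq_sum_irr, ← Finset.add_sum_erase _ _ ht, ha _ _ hξ, a1 ξ hξ,
      Finset.sum_eq_add_of_mem x y hx hy hxy fun w hw e => by
        rw [ha _ _ hξ, g5 w hw e.1 e.2, Int.cast_zero, zero_mul], ha _ _ hξ, ha _ _ hξ]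
    simp [add_assoc]
  have p0 := (hG 1).symm.trans (h8 ξ 1 (by simp))
  have p1 := (IrrCharacter.triv G).one_mul_sum_sum_isConj z z
  have p2 := x.one_mul_sum_sum_isConj z z
  have p3 := y.one_mul_sum_sum_isConj z z
  have p4 : ∑ s : G with IsConj (z : G) s, ∑ t : G with IsConj (z : G) t,
      (1 + a ξ x * x.1 (s * t) + a ξ y * y.1 (s * t)) = 0 :=
    Finset.sum_eq_zero fun s hs => Finset.sum_eq_zero fun t ht => by
      rw [← hG, h8 ξ _ (Odd.not_two_dvd_nat (odd_orderOf_mul_of_isolated h.zz (fun t a b =>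
        h.uniq t ((orderOf_eq_of_isConj' a).symm.trans h.oz) b) (Finset.mem_filter.1 hs).2
        (Finset.mem_filter.1 ht).2))]
  simp only [Finset.sum_add_distrib, ← Finset.mul_sum, IrrCharacter.triv_apply, one_mul,
    mul_one] at p1 p4
  rw [p1] at p4
  refine ⟨x, (Finset.mem_erase.1 hx).1, ?_⟩
  have hk : ((centralizer {(z : G)}).index : ℂ) ≠ 0 := Nat.cast_ne_zero.2 index_ne_zero_of_finite
  generalize ((centralizer {(z : G)}).index : ℂ) = k at *
  have p5 : x.1 1 * y.1 1 + a ξ x * y.1 1 * (x.1 z * x.1 z) + a ξ y * x.1 1 * (y.1 z * y.1 z) = 0 := by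
    refine mul_left_cancel₀ (mul_ne_zero hk hk) ?_
    linear_combination x.1 1 * y.1 1 * p4 - a ξ x * y.1 1 * p2 - a ξ y * x.1 1 * p3
  have p6 : y.1 1 = -(a ξ y * (1 + a ξ x * x.1 1)) := by
    linear_combination a ξ y * p0 - y.1 1 * g2'
  rw [← sub_eq_zero, ← pow_eq_zero_iff two_ne_zero]
  rw [p6, r2] at p5
  rw [r1] at p5 ⊢
  generalize 1 + ξ.1 u * ξ.1 1 = c at *
  grind

end Cfsg.GW
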