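import Cfsg.Agent.GW.Defs

/-! The Brauer-Suzuki-Wall configuration: elementary facts. -/

set_option autoImplicit false

namespace Cfsg.GW.BSWH

open Subgroup Cfsg.FT

universe u

variable {G : Type u} [Group G] {K : Subgroup G} {t s g x : G} (h : BSWH K t s)
include h

theorem comm {a b : G} (ha : a ∈ K) (hb : b ∈ K) : a * b = b * a :=
  congrArg Subtype.val (h.ab.is_comm.comm (⟨a, ha⟩ : K) ⟨b, hb⟩)

theorem s_inv : s⁻¹ = s := inv_eq_of_mul_eq_one_right h.ss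

theorem tt : t * t = 1 := by rw [← sq, ← h.ot, pow_orderOf_eq_one]

theorem t_ne : t ≠ 1 := fun e => by have := h.ot; rw [e, orderOf_one] at this; omega

theorem t_inv : t⁻¹ = t := inv_eq_of_mul_eq_one_right h.tt

theorem conj_s (hx : x ∈ K) : s * x * s ∈ K := (h.inv x hx).symm ▸ K.inv_mem hx

theorem mem_sup : g ∈ K ⊔ ⟪s⟫ ↔ g ∈ K ∨ g * s ∈ K := by
  have e : ∀ a : G, a * s * s = a := fun a => by rw [mul_assoc, h.ss, mul_one]
  let H : Subgroup G :=
    { carrier := {g | g ∈ K ∨ g * s ∈ K}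
      one_mem' := Or.inl K.one_mem
      mul_mem' := by
        rintro a b (ha | ha) (hb | hb)
        · exact Or.inl (K.mul_mem ha hb)
        · exact Or.inr (mul_assoc a b s ▸ K.mul_mem ha hb)
        · exact Or.inr (by simpa only [← mul_assoc, e] using K.mul_mem ha (h.conj_s hb))
        · exact Or.inl (by simpa only [← mul_assoc, e] using K.mul_mem ha (h.conj_s hb))
      inv_mem' := by
        rintro a (ha | ha)
        · exact Or.inl (K.inv_mem ha)
        · exact Or.inr (by simpa [h.s_inv, ← mul_assoc, h.ss] using h.conj_s (K.inv_mem ha)) }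
  refine ⟨fun hg => (sup_le (fun a ha => Or.inl ha) (zpowers_le.2 (Or.inr
    (h.ss ▸ K.one_mem))) : _ ≤ H) hg, ?_⟩
  rintro (hg | hg)
  · exact mem_sup_left hg
  · exact e g ▸ mul_mem (mem_sup_left hg) (mem_sup_right (mem_zpowers s))

/-- elements of `H` outside `K` invert `K` -/
theorem conj_of_mul (hg : g * s ∈ K) (hx : x ∈ K) : g * x * g⁻¹ = x⁻¹ := by
  have e : g = g * s * s := by rw [mul_assoc, h.ss, mul_one]
  rw [e, mul_inv_rev (g * s), h.s_inv, mul_assoc, mul_assoc, ← mul_assoc x, ← mul_assoc s,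
    ← mul_assoc s, h.inv x hx, ← mul_assoc, h.comm hg (K.inv_mem hx), mul_inv_cancel_right]

theorem conj_of_mem (hg : g ∈ K) (hx : x ∈ K) : g * x * g⁻¹ = x := by
  rw [h.comm hg hx, mul_inv_cancel_right]

theorem notMem_of_mul (hg : g * s ∈ K) : g ∉ K := fun hg' => h.sK ((K.mul_mem_cancel_left hg').1 hg)

theorem orderOf_of_mul (hg : g * s ∈ K) : orderOf g = 2 := by
  have := Fact.mk Nat.prime_two
  refine orderOf_eq_prime ?_ fun e => h.notMem_of_mul hg (e ▸ K.one_mem)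
  have e := h.inv _ hg
  rw [mul_assoc, mul_assoc, h.ss, mul_one, eq_inv_iff_mul_eq_one, ← mul_assoc, mul_assoc s] at e
  rw [sq, ← mul_left_inj s, ← mul_right_inj s, ← mul_assoc, e, one_mul, h.ss]

theorem conj_mem (hg : g ∈ K ⊔ ⟪s⟫) (hx : x ∈ K) : g * x * g⁻¹ = x ∨ g * x * g⁻¹ = x⁻¹ :=
  (h.mem_sup.1 hg).imp (h.conj_of_mem · hx) (h.conj_of_mul · hx)

theorem cent_t : 𝐂₁[t] = K ⊔ ⟪s⟫ := le_antisymm (h.cent t h.tK h.t_ne) fun g hg => by
  rw [mem_centralizer_singleton_iff, ← mul_inv_eq_iff_eq_mul]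
  exact (h.conj_mem hg h.tK).elim id (·.trans h.t_inv)

theorem cent_eq (hx : x ∈ K) (h2 : x * x ≠ 1) : 𝐂₁[x] = K := by
  refine le_antisymm (fun g hg => (h.mem_sup.1 (h.cent x hx (fun e => h2 (by simp [e])) hg)).resolve_right
    fun hg' => h2 ?_) fun g hg => mem_centralizer_singleton_iff.2 (h.comm hg hx)
  have e := h.conj_of_mul hg' hx
  rwa [mem_centralizer_singleton_iff.1 hg, mul_inv_cancel_right, eq_inv_iff_mul_eq_one] at e

/-- `K` is a TI-subgroup -/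
theorem ti (hx : x ∈ K) (h1 : x ≠ 1) (hg : g * x * g⁻¹ ∈ K) : g ∈ K ⊔ ⟪s⟫ := by
  rw [← h.cent_t, mem_centralizer_singleton_iff, ← mul_inv_eq_iff_eq_mul]
  have e : g * t * g⁻¹ * (g * t * g⁻¹) = 1 := by
    rw [show g * t * g⁻¹ * (g * t * g⁻¹) = g * (t * t) * g⁻¹ by group, h.tt]; group
  refine (h.uniq _ ?_ e).resolve_left fun e => h.t_ne (by simpa using e)
  by_cases h2 : x * x = 1
  · exact (h.uniq x hx h2).resolve_left h1 ▸ hg
  rw [← h.cent_eq hg fun e => h2 (by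
    rwa [show g * x * g⁻¹ * (g * x * g⁻¹) = g * (x * x) * g⁻¹ by group, conj_eq_one_iff] at e),
    mem_centralizer_singleton_iff]
  rw [show g * t * g⁻¹ * (g * x * g⁻¹) = g * (t * x) * g⁻¹ by group, h.comm h.tK hx]; group

theorem inj : Function.Injective (Sum.elim (fun k : K => (k : G)) fun k : K => (k : G) * s) := by
  rintro (a | a) (b | b) e
  · exact congrArg _ (Subtype.ext e)
  · exact absurd ((K.mul_mem_cancel_left b.2).1 ((show (a : G) = b * s from e) ▸ a.2)) h.sK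
  · exact absurd ((K.mul_mem_cancel_left a.2).1 ((show (b : G) = a * s from e.symm) ▸ b.2)) h.sK
  · exact congrArg _ (Subtype.ext (mul_right_cancel e))

theorem range_eq : Set.range (Sum.elim (fun k : K => (k : G)) fun k : K => (k : G) * s) =
    (K ⊔ ⟪s⟫ : Subgroup G) := by
  ext g
  rw [SetLike.mem_coe, h.mem_sup]
  refine ⟨?_, fun hg => hg.elim (fun hg => ⟨.inl ⟨g, hg⟩, rfl⟩) fun hg =>
    ⟨.inr ⟨_, hg⟩, by simp [mul_assoc, h.ss]⟩⟩
  rintro ⟨a | a, rfl⟩
  exacts [Or.inl a.2, Or.inr (by simp [mul_assoc, h.ss])]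

theorem card_sup [Finite G] : Nat.card (K ⊔ ⟪s⟫ : Subgroup G) = 2 * Nat.card K := by
  rw [← SetLike.coe_sort_coe, ← h.range_eq, Nat.card_range_of_injective h.inj, Nat.card_sum, two_mul]

theorem sum_eq [Fintype G] [Fintype K] {M : Type*} [AddCommMonoid M] (F : G → M)
    (hF : ∀ g, g ∉ K ⊔ ⟪s⟫ → F g = 0) : ∑ g, F g = ∑ k : K, F k + ∑ k : K, F (k * s) := by
  rw [← Fintype.sum_of_injective _ h.inj (fun i => F _) F (fun g hg => hF g (by
    rwa [h.range_eq] at hg)) fun _ => rfl, Fintype.sum_sum_type]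
  rfl

theorem two_dvd [Finite G] : 2 ∣ Nat.card K := h.ot ▸ K.orderOf_dvd_natCard h.tK

/-- an element commuting with a nonidentity element of `K` is conjugate into `K` -/
theorem conj_of_cent (hx : x ∈ K) (h1 : x ≠ 1) (hg : g * x = x * g) :
    ∃ y : G, y * g * y⁻¹ ∈ K := by
  rcases h.mem_sup.1 (h.cent x hx h1 (mem_centralizer_singleton_iff.2 hg)) with hg | hg
  · exact ⟨1, by simpa using hg⟩
  · obtain ⟨y, hy⟩ := isConj_iff.1 (h.conj _ _ (h.orderOf_of_mul hg) h.ot)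
    exact ⟨y, hy ▸ h.tK⟩

/-- the pairs of involutions with product in `K` -/
theorem card_pairs (hx : x ∈ K) (h1 : x ≠ 1) :
    Nat.card {p : G × G // IsConj t p.1 ∧ IsConj t p.2 ∧ p.1 * p.2 = x} = Nat.card K := by
  have e : ∀ a : G, a * s * s = a := fun a => by rw [mul_assoc, h.ss, mul_one]
  have h2 : ∀ {u}, IsConj t u → u * u = 1 ∧ u ≠ 1 := fun hu => by
    obtain ⟨y, rfl⟩ := isConj_iff.1 hu
    exact ⟨by rw [show y * t * y⁻¹ * (y * t * y⁻¹) = y * (t * t) * y⁻¹ by group, h.tt]; group,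
      by simpa using h.t_ne⟩
  refine Nat.card_congr ⟨fun p => ⟨p.1.1 * s, ?_⟩, fun k => ⟨(k * s, (k * s)⁻¹ * x),
    h.conj _ _ h.ot (h.orderOf_of_mul (by simp [e])), h.conj _ _ h.ot (h.orderOf_of_mul ?_),
    mul_inv_cancel_left _ _⟩, fun p => ?_, fun k => Subtype.ext (e _)⟩
  · obtain ⟨⟨u, v⟩, hu, hv, rfl⟩ := p
    have h3 : u * (u * v) * u⁻¹ = (u * v)⁻¹ := by
      rw [← mul_assoc, (h2 hu).1, one_mul, mul_inv_rev, inv_eq_of_mul_eq_one_right (h2 hv).1]
    refine (h.mem_sup.1 (h.ti hx h1 (h3 ▸ K.inv_mem hx))).resolve_left fun hu' => h1 ?_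
    rw [(h.uniq u hu' (h2 hu).1).resolve_left (h2 hu).2, (h.uniq v ((K.mul_mem_cancel_left hu').1 hx)
      (h2 hv).1).resolve_left (h2 hv).2, h.tt]
  · rw [mul_inv_rev, h.s_inv, mul_assoc s]
    exact h.conj_s (K.mul_mem (K.inv_mem k.2) hx)
  · obtain ⟨⟨u, v⟩, hu, hv, rfl⟩ := p
    simp [e]

end Cfsg.GW.BSWH
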