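import Cfsg.Agent.GW.BSWa
import Cfsg.Agent.GW.BSWb
import Cfsg.Agent.CT.ClassSum
import Cfsg.Agent.CT.PRegular
import Cfsg.Agent.CT.Kernel

/-! The Brauer-Suzuki-Wall theorem: exceptional characters and the order formula. -/

set_option autoImplicit false

namespace Cfsg.GW

open Subgroup Cfsg.FT
open scoped ComplexConjugate

universe u

variable {G : Type u} [Group G] {K : Subgroup G} {t s : G}

theorem BSWH.commutator_eq [IsSimpleGroup G] (h : BSWH K t s) : commutator G = ⊤ := by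
  refine (Subgroup.Normal.eq_bot_or_eq_top inferInstance).resolve_left fun e => h.sK ?_
  have h1 : IsMulCommutative G := (_root_.commutator_eq_bot_iff (G := G)).1 e
  obtain ⟨y, hy⟩ := isConj_iff.1 (h.conj t s h.ot (h.orderOf_of_mul (h.ss ▸ K.one_mem)))
  rw [mul_comm' y, mul_inv_cancel_right] at hy
  exact hy ▸ h.tK

theorem BSWH.exists_mu [Finite G] (h : BSWH K t s) :
    ∃ μ : K →* ℂˣ, μ ≠ 1 ∧ ∀ l : K →* ℂˣ, l * l = 1 ↔ l = 1 ∨ l = μ := by
  have := h.ab
  let : CommGroup K := { (inferInstance : Group K) with mul_comm := fun a b => mul_comm' a b }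
  obtain ⟨φ⟩ := CommGroup.monoidHom_mulEquiv_of_hasEnoughRootsOfUnity K ℂ
  refine ⟨φ.symm ⟨t, h.tK⟩, fun e => h.t_ne (congrArg Subtype.val
    ((map_eq_one_iff _ φ.symm.injective).1 e)), fun l => ⟨fun e => ?_, ?_⟩⟩
  · have h1 := congrArg (fun x => (φ x : G)) e
    simp only [map_mul, map_one, coe_mul, OneMemClass.coe_one] at h1
    exact (h.uniq _ (φ l).2 h1).imp (fun e => (map_eq_one_iff _ φ.injective).1 (Subtype.ext e))
      fun e => φ.eq_symm_apply.2 (Subtype.ext e)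
  · rintro (rfl | rfl)
    · exact mul_one (1 : K →* ℂˣ)
    · rw [← map_mul, show (⟨t, h.tK⟩ : K) * ⟨t, h.tK⟩ = 1 from Subtype.ext h.tt, map_one]

theorem BSWH.ind_apply [Fintype G] (h : BSWH K t s) {φ : K → ℂ} (h1 : φ 1 = 0) (x : K) :
    indFun K φ x = φ x + φ x⁻¹ := by
  have := Fintype.ofFinite K
  by_cases hx : x = 1
  · simp [hx, indFun_one, h1]
  rw [indFun_apply', h.sum_eq _ fun g hg => extendByZero_of_not_mem _ _ fun e =>
    hg (h.ti x.2 (fun e => hx (Subtype.ext e)) e)]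
  have e1 : ∀ k : K, (k : G) * x * (k : G)⁻¹ = x := fun k => h.conj_of_mem k.2 x.2
  have e2 : ∀ k : K, (k : G) * s * x * ((k : G) * s)⁻¹ = (x⁻¹ : K) := fun k =>
    h.conj_of_mul (by simp [mul_assoc, h.ss]) x.2
  simp only [e1, e2, extendByZero_coe, Finset.sum_const, Finset.card_univ,
    ← Nat.card_eq_fintype_card, nsmul_eq_mul]
  rw [← mul_add, inv_mul_cancel_left₀ (Nat.cast_ne_zero.2 Nat.card_pos.ne')]

open Classical in
theorem BSWH.exists_chars [Finite G] [IsSimpleGroup G] (h : BSWH K t s) :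
    ∃ (ψ ψ₁ ψ₂ : IrrCharacter G) (ε ε₁ ε₂ : ℤ), ε ^ 2 = 1 ∧ ε₁ ^ 2 = 1 ∧ ε₂ ^ 2 = 1 ∧
      (∀ x ∈ K, x ≠ 1 → ε * ψ.1 x = 1) ∧
      (∀ g, (∀ y, y * g * y⁻¹ ∈ K → g = 1) → 1 + ε * ψ.1 g + ε₁ * ψ₁.1 g + ε₂ * ψ₂.1 g = 0) ∧
      ε₁ * charDegree ψ₁.1 = ε₂ * charDegree ψ₂.1 ∧ (Nat.card K : ℤ) ∣ ε₁ * charDegree ψ₁.1 + 1 ∧
      2 ≤ charDegree ψ₁.1 ∧ 1 + ((ε * charDegree ψ.1 : ℤ) : ℚ)⁻¹ +
        2 * ((ε₁ * charDegree ψ₁.1 : ℤ) : ℚ)⁻¹ = 2 * Nat.card K ^ 2 / 𝐂₁[t].index := by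
  have := Fintype.ofFinite G
  have := Fintype.ofFinite K
  have := h.ab
  have : Fintype (K →* ℂˣ) := .ofEquiv _ (IrrCharacter.equivHomOfComm K).symm
  have hk : (Nat.card K : ℂ) ≠ 0 := Nat.cast_ne_zero.2 Nat.card_pos.ne'
  obtain ⟨μ, hμ, hμ'⟩ := h.exists_mu
  set T := Finset.univ.filter fun l : K →* ℂˣ => ¬ l * l = 1 with hT
  have hT' : ∀ l, l ∈ T ↔ l ≠ 1 ∧ l ≠ μ := fun l => by simp [hT, hμ']
  have hsum : ∀ {M : Type} [AddCommMonoid M] (F : (K →* ℂˣ) → M),
      ∑ l, F l = F 1 + F μ + ∑ l ∈ T, F l := fun F => by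
    rw [← Finset.sum_filter_add_sum_filter_not _ fun l => l * l = 1, ← Finset.sum_pair hμ.symm]
    congr 2
    ext l; simp [hμ']
  set o := fun l : K →* ℂˣ => (IrrCharacter.ofHom l).1 with ho
  have hoo : ∀ l m, classInner (o l) (o m) = if l = m then 1 else 0 := fun l m => by
    simp only [ho, IrrCharacter.classInner_eq, IrrCharacter.ofHom_injective.eq_iff]
  have hexp : ∀ (f : K → ℂ) (x : K), f x = ∑ l, classInner f (o l) * o l x := fun f x => by
    rw [IsClassFunction.eq_sum_irr (θ := f) (fun a b => by rw [mul_comm' b, mul_inv_cancel_right]) x]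
    exact (Fintype.sum_equiv (IrrCharacter.equivHomOfComm K) _ _ fun _ => rfl).symm
  have hreg : ∀ x : K, x ≠ 1 → ∑ l, o l x = 0 := fun x hx => by
    have := sum_irr_one_mul x
    rw [if_neg hx] at this
    rw [← this]
    exact Fintype.sum_equiv (IrrCharacter.equivHomOfComm K) _ _ fun l => by simp [ho]
  have hcard : Nat.card K = 2 + T.card := by
    have := hsum fun _ => (1 : ℕ)
    rwa [Finset.sum_const, Finset.sum_const, smul_eq_mul, smul_eq_mul, mul_one, mul_one,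
      Finset.card_univ, ← Nat.card_eq_fintype_card, Nat.card_congr (IrrCharacter.equivHomOfComm K),
      card_irr_of_comm] at this
  choose n hn using fun (l : K →* ℂˣ) (χ : IrrCharacter G) =>
    (χ.isCharacter.res K).exists_classInner_eq_nat (IrrCharacter.ofHom l).isCharacter
  replace hn : ∀ l χ, classInner (fun x : K => χ.1 x) (o l) = n l χ := hn
  set V := fun l => indFun K (o 1 - o l) with hV
  set v : (K →* ℂˣ) → IrrCharacter G → ℤ := fun l χ => n 1 χ - n l χ with hv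
  have h0 : ∀ l, (o 1 - o l) 1 = 0 := fun l => by simp [ho]
  have hv1 : ∀ l χ, classInner (o 1 - o l) (fun x : K => χ.1 x) = v l χ := fun l χ => by
    rw [← conj_classInner, classInner_sub_right, hn, hn]; simp [hv]
  have hv2 : ∀ l χ, classInner (V l) χ.1 = v l χ := fun l χ => by
    rw [hV, classInner_indFun_left _ _ χ.isClassFunction, hv1]
  have hVV : ∀ l m, l ≠ 1 → m ≠ 1 → ∑ χ, v l χ * v m χ =
      2 + (if l = m then 1 else 0) + if l = m⁻¹ then 1 else 0 := fun l m hl hm => by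
    have h1 := (indFun_isClassFunction K (o 1 - o l)).classInner_eq_sum
      (indFun_isClassFunction K (o 1 - o m))
    have h2 : (fun x : K => indFun K (o 1 - o m) x) = o 1 - o m + (o 1 - o m⁻¹) := by
      ext x; rw [h.ind_apply (h0 m)]; simp [ho]
    rw [classInner_indFun_left _ _ (indFun_isClassFunction _ _), h2] at h1
    simp only [classInner_add_right, classInner_sub_right, classInner_sub_left, hoo, hl, hm.symm,
      show ¬ 1 = m⁻¹ from fun e => hm ((inv_eq_one (a := m)).1 e.symm), if_true, if_false] at h1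
    erw [Finset.sum_congr rfl fun χ _ => by rw [hv2, hv2, map_intCast]] at h1
    apply Int.cast_injective (α := ℂ)
    push_cast
    rw [← h1]; ring
  have hvo : ∀ l, l ≠ 1 → v l (IrrCharacter.triv G) = 1 := fun l hl => by
    apply Int.cast_injective (α := ℂ)
    rw [← hv1, show (fun x : K => (IrrCharacter.triv G).1 x) = o 1 from rfl, classInner_sub_left]
    simp [hoo, hl]
  set S := Finset.univ.erase (IrrCharacter.triv G) with hS
  have hS' : ∀ {M : Type} [AddCommMonoid M] (F : IrrCharacter G → M),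
      ∑ χ, F χ = F (IrrCharacter.triv G) + ∑ χ ∈ S, F χ := fun F =>
    (Finset.add_sum_erase _ _ (Finset.mem_univ _)).symm
  have hVS : ∀ l m, l ≠ 1 → m ≠ 1 → ∑ χ ∈ S, v l χ * v m χ =
      1 + (if l = m then 1 else 0) + if l = m⁻¹ then 1 else 0 := fun l m hl hm => by
    have := hVV l m hl hm
    rw [hS', hvo l hl, hvo m hm] at this
    omega
  have hval : ∀ (χ : IrrCharacter G) (x : K), x ≠ 1 →
      χ.1 x = -(v μ χ * o μ x + ∑ l ∈ T, v l χ * o l x) := fun χ x hx => by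
    have h1 := hexp (fun x : K => χ.1 x) x
    have h2 := hsum fun l => v l χ * o l x
    simp only [hn] at h1
    simp only [hv, sub_self, Int.cast_zero, zero_mul, zero_add] at h2
    rw [← h2, h1]
    push_cast
    simp only [sub_mul, Finset.sum_sub_distrib, ← Finset.mul_sum, hreg x hx]
    ring
  have hvan : ∀ l, l ≠ 1 → ∀ g, (∀ y, y * g * y⁻¹ ∈ K → g = 1) →
      1 + ∑ χ ∈ S, v l χ * χ.1 g = 0 := fun l hl g hg => by
    have h1 := (indFun_isClassFunction K (o 1 - o l)).eq_sum_irr g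
    erw [Finset.sum_congr rfl fun χ _ => by rw [hv2]] at h1
    rw [hS', hvo l hl, indFun_eq_zero_of_forall_isConj _ _ fun x hx => by
      obtain ⟨y, hy⟩ := isConj_iff.1 hx
      obtain rfl := hg y (hy ▸ x.2)
      rw [show x = 1 from Subtype.ext (by simpa using hy.symm), h0]] at h1
    simpa using h1.symm
  have hdeg : ∀ l, l ≠ 1 → ∑ χ ∈ S, v l χ * charDegree χ.1 = -1 := fun l hl => by
    have h1 := hvan l hl 1 fun _ _ => rfl
    simp only [IrrCharacter.one_eq_charDegree] at h1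
    have h2 : 1 + ∑ χ ∈ S, v l χ * charDegree χ.1 = 0 := by exact_mod_cast h1
    omega
  set t' : K := ⟨t, h.tK⟩
  have ht' : t' ≠ 1 := fun e => h.t_ne (congrArg Subtype.val e)
  have he : ∀ l, ∃ e : ℤ, e ^ 2 = 1 ∧ o l t' = e := fun l => by
    have : o l t' ^ 2 = 1 := by
      simp only [ho]
      rw [IrrCharacter.ofHom_apply, ← Units.val_pow_eq_pow_val, ← map_pow, sq,
        show t' * t' = 1 from Subtype.ext h.tt, map_one, Units.val_one]
    rcases sq_eq_one_iff.1 this with h | h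
    exacts [⟨1, rfl, by simpa using h⟩, ⟨-1, rfl, by simpa using h⟩]
  choose e he he' using he
  choose τ hτ using fun χ : IrrCharacter G =>
    χ.isCharacter.exists_int_of_sq_eq_one (g := t) (by rw [sq, h.tt])
  have hi : (𝐂₁[t].index : ℂ) ≠ 0 := Nat.cast_ne_zero.2 index_ne_zero_of_finite
  have hG : Nat.card G = 2 * Nat.card K * 𝐂₁[t].index := by
    rw [← h.card_sup, ← h.cent_t, card_mul_index]
  have hκ : ∀ l, l ≠ 1 → 1 + ∑ χ ∈ S, v l χ * ((((charDegree χ.1 - 2 * τ χ : ℤ) : ℚ)) ^ 2 /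
      (charDegree χ.1 : ℤ)) = 2 * Nat.card K ^ 2 / 𝐂₁[t].index := fun l hl => by
    have h1 : ∀ χ : IrrCharacter G, ∑ x : K, (o 1 - o l) x * conj (χ.1 x) = Nat.card K * v l χ :=
      fun χ => by rw [← hv1, classInner_def, mul_inv_cancel_left₀ hk]
    have h2 : ∑ x : K, (o 1 - o l) x * (Nat.card K : ℂ) = ∑ x : K, (o 1 - o l) x *
        (Nat.card {p : G × G // IsConj t p.1 ∧ IsConj t p.2 ∧ p.1 * p.2 = x} : ℂ) :=
      Finset.sum_congr rfl fun x _ => by
        by_cases hx : x = 1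
        · rw [hx, h0, zero_mul, zero_mul]
        · rw [h.card_pairs x.2 fun e => hx (Subtype.ext e)]
    have h3 := h1 (IrrCharacter.triv G)
    simp only [IrrCharacter.triv_apply, map_one, mul_one, hvo l hl, Int.cast_one] at h3
    simp only [card_isConj_mul_isConj_eq, Finset.mul_sum] at h2
    rw [← Finset.sum_mul, h3, Finset.sum_comm, Finset.sum_congr rfl (g := fun χ =>
      𝐂₁[t].index / 2 * (v l χ * (χ.1 t ^ 2 / χ.1 1))) fun χ _ => by
        rw [← mul_right_inj' hk, mul_left_comm, ← mul_assoc (Nat.card K : ℂ), ← h1, hG,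
          Finset.sum_mul, Finset.mul_sum, Finset.mul_sum]
        refine Finset.sum_congr rfl fun x _ => ?_
        push_cast
        field_simp, ← Finset.mul_sum, hS', hvo l hl] at h2
    apply Rat.cast_injective (α := ℂ)
    simp only [IrrCharacter.triv_apply] at h2
    simp only [fun χ => (hτ χ).2.1, IrrCharacter.one_eq_charDegree] at h2
    push_cast at h2 ⊢
    rw [eq_div_iff hi]
    linear_combination (-2) * h2
  have hni : ∀ l, v l⁻¹ = v l := fun l => funext fun χ => by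
    simp only [hv, sub_right_inj, Nat.cast_inj]
    apply Nat.cast_injective (R := ℂ)
    rw [← hn, ← hn, classInner_def, classInner_def, ← Equiv.sum_comp (Equiv.inv K)]
    congr 1
    refine Finset.sum_congr rfl fun x _ => ?_
    rw [Equiv.inv_apply, coe_inv, ← h.conj_of_mul (g := s) (h.ss ▸ K.one_mem) x.2,
      χ.isClassFunction]
    simp [ho]
  have hμμ : μ⁻¹ = μ := inv_eq_of_mul_eq_one_right (a := μ) ((hμ' μ).2 (Or.inr rfl))
  have hTi : ∀ l ∈ T, l⁻¹ ∈ T ∧ l⁻¹ ≠ l := fun l hl => by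
    simp only [hT, Finset.mem_filter, Finset.mem_univ, true_and] at hl ⊢
    exact ⟨fun e => hl ((inv_eq_one (a := l * l)).1 ((mul_inv l l).trans e)),
      fun e => hl (by nth_rw 1 [← e]; exact inv_mul_cancel l)⟩
  have hd : ∀ χ ∈ S, 2 ≤ charDegree χ.1 := fun χ hχ => by
    by_contra! h1
    obtain ⟨f, rfl⟩ := χ.exists_eq_ofHom (by have := χ.charDegree_pos; omega)
    refine (Finset.mem_erase.1 hχ).1 ?_
    rw [← IrrCharacter.ofHom_one]
    congr 1
    ext1 g
    exact Abelianization.commutator_subset_ker f (h.commutator_eq ▸ Subgroup.mem_top g)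
  have : Nonempty (IrrCharacter G) := ⟨.triv G⟩
  obtain ⟨a, ha, b, hb, c, hc, a1, b1, c1, hF, hab, hbc, hq⟩ := bsw_comb (s := S) (T := T) (v := v)
    (w := v μ) (d := fun χ => charDegree χ.1) (τ := fun χ => charDegree χ.1 - 2 * τ χ) (e := e)
    (e₀ := e μ) (N := Nat.card G) hTi hni
    (fun l => by
      apply Int.cast_injective (α := ℂ)
      rw [← he', ← he']
      nth_rw 2 [show t' = t'⁻¹ from Subtype.ext h.t_inv.symm]
      simp [ho])
    he (he μ)
    (by
      have h1 := hreg t' ht'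
      rw [hsum, he' μ, Finset.sum_congr rfl fun l _ => he' l] at h1
      simp only [ho, IrrCharacter.ofHom_apply, MonoidHom.one_apply, Units.val_one] at h1
      exact_mod_cast h1)
    (by simpa [sq, hμμ] using hVS μ μ hμ hμ)
    (fun l hl => by simpa [sq, (hTi l hl).2.symm] using hVS l l ((hT' l).1 hl).1 ((hT' l).1 hl).1)
    (fun l hl => by simpa [hμμ, ((hT' l).1 hl).2] using hVS l μ ((hT' l).1 hl).1 hμ)
    (fun l hl m hm h1 h2 => by
      have := hVS l m ((hT' l).1 hl).1 ((hT' m).1 hm).1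
      rwa [if_neg h1.symm, if_neg fun e => h2 ((inv_eq_iff_eq_inv (a := l)).2 e).symm] at this)
    (fun χ _ => by
      have h1 := hval χ t' ht'
      simp only [he'] at h1
      exact_mod_cast (hτ χ).2.1.symm.trans h1)
    (fun χ hχ => by exact_mod_cast hd χ hχ) (hdeg μ hμ) (fun l hl => hdeg l ((hT' l).1 hl).1)
    (hκ μ hμ) (fun l hl => hκ l ((hT' l).1 hl).1)
    (fun e => by
      have : (𝐂₁[t].index : ℚ) ≠ 0 := Nat.cast_ne_zero.2 index_ne_zero_of_finite
      rw [hG, hcard, e]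
      push_cast
      field_simp
      norm_num)
    (by
      have h1 := sum_charDegree_sq (G := G)
      rw [hS', IrrCharacter.charDegree_triv] at h1
      exact_mod_cast h1)
    (fun χ _ => ⟨τ χ, by ring⟩)
  refine ⟨a, b, c, v μ a, v μ b, v μ c, a1, b1, c1, fun x hx hx1 => ?_, fun g hg => ?_, hbc, ?_,
    hd b hb, hq⟩
  · have h1 := hval a ⟨x, hx⟩ fun e => hx1 (congrArg Subtype.val e)
    have h2 := hreg ⟨x, hx⟩ fun e => hx1 (congrArg Subtype.val e)
    rw [Finset.sum_congr rfl fun l hl => by rw [(hab l hl).1], ← Finset.mul_sum] at h1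
    rw [hsum, show o 1 ⟨x, hx⟩ = 1 from rfl] at h2
    have h3 : (v μ a : ℂ) ^ 2 = 1 := by exact_mod_cast a1
    rw [h1]
    linear_combination h3 - (v μ a : ℂ) ^ 2 * h2
  · have := hvan μ hμ g hg
    rwa [hF, ← add_assoc, ← add_assoc] at this
  · have h1 := hexp (fun x : K => b.1 x) 1
    simp only [hn, show ∀ l, o l 1 = 1 from fun l => by simp [ho], mul_one,
      OneMemClass.coe_one, IrrCharacter.one_eq_charDegree] at h1
    have h2 : (charDegree b.1 : ℤ) = ∑ l, (n l b : ℤ) := by exact_mod_cast h1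
    rw [hsum, Finset.sum_congr rfl fun l hl => (sub_eq_zero.1 (hab l hl).2).symm, Finset.sum_const,
      nsmul_eq_mul] at h2
    refine ⟨v μ b * n 1 b, ?_⟩
    rw [h2, hcard]
    push_cast
    linear_combination (-1) * b1

theorem BSWH.conj_of_not_coprime [Finite G] (h : BSWH K t s)
    (hc : (2 * Nat.card K).Coprime 𝐂₁[t].index) {g : G}
    (hg : ¬ (2 * Nat.card K).Coprime (orderOf g)) : ∃ y : G, y * g * y⁻¹ ∈ K := by
  obtain ⟨r, hr, h1, h2⟩ := Nat.Prime.not_coprime_iff_dvd.1 hg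
  have := Fact.mk hr
  set x := g ^ (orderOf g / r) with hx
  have ho : orderOf x = r := orderOf_pow_orderOf_div (orderOf_pos g).ne' h2
  obtain ⟨y, hy⟩ := (IsPGroup.of_card (by rw [Nat.card_zpowers, ho, pow_one]) :
    IsPGroup r (zpowers x)).nonempty_fixed_point_of_prime_not_dvd_card (G ⧸ 𝐂₁[t])
      fun e => hr.one_lt.ne' (Nat.eq_one_of_dvd_coprimes hc h1 e)
  obtain ⟨y, rfl⟩ := QuotientGroup.mk_surjective y
  have h3 : y⁻¹ * (x * y) ∈ 𝐂₁[t] := QuotientGroup.eq.1 (hy ⟨x, mem_zpowers x⟩).symm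
  obtain ⟨z, hz⟩ := h.conj_of_cent h.tK h.t_ne (mem_centralizer_singleton_iff.1 h3)
  obtain ⟨u, hu⟩ := h.conj_of_cent (g := z * y⁻¹ * g * (z * y⁻¹)⁻¹) hz (fun e => by
    have : x = 1 := by simpa [mul_assoc] using congrArg (fun a => y * z⁻¹ * a * z * y⁻¹) e
    exact hr.one_lt.ne' (by rw [← ho, this, orderOf_one])) (by rw [hx]; group)
  exact ⟨u * (z * y⁻¹), by simpa [mul_assoc] using hu⟩

theorem bsw_zero [Finite G] (χ : IrrCharacter G) {b : ℕ} (hG : Nat.card G = charDegree χ.1 * b)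
    (hc : (charDegree χ.1).Coprime b) {g : G} (hg : ¬ (charDegree χ.1).Coprime (orderOf g)) :
    χ.1 g = 0 := by
  obtain ⟨r, hr, h1, h2⟩ := Nat.Prime.not_coprime_iff_dvd.1 hg
  have := Fact.mk hr
  exact χ.eq_zero_of_ordProj_dvd (((hc.coprime_dvd_left h1).pow_left _).dvd_of_dvd_mul_right
    (hG ▸ Nat.ordProj_dvd _ r)) h2

theorem bswChar [Finite G] [IsSimpleGroup G] (h : BSWH K t s) : ∃ q m : ℕ,
    (q = 2 * Nat.card K + 1 ∧ m = Nat.card K + 1 ∨
      q + 1 = 2 * Nat.card K ∧ m + 1 = Nat.card K ∧ 4 ≤ Nat.card K) ∧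
    Nat.card G = q * (2 * Nat.card K) * m ∧
    (∀ g : G, (∃ x : G, x * g * x⁻¹ ∈ K) ∨ g ^ q = 1 ∨ g ^ m = 1) ∧
    Nat.card {g : G // g ^ q = 1} = q ^ 2 := by
  classical
  have := Fintype.ofFinite G
  obtain ⟨ψ, ψ₁, ψ₂, ε, ε₁, ε₂, e0, e1, e2, hK, hR, h12, ⟨c, hc⟩, hd, hq⟩ := h.exists_chars
  have hG : Nat.card G = 2 * Nat.card K * 𝐂₁[t].index := by
    rw [← h.card_sup, ← h.cent_t, card_mul_index]
  have hi : 𝐂₁[t].index ≠ 0 := index_ne_zero_of_finite
  obtain ⟨k, hk⟩ := h.two_dvd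
  have hk0 : 0 < Nat.card K := Nat.card_pos
  have p0 := ψ.charDegree_pos
  have p2 := ψ₂.charDegree_pos
  set q := charDegree ψ.1 with hq'
  set m := charDegree ψ₁.1 with hm'
  set i := 𝐂₁[t].index with hi'
  have h1 : 1 + ε * q + 2 * (ε₁ * m) = 0 := by
    have := hR 1 fun _ _ => rfl
    simp only [IrrCharacter.one_eq_charDegree] at this
    have : 1 + ε * q + ε₁ * m + ε₂ * charDegree ψ₂.1 = 0 := by exact_mod_cast this
    omega
  have hm : charDegree ψ₂.1 = m := by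
    rcases sq_eq_one_iff.1 e1 with rfl | rfl <;> rcases sq_eq_one_iff.1 e2 with rfl | rfl <;> omega
  have h2 : i * c ^ 2 = (Nat.card K * c - 1) * (2 * Nat.card K * c - 1) := by
    have a1 : ((ε * q : ℤ) : ℚ) ≠ 0 := Int.cast_ne_zero.2 (by omega)
    have a2 : ((ε₁ * m : ℤ) : ℚ) ≠ 0 := Int.cast_ne_zero.2
      (mul_ne_zero (by rintro rfl; omega) (by omega))
    have a3 : (i : ℚ) ≠ 0 := Nat.cast_ne_zero.2 hi
    have a4 : (Nat.card K : ℚ) ≠ 0 := Nat.cast_ne_zero.2 hk0.ne'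
    rw [show ε * q = 1 - 2 * Nat.card K * c by linarith] at a1 hq
    rw [show ε₁ * m = Nat.card K * c - 1 by linarith] at a2 hq
    apply Int.cast_injective (α := ℚ)
    push_cast at *
    field_simp at hq
    apply mul_left_cancel₀ (pow_ne_zero 2 a4)
    linear_combination (-1 / 2) * hq
  have h3 : c = 1 ∨ c = -1 := Int.isUnit_iff.1 (isUnit_of_dvd_one
    ⟨i * c + 3 * Nat.card K - 2 * Nat.card K ^ 2 * c, by linear_combination -h2⟩)
  have h4 : (q = 2 * Nat.card K + 1 ∧ m = Nat.card K + 1 ∨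
      q + 1 = 2 * Nat.card K ∧ m + 1 = Nat.card K ∧ 4 ≤ Nat.card K) := by
    rcases sq_eq_one_iff.1 e0 with rfl | rfl <;> rcases sq_eq_one_iff.1 e1 with rfl | rfl <;>
      rcases h3 with rfl | rfl <;> omega
  have h5 : i = q * m := by
    zify at h4 ⊢
    rcases h3 with rfl | rfl <;> rcases sq_eq_one_iff.1 e1 with rfl | rfl <;>
      rcases h4 with ⟨a, b⟩ | ⟨a, b, -⟩ <;> first | omega | nlinarith
  have c1 : q.Coprime (2 * Nat.card K) := by
    rcases h4 with ⟨a, -⟩ | ⟨a, -⟩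
    · rw [a]; simp
    · rw [← a]; simp
  have c2 : m.Coprime (2 * Nat.card K) := by
    refine Nat.Coprime.mul_right (Nat.coprime_two_right.2 (Nat.odd_iff.2 (by omega))) ?_
    rcases h4 with ⟨-, a⟩ | ⟨-, a, -⟩
    · rw [a]; simp
    · rw [← a]; simp
  have c3 : q.Coprime m := by
    rcases h4 with ⟨a, b⟩ | ⟨a, b, -⟩
    · have : q.Coprime (2 * m) := by simp [show 2 * m = q + 1 by omega]
      exact this.coprime_mul_left_right
    · simp [show q = 2 * m + 1 by omega]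
  have z0 : ∀ g, ¬ q.Coprime (orderOf g) → ψ.1 g = 0 := fun g =>
    bsw_zero ψ (by rw [hG, h5]; ring) (c1.mul_right c3)
  have z1 : ∀ g, ¬ m.Coprime (orderOf g) → ψ₁.1 g = 0 ∧ ψ₂.1 g = 0 := fun g hg =>
    ⟨bsw_zero ψ₁ (by rw [hG, h5]; ring) (c2.mul_right c3.symm) hg,
      bsw_zero ψ₂ (by rw [hm, hG, h5]; ring) (hm ▸ c2.mul_right c3.symm) (hm ▸ hg)⟩
  have key : ∀ g, (¬ ∃ x : G, x * g * x⁻¹ ∈ K) → g ^ q ≠ 1 → g ^ m = 1 ∧ ε * ψ.1 g = -1 := by
    intro g hg hgq
    have a1 : orderOf g ∣ q * m := by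
      by_contra a1
      refine hg (h.conj_of_not_coprime (by rw [← hi', h5]; exact (c1.mul_left c2).symm) fun e => a1 ?_)
      exact e.symm.dvd_of_dvd_mul_left (h5 ▸ hG ▸ orderOf_dvd_natCard g)
    have a2 := z1 g fun e => hgq (orderOf_dvd_iff_pow_eq_one.1 (e.symm.dvd_of_dvd_mul_right a1))
    have a3 := hR g fun y hy => (hg ⟨y, hy⟩).elim
    rw [a2.1, a2.2, mul_zero, mul_zero, add_zero, add_zero] at a3
    refine ⟨orderOf_dvd_iff_pow_eq_one.1 (Nat.Coprime.dvd_of_dvd_mul_left ?_ a1), by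
      linear_combination a3⟩
    by_contra e
    rw [z0 g fun e' => e e'.symm] at a3
    simp at a3
  refine ⟨q, m, h4, by rw [hG, h5]; ring, fun g => or_iff_not_imp_left.2 fun a =>
    or_iff_not_imp_left.2 fun b => (key g a b).1, ?_⟩
  have hε : ‖(ε : ℂ)‖ = 1 := by rcases sq_eq_one_iff.1 e0 with rfl | rfl <;> simp
  have h6 : ∀ g : G, ‖ψ.1 g‖ ^ 2 = (if g = 1 then (q : ℝ) ^ 2 else 0) + 1 -
      if g ^ q = 1 then 1 else 0 := fun g => by
    by_cases a1 : g = 1
    · simp [a1, IrrCharacter.one_eq_charDegree, hq']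
    by_cases a2 : g ^ q = 1
    · rw [z0 g fun e => a1 (orderOf_eq_one_iff.1 (Nat.eq_one_of_dvd_coprimes e
        (orderOf_dvd_of_pow_eq_one a2) dvd_rfl))]
      simp [a1, a2]
    have a3 : ‖ε * ψ.1 g‖ = 1 := by
      by_cases a3 : ∃ x : G, x * g * x⁻¹ ∈ K
      · obtain ⟨x, hx⟩ := a3
        rw [← ψ.isClassFunction g x, hK _ hx (by simpa [mul_inv_eq_one] using a1), norm_one]
      · rw [(key g a3 a2).2, norm_neg, norm_one]
    rw [norm_mul, hε, one_mul] at a3
    simp [a1, a2, a3]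
  have h7 := ψ.sum_norm_sq
  simp only [h6, Finset.sum_sub_distrib, Finset.sum_add_distrib, Finset.sum_ite_eq',
    Finset.mem_univ, if_true, Finset.sum_const, Finset.card_univ, Finset.sum_boole, nsmul_eq_mul,
    mul_one, ← Nat.card_eq_fintype_card] at h7
  rw [Nat.card_eq_fintype_card, Fintype.card_subtype]
  exact_mod_cast (by linarith : ((Finset.univ.filter fun g : G => g ^ q = 1).card : ℝ) = q ^ 2)

end Cfsg.GW
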