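import Cfsg.Agent.GW.BSWa
import Cfsg.Agent.Acd.D2
import Cfsg.Agent.FT.Main

/-! Brauer-Suzuki-Wall, group-theoretic half: the Sylow `p`-subgroup of order `q` is abelian. -/

set_option autoImplicit false
set_option linter.unusedSectionVars false

namespace Cfsg.GW

open Subgroup Cfsg.FT Cfsg.Acd.DD
open scoped Pointwise

universe u

variable {G : Type u} [Group G] [Finite G] {K X : Subgroup G} {t s g w y : G} {q m : ℕ}

theorem cent_dvd {n A : ℕ} (hG : Nat.card G = n * A) (hc : n.Coprime A)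
    (h : ∀ g : G, g ^ n = 1 ∨ g ^ A = 1) (g1 : g ≠ 1) (hg : g ^ n = 1) : Nat.card 𝐂₁[g] ∣ n := by
  refine Nat.Coprime.dvd_of_dvd_mul_right (Nat.coprime_of_dvd fun r hr h1 h2 => ?_)
    (hG ▸ card_subgroup_dvd_card _)
  obtain ⟨y, hy, rfl⟩ := Cauchy hr h1
  have c : Commute y g := mem_cent1.1 hy
  rcases h (y * g) with e | e <;> rw [c.mul_pow] at e
  · rw [hg, mul_one] at e
    exact hr.ne_one (Nat.eq_one_of_dvd_coprimes hc (orderOf_dvd_of_pow_eq_one e) h2)
  · rw [orderOf_dvd_iff_pow_eq_one.1 h2, one_mul] at e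
    exact g1 (orderOf_eq_one_iff.1 (Nat.eq_one_of_dvd_coprimes hc (orderOf_dvd_of_pow_eq_one hg)
      (orderOf_dvd_of_pow_eq_one e)))

theorem ncard_cls (g : G) : (classSupp {g} ⊤).ncard * Nat.card 𝐂₁[g] = Nat.card G := by
  rw [card_support_normedTI (L := 𝐂₁[g]) ⟨Set.singleton_nonempty g, le_top, by
    rintro _ rfl x -
    rw [Set.mem_singleton_iff, mul_inv_eq_iff_eq_mul, mem_cent1]⟩, Set.ncard_singleton, one_mul,
    relIndex_top_right, index_mul_card]

theorem order_cls (h : y ∈ classSupp {g} ⊤) : orderOf y = orderOf g := by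
  obtain ⟨_, rfl, x, -, rfl⟩ := h
  exact orderOf_eq_of_isConj (isConj_iff.2 ⟨x, rfl⟩)

/-- involutions inverting `g` -/
def invs (g : G) : Set G := {a | orderOf a = 2 ∧ orderOf (a * g) = 2}

theorem invs_inv (h : w ∈ invs g) : w * g * w⁻¹ = g⁻¹ := by
  have a := mul_self_eq_one_of_orderOf_two h.1
  have b := mul_self_eq_one_of_orderOf_two h.2
  rw [inv_eq_of_mul_eq_one_right a, eq_inv_iff_mul_eq_one, mul_assoc, b]

theorem invs_le (g : G) : (invs g).ncard ≤ Nat.card 𝐂₁[g] := by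
  rcases (invs g).eq_empty_or_nonempty with e | ⟨w, hw⟩
  · simp [e]
  refine Set.ncard_le_ncard_of_injOn (w⁻¹ * ·) (t := 𝐂₁[g]) (fun a ha => mem_cent1.2 ?_)
    (fun a _ b _ e => mul_left_cancel e)
  rw [mul_assoc, mul_inv_eq_iff_eq_mul.1 (invs_inv ha), ← invs_inv hw]
  group

/-- the output of the character-theoretic half -/
structure BD (K : Subgroup G) (t s : G) (q m : ℕ) : Prop extends BSWH K t s where
  cases : q = 2 * Nat.card K + 1 ∧ m = Nat.card K + 1 ∨
    q + 1 = 2 * Nat.card K ∧ m + 1 = Nat.card K ∧ 4 ≤ Nat.card K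
  card : Nat.card G = q * (2 * Nat.card K) * m
  tri : ∀ g : G, (∃ x : G, x * g * x⁻¹ ∈ K) ∨ g ^ q = 1 ∨ g ^ m = 1
  cnt : Nat.card {g : G // g ^ q = 1} = q ^ 2

namespace BD
variable (h : BD K t s q m)
include h

theorem k2 : 2 ≤ Nat.card K := Nat.le_of_dvd Nat.card_pos h.two_dvd

theorem cop : q.Coprime (2 * Nat.card K) ∧ q.Coprime m ∧ m.Coprime (2 * Nat.card K) := by
  obtain ⟨j, hj⟩ := h.two_dvd
  rcases h.cases with ⟨rfl, rfl⟩ | ⟨e, e', -⟩
  · refine ⟨by simp, ?_, Nat.Coprime.mul_right (by simp [hj]) (by simp)⟩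
    rw [show 2 * Nat.card K + 1 = Nat.card K + (Nat.card K + 1) by ring]
    simp
  · refine ⟨by simp [← e], ?_, Nat.Coprime.mul_right ?_ (by simp [← e'])⟩
    · rw [show q = 1 + 2 * m by omega]; simp
    · exact Odd.coprime_two_right ⟨j - 1, by omega⟩

theorem arith : 2 * (2 * Nat.card K * m) + 1 = q ^ 2 ∧ 3 ≤ m ∧ Odd q := by
  have := h.k2
  rcases h.cases with ⟨rfl, rfl⟩ | ⟨e, e', _⟩
  · exact ⟨by ring, by omega, odd_two_mul_add_one _⟩
  · obtain rfl : q = 2 * m + 1 := by omega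
    exact ⟨by rw [← e']; ring, by omega, odd_two_mul_add_one _⟩

theorem pow_k {x : G} (hx : x * g * x⁻¹ ∈ K) : g ^ (2 * Nat.card K) = 1 := by
  have := orderOf_dvd_natCard K hx
  rw [orderOf_eq_of_isConj (isConj_iff.2 ⟨x, rfl⟩)] at this
  exact orderOf_dvd_iff_pow_eq_one.1 (this.mul_left 2)

theorem dvd_q (g1 : g ≠ 1) (hg : g ^ q = 1) : Nat.card 𝐂₁[g] ∣ q :=
  cent_dvd (h.card.trans (mul_assoc _ _ _)) (h.cop.1.mul_right h.cop.2.1) (fun x => by
    rcases h.tri x with ⟨_, e⟩ | e | e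
    · exact Or.inr (by rw [pow_mul, h.pow_k e, one_pow])
    · exact Or.inl e
    · exact Or.inr (by rw [pow_mul', e, one_pow])) g1 hg

theorem dvd_m (g1 : g ≠ 1) (hg : g ^ m = 1) : Nat.card 𝐂₁[g] ∣ m :=
  cent_dvd (h.card.trans (mul_comm _ _)) (h.cop.2.1.symm.mul_right h.cop.2.2) (fun x => by
    rcases h.tri x with ⟨_, e⟩ | e | e
    · exact Or.inr (by rw [pow_mul', h.pow_k e, one_pow])
    · exact Or.inr (by rw [pow_mul, e, one_pow])
    · exact Or.inl e) g1 hg

theorem ncard_q : {g : G | g ≠ 1 ∧ g ^ q = 1}.ncard = 2 * (2 * Nat.card K * m) := by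
  have e : {g : G | g ^ q = 1}.ncard = q ^ 2 := h.cnt
  rw [show {g : G | g ≠ 1 ∧ g ^ q = 1} = {g | g ^ q = 1} \ {1} from Set.ext fun _ => and_comm,
    Set.ncard_sdiff_singleton_of_mem (by simp), e, ← h.arith.1, Nat.add_sub_cancel]

theorem cls_sub (g1 : g ≠ 1) (hg : g ^ q = 1) : classSupp {g} ⊤ ⊆ {g : G | g ≠ 1 ∧ g ^ q = 1} := by
  rintro _ ⟨_, rfl, x, -, rfl⟩
  exact ⟨mt conj_eq_one_iff.1 g1, by rw [conj_pow, hg, mul_one, mul_inv_cancel]⟩

theorem cent_q (g1 : g ≠ 1) (hg : g ^ q = 1) :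
    Nat.card 𝐂₁[g] = q ∧ (classSupp {g} ⊤).ncard = 2 * Nat.card K * m := by
  obtain ⟨d, hd⟩ := h.dvd_q g1 hg
  have e := ncard_cls g
  have l := (Set.ncard_le_ncard (h.cls_sub g1 hg)).trans_eq h.ncard_q
  rw [h.card, hd, show ∀ a b c d : ℕ, a * b * c * d = b * (c * d) * a by intros; ring] at e
  rw [Nat.eq_of_mul_eq_mul_right Nat.card_pos e] at l ⊢
  have := Nat.le_of_mul_le_mul_right l (by have := h.k2; have := h.arith.2.1; positivity)
  obtain ⟨j, rfl⟩ := (hd ▸ h.arith.2.2).of_dvd_nat (Dvd.intro_left _ rfl)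
  obtain rfl : j = 0 := by omega
  exact ⟨by simpa using hd.symm, by simp⟩

theorem q3 : 3 ≤ q := by
  have := h.k2
  rcases h.cases with ⟨rfl, -⟩ | ⟨e, -⟩ <;> omega

theorem prime_pow : ∃ p n, p.Prime ∧ q = p ^ n := by
  obtain ⟨p, hp, hd⟩ := Nat.exists_prime_and_dvd (show q ≠ 1 by have := h.q3; omega)
  refine ⟨p, _, hp, Nat.eq_prime_pow_of_unique_prime_dvd (by have := h.q3; omega)
    fun {r} hr hd' => by_contra fun ne => ?_⟩
  obtain ⟨g, -, rfl⟩ := Cauchy (H := (⊤ : Subgroup G)) hp (by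
    rw [card_top, h.card, mul_assoc]; exact hd.mul_right _)
  have g1 : g ≠ 1 := by rintro rfl; simp [Nat.not_prime_one] at hp
  have hg := orderOf_dvd_iff_pow_eq_one.1 hd
  obtain ⟨y, hy, rfl⟩ := Cauchy hr ((h.cent_q g1 hg).1 ▸ hd')
  have y1 : y ≠ 1 := by rintro rfl; simp [Nat.not_prime_one] at hr
  have hy' := orderOf_dvd_iff_pow_eq_one.1 hd'
  have c : Commute y g := mem_cent1.1 hy
  have o := c.orderOf_mul_eq_mul_orderOf_of_coprime ((Nat.coprime_primes hr hp).2 ne)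
  have h2 := hp.two_le
  have h3 := hr.two_le
  have z1 : y * g ≠ 1 := fun e => by rw [e, orderOf_one] at o; nlinarith
  have hz : (y * g) ^ q = 1 := by rw [c.mul_pow, hg, hy', mul_one]
  have := (Set.ncard_le_ncard (Set.union_subset (Set.union_subset (h.cls_sub g1 hg)
    (h.cls_sub y1 hy')) (h.cls_sub z1 hz))).trans_eq h.ncard_q
  rw [Set.ncard_union_eq (Set.disjoint_left.2 fun x a b => by
      have := (order_cls b).trans o
      rcases a with a | a <;> rw [order_cls a] at this <;> nlinarith),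
    Set.ncard_union_eq (Set.disjoint_left.2 fun x a b => ne ((order_cls b).symm.trans (order_cls a))),
    (h.cent_q g1 hg).2, (h.cent_q y1 hy').2, (h.cent_q z1 hz).2] at this
  have : 0 < 2 * Nat.card K * m := by have := h.k2; have := h.arith.2.1; positivity
  omega

theorem cent_w (hw : orderOf w = 2) : Nat.card 𝐂₁[w] = 2 * Nat.card K := by
  obtain ⟨x, rfl⟩ := isConj_iff.1 (h.conj t w h.ot hw)
  rw [cent1_conj, card_conj, h.cent_t, h.card_sup]

theorem inverts (hw : orderOf w = 2) (hn : w ∈ 𝐍[X]) (hc : (Nat.card X).Coprime (2 * Nat.card K))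
    (hg : g ∈ X) : w * g * w⁻¹ = g⁻¹ :=
  inv_of_fpf hn (mul_self_eq_one_of_orderOf_two hw) (fun _ hx e => orderOf_eq_one_iff.1
    (Nat.eq_one_of_dvd_coprimes hc (orderOf_dvd_natCard X hx)
      (h.cent_w hw ▸ orderOf_dvd_natCard _ (mem_cent1.2 e.symm)))) hg

theorem ab_of_inv (hw : orderOf w = 2) (e : w * g * w⁻¹ = g⁻¹)
    (hc : (Nat.card 𝐂₁[g]).Coprime (2 * Nat.card K)) : IsMulCommutative 𝐂₁[g] :=
  have hn : w ∈ 𝐍[𝐂₁[g]] := cent_cycle g ▸ cent_norm _ (norm_of_inv e)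
  abelian_iff_forall.2 fun _ hx _ hy => comm_of_inv (h.inverts hw hn hc hx) (h.inverts hw hn hc hy)
    (h.inverts hw hn hc (mul_mem hx hy))

theorem ti_K : NormedTI (nz K) ⊤ (K ⊔ ⟪s⟫) :=
  normedTI_iff.2 ⟨⟨t, h.tK, h.t_ne⟩, le_top, fun g hg x hx => by
    rcases h.conj_mem hg hx.1 with e | e <;> rw [e]
    · exact hx
    · exact ⟨inv_mem hx.1, inv_ne_one.2 hx.2⟩, fun g _ x hx e => h.ti hx.1 hx.2 e.1⟩

theorem ncard_K : (classSupp (nz K) ⊤).ncard = (Nat.card K - 1) * (q * m) := by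
  have := (K ⊔ ⟪s⟫).index_mul_card
  rw [h.card, h.card_sup, mul_right_comm] at this
  rw [card_support_normedTI h.ti_K, card_nz, relIndex_top_right,
    Nat.eq_of_mul_eq_mul_right (by have := h.k2; omega) this]

theorem invs_K (hg : g ∈ classSupp (nz K) ⊤) : (invs g).ncard ≤ Nat.card K := by
  obtain ⟨g, hg, x, -, rfl⟩ := hg
  refine Set.ncard_le_ncard_of_injOn (x⁻¹ * · * x * s) (t := K) (fun a ha => ?_)
    (fun a _ b _ e => mul_left_cancel (mul_right_cancel (mul_right_cancel e)))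
  have o : ∀ a, orderOf a = 2 → orderOf (x⁻¹ * a * x) = 2 := fun a ha =>
    (orderOf_eq_of_isConj (isConj_iff.2 ⟨x⁻¹, by rw [inv_inv]⟩)).trans ha
  have hb : x⁻¹ * a * x ∈ invs g := ⟨o a ha.1, by
    rw [show x⁻¹ * a * x * g = x⁻¹ * (a * (x * g * x⁻¹)) * x by group]; exact o _ ha.2⟩
  refine (h.mem_sup.1 (h.ti hg.1 hg.2 (invs_inv hb ▸ inv_mem hg.1))).resolve_left fun e => hg.2 ?_
  have u : ∀ v ∈ K, orderOf v = 2 → v = t := fun v hv o =>
    (h.uniq v hv (mul_self_eq_one_of_orderOf_two o)).resolve_left (by rintro rfl; simp at o)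
  have := u _ (mul_mem e hg.1) hb.2
  rwa [u _ e hb.1, mul_eq_left] at this

theorem count (hq : ∀ g : G, g ≠ 1 → g ^ q = 1 → invs g = ∅) :
    m + 1 = Nat.card K ∧ ∀ g : G, g ≠ 1 → g ^ m = 1 → (invs g).ncard = m := by
  classical
  have := Fintype.ofFinite G
  have hI : (Finset.univ.filter fun a : G => orderOf a = 2).card = q * m := by
    have e := ncard_cls t
    rw [h.cent_w h.ot, h.card, mul_right_comm] at e
    rw [← Nat.eq_of_mul_eq_mul_right (by have := h.k2; omega) e, ← Set.ncard_coe_finset]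
    congr 1
    ext a
    simp only [Finset.coe_filter, Finset.mem_univ, true_and, Set.mem_ofPred_eq]
    exact ⟨fun ha => (isConj_iff.1 (h.conj t a h.ot ha)).elim fun x e => ⟨t, rfl, x, trivial, e.symm⟩,
      fun ha => (order_cls ha).trans h.ot⟩
  have hs : ∑ g : G, (invs g).ncard = q * m * (q * m) := by
    have : ∀ g : G, (invs g).ncard = ∑ a with orderOf a = 2, if orderOf (a * g) = 2 then 1 else 0 :=
      fun g => by
        rw [← Finset.card_filter, Finset.filter_filter, ← Set.ncard_coe_finset]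
        congr 1
        ext a
        simp [invs]
    simp only [this]
    rw [Finset.sum_comm, Finset.sum_congr rfl (g := fun _ => q * m) fun a _ => by
      rw [← hI, Finset.card_filter]
      exact Fintype.sum_equiv (Equiv.mulLeft a) _ _ fun _ => rfl, Finset.sum_const, hI, smul_eq_mul]
  let b : G → ℕ := fun g => (if g = 1 then q * m else 0) + (if g ^ q = 1 then 0 else m) +
    if g ∈ classSupp (nz K) ⊤ then 1 else 0
  have hb : ∀ g, (invs g).ncard ≤ b g := fun g => by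
    by_cases g1 : g = 1
    · rw [g1, show invs (1 : G) = ↑(Finset.univ.filter fun a : G => orderOf a = 2) by
        ext a; simp [invs], Set.ncard_coe_finset, hI]
      simp [b, add_assoc]
    by_cases gq : g ^ q = 1
    · simp [hq g g1 gq]
    by_cases gk : g ∈ classSupp (nz K) ⊤
    · have := h.invs_K gk
      have := h.cases
      simp only [b, g1, gq, gk, if_true, if_false]
      omega
    rcases h.tri g with ⟨x, e⟩ | e | e
    · exact absurd ⟨_, ⟨e, mt conj_eq_one_iff.1 g1⟩, x⁻¹, trivial, by group⟩ gk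
    · exact absurd e gq
    · simpa [b, g1, gq, gk] using (invs_le g).trans
        (Nat.le_of_dvd (by have := h.arith.2.1; omega) (h.dvd_m g1 e))
  have h1 : (Finset.univ.filter fun g : G => g ^ q = 1).card = q ^ 2 := by
    rw [← h.cnt, Nat.card_eq_fintype_card, Fintype.card_subtype]
  have h2 := Finset.card_filter_add_card_filter_not (s := Finset.univ) fun g : G => g ^ q = 1
  have h3 : (Finset.univ.filter (· ∈ classSupp (nz K) (⊤ : Subgroup G))).card = _ :=
    (Set.ncard_coe_finset _).symm.trans ((congrArg Set.ncard (by ext; simp)).trans h.ncard_K)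
  have sb : ∑ g, b g + q ^ 2 * m = q * m + Nat.card G * m + (Nat.card K - 1) * (q * m) := by
    simp only [b, Finset.sum_add_distrib, Finset.sum_ite_eq', Finset.mem_univ, if_true]
    rw [← Finset.card_filter, h3, Finset.sum_ite, Finset.sum_const_zero, Finset.sum_const,
      Nat.card_eq_fintype_card (α := G), ← Finset.card_univ, ← h2, h1, smul_eq_mul]
    ring
  have le := Finset.sum_le_sum fun g (_ : g ∈ Finset.univ) => hb g
  rw [h.card] at sb
  obtain ⟨k, hk⟩ : ∃ k, Nat.card K = k + 1 := ⟨Nat.card K - 1, by have := h.k2; omega⟩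
  rw [hk, Nat.add_sub_cancel] at sb
  rcases h.cases with ⟨e, e'⟩ | ⟨e, e', -⟩
  · rw [hk] at e e'
    subst e e'
    nlinarith
  refine ⟨e', fun g g1 hg => ?_⟩
  obtain rfl : k = m := by omega
  obtain rfl : q = 2 * k + 1 := by omega
  rw [(Finset.sum_eq_sum_iff_of_le fun g _ => hb g).1 (by nlinarith) g (Finset.mem_univ g)]
  have n1 : ¬ g ^ (2 * k + 1) = 1 := fun e => g1 (orderOf_eq_one_iff.1 (Nat.eq_one_of_dvd_coprimes
    h.cop.2.1 (orderOf_dvd_of_pow_eq_one e) (orderOf_dvd_of_pow_eq_one hg)))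
  have n2 : g ∉ classSupp (nz K) ⊤ := fun ⟨a, ha, x, _, e⟩ => g1 (orderOf_eq_one_iff.1
    (Nat.eq_one_of_dvd_coprimes h.cop.2.2 (orderOf_dvd_of_pow_eq_one hg)
      (orderOf_dvd_of_pow_eq_one (h.pow_k (x := x⁻¹) (by simpa [e, mul_assoc] using ha.1)))))
  simp [b, g1, n1, n2]

end BD

end Cfsg.GW
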