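import Cfsg.Agent.GW.BSWg

/-! Brauer-Suzuki-Wall, group-theoretic half: an abelian Sylow subgroup of order `q`. -/

set_option autoImplicit false
set_option linter.unusedSectionVars false

namespace Cfsg.GW

open Subgroup Cfsg.FT Cfsg.Acd.DD
open scoped Pointwise

universe u

variable {G : Type u} [Group G] [Finite G] {K R D P S : Subgroup G} {t s g w x y : G} {q m r : ℕ}

theorem BSWH.cj (h : BSWH K t s) (x : G) : BSWH (x •ᶜ K) (x * t * x⁻¹) (x * s * x⁻¹) where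
  ab := isMulCommutative_conj.2 h.ab
  tK := conj_mem_conj.2 h.tK
  ot := (orderOf_eq_of_isConj (isConj_iff.2 ⟨x, rfl⟩)).trans h.ot
  uniq v hv e := by
    obtain ⟨v, hk, rfl⟩ := mem_conj_iff_exists.1 hv
    rw [conj_mul, conj_eq_one_iff] at e
    exact (h.uniq v hk e).imp (by rintro rfl; simp) (by rintro rfl; rfl)
  sK := mt conj_mem_conj.1 h.sK
  ss := sq_conj h.ss x
  inv v hv := by
    obtain ⟨v, hk, rfl⟩ := mem_conj_iff_exists.1 hv
    rw [conj_mul, conj_mul, h.inv v hk, conj_inv]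
  cent v hv e := by
    obtain ⟨v, hk, rfl⟩ := mem_conj_iff_exists.1 hv
    rw [cent1_conj, ← conj_zpowers, ← conj_sup, conj_le_conj]
    exact h.cent v hk (mt conj_eq_one_iff.2 e)
  conj := h.conj

theorem BSWH.odd_cent (h : BSWH K t s) (hy : y ∈ K) (y2 : y * y ≠ 1) (yR : y ∈ 𝐙[R])
    (hx : x ∈ 𝐍[R]) (xo : Odd (orderOf x)) : x ∈ 𝐂[R] := by
  have hR : R ≤ K := h.cent_eq hy y2 ▸ le_cent1.2 yR.2
  refine mem_cent.2 fun a ha => h.comm (hR ha) ((h.mem_sup.1 (h.ti hy (by rintro rfl; simp at y2)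
    (hR ((memJ_norm hx).2 yR.1)))).resolve_right fun e => ?_)
  rw [h.orderOf_of_mul e] at xo
  exact absurd xo (by decide)

namespace BD
variable (h : BD K t s q m) (hq : ∀ g : G, g ≠ 1 → g ^ q = 1 → invs g = ∅)
include h hq

theorem cent_m (y1 : y ≠ 1) (hy : y ^ m = 1) : Nat.card 𝐂₁[y] = m :=
  (Nat.le_of_dvd (by have := h.arith.2.1; omega) (h.dvd_m y1 hy)).antisymm
    ((h.count hq).2 y y1 hy ▸ invs_le y)

theorem odd_m (y1 : y ≠ 1) (hy : y ^ m = 1) (yR : y ∈ 𝐙[R]) (hx : x ∈ 𝐍[R])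
    (xo : Odd (orderOf x)) : x ∈ 𝐂[R] := by
  obtain ⟨e, hc⟩ := h.count hq
  obtain ⟨w, hw⟩ := Set.nonempty_of_ncard_ne_zero (s := invs y) (by
    have := h.arith.2.1; rw [hc y y1 hy]; omega)
  have cF := h.cent_m hq y1 hy
  have co : (Nat.card 𝐂₁[y]).Coprime (2 * Nat.card K) := cF ▸ h.cop.2.2
  have ab := h.ab_of_inv hw.1 (invs_inv hw) co
  have hF : ∀ f ∈ 𝐂₁[y], f ≠ 1 → 𝐂₁[y] = 𝐂₁[f] := fun f hf f1 =>
    card_eq_of_le (le_cent1.2 (abelian_iff.1 ab hf)) (by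
      rw [cF, h.cent_m hq f1 (orderOf_dvd_iff_pow_eq_one.1 (cF ▸ orderOf_dvd_natCard _ hf))])
  have hR : R ≤ 𝐂₁[y] := le_cent1.2 yR.2
  have xF : x ∈ 𝐍[𝐂₁[y]] := by
    rw [← conj_eq_iff_mem_norm, ← cent1_conj,
      ← hF _ (hR ((memJ_norm hx).2 yR.1)) (mt conj_eq_one_iff.1 y1)]
  have wF : w ∈ 𝐍[𝐂₁[y]] := cent_cycle y ▸ cent_norm _ (norm_of_inv (invs_inv hw))
  have hcF : w⁻¹ * (x * w * x⁻¹) ∈ 𝐂₁[y] := by
    rw [mem_cent1, mul_assoc, mul_inv_eq_iff_eq_mul.1 (h.inverts ((orderOf_eq_of_isConj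
      (isConj_iff.2 ⟨x, rfl⟩)).trans hw.1) (mul_mem (mul_mem xF wF) (inv_mem xF)) co (cent1id y)),
      ← invs_inv hw]
    group
  obtain ⟨a, ha, aa⟩ : ∃ a ∈ 𝐂₁[y], a * a = w⁻¹ * (x * w * x⁻¹) := by
    obtain ⟨j, hj⟩ := h.two_dvd
    refine ⟨_, pow_mem hcF j, ?_⟩
    rw [← pow_add, show j + j = m + 1 by omega, pow_succ,
      orderOf_dvd_iff_pow_eq_one.1 (cF ▸ orderOf_dvd_natCard _ hcF), one_mul]
  have hz : a * x ∈ 𝐍[𝐂₁[y]] ⊓ 𝐂₁[w] := ⟨mul_mem (normG _ ha) xF, mem_cent1.2 (by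
    calc _ = a * w * (w⁻¹ * (x * w * x⁻¹)) * x := by group
      _ = a * (w * a * w⁻¹) * w * (a * x) := by rw [← aa]; group
      _ = _ := by rw [h.inverts hw.1 wF co ha]; group)⟩
  have d1 : Nat.card ↥(𝐍[𝐂₁[y]] ⊓ 𝐂₁[w]) ∣ 2 * Nat.card K := h.cent_w hw.1 ▸ card_dvd_of_le inf_le_right
  have d2 := regular_norm_dvd_pred (K := 𝐂₁[y]) (R := 𝐍[𝐂₁[y]] ⊓ 𝐂₁[w]) inf_le_left
    (semiregular_iff.2 fun b hb b1 n hn e => by_contra fun n1 => b1 (orderOf_eq_one_iff.1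
      (Nat.eq_one_of_dvd_coprimes co (orderOf_dvd_natCard _ (hF n hn n1 ▸ mem_cent1.2 e))
        ((orderOf_dvd_natCard _ hb).trans d1))))
  have d4 : (a * x) ^ 4 = 1 := by
    refine orderOf_dvd_iff_pow_eq_one.1 ((orderOf_dvd_natCard _ hz).trans ?_)
    rw [show 2 * Nat.card K = 2 * (m - 1) + 4 by have := h.arith.2.1; omega] at d1
    exact (Nat.dvd_add_right ((cF ▸ d2).mul_left 2)).1 d1
  have x4 : x ^ 4 ∈ 𝐂₁[y] := by
    have b0 := inv_mem ha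
    have b1 := (memJ_norm hz.1).2 b0
    have b2 := (memJ_norm hz.1).2 b1
    convert mul_mem (mul_mem (mul_mem b0 b1) b2) ((memJ_norm hz.1).2 b2) using 1
    rw [← mul_one (_ * _ * _ * _), ← d4]
    simp only [pow_succ, pow_zero]
    group
  exact sub_abelian_cent ab hR (zpowers_le.2 x4 (mem_zpowers_pow_iff.2
    (xo.coprime_two_left.pow_left 2)))

theorem pnil [Fact r.Prime] (hr : ¬ r ∣ q) (D1 : D ≠ ⊥) (hD : ∀ g ∈ D, g ^ q = 1) :
    PNil r 𝐍[D] := by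
  have o : ∀ x ∈ 𝐍[D], Odd (orderOf x) := fun x hx => Nat.not_even_iff_odd.1 fun e => by
    obtain ⟨w, hw, ow⟩ := Cauchy (H := ⟪x⟫) Nat.prime_two (Nat.card_zpowers x ▸ e.two_dvd)
    obtain ⟨g, hg, g1⟩ := D.bot_or_exists_ne_one.resolve_left D1
    have co : (Nat.card D).Coprime (2 * Nat.card K) := Nat.coprime_of_dvd fun l hl h1 h2 => by
      obtain ⟨y, hy, rfl⟩ := Cauchy hl h1
      exact hl.ne_one (Nat.eq_one_of_dvd_coprimes h.cop.1 (orderOf_dvd_of_pow_eq_one (hD y hy)) h2)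
    have i := h.inverts ow (zpowers_le.2 hx hw) co hg
    have w2 := mul_self_eq_one_of_orderOf_two ow
    refine Set.eq_empty_iff_forall_notMem.1 (hq g g1 (hD g hg)) w ⟨ow, ord_two (fun e => g1 ?_) ?_⟩
    · exact orderOf_eq_one_iff.1 (Nat.eq_one_of_dvd_coprimes co (orderOf_dvd_natCard D hg) (by
        rw [eq_inv_of_mul_eq_one_right e, orderOf_inv, ow]; simp))
    · rw [inv_eq_of_mul_eq_one_right w2] at i
      rw [← mul_assoc, i, inv_mul_cancel]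
  refine Frobenius_normal_complement fun R hR pR R1 x hx _ => ?_
  obtain ⟨y, yR, y1⟩ := (bot_or_exists_ne_one _).resolve_left (center_nil_ne_bot (pgroup_nil pR) R1)
  rcases h.tri y with ⟨z, e⟩ | e | e
  · refine (h.toBSWH.cj z⁻¹).odd_cent (mem_conj.2 (by rwa [inv_inv])) (fun e => y1 ?_) yR hx.2
      (o x hx.1)
    exact eq_one_of_inv (o y (hR yR.1)) (eq_inv_of_mul_eq_one_left e)
  · obtain ⟨n, hn⟩ := piElt_singleton.1 ((piSub_singleton.2 pR).piElt yR.1)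
    exact absurd (orderOf_eq_one_iff.1 (Nat.eq_one_of_dvd_coprimes (((Nat.Prime.coprime_iff_not_dvd
      Fact.out).2 hr).pow_left n) hn.dvd (orderOf_dvd_of_pow_eq_one e))) y1
  · exact h.odd_m hq y1 e yR hx.2 (o x hx.1)

theorem uniq_syl {p n : ℕ} [hp : Fact p.Prime] (e : q = p ^ n) (hP : ∀ P : Subgroup G,
    IsPGroup p P → ∀ g ∈ P, g ^ q = 1) (D : Subgroup G) :
    D ≠ ⊥ → ∀ P S, Syl p P ⊤ → Syl p S ⊤ → D ≤ P → D ≤ S → P = S := by
  induction D using WellFoundedGT.induction with | _ D ih => ?_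
  intro D1 P S sP sS lP lS
  rcases lP.eq_or_lt with rfl | lP
  · exact (sP.eq_of_le sS.pgroup lS le_top).symm
  rcases lS.eq_or_lt with rfl | lS
  · exact sS.eq_of_le sP.pgroup lP.le le_top
  have a := nilpotent_proper_norm (pgroup_nil sP.pgroup) lP
  have b := nilpotent_proper_norm (pgroup_nil sS.pgroup) lS
  obtain ⟨T, sT, hT⟩ := Sylow_superset (p := p) (H := ⊤) (R := P ⊓ 𝐍[D] ⊔ S ⊓ 𝐍[D]) le_top
    (piSub_singleton.1 fun r hr hd => by_contra fun ne => by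
      have := Fact.mk hr
      have pn := pNil_iff_forall.1 (h.pnil hq (r := r) (fun c => ne ((Nat.prime_dvd_prime_iff_eq hr
        hp.out).1 (hr.dvd_of_dvd_pow (e ▸ c)))) D1 (hP D (sP.pgroup.to_le lP.le)))
      have k : ∀ P, Syl p P ⊤ → P ⊓ 𝐍[D] ≤ core {r}ᶜ 𝐍[D] := fun P sP x hx =>
        pn x hx.2 ((piSub_of_pgroup sP.pgroup (Ne.symm ne)).piElt hx.1)
      exact piSub_compl.1 (pcore_pgroup {r}ᶜ 𝐍[D])
        (hd.trans (card_dvd_of_le (sup_le (k P sP) (k S sS)))))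
  rw [ih _ a (ne_bot_of_gt a) P T sP sT inf_le_left (le_sup_left.trans hT),
    ih _ b (ne_bot_of_gt b) S T sS sT inf_le_left (le_sup_right.trans hT)]

omit hq in
theorem exists_ab : ∃ p, ∃ _ : Fact p.Prime, ∃ P : Subgroup G, Syl p P ⊤ ∧ Nat.card P = q ∧
    IsMulCommutative P ∧ ∀ g : G, g ^ q = 1 → IsPGroup p ⟪g⟫ := by
  obtain ⟨p, n, hp, e⟩ := h.prime_pow
  have := Fact.mk hp
  have hS : ∀ g : G, g ≠ 1 → g ^ q = 1 → Syl p 𝐂₁[g] ⊤ := fun g g1 hg => by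
    have c := (h.cent_q g1 hg).1
    refine ⟨le_top, IsPGroup.of_card (c.trans e), fun d => ?_⟩
    have i := (𝐂₁[g]).index_mul_card
    rw [c, h.card, mul_assoc, mul_comm q] at i
    rw [relIndex_top_right, Nat.eq_of_mul_eq_mul_right (by have := h.q3; omega) i] at d
    refine hp.ne_one (Nat.eq_one_of_dvd_coprimes (h.cop.1.mul_right h.cop.2.1) ?_ d)
    exact e ▸ dvd_pow_self p (by rintro rfl; simpa [e] using h.q3)
  have hg : ∀ g : G, g ^ q = 1 → IsPGroup p ⟪g⟫ := fun g hg =>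
    piElt_singleton_iff_pgroup.1 (piElt_of_pow_eq_one (e ▸ piNat_prime_pow hp (Set.mem_singleton p) n) hg)
  refine ⟨p, this, ?_⟩
  by_cases hq : ∀ g : G, g ≠ 1 → g ^ q = 1 → invs g = ∅
  · obtain ⟨g, g1, gq⟩ := Set.nonempty_of_ncard_ne_zero (h.ncard_q.trans_ne (by
      have := h.k2; have := h.arith.2.1; positivity))
    have hP : ∀ P : Subgroup G, IsPGroup p P → ∀ x ∈ P, x ^ q = 1 := fun P hP x hx =>
      orderOf_dvd_iff_pow_eq_one.1 ((orderOf_dvd_natCard P hx).trans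
        ((h.cent_q g1 gq).1 ▸ (hS g g1 gq).card_dvd le_top hP))
    refine ⟨_, hS g g1 gq, (h.cent_q g1 gq).1, abelian_iff_forall.2 fun x hx y hy => ?_, hg⟩
    by_cases y1 : y = 1
    · simp [y1]
    exact mem_cent1.1 (h.uniq_syl hq e hP ⟪y⟫ (zpowers_ne_bot.2 y1) _ _ (hS g g1 gq) (hS y y1
      (hP _ (hS g g1 gq).pgroup y hy)) (zpowers_le.2 hy) (zpowers_le.2 (cent1id y)) ▸ hx)
  · push Not at hq
    obtain ⟨g, g1, gq, w, hw⟩ := hq
    exact ⟨_, hS g g1 gq, (h.cent_q g1 gq).1, h.ab_of_inv hw.1 (invs_inv hw)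
      ((h.cent_q g1 gq).1 ▸ h.cop.1), hg⟩

end BD

end Cfsg.GW
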