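import Cfsg.Agent.GW.Defs

/-! # Bender's lemma on maximal subgroups with self-centralizing Fitting subgroup -/

set_option autoImplicit false

namespace Cfsg.GW.Ben

open Subgroup Cfsg.FT
open scoped Pointwise

variable {G : Type*} [Group G] {A M X Y : Subgroup G} {p q : ℕ}

theorem norm_eq [IsSimpleGroup G] (hA : IsCoatom A) (hn : Y ⊴ A) (h : Y ≠ ⊥) : 𝐍[Y] = A :=
  ((hA.le_iff.1 hn.2).resolve_left fun e => hA.1 (top_le_iff.1
    ((((normalizer_eq_top_iff.1 e).eq_bot_or_eq_top).resolve_left h).ge.trans hn.1)))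

variable [Finite G]

/-- the hypothesis: `X` is a self-centralizing subgroup of `F(A)` inside `M` -/
structure BH (A M X : Subgroup G) : Prop where
  max : IsCoatom A
  cst : A ⊓ 𝐂[fit A] ≤ fit A
  two : ∀ p, p.Prime → ∃ q, q.Prime ∧ q ≠ p ∧ core {q} A ≠ ⊥
  leF : X ≤ fit A
  leM : X ≤ M
  sc : fit A ⊓ 𝐂[X] ≤ X

namespace BH

variable (h : BH A M X)
include h

theorem nil : Group.IsNilpotent X := nilpotentS h.leF (Fitting_nil A)

theorem core_le [Fact p.Prime] : core {p} X ≤ core {p} A :=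
  pgroup_le_Fitting (pcore_pgroup' p X) ((pcore_sub _ X).trans h.leF)

theorem center_le [Fact p.Prime] : 𝐙[core {p} A] ≤ core {p} X := by
  refine nil_le_core h.nil (le_trans (le_inf (inf_le_left.trans (pcore_sub_Fitting p A))
    (centsS (h.leF.trans (Fitting_le_sup p A)) (centsY inf_le_right
      (inf_le_left.trans (centsC.1 (p'core_cents _ A)))))) h.sc) ?_
  exact (pcore_pgroup _ A).of_le inf_le_left

theorem TI [Fact q.Prime] (h0 : core {q} A = ⊥) : core {q} M ⊓ A = ⊥ := by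
  have hq : IsPGroup q ↥(core {q} M ⊓ A) := (pcore_pgroup' q M).to_inf_left
  have h1 : core {q} M ⊓ A ≤ 𝐂[X] := commG1P.1 (eq_bot_iff.2 (h0 ▸ pgroup_le_Fitting
    ((pcore_pgroup' q M).to_le ((commSg _ inf_le_left).trans ((pcore_normal _ M).commg_le h.leM)))
    ((commgSS inf_le_right h.leF).trans (commg_subr.2 (Fitting_normal A).2))))
  refine eq_bot_iff.2 (h0 ▸ pgroup_le_Fitting hq (le_trans (le_inf inf_le_right
    (coprime_nil_faithful_cent_stab (inf_le_right.trans (Fitting_normal A).2)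
      (coprime_pgroup hq ((Sylow_Fitting q A).eq_bot_iff.1 h0)).symm (Fitting_nil A) ?_)) h.cst))
  exact (inf_le_inf_left _ (centS (le_inf h.leF (centsC.1 h1)))).trans (h.sc.trans (centsC.1 h1))

variable [IsSimpleGroup G]

theorem cent_le [Fact p.Prime] (h0 : core {p} A ≠ ⊥) : 𝐂[core {p} X] ≤ A :=
  (centS h.center_le).trans ((cent_sub _).trans (norm_eq h.max (pcore_normal _ A).center
    (mt (trivg_center_pgroup (pcore_pgroup' p A)).1 h0)).le)

theorem cents' [Fact p.Prime] (h0 : core {p} A ≠ ⊥) : core {p}ᶜ X ≤ 𝐂[core {p} M] := by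
  have hn : ∀ π, core π X ≤ 𝐍[core {p} M] := fun π =>
    ((pcore_sub _ X).trans h.leM).trans (pcore_normal _ M).2
  refine PxQ_lemma (pcore_pgroup' p M) (pcore_pgroup' p X) (p'core_not_dvd p X) (hn _) (hn _)
    (p'core_cents _ X) (commG1P.1 (eq_bot_iff.2 ?_))
  exact (le_inf ((commSg _ inf_le_left).trans (commg_subl.2 (hn _)))
    ((commgSS (inf_le_right.trans (h.cent_le h0)) ((nil_le_core (Fitting_nil A) ((pcore_sub _ X).trans
      h.leF) (pcore_pgroup _ X)).trans (pcore_Fitting _ A))).trans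
      (commg_subr.2 (pcore_normal _ A).2))).trans (TI_pcoreC {p} M A).le

theorem cents [Fact p.Prime] (h0 : core {p} A ≠ ⊥) (hq : q ≠ p) : core {q} X ≤ 𝐂[core {p} M] :=
  (sub_pcore (by simpa using hq.symm) X).trans (h.cents' h0)

theorem le [Fact p.Prime] (h0 : core {p} A ≠ ⊥) : core {p} M ≤ A := by
  obtain ⟨q, hq, e, h1⟩ := h.two p Fact.out
  have := Fact.mk hq
  exact (centsC.1 (h.cents h0 e)).trans (h.cent_le h1)

/-- `F_π(M) ≤ A` for `π = π(F(A))` -/
theorem fit_le {π : Set ℕ} (hπ : ∀ p ∈ π, p.Prime → core {p} A ≠ ⊥) : core π (fit M) ≤ A :=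
  (Fitting_pcore π M).ge.trans (Fitting_le_of_forall fun p hp => by
    have := Fact.mk hp
    by_cases e : p ∈ π
    · exact ((pcore_normal π M).core_le _).trans (h.le (hπ p e hp))
    · exact (core_eq_bot_of_compl ((pcore_pgroup π M).mono fun q hq (e' : q = p) => e (e' ▸ hq))).le.trans
        bot_le)

omit [IsSimpleGroup G] in
/-- `F_π(M) ⊓ A = 1` for `π` disjoint from `π(F(A))` -/
theorem fit_TI {π : Set ℕ} (hπ : ∀ p ∈ π, p.Prime → core {p} A = ⊥) : core π (fit M) ⊓ A = ⊥ := by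
  have h1 : Group.IsNilpotent ↥(core π (fit M) ⊓ A) :=
    nilpotentS (inf_le_left.trans (pcore_sub _ _)) (Fitting_nil M)
  refine eq_bot_iff.2 ((nilpotent_Fitting h1).ge.trans (Fitting_le_of_forall fun p hp => ?_))
  have := Fact.mk hp
  by_cases e : p ∈ π
  · exact (le_inf (pgroup_le_Fitting (pcore_pgroup' p _) ((pcore_sub _ _).trans (inf_le_left.trans
      (pcore_sub _ _)))) ((pcore_sub _ _).trans inf_le_right)).trans (h.TI (hπ p e hp)).le
  · exact (core_eq_bot_of_compl (((pcore_pgroup π _).of_le inf_le_left).mono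
      fun q hq (e' : q = p) => e (e' ▸ hq))).le

end BH

theorem piGen_le_aux [Fact p.Prime] (hM : M ⊓ 𝐂[fit M] ≤ fit M) (hP : IsPGroup p Y) (hY : Y ≤ M)
    (hc : Y ≤ 𝐂[core {p}ᶜ (fit M)]) : piGen {p}ᶜ (M ⊓ 𝐂[core {p} M]) ≤ 𝐂[Y] := by
  have hd := Fitting_dprod {p} M
  rw [p_core_Fitting] at hd
  have hn : M ⊓ 𝐂[core {p} M] ⊴ M := subcent_normal' (pcore_normal _ M).2
  have h1 : ⁅Y, M ⊓ 𝐂[core {p} M]⁆ ≤ fit M := by
    refine le_trans (le_inf (comm_subG hY inf_le_left) ?_) hM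
    rw [← hd.1]
    refine centsY ((commg_subr.2 (hY.trans hn.2)).trans inf_le_right) (commG1P.1
      (three_subgroup (eq_bot_iff.2 ((commSg _ (commg_subr.2 (inf_le_left.trans
        ((Fitting_normal M).core _).2))).trans (commG1P'.2 hc).le)) ?_))
    rw [commG1P'.2 hc, commutator_bot_left]
  have h2 : Group.IsNilpotent ↥(core {p} M ⊔ Y ⊔ core {p}ᶜ (fit M)) :=
    nil_sup_cent (centsY hd.2.2 (centsC.1 hc)) (pgroup_nil (pgroup_sup (pcore_pgroup' p M) hP
      (hY.trans (pcore_normal _ M).2))) (nilpotentS (pcore_sub _ _) (Fitting_nil M))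
  rw [sup_right_comm, hd.1] at h2
  refine piGen_le.2 fun x hx e => zpowers_le.1 (stable_factor_cent (K := core {p} M)
    (zpowers_le.2 hx.2) ?_ (coprime_pgroup (pcore_pgroup' p M) (piSub_compl.1 (piSub_cycle.2 e))))
  have h3 : M ⊓ 𝐂[core {p} M] ≤ 𝐍[fit M ⊔ Y] := commg_subl.1 (commg_sup_le (normsG le_sup_left)
    (normsG le_sup_right) (((Fitting_normal M).commg_le inf_le_left).trans le_sup_left)
    (h1.trans le_sup_left))
  refine pgroup_le_Fitting ((pcore_pgroup' p (fit M ⊔ Y)).to_le ((commgSS (nil_le_core h2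
    le_sup_right (piSub_singleton.2 hP)) (zpowers_le.2 hx)).trans
      (commg_subl.2 (norms_pcore _ h3)))) ((commgS _ (zpowers_le.2 hx)).trans h1)

theorem BH.eq [IsSimpleGroup G] (h : BH A M X) (hM : IsCoatom M) (hc : M ⊓ 𝐂[fit M] ≤ fit M)
    (hs : ∀ p, p.Prime → core {p} M ≠ ⊥ → core {p} A ≠ ⊥) : A = M := by
  have h1 : ∀ q, q.Prime → core {q} A ≠ ⊥ → core {q} M ≠ ⊥ := fun q hq h0 e => by
    have := Fact.mk hq
    have h2 : core {q} X ≤ 𝐂[fit M] := centsC.1 (Fitting_le_of_forall fun p hp => by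
      have := Fact.mk hp
      by_cases e' : core {p} M = ⊥
      · exact e'.le.trans bot_le
      · exact centsC.1 (h.cents (hs p hp e') fun f => e' (f ▸ e)))
    exact h0 ((trivg_center_pgroup (pcore_pgroup' q A)).1 (eq_bot_iff.2 (h.center_le.trans (e ▸
      pgroup_le_Fitting (pcore_pgroup' q X) ((le_inf ((pcore_sub _ X).trans h.leM) h2).trans hc)))))
  have h' : BH M A (fit M) := ⟨hM, hc, fun p hp => (h.two p hp).imp fun q hq =>
    ⟨hq.1, hq.2.1, h1 q hq.1 hq.2.2⟩, le_rfl, Fitting_le_of_forall fun p hp => by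
      have := Fact.mk hp
      by_cases e' : core {p} M = ⊥
      · exact e'.le.trans bot_le
      · exact h.le (hs p hp e'), inf_le_left⟩
  have h'' : BH A M (fit A) := ⟨h.max, h.cst, h.two, le_rfl, Fitting_le_of_forall fun p hp => by
      have := Fact.mk hp
      by_cases e' : core {p} A = ⊥
      · exact e'.le.trans bot_le
      · exact h'.le (h1 p hp e'), inf_le_left⟩
  obtain ⟨p, hp, -, h2⟩ := h.two 2 Nat.prime_two
  have := Fact.mk hp
  have key : ∀ {A M : Subgroup G}, BH A M (fit A) → BH M A (fit M) → core {p} A ≠ ⊥ →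
      core {p} M ≠ ⊥ → piGen {p}ᶜ (M ⊓ 𝐂[core {p} M]) ≤ piGen {p}ᶜ (A ⊓ 𝐂[core {p} A]) :=
    fun {A M} a b a0 b0 => by
      have h3 := piGen_le_aux b.cst (pcore_pgroup' p A) (a.leM.trans' (pcore_sub_Fitting p A))
        (centsC.1 (b.cents' b0))
      exact piGen_le.2 fun x hx e => mem_piGen ⟨(norm_eq a.max (pcore_normal _ A) a0).le
        (cent_sub _ (h3 (mem_piGen hx e))), h3 (mem_piGen hx e)⟩ e
  have h3 := (key h'' h' h2 (h1 p hp h2)).antisymm (key h' h'' (h1 p hp h2) h2)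
  have h4 : ∀ M : Subgroup G, piGen {p}ᶜ (M ⊓ 𝐂[core {p} M]) ⊴ M := fun M =>
    ⟨(piGen_sub _ _).trans inf_le_left, norms_piGen _ (subcent_normal' (pcore_normal _ M).2).2⟩
  obtain ⟨q, hq, e, h5⟩ := h.two p hp
  have h6 : piGen {p}ᶜ (A ⊓ 𝐂[core {p} A]) ≠ ⊥ := fun f => h5 (eq_bot_iff.2 (f ▸
    ((pcore_pgroup _ A).mono (by simpa using e.symm)).le_piGen (le_inf (pcore_sub _ A)
      (pcore_cents (by simpa using e) A))))
  rw [← norm_eq h.max (h4 A) h6, ← h3, norm_eq hM (h4 M) (h3 ▸ h6)]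

end Cfsg.GW.Ben
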