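import Cfsg.Agent.GW.Bz
import Cfsg.Agent.GW.Ben
import Cfsg.Agent.GW.Frob
import Cfsg.Agent.GW.ZJ

/-!
# S4594 core, piece B: local lemmas
-/

set_option autoImplicit false
set_option linter.unusedSectionVars false

namespace Cfsg.GW.Bb

open Subgroup Cfsg.FT Cfsg.Gag Cfsg.Gag.Fin5
open scoped Pointwise commutatorElement

universe u

variable {G : Type u} [Group G] [Finite G] {S A B C D M T V X Q R : Subgroup G}
  {t a b v x g : G} {p q : ℕ}

/-- `C_M(F(O(M)))` -/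
abbrev cf (M : Subgroup G) : Subgroup G := M ⊓ 𝐂[fit (od M)]

theorem cf_normal (M : Subgroup G) : cf M ⊴ M := subcent_normal' (pcore_normal _ M).fit.2

theorem le_fit_od (hX : X ⊴ M) (ho : Odd (Nat.card X)) (h : X ≤ cf M) : X ≤ fit (od M) :=
  (le_inf (le_od ho hX) (h.trans inf_le_right)).trans (cent_sub_Fitting (od_sol M))

theorem core_le_fit [Fact p.Prime] (p2 : p ≠ 2) : core {p} M ≤ fit (od M) :=
  (nil_le_core (Fitting_nil M) (pcore_sub_Fitting p M)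
    ((pcore_pgroup _ M).mono (by simpa using p2.symm))).trans (Fitting_pcore _ M).ge

theorem core_le_cent [Fact p.Prime] (p2 : p ≠ 2) (h : v ∈ cf M) : core {p} M ≤ 𝐂₁[v] :=
  (core_le_fit p2).trans (le_cent1.2 h.2)

theorem oddC (h : Odd (Nat.card (cf M))) :
    Odd (Nat.card (fit M)) ∧ M ⊓ 𝐂[fit M] ≤ fit M := by
  have h1 : fit (od M) ≤ fit M := (Fitting_pcore _ M).le.trans (pcore_sub _ _)
  refine ⟨Fr.odd_nd2 ((Sylow_Fitting 2 M).eq_bot_iff.1 (eq_bot_iff.2 ?_)),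
    ((inf_le_inf_left _ (centS h1)).trans (le_fit_od (cf_normal M) h le_rfl)).trans h1⟩
  exact (le_inf (le_inf (pcore_sub _ M) (centsS (Fitting_sub _) (centsC.1 (p'core_cents _ M))))
    le_rfl).trans (odd_inf_two h (pcore_pgroup' 2 M)).le

theorem ev (hD : Dih G) (hV : Klein V) (hl : V ≤ T) (hT : Syl 2 T M)
    (h : ¬ Odd (Nat.card (cf M))) (hx : x ∈ V) (xC : x ∉ cf M) :
    ∃ y ∈ V, y ≠ 1 ∧ y ∈ cf M ∧ (M ≤ 𝐂₁[y] ∨ ∃ f ∈ T ⊓ 𝐂₁[y], f * x * f⁻¹ = x * y) := by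
  have hP := Sylow_setI_normal (cf_normal M) hT
  obtain ⟨y, hy, y1⟩ := (Subgroup.bot_or_exists_ne_one _).resolve_left (meet_center_nil
    (pgroup_nil hT.pgroup) (normalGI hT.le (cf_normal M))
    fun e => h (Fr.odd_nd2 (hP.eq_bot_iff.1 e)))
  have yV : y ∈ V := DL.klein_cent hD hT.pgroup hV hl ⟨hy.1.1, centS hl hy.2.2⟩
  have x1 : x ≠ 1 := fun e => xC (e ▸ one_mem _)
  have xy : y ≠ x := fun e => xC (e ▸ hy.1.2)
  refine ⟨y, yV, y1, hy.1.2, ?_⟩
  by_cases hc : T ≤ 𝐂[V]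
  · have h1 : T ⊓ cf M ≤ ⟪y⟫ := fun z hz => by
      rcases Cj.klein_mem hV yV hx y1 x1 xy (DL.klein_cent hD hT.pgroup hV hl ⟨hz.1, hc hz.1⟩)
        with rfl | rfl | rfl | rfl
      exacts [one_mem _, mem_zpowers _, (xC hz.2).elim,
        (xC ((Subgroup.mul_mem_cancel_right _ hy.1.2).1 hz.2)).elim]
    have h2 : cf M ≤ 𝐂₁[y] := ((cyclic_Sylow_pNil hP (cyclicS h1 (cycle_cyclic y))
      (Nat.coprime_one_right _)).sdprod hP).1.ge.trans (sup_le ((le_fit_od ((cf_normal M).core _)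
        (od_odd _) (pcore_sub _ _)).trans (le_cent1.2 hy.1.2.2))
        (h1.trans (zpowers_le.2 (cent1id y))))
    refine .inl fun g hg => ?_
    obtain ⟨k, hk, h3⟩ := Sylow_Jsub hP (zpowers_le.2 ((cf_normal M).conj_mem hg hy.1.2))
      (inv_pgroup ((orderOf_conj' g y).trans (hV.orderOf yV y1)))
    rcases DL.mem_cycle2 (hV.2 y yV) (h1 (h3 (conj_mem_conj.2 (mem_zpowers _)))) with e | e
    · exact (y1 (by simpa using e)).elim
    · refine mem_cent1.2 (mul_inv_eq_iff_eq_mul.1 ?_)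
      calc _ = k⁻¹ * (k * (g * y * g⁻¹) * k⁻¹) * k := by group
        _ = k⁻¹ * (k * y) := by rw [e, mem_cent1.1 (h2 hk)]; group
        _ = y := by group
  · obtain ⟨f, hf, fc⟩ := SetLike.not_le_iff_exists.1 hc
    have fy : f ∈ 𝐂₁[y] := le_cent1.2 hy.2.2 hf
    refine .inr ⟨f, ⟨hf, fy⟩, ?_⟩
    rcases Cj.klein_mem hV yV hx y1 x1 xy ((memJ_norm (DL.klein_norm hD hT.pgroup hV hl hf)).2 hx)
      with e | e | e | e
    · exact (x1 (by simpa using e)).elim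
    · refine (xy ?_).elim
      calc y = f⁻¹ * (f * y) := by group
        _ = _ := by rw [mem_cent1.1 fy, ← e]; group
    · exact (fc ((klein_cent hV yV hx y1 x1 xy.symm).ge
        ⟨fy, mem_cent1.2 (mul_inv_eq_iff_eq_mul.1 e)⟩)).elim
    · exact e

/-- a maximal subgroup over `C(v)` with `[O_p(A), v] ≠ 1` -/
structure Bt (p : ℕ) (v : G) (A : Subgroup G) : Prop where
  co : IsCoatom A
  le : 𝐂₁[v] ≤ A
  ov : orderOf v = 2
  nc : ¬ core {p} A ≤ 𝐂₁[v]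
  odd : Odd (Nat.card (fit A))
  cst : A ⊓ 𝐂[fit A] ≤ fit A

theorem Bt.conj (h : Bt p v A) (g : G) : Bt p (g * v * g⁻¹) (g •ᶜ A) where
  co := isCoatom_conj.2 h.co
  le := cent1_conj g v ▸ conj_le_conj.2 h.le
  ov := (orderOf_conj' g v).trans h.ov
  nc := by rw [pcoreJ, cent1_conj, conj_le_conj]; exact h.nc
  odd := by rw [FittingJ, card_conj]; exact h.odd
  cst := by rw [FittingJ, cent_conj, ← conj_inf, conj_le_conj]; exact h.cst

theorem Bt.ne (h : Bt p v A) : core {p} A ≠ ⊥ := fun e => h.nc (e.le.trans bot_le)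

theorem Bt.odd' [Fact q.Prime] (h : Bt p v A) : Odd (Nat.card (core {q} A)) :=
  Odd.of_dvd_nat h.odd (card_dvd_of_le (pcore_sub_Fitting q A))

/-- `X` is a self-centralizing subgroup of `F(A)` inside `M` -/
structure SC (A M X : Subgroup G) : Prop where
  leF : X ≤ fit A
  leM : X ≤ M
  sc : fit A ⊓ 𝐂[X] ≤ X

theorem sc_norm (h : R ≤ fit A) (hM : 𝐍[R] ≤ M) : SC A M (fit A ⊓ 𝐍[R]) :=
  ⟨inf_le_left, inf_le_right.trans hM,
    inf_le_inf_left _ ((centS (le_inf h (normG R))).trans (cent_sub R))⟩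

theorem SC.cent (h : SC A M X) (hc : A ⊓ 𝐂[fit A] ≤ fit A) [Fact q.Prime] (h0 : core {q} A = ⊥)
    (hq : IsPGroup q Q) (hQ : Q ≤ A ⊓ 𝐂[X]) : Q = ⊥ := by
  have h1 := centsC.1 (hQ.trans inf_le_right)
  refine eq_bot_iff.2 (h0 ▸ pgroup_le_Fitting hq (le_trans (le_inf (hQ.trans inf_le_left)
    (coprime_nil_faithful_cent_stab ((hQ.trans inf_le_left).trans (Fitting_normal A).2)
      (coprime_pgroup hq ((Sylow_Fitting q A).eq_bot_iff.1 h0)).symm (Fitting_nil A) ?_)) hc))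
  exact (inf_le_inf_left _ (centS (le_inf h.leF h1))).trans (h.sc.trans h1)

theorem SC.TI (h : SC A M X) (hc : A ⊓ 𝐂[fit A] ≤ fit A) [Fact q.Prime] (h0 : core {q} A = ⊥) :
    core {q} M ⊓ A = ⊥ :=
  h.cent hc h0 (pcore_pgroup' q M).to_inf_left (le_inf inf_le_right (commG1P.1 (eq_bot_iff.2
    (h0 ▸ pgroup_le_Fitting ((pcore_pgroup' q M).to_le ((commSg _ inf_le_left).trans
      ((pcore_normal _ M).commg_le h.leM)))
    ((commgSS inf_le_right h.leF).trans (commg_subr.2 (Fitting_normal A).2))))))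

theorem core_cents [Fact p.Prime] (h : q ≠ p) (H : Subgroup G) : core {q} H ≤ 𝐂[core {p} H] :=
  (sub_pcore (by simpa using h.symm) H).trans (p'core_cents _ H)

variable [IsSimpleGroup G] (c : Ctx S t)
include c

theorem bt [Fact p.Prime] (p2 : p ≠ 2) (hA : IsCoatom A) (hl : 𝐂₁[t] ≤ A)
    (h : ¬ core {p} A ≤ 𝐂₁[t]) : Bt p t A := by
  have : Odd (Nat.card (cf A)) := by
    by_contra ho
    obtain ⟨V, hV, hS⟩ := c.exists_klein
    obtain ⟨y, hy, y1, -, h1 | ⟨f, hf, e⟩⟩ := ev c.dih hV hS (c.syl.subl (c.cen.trans hl) le_top) ho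
      (c.tV hV hS) fun e => h (core_le_cent p2 e)
    · obtain ⟨g, rfl⟩ := c.exists_conj (hV.orderOf hy y1)
      refine h ((pcore_sub _ A).trans (h1.trans (eq_of_le_of_card_ge (hl.trans h1) ?_).ge))
      rw [cent1_conj, card_conj]
    · rw [mem_cent1.1 (c.cen hf.1), mul_inv_cancel_right] at e
      exact y1 (left_eq_mul.1 e)
  exact ⟨hA, hl, c.ot, h, (oddC this).1, (oddC this).2⟩

variable (hL : StL1.{u})
include hL

theorem l1 [hq : Fact q.Prime] (q2 : q ≠ 2) (hl : 𝐂₁[v] ≤ D) (ov : orderOf v = 2) (hM : M ≠ ⊤)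
    (hv : v ∈ M) : ⁅core {q} D ⊓ M, ⟪v⟫⁆ ≤ core {q} M :=
  hL G M _ v q (c.dg hM) hv ov hq.out q2 inf_le_right (pcore_pgroup' q D).to_inf_left
    (normsI ((inf_le_right.trans hl).trans (pcore_normal _ D).2) (normsG inf_le_left))

theorem nc0 [Fact p.Prime] (p2 : p ≠ 2) (hl : 𝐂₁[v] ≤ D) (ov : orderOf v = 2) (hM : M ≠ ⊤)
    (hv : v ∈ M) (h : core {p} M ≤ 𝐂₁[v]) : core {p} D ⊓ M ≤ 𝐂₁[v] :=
  le_cent1.2 (zpowers_le.1 (coprime_commGG1P (normsI (zpowers_le.2 ((pcore_normal _ D).2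
    (hl (cent1id v)))) (normsG (zpowers_le.2 hv))) (cop_inv (DL.odd_pgroup p2
      (pcore_pgroup' p D).to_inf_left) ov)
    (commG1P.2 (((l1 c hL p2 hl ov hM hv).trans h).trans (cent_cycle v).ge))))

theorem nc [Fact p.Prime] (p2 : p ≠ 2) (h : Bt p v D) (hs : SC D M X) (hM : M ≠ ⊤) (hv : v ∈ M) :
    ¬ core {p} M ≤ 𝐂₁[v] := fun e => by
  have h1 := nc0 c hL p2 h.le h.ov hM hv e
  have hn := nilpotentS hs.leF (Fitting_nil D)
  refine h.nc (le_cent1.2 (zpowers_le.1 (coprime_nil_faithful_cent_stab (zpowers_le.2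
    ((pcore_normal _ D).2 (h.le (cent1id v)))) (cop_inv h.odd' h.ov)
    (pgroup_nil (pcore_pgroup' p D)) ?_)))
  rw [cent_cycle]
  have h2 : core {p} X ≤ core {p} D :=
    pgroup_le_Fitting (pcore_pgroup' p X) ((pcore_sub _ X).trans hs.leF)
  refine le_trans (le_inf inf_le_left ((le_trans (le_inf (inf_le_left.trans (pcore_sub_Fitting p D))
    (centsS ((nilpotent_Fitting hn).ge.trans (Fitting_le_sup p X)) (centsY (inf_le_right.trans (centS
      (le_inf h2 ((le_inf h2 ((pcore_sub _ X).trans hs.leM)).trans h1)))) (inf_le_left.trans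
      (centsS ((nil_le_core (Fitting_nil D) ((pcore_sub _ X).trans hs.leF) (pcore_pgroup _ X)).trans
        (pcore_Fitting _ D)) (centsC.1 (p'core_cents _ D))))))) hs.sc).trans hs.leM)) h1

theorem nx_nc [Fact p.Prime] (p2 : p ≠ 2) (h : Bt p a A) (hb : a ∈ 𝐂₁[b]) (hM : M ≠ ⊤) (ha : a ∈ M)
    (hR : ⁅core {p} A ⊓ 𝐂₁[b], ⟪a⟫⁆ ≤ M) (hx : ¬ core {p} A ⊓ 𝐂₁[b] ≤ 𝐂₁[a]) :
    ¬ core {p} M ≤ 𝐂₁[b * a] := fun e => by
  have aA : ⟪a⟫ ≤ 𝐍[core {p} A] := zpowers_le.2 ((pcore_normal _ A).2 (h.le (cent1id a)))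
  have hn : ⟪a⟫ ≤ 𝐍[core {p} A ⊓ 𝐂₁[b]] := normsGI aA (zpowers_le.2 hb)
  have hc := cop_inv (Odd.of_dvd_nat (h.odd' (q := p)) (card_dvd_of_le
    (inf_le_left : core {p} A ⊓ 𝐂₁[b] ≤ _))) h.ov
  have h1 := commg_subl.2 hn
  have h2 := (coprime_commGid hn hc).ge.trans ((commSg _ (le_inf (h1.trans inf_le_left) hR)).trans
    ((l1 c hL p2 h.le h.ov hM ha).trans e))
  refine hx (le_cent1.2 (zpowers_le.1 (coprime_commGG1P hn hc (commG1P.2 fun y hy => ?_))))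
  rw [cent_cycle, mem_cent1]
  have e1 := mem_cent1.1 (h2 hy)
  rw [← mul_assoc, mem_cent1.1 (h1 hy).2, mul_assoc, mul_assoc] at e1
  exact mul_left_cancel e1

/-- the primes outside `π(F(A))` -/
theorem lemM [hq : Fact q.Prime] (q2 : q ≠ 2) (hV : Klein V) (ha : a ∈ V) (hb : b ∈ V) (b1 : b ≠ 1)
    (ab : a ≠ b) (hA : Bt p a A) (hC : Bt p (b * a) C) (h0 : core {q} A = ⊥)
    (h0' : core {q} C = ⊥) (hl : 𝐂[V] ≤ M) (hs : SC A M X) (h : core {q} M ⊓ 𝐂₁[b] = ⊥) :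
    core {q} M = ⊥ := by
  have a1 := inv_ne_one hA.ov
  have hQ := pcore_pgroup' q M
  have hN := (pcore_normal {q} M).2
  have h1 := hs.TI hA.cst h0
  generalize core {q} M = Q at h hQ hN h1
  have oQ := DL.odd_pgroup q2 hQ
  have VC := abelian_iff.1 hV.ab
  have VN := (VC.trans hl).trans hN
  have h2 : Q ⊓ 𝐂₁[a] = ⊥ := eq_bot_iff.2 (h1 ▸ inf_le_inf_left _ hA.le)
  have ia := fun x (hx : x ∈ Q) => DL.inv_of_fpf (VN ha) (hV.2 a ha) h2 hx
  have ib := fun x (hx : x ∈ Q) => DL.inv_of_fpf (VN hb) (hV.2 b hb) h hx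
  have hz := V.mul_mem hb ha
  have Qz : Q ≤ 𝐂₁[b * a] := fun x hx => mem_cent1.2 (by
    calc x * (b * a) = b * (b * x * b) * a := by rw [← mul_assoc b, ← mul_assoc b, hV.2 b hb]; group
      _ = b * (a * x * a) * a := by rw [ia x hx, ib x hx]
      _ = b * a * x * (a * a) := by group
      _ = _ := by rw [hV.2 a ha, mul_one])
  have abQ : IsMulCommutative Q := abelian_iff_forall.2 fun x hx y hy => inv_injective (by
    rw [← ia _ (Q.mul_mem hx hy), mul_inv_rev, ← ia x hx, ← ia y hy,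
      show a * x * a * (a * y * a) = a * x * (a * a) * y * a by group, hV.2 a ha]
    group)
  have az : a ∈ 𝐂₁[b * a] := cent_le_cent1 hz (VC ha)
  have CV := klein_cent hV hz ha (inv_ne_one hC.ov) a1 fun e => b1 (right_eq_mul.1 e)
  have hQz : Q ≤ core {q} 𝐂₁[b * a] := by
    have := coprime_cent_prod (zpowers_le.2 (VN ha)) (cop_inv oQ hA.ov) (.inl (pgroup_sol hQ))
    rw [cent_cycle, h2, sup_bot_eq] at this
    exact this.ge.trans (hL G _ Q a q (c.dg (c.cent_ne (inv_ne_one hC.ov))) az hA.ov hq.out q2 Qz hQ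
      ((CV.ge.trans hl).trans hN))
  have ZN : 𝐙[fit A] ≤ 𝐍[Q] :=
    (((inf_le_inf_left _ (centS hs.leF)).trans hs.sc).trans hs.leM).trans hN
  have key : 𝐙[fit A] ⊓ 𝐂[V] ≤ 𝐂[Q] := fun w hw => by
    have wN := zpowers_le.2 (ZN hw.1)
    have hc : (Nat.card Q).Coprime (Nat.card ⟪w⟫) := (coprime_pgroup hQ ((Sylow_Fitting q A).eq_bot_iff.1
      h0)).coprime_dvd_right (card_dvd_of_le (zpowers_le.2 hw.1.1))
    have hle := commg_subl.2 wN
    have wz : w ∈ 𝐂₁[b * a] := cent_le_cent1 hz hw.2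
    refine zpowers_le.1 (commG1P'.1 (eq_bot_iff.2 (h0' ▸ pgroup_le_Fitting (hQ.to_le hle) (le_trans
      (le_inf ((hle.trans Qz).trans hC.le) (centsC.1 (Fitting_le_of_forall fun r hr => ?_))) hC.cst))))
    have := Fact.mk hr
    by_cases e : core {r} C = ⊥
    · exact e.le.trans bot_le
    have rq : r ≠ q := fun e' => e (e' ▸ h0')
    have hn := hC.le.trans (pcore_normal {r} C).2
    refine centsC.1 (Bz.lemZ (pgroup_nil (pcore_pgroup' r C)) hC.odd' (abelianS hle abQ)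
      (Odd.of_dvd_nat oQ (card_dvd_of_le hle)) (IsPGroup.coprime_card_of_ne r q rq _ _
        (pcore_pgroup' r C) (hQ.to_le hle)) ((hle.trans Qz).trans hn) (hn az) (hn (cent1id _)) (hn wz)
      hA.ov hC.ov (fun x hx => ia x (hle hx)) (hle.trans Qz) (zpowers_le.1 (commg_normr _ _))
      (Bz.odd_orderOf hA.odd hw.1.1) (cent_cycle w ▸ coprime_abel_cent_TI wN hc abQ) ?_ ?_)
    · exact centSS (hle.trans hQz) (pcore_max' (pcore_pgroup' r C).to_inf_left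
        (normalIG hC.le (pcore_normal _ C))) (core_cents rq _)
    · exact (commSg _ (inf_le_inf_left _ hA.le)).trans ((l1 c hL (ne_two_of_le hC.odd
        (pcore_pgroup' r C) (pcore_sub_Fitting r C) e) hC.le hC.ov hA.co.1
        (hA.le (cent1C.1 az))).trans ((pcore_sub_Fitting r A).trans (le_cent1.2 hw.1.2)))
  have VA : V ≤ A := (VC.trans (cent_le_cent1 ha)).trans hA.le
  have ZA := (Fitting_normal A).center
  have oZ := Odd.of_dvd_nat hA.odd (card_dvd_of_le (inf_le_left : 𝐙[fit A] ≤ _))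
  have h3 : 𝐙[fit A] ≤ 𝐂[Q] := by
    refine (coprime_cent_prod (VA.trans ZA.2) (hV.coprime oZ) (.inr (pgroup_sol hV.pgroup))).ge.trans
      (sup_le ?_ key)
    rw [commGC, hV.gen ha hb a1 b1 ab]
    exact commg_sup_le (norms_cent (zpowers_le.2 (VN hb))) (norms_cent (zpowers_le.2 (VN ha)))
      ((commGC _ _).le.trans (DL.comm_cent_of_inv (hV.2 b hb) ZN ib))
      ((commGC _ _).le.trans (DL.comm_cent_of_inv (hV.2 a ha) ZN ia))
  refine eq_bot_iff.2 (h1 ▸ le_inf le_rfl (((centsC.1 h3).trans (cent_sub _)).trans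
    (Ben.norm_eq hA.co ZA fun e => ?_).le))
  have h4 := hA.cst
  rw [(center_nil_eq1 (Fitting_nil A)).1 e, cent_bot, inf_top_eq] at h4
  exact a1 (mem_bot.1 (h4 (VA ha)))

end Cfsg.GW.Bb
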