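import Cfsg.Agent.GW.Ben
import Cfsg.Agent.GW.Defs2

/-! # The piece `StBen` -/

set_option autoImplicit false

namespace Cfsg.GW

open Subgroup Cfsg.FT

universe u

theorem stBen : StBen.{u} := by
  intro G _ _ _ A M X hA hc h2 hX hs
  have h : Ben.BH A M X := by
    refine ⟨hA, hc, fun p hp => ?_, hX.trans inf_le_left, hX.trans inf_le_right, hs⟩
    haveI := Fact.mk hp
    by_contra hn
    push Not at hn
    refine h2 p (le_antisymm (Fitting_le_of_forall fun q hq => ?_) (pcore_sub_Fitting p A))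
    by_cases e : q = p
    · rw [e]
    · rw [hn q hq e]; exact bot_le
  have hπ : ∀ p, p.Prime → (core {p} A = ⊥ ↔ ¬ p ∣ Nat.card (fit A)) := fun p hp => by
    haveI := Fact.mk hp
    exact (Sylow_Fitting p A).eq_bot_iff
  refine ⟨h.fit_le fun p hp hpp e => (hπ p hpp).1 e hp, h.fit_TI fun p hp hpp => (hπ p hpp).2 hp,
    fun hM hcM h0 => (h.eq hM hcM fun p hp hne e => hne ?_).symm⟩
  haveI := Fact.mk hp
  rw [← p_core_Fitting, eq_bot_iff, ← h0]
  exact sub_pcore (Set.singleton_subset_iff.2 ((hπ p hp).1 e)) _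

end Cfsg.GW
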