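import Cfsg.Agent.GW.Alpha
import Cfsg.Agent.GW.DLa

/-!
# S4594 core, piece B: the fixed point lemma
-/

set_option autoImplicit false

namespace Cfsg.GW.Bz

open Subgroup Cfsg.FT Cfsg.Gag
open scoped Pointwise commutatorElement

universe u

variable {G : Type u} [Group G] [Finite G] {L N Q W : Subgroup G} {a x z w : G}

theorem comm_of_sq (ho : Odd (orderOf a)) (h : Commute (a * a) x) : Commute a x := by
  obtain ⟨k, hk⟩ := ho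
  have : a = (a * a) ^ (k + 1) := by
    rw [← pow_two, ← pow_mul, show 2 * (k + 1) = orderOf a + 1 by omega, pow_succ, pow_orderOf_eq_one, one_mul]
  rw [this]
  exact h.pow_left _

theorem odd_orderOf (ho : Odd (Nat.card Q)) (ha : a ∈ Q) : Odd (orderOf a) :=
  Odd.of_dvd_nat ho (Subgroup.orderOf_dvd_natCard Q ha)

theorem exists_min (hQ : Q ≤ 𝐍[N]) (h : N ≠ ⊥) :
    ∃ W ≤ N, W ≠ ⊥ ∧ Q ≤ 𝐍[W] ∧ ∀ X ≤ W, Q ≤ 𝐍[X] → X = ⊥ ∨ X = W := by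
  obtain ⟨W, hW, hm⟩ := (wellFounded_lt (α := Subgroup G)).has_min
    {W | W ≤ N ∧ W ≠ ⊥ ∧ Q ≤ 𝐍[W]} ⟨N, le_rfl, h, hQ⟩
  refine ⟨W, hW.1, hW.2.1, hW.2.2, fun X hX hn => ?_⟩
  by_contra hc
  rw [not_or] at hc
  exact hm X ⟨hX.trans hW.1, hc.1, hn⟩ (lt_of_le_of_ne hX hc.2)

theorem surj_of_inj (φ : G → G) (hm : ∀ a ∈ Q, φ a ∈ Q)
    (hi : ∀ a ∈ Q, ∀ b ∈ Q, φ a = φ b → a = b) {c : G} (hc : c ∈ Q) : ∃ a ∈ Q, φ a = c := by
  have : Function.Injective (fun a : Q => (⟨φ a, hm a a.2⟩ : Q)) := fun a b e =>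
    Subtype.ext (hi a a.2 b b.2 (congrArg Subtype.val e))
  obtain ⟨a, ha⟩ := Finite.injective_iff_surjective.1 this ⟨c, hc⟩
  exact ⟨a, a.2, congrArg Subtype.val ha⟩

/-- the abelian case -/
theorem ab (hN : IsMulCommutative N) (hQ : IsMulCommutative Q) (oQ : Odd (Nat.card Q))
    (hQN : Q ≤ 𝐍[N]) (hxN : x ∈ 𝐍[N]) (x2 : x * x = 1) (hx : ∀ a ∈ Q, x * a * x = a⁻¹)
    (hw : w ∈ 𝐍[Q]) (ow : Odd (orderOf w)) (fw : Q ⊓ 𝐂₁[w] = ⊥) (h0 : N ⊓ 𝐂[Q] = ⊥)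
    (h : N ⊓ 𝐂₁[x] ≤ 𝐂₁[w]) : N = ⊥ := by
  by_contra hne
  have cN := fun {a b : G} => comm_of_abelian (x := a) (y := b) hN
  have cQ := fun {a b : G} => comm_of_abelian (x := a) (y := b) hQ
  have xi : x⁻¹ = x := inv_eq_of_mul_eq_one_right x2
  have mN : ∀ {a v : G}, a ∈ Q → v ∈ N → a * v * a⁻¹ ∈ N := fun ha hv => (memJ_norm (hQN ha)).2 hv
  have mN' : ∀ {a v : G}, a ∈ Q → v ∈ N → a⁻¹ * v * a ∈ N := fun ha hv =>
    (memJ_norm' (hQN ha)).2 hv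
  have mw : ∀ {a : G}, a ∈ Q → w * a * w⁻¹ ∈ Q := fun ha => (memJ_norm hw).2 ha
  -- the subgroup killed by all `a + a⁻¹ - b - b⁻¹`
  let K : Subgroup G :=
    { carrier := {v | v ∈ N ∧ ∀ a ∈ Q, (a * v * a⁻¹) * (a⁻¹ * v * a) =
        ((w * a * w⁻¹) * v * (w * a * w⁻¹)⁻¹) * ((w * a * w⁻¹)⁻¹ * v * (w * a * w⁻¹))}
      one_mem' := ⟨N.one_mem, fun a _ => by group⟩
      mul_mem' := fun {u v} hu hv => ⟨N.mul_mem hu.1 hv.1, fun a ha => by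
        have key : ∀ b ∈ Q, (b * (u * v) * b⁻¹) * (b⁻¹ * (u * v) * b) =
            ((b * u * b⁻¹) * (b⁻¹ * u * b)) * ((b * v * b⁻¹) * (b⁻¹ * v * b)) := fun b hb => by
          have := cN (mN hb hv.1) (mN' hb hu.1)
          calc _ = (b * u * b⁻¹) * ((b * v * b⁻¹) * (b⁻¹ * u * b)) * (b⁻¹ * v * b) := by group
            _ = _ := by rw [this]; group
        rw [key a ha, key _ (mw ha), hu.2 a ha, hv.2 a ha]⟩
      inv_mem' := fun {u} hu => ⟨N.inv_mem hu.1, fun a ha => by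
        have key : ∀ b ∈ Q, (b * u⁻¹ * b⁻¹) * (b⁻¹ * u⁻¹ * b) =
            ((b * u * b⁻¹) * (b⁻¹ * u * b))⁻¹ := fun b hb => by
          rw [cN (mN hb hu.1) (mN' hb hu.1)]; group
        rw [key a ha, key _ (mw ha), hu.2 a ha]⟩ }
  have hKN : K ≤ N := fun v hv => hv.1
  have hQK : Q ≤ 𝐍[K] := normsP.2 fun c hc v hv => ⟨mN hc hv.1, fun a ha => by
    have key : ∀ b ∈ Q, (b * (c * v * c⁻¹) * b⁻¹) * (b⁻¹ * (c * v * c⁻¹) * b) =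
        c * ((b * v * b⁻¹) * (b⁻¹ * v * b)) * c⁻¹ := fun b hb => by
      have e1 := cQ hb hc
      have e2 := cQ (Q.inv_mem hb) hc
      calc _ = ((b * c) * v * (b * c)⁻¹) * ((b⁻¹ * c) * v * (b⁻¹ * c)⁻¹) := by group
        _ = _ := by rw [e1, e2]; group
    rw [key a ha, key _ (mw ha), hv.2 a ha]⟩
  have hCK : N ⊓ 𝐂₁[x] ≤ K := fun u hu => ⟨hu.1, fun a ha => by
    have e1 : u * x = x * u := mem_cent1.1 hu.2
    have e2 : u * w = w * u := mem_cent1.1 (h hu)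
    have e3 : ∀ b ∈ Q, x * (b * u * b⁻¹) * x⁻¹ = b⁻¹ * u * b := fun b hb =>
      calc _ = (x * b * x⁻¹) * (x * u * x⁻¹) * (x * b * x⁻¹)⁻¹ := by group
        _ = _ := by rw [← e1, mul_inv_cancel_right, xi, hx b hb, inv_inv]
    have e4 := e3 _ (Q.inv_mem ha)
    rw [inv_inv] at e4
    have h1 : (a * u * a⁻¹) * (a⁻¹ * u * a) ∈ 𝐂₁[w] := h ⟨N.mul_mem (mN ha hu.1) (mN' ha hu.1),
      mem_cent1.2 (mul_inv_eq_iff_eq_mul.1 (
        calc _ = (x * (a * u * a⁻¹) * x⁻¹) * (x * (a⁻¹ * u * a) * x⁻¹) := by group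
          _ = _ := by rw [e3 a ha, e4, cN (mN ha hu.1) (mN' ha hu.1)])).symm⟩
    have e5 : u = w * u * w⁻¹ := by rw [← e2]; group
    calc _ = w * ((a * u * a⁻¹) * (a⁻¹ * u * a)) * w⁻¹ := by rw [← mem_cent1.1 h1]; group
      _ = _ := by conv_rhs => rw [e5]
                  group⟩
  have hK : K ≠ ⊥ := fun e => hne (eq_bot_iff.2 (h0 ▸ le_inf le_rfl fun v hv => mem_cent.2
    fun a ha => by
      have h1 : N ⊓ 𝐂₁[x] = ⊥ := eq_bot_iff.2 (e ▸ hCK)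
      have e1 := DL.inv_of_fpf hxN x2 h1 hv
      have e2 := DL.inv_of_fpf hxN x2 h1 (mN ha hv)
      have e3 := hx a ha
      refine (comm_of_sq (odd_orderOf oQ ha) (Commute.inv_right_iff.1 ?_)).eq
      have : a * v⁻¹ * a⁻¹ = a⁻¹ * v⁻¹ * a :=
        calc _ = (a * v * a⁻¹)⁻¹ := by group
          _ = (x * a * x⁻¹) * (x * v * x⁻¹) * (x * a * x⁻¹)⁻¹ := by
            rw [← e2]
            calc _ = x * (a * v * a⁻¹) * x⁻¹ := by rw [xi]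
              _ = _ := by group
          _ = _ := by rw [xi, e1, e3, inv_inv]
      calc a * a * v⁻¹ = a * (a * v⁻¹ * a⁻¹) * a := by group
        _ = _ := by rw [this]; group))
  obtain ⟨W, hWK, hW, hQW, hmin⟩ := exists_min hQK hK
  have hWN := hWK.trans hKN
  have hC : ∀ c ∈ Q, c ∈ 𝐂[W] ∨ W ⊓ 𝐂₁[c] = ⊥ := fun c hc =>
    (hmin _ inf_le_left (normsI hQW (norms_cent1 fun b hb => mem_cent1.2 (cQ hb hc)))).symm.imp_left
      fun e => le_cent1.1 (e.ge.trans inf_le_right)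
  have dich : ∀ a ∈ Q, a⁻¹ * (w * a * w⁻¹) ∈ 𝐂[W] ∨ a * (w * a * w⁻¹) ∈ 𝐂[W] := fun a ha => by
    have hb := mw ha
    have hK' := fun v (hv : v ∈ W) => (hWK hv).2 a ha
    generalize w * a * w⁻¹ = b at hb hK' ⊢
    refine (hC _ (Q.mul_mem ha hb)).symm.imp_left fun e => mem_cent.2 fun v hv => ?_
    have hvN := hWN hv
    have hy : (a * v * a⁻¹) * (b * v * b⁻¹)⁻¹ ∈ W ⊓ 𝐂₁[a * b] := ⟨W.mul_mem
      ((memJ_norm (hQW ha)).2 hv) (W.inv_mem ((memJ_norm (hQW hb)).2 hv)), mem_cent1.2 (by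
        have e1 := cQ ha hb
        have e2 : (a * v * a⁻¹) * (b * v * b⁻¹)⁻¹ = (b⁻¹ * v * b) * (a⁻¹ * v * a)⁻¹ := by
          have := hK' v hv
          rw [cN (mN hb hvN) (mN' hb hvN)] at this
          rw [cN (mN' hb hvN) (N.inv_mem (mN' ha hvN)), mul_inv_eq_iff_eq_mul,
            mul_assoc (a⁻¹ * v * a)⁻¹, ← this, cN (mN ha hvN) (mN' ha hvN), inv_mul_cancel_left]
        conv_rhs => rw [e2]
        calc _ = a * v * a⁻¹ * b * v⁻¹ * b⁻¹ * (a * b) := by group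
          _ = a * v * (a⁻¹ * b) * v⁻¹ * a := by rw [e1]; group
          _ = a * v * (b * a⁻¹) * v⁻¹ * a := by rw [cQ (Q.inv_mem ha) hb]
          _ = _ := by group)⟩
    rw [e, mem_bot, mul_inv_eq_one] at hy
    calc v * (a⁻¹ * b) = a⁻¹ * (a * v * a⁻¹) * b := by group
      _ = _ := by rw [hy]; group
  obtain ⟨c, hc, hcW⟩ : ∃ c ∈ Q, c ∉ 𝐂[W] := by
    by_contra hc
    push Not at hc
    exact hW (eq_bot_iff.2 (h0 ▸ le_inf hWN (centsC.1 hc)))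
  have fix : ∀ d ∈ Q, Commute w d → d = 1 := fun d hd e =>
    mem_bot.1 (fw ▸ ⟨hd, mem_cent1.2 e.symm.eq⟩)
  obtain ⟨a₁, h1, e1⟩ := surj_of_inj (fun a => a⁻¹ * (w * a * w⁻¹))
    (fun a ha => Q.mul_mem (Q.inv_mem ha) (mw ha)) (fun a ha b hb e => by
      refine mul_inv_eq_one.1 (fix _ (Q.mul_mem ha (Q.inv_mem hb)) ?_)
      have e' : a⁻¹ * (w * a * w⁻¹) = b⁻¹ * (w * b * w⁻¹) := e
      calc w * (a * b⁻¹) = a * (a⁻¹ * (w * a * w⁻¹)) * w * b⁻¹ := by group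
        _ = _ := by rw [e']; group) hc
  obtain ⟨a₂, h2, e2⟩ := surj_of_inj (fun a => a * (w * a * w⁻¹))
    (fun a ha => Q.mul_mem ha (mw ha)) (fun a ha b hb e => by
      have hd := Q.mul_mem ha (Q.inv_mem hb)
      refine mul_inv_eq_one.1 (fix _ hd (comm_of_sq ow ?_))
      have e' : a * (w * a * w⁻¹) = b * (w * b * w⁻¹) := e
      have e3 : w * (a * b⁻¹) * w⁻¹ = (a * b⁻¹)⁻¹ :=
        calc _ = a⁻¹ * (a * (w * a * w⁻¹)) * (w * b * w⁻¹)⁻¹ := by group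
          _ = a⁻¹ * b := by rw [e']; group
          _ = _ := by rw [cQ (Q.inv_mem ha) hb]; group
      generalize a * b⁻¹ = d at e3
      calc w * w * d = w * (w * d * w⁻¹) * w := by group
        _ = (w * d * w⁻¹)⁻¹ * (w * w) := by conv_lhs => rw [e3]
                                            group
        _ = _ := by rw [e3, inv_inv]) hc
  have n1 : a₁⁻¹ * (w * a₁ * w⁻¹) ∉ 𝐂[W] := fun h => hcW (e1 ▸ h)
  have n2 : a₂ * (w * a₂ * w⁻¹) ∉ 𝐂[W] := fun h => hcW (e2 ▸ h)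
  rcases dich _ (Q.mul_mem h1 h2) with h3 | h3
  · refine n1 ((Subgroup.mul_mem_cancel_right _ ((dich a₂ h2).resolve_right n2)).1 ?_)
    convert h3 using 1
    calc _ = a₁⁻¹ * ((w * a₁ * w⁻¹) * a₂⁻¹) * (w * a₂ * w⁻¹) := by group
      _ = (a₁⁻¹ * a₂⁻¹) * (w * a₁ * w⁻¹) * (w * a₂ * w⁻¹) := by
        rw [cQ (mw h1) (Q.inv_mem h2)]; group
      _ = _ := by rw [cQ (Q.inv_mem h1) (Q.inv_mem h2)]; group
  · refine n2 ((Subgroup.mul_mem_cancel_left _ ((dich a₁ h1).resolve_left n1)).1 ?_)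
    convert h3 using 1
    calc _ = a₁ * ((w * a₁ * w⁻¹) * a₂) * (w * a₂ * w⁻¹) := by group
      _ = _ := by rw [cQ (mw h1) h2]; group

theorem norm_of_inv (x2 : x * x = 1) (hx : ∀ a ∈ Q, x * a * x = a⁻¹) : x ∈ 𝐍[Q] :=
  zpowers_le.1 (normsP.2 fun y hy a ha => by
    rcases DL.mem_cycle2 x2 hy with rfl | rfl
    · simpa using ha
    · rw [inv_eq_of_mul_eq_one_right x2, hx a ha]; exact Q.inv_mem ha)

theorem ab2 (hL : IsMulCommutative L) (oL : Odd (Nat.card L)) (hQ : IsMulCommutative Q)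
    (oQ : Odd (Nat.card Q)) (hc : (Nat.card L).Coprime (Nat.card Q)) (hQL : Q ≤ 𝐍[L])
    (hxL : x ∈ 𝐍[L]) (hzL : z ∈ 𝐍[L]) (x2 : x * x = 1) (z2 : z * z = 1)
    (hx : ∀ a ∈ Q, x * a * x = a⁻¹) (hz : Q ≤ 𝐂₁[z]) (hw : w ∈ 𝐍[Q]) (ow : Odd (orderOf w))
    (fw : Q ⊓ 𝐂₁[w] = ⊥) (h1 : L ⊓ 𝐂₁[z] ≤ 𝐂[Q]) (h2 : ⁅L ⊓ 𝐂₁[x], ⟪z⟫⁆ ≤ 𝐂₁[w]) :
    ⁅L, Q⁆ = ⊥ := by
  have hl : ⁅L, Q⁆ ≤ L := commg_subl.2 hQL
  have h0 := coprime_abel_cent_TI hQL hc hL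
  refine ab (abelianS hl hL) hQ oQ (commg_normr _ _) (zpowers_le.1 (normsR (zpowers_le.2 hxL)
    (zpowers_le.2 (norm_of_inv x2 hx)))) x2 hx hw ow fw h0 fun v hv => ?_
  have h3 := DL.inv_of_fpf (zpowers_le.1 (normsR (zpowers_le.2 hzL)
    (zpowers_le.2 (cent_sub _ (le_cent1.1 hz))))) z2
    (eq_bot_iff.2 (h0 ▸ le_inf inf_le_left ((inf_le_inf_right _ hl).trans h1))) hv.1
  have h4 := h2 (commutator_mem_commutator (⟨hl hv.1, hv.2⟩ : v ∈ L ⊓ 𝐂₁[x]) (mem_zpowers z))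
  rw [commutatorElement_def, inv_eq_of_mul_eq_one_right z2, ← h3,
    show v * z * (z * v * z) * z = v * (z * z) * v * (z * z) by group, z2, mul_one, mul_one] at h4
  exact mem_cent1.2 (comm_of_sq (odd_orderOf oL (hl hv.1)) (mem_cent1.1 h4)).eq

/-- the fixed point lemma -/
theorem lemZ (hL : Group.IsNilpotent L) (oL : Odd (Nat.card L)) (hQ : IsMulCommutative Q)
    (oQ : Odd (Nat.card Q)) (hc : (Nat.card L).Coprime (Nat.card Q)) (hQL : Q ≤ 𝐍[L])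
    (hxL : x ∈ 𝐍[L]) (hzL : z ∈ 𝐍[L]) (hwL : w ∈ 𝐍[L]) (ox : orderOf x = 2) (oz : orderOf z = 2)
    (hx : ∀ a ∈ Q, x * a * x = a⁻¹) (hz : Q ≤ 𝐂₁[z]) (hw : w ∈ 𝐍[Q]) (ow : Odd (orderOf w))
    (fw : Q ⊓ 𝐂₁[w] = ⊥) (h1 : L ⊓ 𝐂₁[z] ≤ 𝐂[Q]) (h2 : ⁅L ⊓ 𝐂₁[x], ⟪z⟫⁆ ≤ 𝐂₁[w]) :
    Q ≤ 𝐂[L] := by
  have hD : ⁅L, L⁆ ≤ L := commg_subl.2 (normG L)
  have hN : 𝐍[L] ≤ 𝐍[⁅L, L⁆] := normsR le_rfl le_rfl
  have hLD := (normG L).trans hN
  have hQD := hQL.trans hN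
  have cq : ∀ {y : G}, y ∈ 𝐍[L] → orderOf y = 2 →
      (L ⊓ 𝐂₁[y]) ⁄ ⁅L, L⁆ = L ⁄ ⁅L, L⁆ ⊓ 𝐂₁[coset ⁅L, L⁆ y] := fun hy oy =>
    coprime_quotient_cent1 (.inl hD) (hN hy)
      (oy ▸ (Odd.of_dvd_nat oL (card_dvd_of_le hD)).coprime_two_right)
  have sq : ∀ {y : G}, y ∈ 𝐍[L] → orderOf y = 2 → coset ⁅L, L⁆ y * coset ⁅L, L⁆ y = 1 :=
    fun hy oy => by rw [← coset_mul (hN hy) (hN hy), inv_sq oy, coset_one]
  refine coprime_nil_cent_der1 hc hL ((quotient_sub1 ((commg_subl.2 hQL).trans hLD)).1 ?_)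
  rw [quotientR hLD hQD]
  refine ab2 (x := coset _ x) (z := coset _ z) (w := coset _ w) (der_abelian L) (quotient_odd _ oL)
    (quotient_abelian _ hQ) (quotient_odd _ oQ)
    ((hc.coprime_dvd_left (dvdn_quotient _ _)).coprime_dvd_right (dvdn_quotient _ _))
    (quotient_norms _ hQL) (quotient_norm _ _ (mem_quotient _ hxL))
    (quotient_norm _ _ (mem_quotient _ hzL)) (sq hxL ox) (sq hzL oz) (fun a ha => ?_)
    ((quotientS _ hz).trans (quotient_cent1 _ _)) (quotient_norm _ _ (mem_quotient _ hw))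
    (Odd.of_dvd_nat ow (orderOf_coset_dvd _ _)) (eq_bot_iff.2 fun a ha => ?_) ?_ ?_
  · obtain ⟨b, hb, hn, rfl⟩ := mem_quo.1 ha
    rw [← coset_mul (hN hxL) hn, ← coset_mul (mul_mem (hN hxL) hn) (hN hxL), hx b hb, coset_inv]
  · obtain ⟨b, hb, hn, rfl⟩ := mem_quo.1 ha.1
    have h3 : ⁅b, w⁆ ∈ ⁅L, L⁆ := coset_idr (mul_mem (mul_mem (mul_mem hn (hN hwL)) (inv_mem hn))
      (inv_mem (hN hwL))) (by
        rw [coset_commg hn (hN hwL)]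
        exact commutatorElement_eq_one_iff_mul_comm.2 (mem_cent1.1 ha.2))
    have h4 : ⁅b, w⁆ ∈ Q := by
      rw [commutatorElement_def, mul_assoc, mul_assoc, ← mul_assoc w]
      exact Q.mul_mem hb ((memJ_norm hw).2 (Q.inv_mem hb))
    have h5 : ⁅b, w⁆ = 1 := mem_bot.1 (coprime_TIg hc ▸ ⟨hD h3, h4⟩)
    rw [mem_bot.1 (fw ▸ ⟨hb, mem_cent1.2 (commutatorElement_eq_one_iff_mul_comm.1 h5)⟩ :
      b ∈ (⊥ : Subgroup G)), coset_one]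
    exact one_mem _
  · rw [← cq hzL oz]
    exact quotient_cents _ h1
  · rw [← cq hxL ox, ← quotient_cycle (hN hzL), ← quotientR (inf_le_left.trans hLD)
      (zpowers_le.2 (hN hzL))]
    exact (quotientS _ h2).trans (quotient_cent1 _ _)

end Cfsg.GW.Bz
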