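import Cfsg.Agent.Blk.Tame3
import Cfsg.Agent.Blk.Over
import Cfsg.Agent.GW.OrdA

/-! Columns of a 2-block of maximal defect attached to linear characters of odd order. -/

set_option autoImplicit false

namespace Cfsg.GW.C1

open Subgroup Cfsg.FT Cfsg.Gag Cfsg.Gag.V
open scoped ComplexConjugate MonoidAlgebra

universe u

variable {G : Type u} [Group G] {M : Ideal AlgInt} {O Q R P : Subgroup G} {μ : G → ℂ} {v : G}
  {a b e f : (resK M)[G]}

/-- `μ` is a linear character on the group `O` of the odd order elements of `C(v)` -/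
structure Lin (v : G) (O : Subgroup G) (μ : G → ℂ) : Prop where
  mem : ∀ x, x ∈ O ↔ x ∈ 𝐂₁[v] ∧ ¬ 2 ∣ orderOf x
  one : μ 1 = 1
  mul : ∀ x ∈ O, ∀ y ∈ O, μ (x * y) = μ x * μ y

/-- `μ` is invariant under `R` on `O` -/
def Inv (R O : Subgroup G) (μ : G → ℂ) : Prop := ∀ g ∈ R, ∀ x ∈ O, μ (g * x * g⁻¹) = μ x

/-- evaluation of the reduction of `μ` -/
noncomputable def lamF (M : Ideal AlgInt) (μ : G → ℂ) : (resK M)[G] →ₗ[resK M] resK M :=
  (Finsupp.linearCombination _ fun g => red M (μ g)).comp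
    (MonoidAlgebra.coeffLinearEquiv _).toLinearMap

omit [Group G] in
theorem lamF_single (g : G) (c : resK M) :
    lamF M μ (MonoidAlgebra.single g c) = c * red M (μ g) := by simp [lamF]

theorem lamF_eq [Fintype G] (a : (resK M)[G]) :
    lamF M μ a = ∑ g, a.coeff g * red M (μ g) := by
  conv_lhs => rw [ga_eq_sum_single a]
  simp [map_sum, lamF_single]

namespace Lin

variable (h : Lin v O μ)
include h

theorem le : O ≤ 𝐂₁[v] := fun x hx => ((h.mem x).1 hx).1

/-- the homomorphism -/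
noncomputable def hom : O →* ℂˣ :=
  MonoidHom.toHomUnits ⟨⟨fun x => μ x, h.one⟩, fun x y => h.mul x x.2 y y.2⟩

theorem hom_apply (x : O) : (h.hom x : ℂ) = μ x := rfl

theorem pow_order {x : G} (hx : x ∈ O) : μ x ^ orderOf x = 1 := by
  rw [← h.hom_apply ⟨x, hx⟩, ← Units.val_pow_eq_pow_val, ← map_pow, ← Subgroup.orderOf_mk x hx,
    pow_orderOf_eq_one, map_one, Units.val_one]

theorem eq_one {x : G} (hx : x ∈ O) (e : μ x⁻¹ = μ x) : μ x = 1 := by
  have h2 : μ x ^ 2 = 1 := by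
    rw [sq]; nth_rw 1 [← e]; rw [← h.mul _ (inv_mem hx) _ hx, inv_mul_cancel, h.one]
  have := pow_gcd_eq_one.2 ⟨h2, h.pow_order hx⟩
  rwa [(Nat.coprime_two_left.2 (Nat.odd_iff.2 (by have := ((h.mem x).1 hx).2; omega))).gcd_eq_one,
    pow_one] at this

variable [Finite G]

theorem valO {x : G} (hx : x ∈ O) : μ x ∈ valO M :=
  mem_valO_iff.2 (valM_eq_one_of_pow_eq_one (orderOf_pos x).ne' (h.pow_order hx)).le

theorem lamF_mul (ha : a ∈ suppGA (resK M) O) (hb : b ∈ suppGA (resK M) O) :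
    lamF M μ (a * b) = lamF M μ a * lamF M μ b := by
  rw [← gaIncl_gaTrunc_of_mem ha, ← gaIncl_gaTrunc_of_mem hb]
  generalize gaTrunc (resK M) O a = a
  generalize gaTrunc (resK M) O b = b
  induction a using MonoidAlgebra.induction_linear with
  | zero => simp
  | add x y hx hy => simp only [map_add, add_mul, hx, hy]
  | single x r =>
    induction b using MonoidAlgebra.induction_linear with
    | zero => simp
    | add x y hx hy => simp only [map_add, mul_add, hx, hy]
    | single y s =>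
      simp only [gaIncl_single, MonoidAlgebra.single_mul_single, lamF_single]
      rw [h.mul x x.2 y y.2, red_mul (h.valO x.2) (h.valO y.2)]
      ring

theorem supp (hM : IsPModular 2 M) {K : Subgroup G} (hK : K ≤ 𝐂₁[v]) (hf : IsBlk (resK M) K f) :
    f ∈ suppGA (resK M) O := mem_suppGA.2 fun x hx => by_contra fun h0 =>
  hx ((h.mem x).2 ⟨hK (by_contra fun e => h0 (mem_suppGA.1 hf.mem.1 x e)),
    hM.isPRegular_of_coeff_ne_zero hf.mem hf.idem h0⟩)

theorem step (hM : IsPModular 2 M) (hi : Inv R O μ) (hQ : 𝐂[Q] ≤ 𝐂₁[v])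
    (hn : NSub 2 ⊤ Q f R e) (he : lamF M μ e ≠ 0) : lamF M μ f ≠ 0 := by
  classical
  have := Fintype.ofFinite G
  have := hM.charP
  have s1 := h.supp hM (inf_le_right.trans hQ) hn.left.blk
  have s2 := h.supp hM (inf_le_right.trans ((centralizer_le hn.le).trans hQ)) hn.right.blk
  rw [← hn.br, h.lamF_mul (brGA_mem_suppGA_of_mem R s1) s2] at he
  convert left_ne_zero_of_mul he using 1
  rw [lamF_eq, lamF_eq, sum_eq_sum_centralizer hn.right.pgrp (charP_nsmul_eq_zero (R := resK M) 2)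
    Finset.univ (by simp) _ fun g hg x _ => ?_, Finset.sum_filter]
  · refine Finset.sum_congr rfl fun g _ => ?_
    rw [brGA_def, coeff_gaCut]
    simp
  · rw [isFixedGA_iff_coeff.1 hn.fixed g hg x]
    by_cases hx : x ∈ O
    · rw [hi g hg x hx]
    · rw [mem_suppGA.1 s1 x hx, zero_mul, zero_mul]

theorem blk_eq (hM : IsPModular 2 M) (he : IsBlk (resK M) 𝐂₁[v] e) (hf : IsBlk (resK M) 𝐂₁[v] f)
    (h1 : lamF M μ e ≠ 0) (h2 : lamF M μ f ≠ 0) : e = f := by_contra fun hne => by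
  have := h.lamF_mul (h.supp hM le_rfl he) (h.supp hM le_rfl hf)
  rw [he.mul_eq_zero_of_ne hf hne, map_zero] at this
  exact mul_ne_zero h1 h2 this.symm

end Lin

theorem lamF_congr [Finite G] {ν : G → ℂ} (ha : ∀ x, a.coeff x ≠ 0 → μ x = ν x) :
    lamF M μ a = lamF M ν a := by
  have := Fintype.ofFinite G
  rw [lamF_eq, lamF_eq]
  refine Finset.sum_congr rfl fun x _ => ?_
  by_cases hx : a.coeff x = 0
  · simp [hx]
  · rw [ha x hx]

theorem lamF_conj [Finite G] (y : G) :
    lamF M (fun x => μ (y⁻¹ * x * y)) (gaConj (resK M) y a) = lamF M μ a := by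
  have := Fintype.ofFinite G
  rw [lamF_eq, lamF_eq]
  exact Fintype.sum_equiv (MulAut.conj y⁻¹).toEquiv _ _ fun x => by simp [coeff_gaConj]

theorem exists_setup [Finite G] (hM : IsPModular 2 M) (P : Sylow 2 G) (h1 : μ 1 = 1) :
    ∃ (B : Set (IrrCharacter G)) (e : (resK M)[G]), StarSetup 2 M B P e ∧ lamF M μ e ≠ 0 := by
  have := hM.charP
  have : ∑ e ∈ blkSet (resK M) 𝐂[(P : Subgroup G)], lamF M μ e ≠ 0 := by
    rw [← map_sum, sum_blkSet, MonoidAlgebra.one_def, lamF_single, h1, red_one, mul_one]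
    exact one_ne_zero
  obtain ⟨e, he, h0⟩ := Finset.exists_ne_zero_of_sum_ne_zero this
  have hp : IsPair 2 ⊤ P e := isPair_top_iff.2 ⟨P.isPGroup', mem_blkSet.1 he⟩
  obtain ⟨c, hc, hpo⟩ := hp.exists_isPairOf le_rfl le_top
  obtain ⟨B, hB, rfl⟩ := IsBlk.exists_eq_idemK hM hc
  exact ⟨B, e, ⟨hM, hB, hpo, fun R g hR hle => P.is_maximal' hR.pair.pgrp hle.le⟩, h0⟩

section loc
variable {H : Type u} [Group H] [Fintype H] {N : Subgroup H} [N.Normal] [Fintype N]

theorem reg_eq (hN : ∀ x, x ∈ N ↔ ¬ 2 ∣ orderOf x) {θ : IrrCharacter N} (h1 : θ.1 1 = 1)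
    {ξ : IrrCharacter H} (hξ : classInner (fun n : N => ξ.1 n) θ.1 ≠ 0) :
    pRegularPart 2 ξ.1 = (ξ.1 1 / N.index) • indFun N θ.1 := by
  ext x
  by_cases hx : x ∈ N
  · have i0 : (N.index : ℂ) ≠ 0 := Nat.cast_ne_zero.2 index_ne_zero_of_finite
    have := indFun_one N θ.1
    rw [h1, mul_one, indFun_eq_sum_irr] at this
    rw [pRegularPart_of_not_dvd ((hN x).1 hx), Pi.smul_apply, smul_eq_mul, div_mul_eq_mul_div,
      eq_div_iff i0, ← this, indFun_eq_sum_irr, Finset.mul_sum, Finset.mul_sum]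
    refine Finset.sum_congr rfl fun χ _ => ?_
    by_cases hχ : classInner (fun n : N => χ.1 n) θ.1 = 0
    · rw [← conj_classInner, hχ]; simp
    · have := clifford_div_eq hξ hχ ⟨x, hx⟩
      rw [div_eq_div_iff ξ.one_ne_zero χ.one_ne_zero] at this
      linear_combination classInner θ.1 (fun n : N => χ.1 n) * this
  · rw [pRegularPart_of_dvd (not_not.1 (mt (hN x).2 hx)), Pi.smul_apply,
      indFun_eq_zero_of_normal N _ hx, smul_zero]

end loc

variable [Fintype G] {B : Set (IrrCharacter G)}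

/-- the column of generalized decomposition numbers at `v` -/
structure Col (S : StarSetup 2 M B P e) (v : P) (O : Subgroup G) (μ σ : G → ℂ) (n : ℕ) : Prop where
  cls : IsClassFunction G σ
  blk : blockPart B σ = σ
  proj : ∀ θ, IsClassFunction G θ → secProj 2 (v : G) (S.below v) θ = (classInner θ σ / n) • σ
  self : classInner σ σ = n
  pos : 0 < n
  le : n ≤ O.relIndex 𝐂₁[(v : G)]
  zero : ∀ g, ¬ IsConj (v : G) (pPart 2 g) → σ g = 0
  val : σ v = O.relIndex 𝐂₁[(v : G)]
  inv : Inv 𝐂₁[(v : G)] O μ →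
    n = O.relIndex 𝐂₁[(v : G)] ∧ ∀ x ∈ O, σ (v * x) = O.relIndex 𝐂₁[(v : G)] * μ x
  int : (v : G) * v = 1 → ∀ χ : IrrCharacter G, ∃ m : ℤ, classInner χ.1 σ = m

theorem exists_col (S : StarSetup 2 M B P e) {v : P} (h : Lin (v : G) O μ)
    (h0 : lamF M μ (subIdem M _ (S.below v)) ≠ 0) : ∃ σ n, Col S v O μ σ n := by
  classical
  have hM := S.hM
  have hu := S.orderOf_eq v
  have hb := S.isBlockUnion_below v
  set C := 𝐂₁[(v : G)] with hC
  set N := O.subgroupOf C
  have hN : ∀ x : C, x ∈ N ↔ ¬ 2 ∣ orderOf x := fun x => by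
    rw [mem_subgroupOf, h.mem, orderOf_coe]; exact and_iff_right x.2
  have : N.Normal := ⟨fun x hx g => by
    rw [hN] at hx ⊢; rwa [← MulAut.conj_apply, MulEquiv.orderOf_eq]⟩
  have hodd : ¬ 2 ∣ Nat.card N := fun e => by
    obtain ⟨x, hx⟩ := exists_prime_orderOf_dvd_card' 2 e
    exact (hN x).1 x.2 (by rw [orderOf_coe, hx])
  set θ := IrrCharacter.ofHom (h.hom.comp (subgroupOfEquivOfLe h.le).toMonoidHom)
  have hθ : ∀ x : N, θ.1 x = μ x := fun x => rfl
  have θ1 : θ.1 1 = 1 := h.one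
  have hov : ∀ ξ ∈ S.below v, classInner (fun n : N => ξ.1 n) θ.1 ≠ 0 := by
    suffices ∃ ξ ∈ S.below v, ξ ∈ irrOver N.subtype θ.1 by
      obtain ⟨ξ, h1, h2⟩ := this
      exact (hM.isBlockUnion_irrOver hodd θ).subset_of_mem hM (S.isPBlock_below v) h1 h2
    by_contra! hc
    refine h0 ?_
    have e1 : ∑ g, subgroupBlockCoeff C (S.below v) g * extendByZero O (fun x => μ x) g = 0 := by
      simp only [mul_comm _ (extendByZero O _ _)]
      rw [sum_extendByZero_mul, ← (subgroupOfEquivOfLe h.le).toEquiv.sum_comp]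
      have : ∀ x : N, subgroupBlockCoeff C (S.below v) ((subgroupOfEquivOfLe h.le).toEquiv x) =
        blockCoeff (S.below v) x := fun x => subgroupBlockCoeff_coe _ (x : C)
      simp only [this, blockCoeff_eq, Finset.mul_sum]
      rw [Finset.sum_comm]
      refine Finset.sum_eq_zero fun ξ hξ => ?_
      have := congrArg conj (not_not.1 (hc ξ (mem_irrFinset.1 hξ)))
      rw [conj_classInner, map_zero, classInner_def,
        mul_eq_zero_iff_left (inv_ne_zero (Nat.cast_ne_zero.2 Nat.card_pos.ne'))] at this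
      rw [← mul_zero ((Nat.card C : ℂ)⁻¹ * ξ.1 1), ← this, Finset.mul_sum]
      exact Finset.sum_congr rfl fun x _ => by
        rw [hθ, mul_left_comm, mul_left_comm (μ _), mul_assoc]; rfl
    have e2 : ∀ g, extendByZero O (fun x => μ x) g ∈ valO M := fun g => by
      rw [extendByZero_eq_dite]; split_ifs with hg; exacts [h.valO hg, zero_mem _]
    rw [lamF_congr (ν := extendByZero O fun x => μ x) fun x hx => (extendByZero_of_mem O
      (fun x => μ x) (by_contra fun e => hx (mem_suppGA.1 (h.supp hM le_rfl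
        ((S.isPBlock_below v).isBlk_subIdem hM)) x e))).symm, lamF_eq, ← red_zero (M := M), ← e1,
      red_sum _ fun g _ => mul_mem (hb.subgroupBlockCoeff_mem hM g) (e2 g)]
    exact Finset.sum_congr rfl fun g _ => by
      rw [red_mul (hb.subgroupBlockCoeff_mem hM g) (e2 g), coeff_subIdem]
  set Φ := indFun N θ.1 with hΦ
  have cΦ : IsCharacter C Φ := θ.isCharacter.indFun
  have i0 : (N.index : ℂ) ≠ 0 := Nat.cast_ne_zero.2 index_ne_zero_of_finite
  obtain ⟨ξ, hξ⟩ := (S.isPBlock_below v).nonempty hM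
  have rΦ : Φ ∈ regSpan 2 (S.below v) := by
    have := Submodule.smul_mem _ (N.index / ξ.1 1) (pRegularPart_mem_regSpan (p := 2) hξ)
    rwa [reg_eq hN θ1 (hov ξ hξ), smul_smul, div_mul_div_cancel₀ ξ.one_ne_zero,
      div_self i0, one_smul] at this
  have hin : ∀ F, IsClassFunction G F →
      classInner F (secInd 2 (v : G) C Φ) = classInner (fun x : N => F (v * x)) θ.1 := fun F hF => by
    rw [classInner_secInd_right hF, pRegularPart_eq_of_mem_regSpan rΦ,
      classInner_indFun_right N _ (hF.secRes hC)]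
  have hval : ∀ x : N, secInd 2 (v : G) C Φ (v * x) = Φ x := fun x =>
    secInd_mul_regular hu hC cΦ.isClassFunction ((hN x).1 x.2)
  obtain ⟨n, hn, hn'⟩ := (cΦ.res N).exists_charAlg_idempotent (idemC_isIdempotentElem {θ})
  rw [(cΦ.res N).isClassFunction.charAlg_idemC, show irrFinset {θ} = {θ} by ext; simp, Finset.sum_singleton, θ1,
    mul_one] at hn'
  have cσ := isClassFunction_secInd 2 (v : G) C Φ
  have hs : classInner (secInd 2 (v : G) C Φ) (secInd 2 (v : G) C Φ) = n := by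
    rw [hin _ cσ, ← hn']; simp only [hval]
  have hv : secInd 2 (v : G) C Φ v = N.index := by
    simpa [hΦ, indFun_one, θ1] using hval 1
  have n0 : n ≠ 0 := by
    rintro rfl
    rw [Nat.cast_zero, classInner_self_eq_zero] at hs
    exact i0 (by rw [← hv, hs]; rfl)
  have hp : secProj 2 (v : G) (S.below v) (secInd 2 (v : G) C Φ) = secInd 2 (v : G) C Φ := by
    rw [hb.secProj_secInd hM hu hC cΦ.isClassFunction, hb.blockPart_eq_of_mem_regSpan hM rΦ]
  refine ⟨secInd 2 (v : G) C Φ, n, cσ, ?_, fun F hF => ?_, hs, n.pos_of_ne_zero n0, ?_,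
    fun g => secInd_of_not_isConj hu hC _, hv, fun hi => ?_, fun h2 χ => ?_⟩
  · rw [← hp, S.hB.blockPart_secProj hM hu hC (S.below_subset v)]
  · obtain ⟨c, hc⟩ : ∃ c : ℂ, secProj 2 (v : G) (S.below v) F = c • secInd 2 (v : G) C Φ := by
      rw [secProj, ← secInd_pRegularPart, pRegularPart_blockPart_eq_sum,
        Finset.sum_congr rfl fun ξ hξ => by rw [reg_eq hN θ1 (hov ξ (mem_irrFinset.1 hξ)), smul_smul],
        ← Finset.sum_smul]
      exact ⟨_, (secIndL 2 (v : G) C).map_smul _ _⟩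
    rw [← hp, ← hb.classInner_secProj_comm hM hF cσ, hc, hp, classInner_smul_left, hs,
      mul_div_cancel_right₀ _ (Nat.cast_ne_zero.2 n0)]
  · replace hn := hn.trans_eq (charDegree_comp N.subtype Φ)
    rwa [θ.isCharacter.charDegree_indFun, IrrCharacter.charDegree_ofHom,
      mul_one] at hn
  · have hx : ∀ x : N, Φ x = N.index * θ.1 x := fun x => by
      rw [hΦ, indFun_apply', Finset.sum_congr rfl (g := fun _ => μ x) fun g _ => by
        rw [extendByZero_of_mem _ _ (this.conj_mem _ x.2 g), hθ]; exact hi g g.2 _ x.2,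
        Finset.sum_const, Finset.card_univ, ← Nat.card_eq_fintype_card, ← N.card_mul_index, hθ]
      have : (Nat.card N : ℂ) ≠ 0 := Nat.cast_ne_zero.2 Nat.card_pos.ne'
      rw [nsmul_eq_mul]; push_cast; field_simp
    refine ⟨Nat.cast_injective (R := ℂ) (by rw [← hn', classInner_res_of_eq_mul hx]; rfl),
      fun x hx' => ?_⟩
    exact (hval ⟨⟨x, h.le hx'⟩, hx'⟩).trans (hx _)
  · have := ((slice_gen h2 le_rfl χ).comp N.subtype).exists_classInner_eq_int
      θ.isCharacter.isGeneralizedCharacter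
    rw [hin _ χ.isClassFunction]
    simp only [(commute_of_mem_centralizer_eq hC _).eq]
    exact this

open Classical in
/-- the indicator function of the section of `v` -/
noncomputable def ind {G : Type u} [Group G] (v g : G) : ℂ := if IsConj v (pPart 2 g) then 1 else 0

omit [Fintype G] in
theorem ind_cls (v : G) : IsClassFunction G (ind v) := fun x y => by
  rw [ind, ind, pPart_conj, (⟨fun e => e.trans (isConj_iff.2 ⟨y, rfl⟩).symm,
    fun e => e.trans (isConj_iff.2 ⟨y, rfl⟩)⟩ : IsConj v (y * pPart 2 x * y⁻¹) ↔ _)]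

theorem ind_pPart (v g : G) : ind v g = ind v (pPart 2 g) := by rw [ind, ind, pPart_pPart]

theorem ind_odd (h : v ≠ 1) {g : G} (hg : ¬ 2 ∣ orderOf g) : ind v g = 0 := by
  rw [ind, pPart_eq_one_iff.2 hg, if_neg (by simpa using h)]

open Classical in
theorem ind_two {g : G} (hg : ∃ k, orderOf g = 2 ^ k) : ind v g = if IsConj v g then 1 else 0 := by
  rw [ind, pPart_eq_self_iff.2 hg]; congr

theorem sec_sum (S : StarSetup 2 M B P e) (R : Finset P) {g : G}
    (h : ∀ v : P, IsConj (v : G) (pPart 2 g) → ∑ r ∈ R, fuseInd 2 P e r v = 1)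
    {χ : IrrCharacter G} (hχ : χ ∈ B) : χ.1 g = ∑ r ∈ R, secProj 2 (r : G) (S.below r) χ.1 g := by
  have := Fintype.ofFinite P
  have := S.hM.charP
  have h1 := congrFun (S.bstar_eq_sum_secProj (isPairStable_one.sub (IsPairStable.sum R fun r _ =>
    isPairStable_fuseInd S.isPair r)) χ.isClassFunction) g
  rw [bstar_sub_left, S.bstar_one_irr hχ, bstar_sum_left, Finset.sum_apply,
    Finset.sum_eq_zero (s := Finset.univ) fun v _ => ?_, Pi.sub_apply, sub_eq_zero,
    Finset.sum_apply] at h1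
  · simpa only [S.bstar_fuseInd_eq χ.isClassFunction] using h1
  · by_cases hv : IsConj (v : G) (pPart 2 g)
    · simp [Finset.sum_apply, h v hv]
    · simp [secProj_of_not_isConj (S.orderOf_eq v) rfl _ hv]

namespace Col

variable {S : StarSetup 2 M B P e} {v w : P} {σ σ' ν : G → ℂ} {n n' : ℕ} {O' : Subgroup G}
  {m m' : IrrCharacter G → ℤ} {χ : IrrCharacter G} (h : Col S v O μ σ n)
include h

theorem n0 : (n : ℂ) ≠ 0 := Nat.cast_ne_zero.2 h.pos.ne'

theorem proj_self : secProj 2 (v : G) (S.below v) σ = σ := by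
  rw [h.proj σ h.cls, h.self, div_self h.n0, one_smul]

theorem expand (hm : ∀ χ ∈ B, classInner χ.1 σ = m χ) (g : G) :
    σ g = ∑ χ ∈ irrFinset B, m χ * χ.1 g := by
  rw [← h.blk, blockPart_eq_sum]
  exact Finset.sum_congr rfl fun χ hχ => by
    rw [← conj_classInner, hm χ (mem_irrFinset.1 hχ), map_intCast]

theorem sum_deg (hv : v ≠ 1) (hm : ∀ χ ∈ B, classInner χ.1 σ = m χ) :
    ∑ χ ∈ irrFinset B, m χ * charDegree χ.1 = 0 := by
  have := h.expand hm 1
  rw [h.zero 1 (by simpa using hv)] at this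
  simp only [IrrCharacter.one_eq_charDegree] at this
  exact_mod_cast this.symm

theorem sum_mul (hm : ∀ χ ∈ B, classInner χ.1 σ = m χ) (hm' : ∀ χ ∈ B, classInner χ.1 σ' = m' χ) :
    classInner σ σ' = (∑ χ ∈ irrFinset B, m χ * m' χ : ℤ) := by
  rw [← h.blk, classInner_blockPart_eq_sum, Int.cast_sum]
  exact Finset.sum_congr rfl fun χ hχ => by
    rw [conj_classInner, ← conj_classInner, hm χ (mem_irrFinset.1 hχ), map_intCast,
      hm' χ (mem_irrFinset.1 hχ), Int.cast_mul]

theorem sum_sq (hm : ∀ χ ∈ B, classInner χ.1 σ = m χ) : ∑ χ ∈ irrFinset B, m χ ^ 2 = n := by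
  have := h.sum_mul hm hm
  rw [h.self] at this
  simp only [sq]
  exact_mod_cast this.symm

theorem orth (h' : Col S w O' ν σ' n') (hn : ¬ PairFuse 2 P e (v : G) w)
    (hm : ∀ χ ∈ B, classInner χ.1 σ = m χ) (hm' : ∀ χ ∈ B, classInner χ.1 σ' = m' χ) :
    ∑ χ ∈ irrFinset B, m χ * m' χ = 0 := by
  have := S.hM.charP
  have h1 := S.secProj_below_bstar (isPairStable_fuseInd S.isPair v) h.cls w
  rw [S.bstar_fuseInd_eq h.cls, h.proj_self, fuseInd, if_neg hn, zero_smul, h'.proj σ h.cls,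
    smul_eq_zero, div_eq_zero_iff, h.sum_mul hm hm'] at h1
  rcases h1 with (h1 | h1) | h1
  · exact_mod_cast h1
  · exact (h'.n0 h1).elim
  · exact (h'.n0 (by rw [← h'.self, h1, classInner_zero_left])).elim

theorem ne_of_odd (hχ : χ ∈ B) (ho : ¬ 2 ∣ charDegree χ.1) : classInner χ.1 σ ≠ 0 := fun e =>
  S.bstar_fuseInd_ne_zero_of_height_zero hχ
    (by rw [blockHeight, Nat.factorization_eq_zero_of_not_dvd ho, Nat.zero_sub]) v
    (by rw [S.bstar_fuseInd_eq χ.isClassFunction, h.proj _ χ.isClassFunction, e]; simp)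

theorem ne_of_central (hχ : χ ∈ B) (hv : (v : G) ∈ 𝐂[P]) : classInner χ.1 σ ≠ 0 := fun e =>
  S.bstar_fuseInd_ne_zero_of_central hχ v hv
    (by rw [S.bstar_fuseInd_eq χ.isClassFunction, h.proj _ χ.isClassFunction, e]; simp)

theorem apply_conj {g : G} (hg : IsConj (v : G) g) (χ : IrrCharacter G) :
    secProj 2 (v : G) (S.below v) χ.1 g = classInner χ.1 σ / n * O.relIndex 𝐂₁[(v : G)] := by
  obtain ⟨c, rfl⟩ := isConj_iff.1 hg
  rw [h.proj _ χ.isClassFunction, Pi.smul_apply, h.cls, h.val, smul_eq_mul]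

theorem four_mul (hv : (v : G) * v = 1) (hd : 2 ^ blockDefect 2 (S.below v) = 4)
    (hm : ∀ χ ∈ B, classInner χ.1 σ = m χ) (hχ : χ ∈ B) : (n : ℤ) ∣ 4 * m χ ^ 2 := by
  obtain ⟨k, hk⟩ := (S.isBlockUnion_below v).defect_mul_classInner_secProj_mem S.hM rfl
    χ.isCharacter.isGeneralizedCharacter χ.isCharacter.isGeneralizedCharacter
    (Int.castRingHom ℂ).range fun ζ hζ => by
      obtain ⟨k, hk⟩ := orderOf_dvd_of_pow_eq_one ((sq (v : G)).trans hv)
      rcases sq_eq_one_iff.1 (show ζ ^ 2 = 1 by rw [hk, pow_mul, hζ, one_pow]) with rfl | rfl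
      exacts [one_mem _, neg_mem (one_mem _)]
  rw [hd, h.proj _ χ.isClassFunction, classInner_smul_left, ← conj_classInner χ.1, hm χ hχ,
    map_intCast] at hk
  refine ⟨k, Int.cast_injective (α := ℂ) ?_⟩
  have := h.n0
  simp only [eq_intCast] at hk
  push_cast at hk ⊢
  rw [hk]; field_simp

open Classical in
theorem pairs (hl : Lin (v : G) O μ) {H : Subgroup G} (hi : Inv H O μ) (hH : 𝐂₁[(v : G)] ≤ H)
    (hH' : ∀ y : G, y * v * y⁻¹ = (v : G)⁻¹ → y ∈ H) {t : G} (ht : t * t = 1)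
    (hm : ∀ χ ∈ B, classInner χ.1 σ = m χ) :
    O.relIndex 𝐂₁[(v : G)] * ∑ a : G with IsConj t a, ∑ b : G with IsConj t b, ind (v : G) (a * b) =
      (ii t : ℂ) ^ 2 * ∑ χ ∈ irrFinset B, m χ * (χ.1 t ^ 2 / charDegree χ.1) := by
  have sq : ∀ a, IsConj t a → a * a = 1 := fun a ha => by
    obtain ⟨c, rfl⟩ := isConj_iff.1 ha
    rw [conj_mul, ht, mul_one, mul_inv_cancel]
  simp only [Finset.mul_sum, mul_left_comm ((ii t : ℂ) ^ 2), ← IrrCharacter.sum_sum_isConj]
  rw [Finset.sum_comm (s := irrFinset B)]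
  refine Finset.sum_congr rfl fun a ha => ?_
  rw [Finset.sum_comm (s := irrFinset B)]
  refine Finset.sum_congr rfl fun b hb => ?_
  rw [← h.expand hm, ind]
  split_ifs with hc
  · obtain ⟨x, s, hs, hx⟩ := exists_conj_eq_mul_regular rfl hc
    have hs' : (s : G) ∈ O := (hl.mem s).2 ⟨s.2, by rwa [orderOf_coe]⟩
    have e1 : (x⁻¹ * a * x) * (v * s) * (x⁻¹ * a * x)⁻¹ = (v * s : G)⁻¹ := by
      have a2 := sq a (Finset.mem_filter.1 ha).2
      rw [show (v * s : G) = x⁻¹ * (a * b) * x by rw [hx]; group, mul_inv_rev (x⁻¹ * _),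
        mul_inv_rev (x⁻¹ * _), mul_inv_rev, mul_inv_rev _ (a * b), mul_inv_rev a,
        inv_eq_of_mul_eq_one_right a2, inv_eq_of_mul_eq_one_right (sq b (Finset.mem_filter.1 hb).2)]
      simp [mul_assoc, ← mul_assoc a a, a2]
    have e2 := congrArg (pPart 2) e1
    rw [pPart_conj, pPart_inv, pPart_mul_eq_of_regular (S.orderOf_eq v) rfl hs] at e2
    have e3 : (x⁻¹ * a * x) * s * (x⁻¹ * a * x)⁻¹ = (s : G)⁻¹ := by
      rw [← conj_mul, e2, (commute_of_mem_centralizer_eq rfl s).eq, mul_inv_rev (s : G)] at e1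
      exact mul_left_cancel e1
    rw [hx, h.cls, (h.inv fun g hg => hi g (hH hg)).2 s hs',
      hl.eq_one hs' (e3 ▸ hi _ (hH' _ e2) s hs')]
  · rw [h.zero _ hc, mul_zero]

end Col

end Cfsg.GW.C1
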