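import Cfsg.Agent.GW.L2Tor
import Cfsg.Agent.GW.Alpha
import Cfsg.Agent.GW.DLa

/-! A D-group with a normal subgroup `L₂(q)`. -/

set_option autoImplicit false
set_option linter.unusedSectionVars false

namespace Cfsg.GW

open Subgroup Cfsg.FT Cfsg.Gag L2
open scoped Pointwise MatrixGroups

universe u

variable {G : Type u} [Group G] [Finite G] {E H K V X Y : Subgroup G} {k s t v w x y : G} {r : ℕ}

theorem mem_of_eight (hD : Dih G) (h8 : 8 ∣ Nat.card H) (hs : s ∈ 𝐍[H]) (s2 : s * s = 1) :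
    s ∈ H := by
  by_contra n
  have e := (mulEq_of_norm (zpowers_le.2 hs)).card
  rw [Nat.card_zpowers, Acd.DD.ord_two (by rintro rfl; exact n (one_mem H)) s2,
    show H ⊓ ⟪s⟫ = ⊥ from eq_bot_iff.2 fun x hx =>
      (DL.mem_cycle2 s2 hx.2).resolve_right fun e => n (e ▸ hx.1), card_bot, mul_one] at e
  obtain ⟨Q, -, h⟩ := exists_card_pow (p := 2) (n := 4) (H := H ⊔ ⟪s⟫) (by omega)
  have := DL.card_le8 hD (IsPGroup.of_card h)
  omega

theorem dvd_of_geom (hr : r.Prime) (r2 : r ≠ 2) {m n : ℤ} {j : ℕ} (h1 : m ∣ n ^ r - 1)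
    (h2 : m ∣ (n - 1) * r ^ j) : m ∣ (n - 1) * r := by
  rw [← mul_geom_sum] at h1
  obtain ⟨S, c, d⟩ : ∃ S, IsCoprime (r : ℤ) S ∧ m ∣ (n - 1) * r * S := by
    by_cases h : (r : ℤ) ∣ n - 1
    · obtain ⟨b, hb⟩ := h
      obtain ⟨c, hc⟩ := odd_sq_dvd_geom_sum₂_sub (1 : ℤ) b (hr.odd_of_ne_two r2)
      simp only [← hb, one_pow, mul_one, add_sub_cancel, sub_eq_iff_eq_add] at hc
      exact ⟨1 + r * c, ⟨-c, 1, by ring⟩, by convert h1 using 1; rw [hc]; ring⟩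
    refine ⟨_, (Nat.prime_iff_prime_int.1 hr).coprime_iff_not_dvd.2 fun e => h ?_,
      by rw [mul_right_comm]; exact h1.mul_right _⟩
    have := dvd_sub (e.mul_left (n - 1)) (Int.prime_dvd_pow_self_sub hr n)
    rwa [mul_geom_sum, sub_sub_sub_cancel_left] at this
  obtain ⟨a, b, e⟩ := c.pow_left (m := j)
  exact (dvd_add (h2.mul_right (r * a)) (d.mul_right b)).trans
    (dvd_of_eq (by linear_combination (n - 1) * r * e))

omit [Finite G] in
theorem commute_pow (hr : r.Prime) (r2 : r ≠ 2) (h : w * k * w⁻¹ ∈ ⟪k⟫) (hw : Commute (w ^ r) k)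
    {j : ℕ} (hz : (w * k * w⁻¹ * k⁻¹) ^ r ^ j = 1) : k ^ r ∈ 𝐂₁[w] := by
  obtain ⟨n, hn⟩ := h
  have hn : k ^ n = w * k * w⁻¹ := hn
  have e : ∀ i : ℕ, w ^ i * k * (w ^ i)⁻¹ = k ^ n ^ i := fun i => by
    induction i with
    | zero => simp
    | succ i ih => rw [pow_succ' n, zpow_mul, hn, conj_zpow, ← ih, pow_succ']; group
  have := dvd_of_geom hr r2 (m := orderOf k) (n := n) (j := j)
    (by rw [orderOf_dvd_iff_zpow_eq_one, zpow_sub_one, ← e, hw.eq]; simp)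
    (by rw [orderOf_dvd_iff_zpow_eq_one, zpow_mul, zpow_sub_one, hn]; exact_mod_cast hz)
  rw [orderOf_dvd_iff_zpow_eq_one, sub_mul, zpow_sub, zpow_mul, hn, mul_inv_eq_one, one_mul,
    zpow_natCast, zpow_natCast, conj_pow, mul_inv_eq_iff_eq_mul] at this
  exact mem_cent1.2 this.symm

variable {F : Type*} [Field F] [Fintype F] {π : SL(2, F) →* G} {A : Matrix (Fin 2) (Fin 2) F}
  {σ : F ≃+* F} {B : SL(2, F)}

instance finite_ringEquiv : Finite (F ≃+* F) := Finite.of_injective _ DFunLike.coe_injective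

theorem mem_K (π : SL(2, F) →* G) (B : SL(2, F)) : π B ∈ (Tor B.1).map π :=
  ⟨B, Commute.refl _, rfl⟩

/-- `π.range ≅ L₂(F)` is the component of `X` -/
structure LS (π : SL(2, F) →* G) (X : Subgroup G) : Prop where
  dih : Dih G
  odd : Odd (Fintype.card F)
  big : Fintype.card F ≠ 3
  ker : ∀ A, π A = 1 ↔ A = 1 ∨ A = -1
  nrm : π.range ⊴ X
  cent : X ⊓ 𝐂[π.range] ≤ od X
  simple : π.range ⊓ od X = ⊥

namespace LS

variable (l : LS π X)
include l

theorem h2 : (2 : F) ≠ 0 := Ring.two_ne_zero fun e =>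
  absurd (Nat.odd_iff.1 l.odd) (by rw [FiniteField.even_card_of_char_two e]; decide)

theorem rep (hx : x ∈ X) : ∃ A σ, Rep π x A σ :=
  exists_rep l.ker l.h2 fun B => (l.nrm.conj_mem hx ⟨B, rfl⟩).imp fun _ => Eq.symm

theorem cod : od X ≤ 𝐂[π.range] := centsC.1 (l.nrm.cents_of_TI (pcore_normal _ X) l.simple)

theorem pow_eq (h : Rep π x A σ) {n : ℕ} (e : x ^ n = 1) : σ ^ n = 1 := by
  obtain ⟨_, h⟩ := h.pow n
  exact Rep.one l.ker l.h2 (e ▸ h)

theorem split (hx : x ∈ π.range ⊔ od X) : ∃ e ∈ π.range, ∃ o ∈ od X, e * o = x ∧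
    (∀ n, x ^ n = 1 → e ^ n = 1 ∧ o ^ n = 1) ∧ ∀ v ∈ X, x ∈ 𝐂₁[v] → e ∈ 𝐂₁[v] := by
  obtain ⟨e, he, o, ho, rfl⟩ := (mem_join_norm (cents_norm l.cod)).1 hx
  have k : ∀ e ∈ π.range, ∀ o ∈ od X, e * o = 1 → e = 1 := fun e he o ho h =>
    l.simple.le ⟨he, eq_inv_of_mul_eq_one_left h ▸ (od X).inv_mem ho⟩
  refine ⟨e, he, o, ho, rfl, fun n h => ?_, fun v hv h => ?_⟩
  · rw [Commute.mul_pow (l.cod ho e he)] at h
    have := k _ (pow_mem he n) _ (pow_mem ho n) h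
    exact ⟨this, by simpa [this] using h⟩
  · have := k _ (mul_mem (inv_mem he) (l.nrm.conj_mem hv he)) _
      (mul_mem ((pcore_normal _ X).conj_mem hv ho) (inv_mem ho)) (by
        rw [show e⁻¹ * (v * e * v⁻¹) * (v * o * v⁻¹ * o⁻¹) = e⁻¹ * (v * (e * o)) * v⁻¹ * o⁻¹ by group,
          ← mem_cent1.1 h]; group)
    rw [inv_mul_eq_one, eq_mul_inv_iff_mul_eq] at this
    exact mem_cent1.2 this

theorem inner (hx : x ∈ X) (h : Rep π x A 1) (hA : IsSquare A.det) : x ∈ π.range ⊔ od X := by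
  obtain ⟨c, hc⟩ := hA
  obtain ⟨C, -, e⟩ := h.inner hc.symm
  exact mul_inv_cancel_left (π C) x ▸ mul_mem (mem_sup_left ⟨C, rfl⟩)
    (mem_sup_right (l.cent ⟨X.mul_mem (inv_mem (l.nrm.le ⟨C, rfl⟩)) hx, e⟩))

theorem odd_mem (hx : x ∈ X) (h : Rep π x A 1) (ho : Odd (orderOf x)) : x ∈ π.range ⊔ od X := by
  obtain ⟨k, hk⟩ := ho
  have : x = (x * x) ^ (k + 1) := by
    rw [← pow_two, ← pow_mul, show 2 * (k + 1) = orderOf x + 1 by omega, pow_succ,
      pow_orderOf_eq_one, one_mul]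
  exact this ▸ pow_mem (l.inner (mul_mem hx hx) (h.mul h) ⟨A.det, Matrix.det_mul _ _⟩) _

theorem exists_tz (ht : t ∈ π.range) (ot : orderOf t = 2) :
    ∃ B : SL(2, F), π B = t ∧ B 1 1 = -B 0 0 := by
  obtain ⟨B, rfl⟩ := ht
  exact ⟨B, rfl, (trace_of_sq ((l.ker _).1 (by rw [map_mul, inv_sq ot]))).resolve_left
    fun e => inv_ne_one ot ((l.ker B).2 e)⟩

theorem card_E : (2 * Nat.card π.range : ℤ) =
    Fintype.card F * (Fintype.card F - 1) * (Fintype.card F + 1) := by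
  rw [← card_SL, ← card_top (G := SL(2, F)), card_map l.h2 l.ker (mem_top _), MonoidHom.range_eq_map]
  simp

variable (hB : B 1 1 = -B 0 0)
include hB

theorem dh : Dh π.range ((Tor B.1).map π) (π B) :=
  (rep_pi B).dh hB l.h2 l.ker (exists_anti l.h2 l.odd hB).choose_spec

theorem ord : orderOf (π B) = 2 := Acd.DD.ord_two (fun e => by
  rcases (l.ker B).1 e with rfl | rfl <;> exact l.h2 (by
    simp [neg2] at hB; first | linear_combination hB | linear_combination -hB))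
  (by rw [← map_mul, l.ker]; exact Or.inr (Subtype.ext (by simpa using sq_tz hB)))

theorem dec (hx : x ∈ X ⊓ 𝐂₁[π B]) (h : Rep π x A 1) (ho : Odd (orderOf x)) :
    ∃ e ∈ (Tor B.1).map π, ∃ o ∈ od X, e * o = x ∧ Odd (orderOf e) ∧
      ∀ v ∈ X, x ∈ 𝐂₁[v] → e ∈ 𝐂₁[v] := by
  obtain ⟨e, he, o, h1, h2, h3, h4⟩ := l.split (l.odd_mem hx.1 h ho)
  have oe := ho.of_dvd_nat (orderOf_dvd_of_pow_eq_one (h3 _ (pow_orderOf_eq_one x)).1)
  refine ⟨e, by_contra fun n => n ?_, o, h1, h2, oe, h4⟩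
  have := ((l.dh hB).inv e ⟨he, h4 _ (l.nrm.le ⟨B, rfl⟩) hx.2⟩ n).1
  rw [orderOf_eq_one_iff.1 (Nat.eq_one_of_dvd_coprimes oe.coprime_two_right dvd_rfl
    (orderOf_dvd_of_pow_eq_one (by rwa [sq])))]
  exact one_mem _

theorem card_q [DecidableEq F] :
    (Fintype.card F : ℤ) = 2 * Nat.card ((Tor B.1).map π) + quadraticChar F (-1) := by
  simpa using card_K hB (by simp) l.h2 l.ker

theorem small (hK : IsPGroup 2 ((Tor B.1).map π)) (hY : Y ≤ X ⊓ 𝐂₁[π B])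
    (ho : Odd (Nat.card Y)) : Y ≤ od X := fun y hy => by
  classical
  obtain ⟨A, σ, h⟩ := l.rep (hY hy).1
  have oy := ho.of_dvd_nat (orderOf_dvd_natCard Y hy)
  obtain rfl : σ = 1 := by
    by_contra n
    obtain ⟨k, hk⟩ := oy.of_dvd_nat (orderOf_dvd_of_pow_eq_one (l.pow_eq h (pow_orderOf_eq_one y)))
    obtain ⟨e, e1⟩ := card_fix σ
    have := orderOf_eq_one_iff.not.2 n
    have h3 : 3 ≤ Nat.card {c // σ c = c} := by
      have := (Nat.odd_pow_iff (by omega)).1 (e ▸ l.odd)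
      grind
    have := (Nat.pow_le_pow_left h3 3).trans (Nat.pow_le_pow_right (by omega) (by omega : 3 ≤ orderOf σ))
    have := l.card_q hB
    have := DL.card_le8 l.dih hK
    have := quadraticChar_dichotomy (F := F) (neg_ne_zero.2 one_ne_zero)
    omega
  obtain ⟨e, he, o, h1, rfl, h3, -⟩ := l.dec hB (hY hy) h oy
  obtain rfl : e = 1 := (odd_inf_two (Y := ⟪e⟫) (by rwa [Nat.card_zpowers]) hK).le
    ⟨mem_zpowers e, he⟩
  rwa [one_mul]

theorem norm_K (hw : w ∈ X ⊓ 𝐂₁[π B]) (hx : x ∈ (Tor B.1).map π) :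
    w * x * w⁻¹ ∈ (Tor B.1).map π := by
  have d := l.dh hB
  by_contra n
  have e := (d.inv _ ⟨l.nrm.conj_mem hw.1 (d.le hx).1,
    (memJ_norm (normG _ hw.2)).2 (d.le hx).2⟩ n).1
  rw [conj_mul, conj_eq_one_iff] at e
  have x1 : x ≠ 1 := by rintro rfl; simp at n
  by_cases c : x = π B
  · rw [c, mem_cent1.1 hw.2, mul_inv_cancel_right] at n
    exact n (mem_K π B)
  exact (klein_pair (l.ord hB) (Acd.DD.ord_two x1 e) (d.le hx).2 c).not_cyclic
    (cyclicS (sup_le (zpowers_le.2 (mem_K π B)) (zpowers_le.2 hx)) d.cyc)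

theorem card_fix_le (h : Rep π w A σ) (ho : Odd (orderOf σ)) :
    Nat.card ↥((Tor B.1).map π ⊓ 𝐂₁[w]) ≤ Nat.card {c // σ c = c} := by
  classical
  have e := card_map l.h2 l.ker (H := Tor B.1 ⊓ 𝐂₁[w].comap π)
    ⟨neg_Tor (one_mem _), by simp [(l.ker _).2 (Or.inr rfl)]⟩
  refine (card_le_of_le (K := (Tor B.1 ⊓ 𝐂₁[w].comap π).map π) ?_).trans
    (Nat.le_of_mul_le_mul_left (e ▸ ?_) two_pos)
  · rintro _ ⟨⟨C, hC, rfl⟩, h⟩
    exact ⟨C, ⟨hC, h⟩, rfl⟩
  rw [Nat.subtype_card (Finset.univ.filter fun c => σ c = c) (by simp),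
    Nat.subtype_card (Finset.univ.filter (· ∈ Tor B.1 ⊓ 𝐂₁[w].comap π)) (by simp)]
  refine Finset.card_le_mul_card_image_of_maps_to (f := fun C : SL(2, F) => C 0 0 + C 1 1)
    (fun C hC => ?_) 2 fun c _ => ?_
  · simp only [Finset.mem_filter, Finset.mem_univ, true_and] at hC ⊢
    refine (h.trace l.ker l.h2 (mul_inv_eq_iff_eq_mul.2 (mem_cent1.1 hC.2).symm)).elim id fun e => ?_
    have k : ∀ n : ℕ, (σ ^ n) (C 0 0 + C 1 1) = (-1) ^ n * (C 0 0 + C 1 1) := fun n => by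
      induction n with
      | zero => simp
      | succ n ih => rw [pow_succ', RingAut.mul_apply, ih, map_mul, e, pow_succ]; simp [-neg_add_rev]
    have := k (orderOf σ)
    rwa [pow_orderOf_eq_one, ho.neg_one_pow, neg_one_mul, ← e, eq_comm] at this
  refine not_lt.1 fun lt => ?_
  obtain ⟨C, hC⟩ := Finset.card_pos.1 (two_pos.trans lt)
  refine lt.not_ge ((Finset.card_le_card fun D hD => ?_).trans
    (Finset.card_le_two (a := C) (b := C⁻¹)))
  simp only [Finset.mem_filter, Finset.mem_univ, true_and] at hC hD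
  obtain ⟨a, b, h⟩ := (mem_Tor hB (by simp) l.h2).1 hC.1.1
  obtain ⟨a', b', h'⟩ := (mem_Tor hB (by simp) l.h2).1 hD.1.1
  have n := norm_ab hB (by simp) l.h2 h
  have n' := norm_ab hB (by simp) l.h2 h'
  obtain rfl : a = a' := mul_left_cancel₀ l.h2 (by
    have := hC.2.trans hD.2.symm
    simp [h, h', hB] at this
    linear_combination this)
  rw [B.2] at n n'
  rcases sq_eq_sq_iff_eq_or_eq_neg.1 (show b' ^ 2 = b ^ 2 by linear_combination n' - n) with rfl | rfl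
  · simp [show D = C from Subtype.ext (h'.trans h.symm)]
  · simp [show D = C⁻¹ from Subtype.ext (h'.trans (inv_ab hB h).symm)]

theorem kf (hr : r.Prime) (r2 : r ≠ 2) (hp : IsPGroup r Y) (hY : Y ≤ X ⊓ 𝐂₁[π B])
    (hn : (Tor B.1).map π ≤ 𝐍[Y]) : Y ≤ (Tor B.1).map π ⊔ od X := fun y hy => by
  classical
  have := Fact.mk hr
  have d := l.dh hB
  have o : ∀ y ∈ Y, Odd (orderOf y) := fun y hy =>
    (DL.odd_pgroup r2 hp).of_dvd_nat (orderOf_dvd_natCard Y hy)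
  obtain ⟨A, σ, h⟩ := l.rep (hY hy).1
  obtain rfl : σ = 1 := by
    by_contra n
    obtain ⟨j, hj⟩ := hp ⟨y, hy⟩
    have dv := orderOf_dvd_of_pow_eq_one (l.pow_eq h (congrArg Subtype.val hj))
    obtain ⟨i, -, hi⟩ := (Nat.dvd_prime_pow hr).1 dv
    have e := orderOf_pow_orderOf_div (n := r) (orderOf_pos σ).ne' (hi ▸ dvd_pow_self r (by
      rintro rfl; exact n (orderOf_eq_one_iff.1 hi)))
    obtain ⟨A, h⟩ := h.pow (orderOf σ / r)
    have hw := pow_mem hy (orderOf σ / r)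
    generalize y ^ (orderOf σ / r) = w at h hw
    generalize σ ^ (orderOf σ / r) = τ at h e
    obtain ⟨A', h'⟩ := h.pow r
    rw [← e, pow_orderOf_eq_one, e] at h'
    obtain ⟨a, ha, b, hb, e1, -⟩ := l.dec hB (hY (pow_mem hw r)) h' (o _ (pow_mem hw r))
    obtain ⟨k, hk⟩ := cyclicP.1 d.cyc
    have kK : k ∈ (Tor B.1).map π := hk ▸ mem_zpowers k
    obtain ⟨j, hj⟩ := hp ⟨w * k * w⁻¹ * k⁻¹, by
      simpa only [mul_assoc] using mul_mem hw ((memJ_norm (hn kK)).2 (inv_mem hw))⟩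
    have c := commute_pow hr r2 (hk ▸ l.norm_K hB (hY hw) kK) (e1 ▸ Commute.mul_left
      (comm_of_abelian (cyclic_abelian d.cyc) ha kK) (l.cod hb k (d.le kK).1).symm)
      (congrArg Subtype.val hj)
    have c := (card_le_of_le (zpowers_le.2 (mem_inf.2 ⟨pow_mem kK r, c⟩))).trans
      (l.card_fix_le hB h (e ▸ hr.odd_of_ne_two r2))
    obtain ⟨e1, e2⟩ := card_fix τ
    have h3 : 3 ≤ Nat.card {c // τ c = c} := by
      have := (Nat.odd_pow_iff (by rw [e]; exact hr.ne_zero)).1 (e1 ▸ l.odd)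
      grind
    have q := l.card_q hB
    have := quadraticChar_dichotomy (F := F) (neg_ne_zero.2 one_ne_zero)
    rw [Nat.card_zpowers, orderOf_pow] at c
    rw [hk, Nat.card_zpowers, e1, e] at q
    generalize Nat.card {c // τ c = c} = m at *
    have c : orderOf k ≤ r * m := by
      rw [← Nat.div_mul_cancel (Nat.gcd_dvd_left (orderOf k) r), mul_comm]
      exact Nat.mul_le_mul (Nat.gcd_le_right _ hr.pos) c
    obtain ⟨r, rfl⟩ : ∃ n, r = n + 3 := ⟨r - 3, by have := hr.two_le; omega⟩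
    have := (Nat.lt_pow_self (n := r) (by omega : 1 < 3)).trans_le (Nat.pow_le_pow_left h3 r)
    have : m ^ (r + 3) ≤ 2 * ((r + 3) * m) + 1 := by omega
    have : (r + 1) * 9 * m ≤ m ^ (r + 3) := by
      rw [pow_succ, pow_add]
      exact Nat.mul_le_mul_right _ (Nat.mul_le_mul ‹_› (Nat.pow_le_pow_left h3 2))
    nlinarith
  obtain ⟨a, ha, b, hb, rfl, -⟩ := l.dec hB (hY hy) h (o y hy)
  exact mul_mem (mem_sup_left ha) (mem_sup_right hb)

theorem out (hs : s ∈ X ⊓ 𝐂₁[π B]) (sE : s ∉ π.range) (s2 : s * s = 1) [DecidableEq F] :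
    (∀ x ∈ (Tor B.1).map π, s * x * s = x⁻¹) ∧ ∃ A : Subgroup G, IsCyclic A ∧
      (Nat.card A : ℤ) = Nat.card ((Tor B.1).map π) + quadraticChar F (-1) ∧ 1 < Nat.card A ∧
      (∀ x ∈ A, π B * x * π B = x⁻¹) ∧ π.range ⊓ 𝐂₁[s] = A ⊔ ⟪π B⟫ ∧
      Nat.card ↥(π.range ⊓ 𝐍[A]) = 2 * Nat.card A ∧ ∀ x ∈ A, x ≠ 1 → π.range ⊓ 𝐂₁[x] = A := by
  obtain ⟨A, σ, h⟩ := l.rep hs.1
  have q := l.card_q hB
  have ε := quadraticChar_dichotomy (F := F) (neg_ne_zero.2 one_ne_zero)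
  have ev := orderOf_dvd_natCard _ (mem_K π B)
  rw [l.ord hB] at ev
  obtain rfl : σ = 1 := by
    by_contra n
    refine sE (mem_of_eight l.dih ?_ (normsI (inf_le_left.trans l.nrm.norm)
      (norms_cent1 inf_le_right) hs) s2).1
    obtain ⟨e, -⟩ := card_fix σ
    rw [orderOf_eq_prime (l.pow_eq h ((sq s).trans s2)) n] at e
    have := Int.eight_dvd_sq_sub_one_of_odd (k := Nat.card {c // σ c = c})
      (by exact_mod_cast (Nat.odd_pow_iff two_ne_zero).1 (e ▸ l.odd))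
    rw [(l.dh hB).idx]
    zify at e ev ⊢
    omega
  have hd : ¬ IsSquare A.det := fun e => by
    obtain ⟨a, ha, b, hb, rfl, h, -⟩ := l.split (l.inner hs.1 h e)
    obtain rfl : b = 1 := by_contra fun n => not_mem_of_odd (od_odd X)
      (orderOf_eq_prime (h 2 ((sq _).trans s2)).2 n) hb
    exact sE (by rwa [mul_one])
  have hA : A 1 1 = -A 0 0 := by
    obtain ⟨C, e, c⟩ := (h.mul h).inner (Matrix.det_mul _ _).symm
    have c : (π C)⁻¹ ∈ π.range ⊓ od X := ⟨π.range.inv_mem ⟨C, rfl⟩,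
      l.cent ⟨X.inv_mem (l.nrm.le ⟨C, rfl⟩), by simpa [s2] using c⟩⟩
    rw [l.simple, mem_bot, inv_eq_one, l.ker] at c
    have e : ∀ i j, A.det * C i j = A i 0 * A 0 j + A i 1 * A 1 j := fun i j => by
      simpa [Matrix.mul_apply] using congrFun (congrFun e i) j
    have e1 := e 0 0
    have e2 := e 0 1
    by_contra n
    have n : A 0 0 + A 1 1 ≠ 0 := fun e => n (by linear_combination e)
    rcases c with rfl | rfl <;> simp [neg2, Matrix.det_fin_two] at e1 e2 <;>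
      have a : A 0 1 = 0 := mul_right_cancel₀ n (by linear_combination -e2)
    · exact hd ⟨A 0 0, by rw [Matrix.det_fin_two]; linear_combination e1 + A 1 0 * a⟩
    · have b : A 0 0 = 0 := mul_right_cancel₀ n (by linear_combination -e1)
      exact h.1 (by simp [Matrix.det_fin_two, a, b])
  have hc : B.1 * A = -(A * B.1) := ((h.mem_cent1 l.ker).1 (cent1C.1 hs.2)).resolve_left
    fun e => hd (sq_of_tz hA h.1 l.h2 e hB)
  have d := h.dh hA l.h2 l.ker hc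
  have q' := card_K hA h.1 l.h2 l.ker
  rw [neg_eq_neg_one_mul, map_mul, quadraticChar_neg_one_iff_not_isSquare.2 hd] at q'
  have m : π B ∈ π.range ⊓ 𝐂₁[s] := ⟨⟨B, rfl⟩, cent1C.1 hs.2⟩
  have n : π B ∉ (Tor A).map π := fun e =>
    sq_ne hA h.1 l.h2 l.ker hd e (inv_ne_one (l.ord hB)) (inv_sq (l.ord hB))
  have o : 1 < Nat.card ((Tor A).map π) := by
    have := l.big
    have : 0 < Nat.card ((Tor B.1).map π) := Nat.card_pos
    omega
  refine ⟨fun x hx => ?_, _, d.cyc, by omega, o, (d.inv _ m n).2, d.sup _ m n, ?_,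
    fun x hx x1 => d.cent x hx (sq_ne hA h.1 l.h2 l.ker hd hx x1)⟩
  · simpa only [inv_eq_of_mul_eq_one_right s2] using
      h.inv hB (by simp) l.h2 l.ker (by rw [hc, neg_neg]) hx
  · rw [d.norm ((one_lt_card_iff_ne_bot _).1 o), d.idx]

theorem lt [DecidableEq F] : LT X π.range (π B) ((Tor B.1).map π) (quadraticChar F (-1)) := by
  have d := l.dh hB
  have q := l.card_q hB
  have ε := quadraticChar_dichotomy (F := F) (neg_ne_zero.2 one_ne_zero)
  refine ⟨d.le, d.cyc, mem_K π B, d.idx, d.inv, d.cent, ε, ?_, ?_, fun r Y => l.kf hB,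
    fun h Y => l.small hB h, fun s hs h1 h2 => l.out hB hs h1 h2⟩
  · rw [← q]
    exact FiniteField.isPrimePow_card F
  · have := l.card_E
    rw [q] at this
    rcases ε with e | e <;> rw [e] at this ⊢ <;> linarith

omit hB

/-- the elements inducing an element of `PGL₂(F)` -/
def pgl : Subgroup G where
  carrier := {x | x ∈ X ∧ ∃ A, Rep π x A 1}
  mul_mem' := fun ⟨a, _, h⟩ ⟨b, _, h'⟩ => ⟨mul_mem a b, _, h.mul h'⟩
  one_mem' := ⟨one_mem X, _, map_one π ▸ rep_pi 1⟩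
  inv_mem' := fun {x} ⟨a, _, h⟩ => ⟨inv_mem a, by
    obtain ⟨A, σ, h'⟩ := l.rep (inv_mem a)
    exact ⟨A, (Rep.one l.ker l.h2 (mul_inv_cancel x ▸ h.mul h') :) ▸ h'⟩⟩

theorem der_le : ⁅X, X⁆ ≤ l.pgl := commg_le_iff.2 fun x hx y hy => by
  obtain ⟨_, σ, h1⟩ := l.rep hx
  obtain ⟨_, τ, h2⟩ := l.rep hy
  obtain ⟨_, σ', h3⟩ := l.rep (inv_mem hx)
  obtain ⟨_, τ', h4⟩ := l.rep (inv_mem hy)
  have := ((h1.mul h2).mul h3).mul h4
  rw [aut_comm σ, mul_assoc τ, Rep.one l.ker l.h2 (mul_inv_cancel x ▸ h1.mul h3 :), mul_one,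
    Rep.one l.ker l.h2 (mul_inv_cancel y ▸ h2.mul h4 :)] at this
  exact ⟨mul_mem (mul_mem (mul_mem hx hy) (inv_mem hx)) (inv_mem hy), _, this⟩

theorem kw (hV : Klein V) (hl : V ≤ X) (hm : V ⊓ π.range ≠ ⊥) (hY : Y ≤ X ⊓ 𝐍[V]) :
    ⁅od (X ⊓ 𝐂[V]), Y⁆ ≤ od X := fun w hw => by
  classical
  obtain ⟨⟨t, tV, tE⟩, t1⟩ := ne_bot_iff_exists_ne_one.1 hm
  have t1 : t ≠ 1 := fun e => t1 (Subtype.ext e)
  obtain ⟨B, rfl, hB⟩ := l.exists_tz tE (hV.orderOf tV t1)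
  obtain ⟨v, vV, v1, vt⟩ := klein_other hV (π B)
  have h1 := commg_subl.2 (hY.trans (char_norm_trans (pcore_char _ _) (subcent_normal X V).2)) hw
  have h2 := pcore_sub _ _ h1
  obtain ⟨-, A, h⟩ := l.der_le (commgSS ((pcore_sub _ _).trans inf_le_left)
    (hY.trans inf_le_left) hw)
  obtain ⟨e, he, o, ho, rfl, oe, c⟩ := l.dec hB ⟨h2.1, cent_le_cent1 tV h2.2⟩ h
    ((od_odd _).of_dvd_nat (orderOf_dvd_natCard _ h1))
  have k := l.lt hB
  have vc : v ∈ 𝐂₁[π B] := mem_cent1.2 (comm_of_abelian hV.ab vV tV)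
  have i : v * e * v = e⁻¹ := by
    by_cases m : v ∈ π.range
    · exact (k.inv v ⟨m, vc⟩ fun n => (klein_pair (l.ord hB) (hV.orderOf vV v1) vc vt).not_cyclic
        (cyclicS (sup_le (zpowers_le.2 k.tK) (zpowers_le.2 n)) k.cyc)).2 e he
    · exact (k.out v ⟨hl vV, vc⟩ m (hV.2 v vV)).1 e he
  rw [← mem_cent1.1 (c v (hl vV) (cent_le_cent1 vV h2.2)), mul_assoc, hV.2 v vV, mul_one,
    eq_inv_iff_mul_eq_one] at i
  rwa [orderOf_eq_one_iff.1 (Nat.eq_one_of_dvd_coprimes oe.coprime_two_right dvd_rfl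
    (orderOf_dvd_of_pow_eq_one (by rwa [sq]))), one_mul]

theorem t2 (r : ResF π.range X) : T2 X π.range := by
  classical
  refine ⟨l.simple, fun t ht ot => ?_, fun V R hV hl _ => l.kw hV hl (r.meet V hV hl)⟩
  obtain ⟨B, rfl, hB⟩ := l.exists_tz ht ot
  exact ⟨_, _, l.lt hB⟩

theorem small9 (h9 : Fintype.card F = 9) (ht : t ∈ π.range) (ot : orderOf t = 2)
    (hY : Y ≤ X ⊓ 𝐂₁[t]) (ho : Odd (Nat.card Y)) : Y ≤ od X := by
  classical
  obtain ⟨B, rfl, hB⟩ := l.exists_tz ht ot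
  have q := l.card_q hB
  have ε := quadraticChar_dichotomy (F := F) (neg_ne_zero.2 one_ne_zero)
  have ev := orderOf_dvd_natCard _ (mem_K π B)
  rw [l.ord hB] at ev
  exact l.small hB (IsPGroup.of_card (n := 2) (by omega)) hY ho

end LS

end Cfsg.GW
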