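import Cfsg.Agent.GW.An
import Cfsg.Agent.GW.Num
import Cfsg.Agent.GW.A7

/-!
# S4594 core: piece G1
-/

set_option autoImplicit false
set_option linter.unusedSectionVars false
set_option linter.style.haveILetI false

namespace Cfsg.GW.G1

open Subgroup Cfsg.FT Cfsg.Gag Cfsg.Gag.Fin5
open scoped Pointwise

universe u

variable {G : Type u} [Group G] [Finite G] {S V B U : Subgroup G} {t f x : G}

theorem normal_of_index (ho : Odd (Nat.card G)) (h : B.index = 3 ∨ B.index = 5) : B.Normal := by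
  haveI := Fact.mk Nat.prime_three
  have h1 : B.normalCore.index ∣ B.index.factorial := by
    rw [normalCore_eq_ker, index_ker, index_eq_card, ← Nat.card_perm]
    exact card_subgroup_dvd_card (MulAction.toPermHom G (G ⧸ B)).range
  rw [← relIndex_mul_index B.normalCore_le] at h1
  have h2 := ho.of_dvd_nat ((FT.relIndex_dvd_card B.normalCore B).trans (card_subgroup_dvd_card B))
  have h3 : B.normalCore.relIndex B = 1 ∨ B.normalCore.relIndex B = 3 ∧ B.index = 5 := by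
    generalize B.normalCore.relIndex B = r at *
    have h4 : r ≤ 24 := by
      have := Nat.le_of_dvd (Nat.factorial_pos _) h1
      rcases h with h | h <;> rw [h] at this <;> simp [Nat.factorial] at this <;> omega
    rcases h with h | h <;> rw [h] at h1 ⊢ <;> interval_cases r <;> revert h1 h2 <;> decide
  rcases h3 with h3 | ⟨h3, h5⟩
  · exact le_antisymm B.normalCore_le (relIndex_eq_one.1 h3) ▸ B.normalCore_normal
  obtain ⟨P, hP⟩ := Sylow_exists 3 B
  have h4 := (mulEq_of_coprime_relIndex B.normalCore_le hP.le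
    (h3 ▸ (Nat.prime_three.coprime_iff_not_dvd).2 hP.index)).sup_eq
  have h6 : 𝐍[P] ≤ 𝐍[B] := h4 ▸ normsY le_normalizer_of_normal le_rfl
  refine norm_eq_top.1 (((p_index_maximal le_top (by
    rw [relIndex_top_right, h5]; exact Nat.prime_five)).eq_or (normG B) le_top).resolve_left
    fun e => ?_)
  have h7 := A7.syl_mod hP
  have h8 := A7.syl_mod (hP.trans_index le_top (by rw [relIndex_top_right, h5]; decide))
  rw [relIndex_top_right, ← relIndex_mul_index (h6.trans e.le), h5] at h8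
  exact absurd (((h7.mul_right 5).symm.trans h8)) (by decide)

theorem normalIn_of_index (ho : Odd (Nat.card U)) (h : B.relIndex U = 3 ∨ B.relIndex U = 5) :
    U ≤ 𝐍[U ⊓ B] := by
  refine (normalIn_iff.2 ⟨inf_le_left, ?_⟩).2
  rw [inf_subgroupOf_left]
  exact normal_of_index ho h

theorem index_dvd_six (hV : Klein V) (h : 𝐂[V] ≤ B) : B.relIndex 𝐍[V] ∣ 6 := by
  obtain ⟨ρ, hρ, -⟩ := klein_rep hV
  have h1 : ρ.ker ≤ B.subgroupOf 𝐍[V] := fun n hn => mem_subgroupOf.2 (h ((hρ n).1 hn))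
  have h2 := card_subgroup_dvd_card ρ.range
  rw [← index_ker, Nat.card_perm, Nat.card_fin] at h2
  exact (index_dvd_of_le h1).trans h2

variable [IsSimpleGroup G] (c : Ctx S t)
include c

theorem fusN (hV : Klein V) : Fus 𝐍[V] V := fun a ha b hb a1 b1 =>
  let ⟨y, hy, e⟩ := c.fus V hV a ha b hb a1 b1; ⟨y, ⟨hy.2, hy.2⟩, e⟩

theorem main (hS : StSol.{u}) (hD : StOD.{u}) (h7 : StA7.{u}) (h2 : StG2.{u}) (h : D8 S f x)
    (e : f ^ 2 = t) (hA : IsCoatom 𝐍[⟪f ^ 2⟫ ⊔ ⟪x⟫]) (hH : 𝐂₁[t] ≤ 𝐍[⟪f ^ 2⟫ ⊔ ⟪x⟫]) : IsA7 G := by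
  subst e
  have h' := d8_swap h
  have hV := d8_klein h
  have hV' := d8_klein h'
  have hU := c.U_eq hV (d8_TA h) hH
  have a := c.al_V hV (d8_TA h) hA hH
  have hx : oc (f ^ 2) ≤ 𝐂₁[x] := hU.le.trans ((pcore_sub _ _).trans (cent_le_cent1 d8_xT))
  have hB := c.W_eq hV' d8_cT d8_xT c.t1 (inv_ne_one h'.ox) fun e =>
    d8_x_notin h' (e ▸ mem_zpowers _)
  have nB : 𝐍[⟪f ^ 2⟫ ⊔ ⟪x * f⟫] ≤ 𝐍[oc (f ^ 2) ⊓ 𝐂₁[x * f]] := hB ▸ norms_pcore _ (cent_norm _)
  have n1 : ¬ oc (f ^ 2) ≤ 𝐂₁[x * f] := fun hl => by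
    obtain ⟨V, h1, h3, h4⟩ := c.i1 _ (c.norm_ne (oc_odd _) c.une) (oc_norm _)
    rw [inf_eq_left.2 hl] at nB
    rcases d8_klein_eq h h1 h3 with rfl | rfl
    exacts [h4 ((fusN c hV).mono a.nU), h4 ((fusN c hV').mono nB)]
  have n2 : kk (f ^ 2) (x * f) = 3 ∨ kk (f ^ 2) (x * f) = 5 →
      Nat.card (oc (f ^ 2)) = kk (f ^ 2) (x * f) := fun hk => by
    have h1 := normalIn_of_index (oc_odd _) hk
    have h3 : oc (f ^ 2) ⊓ 𝐂₁[x * f] = ⊥ := by_contra fun hn => by
      have ho := oddSg (inf_le_left (b := 𝐂₁[x * f])) (oc_odd (f ^ 2))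
      obtain ⟨M, hM, hl⟩ := (eq_top_or_exists_le_coatom _).resolve_left (c.norm_ne
        (oddSg (Fitting_sub _) ho) fun e => hn ((trivg_Fitting (feit_thompson ho)).1 e))
      have h4 := (norms_Fitting nB).trans hl
      have h5 := (fusN c hV').mono h4
      have h6 := c.loc_fus a (NormalIn.fit_le ⟨inf_le_left, h1⟩) hl hV' d8_cT ((normG _).trans h4) h5
      have h8 := (norms_Fitting h1).trans hl
      have hs : Group.IsSolvable M := by_contra fun hs => h2 G S M _ c hM (c.sup.ge.trans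
        (sup_le h8 ((d8_AN h').trans h4))) hs (h6.trans (cent_le_cent1 d8_cT))
      exact n1 ((cent_of_norm hV'.pgroup (oc_odd _) (h8.trans (norm_of_sup hV'.pgroup h6
        ((hS G M _ c.dih hs hV' ((normG _).trans h4)).2 h5))) le_rfl
        ((d8_TA h').trans c.SU)).trans (cent_le_cent1 d8_xT))
    rw [← card_inf_mul_relIndex 𝐂₁[x * f], inf_comm, h3, card_bot, one_mul]
  have hG : Nat.card G = Nat.card (oc (f ^ 2)) * 8 * ii (f ^ 2) := by
    rw [← h.card, sdprod_card ⟨c.sup, odd_inf_two (oc_odd _) c.S2, c.SU⟩, card_mul_index]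
  obtain ⟨y, a, b, e1, e2, e3, e4, e5, e6⟩ := hD G S f x c.syl h c.conj
  have k1 : kk (f ^ 2) x = 1 := relIndex_eq_one.2 hx
  rw [k1, ← mul_one (kk (f ^ 2) (x * f) : ℤ)] at e5 e6
  rcases Num.OD.odd_ratio ⟨e1, e2, e3, e4, e5, e6⟩ one_pos (Int.natCast_pos.2 (relIndex_pos _ _))
    (Int.odd_coe_nat _ |>.2 ((oc_odd _).of_dvd_nat (FT.relIndex_dvd_card _ _))) with
    h1 | ⟨h1, -, h3⟩ | ⟨h1, -, h3⟩
  · exact absurd (relIndex_eq_one.1 (by exact_mod_cast h1)) n1
  · have h4 : kk (f ^ 2) (x * f) = 3 := by exact_mod_cast h1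
    have h5 := (n2 (.inl h4)).trans h4
    refine h7 G S f x c.syl h h5 (le_cent1.1 hx) (fun e => n1 (le_cent1.2
      (mul_mem (le_cent1.1 hx) e))) ?_
    rw [hG, h5, show ii (f ^ 2) = 105 by exact_mod_cast h3]
  · have h4 : kk (f ^ 2) (x * f) = 5 := by exact_mod_cast h1
    have h5 := (n2 (.inr h4)).trans h4
    have h6 : ii (f ^ 2) = 189 := by exact_mod_cast h3
    haveI := Fact.mk Nat.prime_five
    have h8 := card_mul_index (oc (f ^ 2))
    rw [hG, h5, h6] at h8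
    have h9 := A7.syl_mod (p := 5) (P := oc (f ^ 2)) (H := ⊤) ⟨le_top, IsPGroup.of_card
      (n := 1) h5, by rw [relIndex_top_right]; omega⟩
    rw [relIndex_top_right, c.norm_eq hA (oc_odd _) c.une (hU ▸ norms_pcore _ (cent_norm _))] at h9
    have i1 := index_dvd_six hV (cent_le_cent1 (d8_cT (f := f) (x := x)))
    have i2 := (relIndex_mul_index hH).trans h6
    generalize 𝐂₁[f ^ 2].relIndex 𝐍[⟪f ^ 2⟫ ⊔ ⟪x⟫] = r at i1 i2
    have i3 := Nat.le_of_dvd (by decide) i1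
    unfold Nat.ModEq at h9
    interval_cases r <;> omega

omit c in
theorem _root_.Cfsg.GW.stG1 (hS : StSol.{u}) (hD : StOD.{u}) (h7 : StA7.{u}) (h2 : StG2.{u}) :
    StG1.{u} := by
  intro G _ _ _ S V t c hV hl hA hH
  rcases c.shape with h | ⟨f, x, h, e⟩
  · obtain ⟨W, h1, h3, h4⟩ := c.i1 _ hA.1 hH
    obtain rfl := card_eq_of_le hl (by rw [h.1, hV.1])
    obtain rfl := card_eq_of_le h3 (by rw [h.1, h1.1])
    exact absurd (fusN c hV) h4
  rcases d8_klein_eq h hV hl with rfl | rfl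
  exacts [main c hS hD h7 h2 h e hA hH, main c hS hD h7 h2 (d8_swap h) e hA hH]

end Cfsg.GW.G1
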