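import Cfsg.Agent.GW.DLb
import Cfsg.Agent.Grp.PPart

/-! The Brauer-Suzuki-Wall configuration modulo `N`: elementary facts. -/

set_option autoImplicit false
set_option linter.style.haveILetI false
set_option linter.unusedSectionVars false

namespace Cfsg.GW.GB

open Subgroup Cfsg.FT Cfsg.Gag Cfsg.GW.DL

universe u

variable {G : Type u} [Group G] [Finite G] {H N A : Subgroup G} {t σ s g x u v : G}
  (h : GB H N A t σ)
include h

theorem tt : t * t = 1 := by rw [← sq, ← h.ot, pow_orderOf_eq_one]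

theorem t_ne : t ≠ 1 := fun e => by have := h.ot; rw [e, orderOf_one] at this; omega

theorem σH : σ ∈ H := zpowers_le.1 h.syl.le

theorem tH : t ∈ H := h.syl.le h.tσ

theorem mul_mem_iff (hx : x ∈ 𝐂₁[t]) (hg : g ∈ 𝐂₁[t]) : x * g ∈ H ↔ (x ∈ H ↔ g ∈ H) :=
  mul_mem_iff_of_index_two (H := H.subgroupOf 𝐂₁[t]) h.idx (a := ⟨x, hx⟩) (b := ⟨g, hg⟩)

theorem normal : H ⊴ 𝐂₁[t] := normalIn_iff.2 ⟨h.le, normal_of_index_eq_two h.idx⟩

theorem NH' : N ⊴ H := normalS h.NH h.le h.nrm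

theorem exists_s : ∃ s ∈ 𝐂₁[t], s ∉ H := SetLike.not_le_iff_exists.1 fun e => by
  have := h.idx
  rw [relIndex_eq_one.2 e] at this
  omega

theorem card_C : Nat.card 𝐂₁[t] = 2 * Nat.card H := by
  rw [← card_mul_relIndex h.le, h.idx, mul_comm]

theorem σ_normal : ⟪σ⟫ ⊴ H := ⟨h.syl.le, norms_cycle h.cen⟩

theorem two_mem (hx : x ∈ H) (ho : ∃ k, orderOf x = 2 ^ k) : x ∈ ⟪σ⟫ :=
  zpowers_le.1 (sub_normal_Sylow h.syl h.σ_normal (zpowers_le.2 hx) (isPGroup_zpowers_iff.2 ho))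

theorem eq_t (hx : x ∈ H) (ho : orderOf x = 2) : x = t := by
  have h1 := (Ohm1_cyclic_eq (p := 2) inferInstance (zpowers_le.2 (h.two_mem hx ⟨1, ho⟩))
    ((Nat.card_zpowers x).trans ho)).symm.trans (Ohm1_cyclic_eq inferInstance (zpowers_le.2 h.tσ)
    ((Nat.card_zpowers t).trans h.ot))
  exact (mem_cycle2 h.tt (h1 ▸ mem_zpowers x)).resolve_left fun e => by simp [e] at ho

theorem not_mem (ho : 2 ∣ orderOf x) : x ∉ N := fun hx => (odd_mem h.odd hx).not_two_dvd_nat ho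

theorem mem_of_odd (hx : x ∈ 𝐂₁[t]) (ho : ¬ 2 ∣ orderOf x) : x ∈ H :=
  (piElt_compl.2 ho).mem_of_relIndex h.normal.norm hx (by
    rw [h.idx, compl_compl]; exact (piNat_prime Nat.prime_two).2 rfl)

theorem pnil_t : PNil 2 𝐂₁[t] := PNil.of_normal h.normal (Burnside_normal_complement h.syl
  (inf_le_left.trans (h.cen.trans (cent_cycle σ).ge))) (by rw [h.idx]; exact (piNat_prime Nat.prime_two).2 rfl)

theorem pnil (ho : ∃ k, orderOf u = 2 ^ k) (h1 : u ≠ 1) : HasNormalPComplement 2 𝐂₁[u] := by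
  obtain ⟨z, hz, oz⟩ := exists_order_p (isPGroup_zpowers_iff.2 ho) (ne_bot_of_mem (mem_zpowers u) h1)
  obtain ⟨y, rfl⟩ := isConj_iff.1 (h.conj t z h.ot oz)
  exact pNil_iff.1 ((cent1_conj y t ▸ h.pnil_t.conj y).mono (cent1_le_cent1_of_mem hz))

theorem mem_of_pPart (h1 : pPart 2 g ∈ H) (h2 : pPart 2 g ≠ 1) : g ∈ H := by
  have h3 := h.not_mem ((pPart_ne_one_iff (p := 2)).1 (by rwa [pPart_pPart]) : 2 ∣ orderOf (pPart 2 g))
  have h4 : pRegPart 2 g * pPart 2 g * (pRegPart 2 g)⁻¹ = pPart 2 g :=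
    mul_inv_eq_iff_eq_mul.2 (commute_pPart_pRegPart 2 g).symm
  exact pPart_mul_pRegPart 2 g ▸ mul_mem h1 (h.mem_of_odd
    (h.ti _ h1 h3 _ (h4.symm ▸ h1) (h4.symm ▸ h3)) (not_dvd_orderOf_pRegPart g))

theorem comm_mem (hx : x ∈ H) (hg : g ∈ H) : (x * g)⁻¹ * (g * x) ∈ N := by
  have h1 : IsMulCommutative (H ⁄ N) := by
    rw [← h.sup, quotientYidr ((le_sup_left.trans h.sup.le).trans h.NH'.norm)]
    exact quotient_abelian N h.ab
  simpa [mul_assoc] using commg_le_iff.1 ((quotient_abelian_iff h.NH'.norm).1 h1) _ (inv_mem hg) _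
    (inv_mem hx)

theorem sum_eq [Fintype G] [Fintype H] (hs : s ∈ 𝐂₁[t]) (sH : s ∉ H) (F : G → ℂ)
    (hF : ∀ g, g ∉ 𝐂₁[t] → F g = 0) : ∑ g, F g = ∑ k : H, F k + ∑ k : H, F (k * s) := by
  have inj : Function.Injective (Sum.elim (fun k : H => (k : G)) fun k : H => (k : G) * s) := by
    rintro (a | a) (b | b) e
    · exact congrArg _ (Subtype.ext e)
    · exact absurd ((H.mul_mem_cancel_left b.2).1 ((show (a : G) = b * s from e) ▸ a.2)) sH
    · exact absurd ((H.mul_mem_cancel_left a.2).1 ((show (b : G) = a * s from e.symm) ▸ b.2)) sH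
    · exact congrArg _ (Subtype.ext (mul_right_cancel e))
  rw [← Fintype.sum_of_injective _ inj (fun i => F _) F (fun g hg => hF g fun hc => hg ?_)
    fun _ => rfl, Fintype.sum_sum_type]
  · rfl
  by_cases gH : g ∈ H
  · exact ⟨.inl ⟨g, gH⟩, rfl⟩
  · exact ⟨.inr ⟨g * s⁻¹, (h.mul_mem_iff hc (inv_mem hs)).2 (by simp [gH, sH])⟩, by simp⟩

/-- the involutions of `C(t)` outside `H` -/
def J (H : Subgroup G) (t : G) : Set G := {s : G | s ∈ 𝐂₁[t] ∧ s ∉ H ∧ s * s = 1}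

theorem J_conj (hu : u ∈ J H t) : IsConj t u := h.conj t u h.ot
  (orderOf_eq_prime ((sq u).trans hu.2.2) fun e => hu.2.1 (e ▸ one_mem H))

theorem J_mul (hu : u ∈ J H t) (hv : v ∈ J H t) : u * v ∈ H :=
  (h.mul_mem_iff hu.1 hv.1).2 (by simp [hu.2.1, hv.2.1])

theorem pair (hu : IsConj t u) (hv : IsConj t v) (h1 : u * v ∈ H) (h2 : u * v ∉ N) :
    u ∈ J H t ∧ v ∈ J H t := by
  have o : ∀ {u}, IsConj t u → orderOf u = 2 := fun hu => by
    obtain ⟨y, rfl⟩ := isConj_iff.1 hu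
    exact ((MulAut.conj y).orderOf_eq t).trans h.ot
  have q : ∀ {u}, IsConj t u → u * u = 1 := fun hu => by rw [← sq, ← o hu, pow_orderOf_eq_one]
  have h3 : u * (u * v) * u⁻¹ = (u * v)⁻¹ := by
    rw [← mul_assoc, q hu, one_mul, mul_inv_rev, inv_eq_of_mul_eq_one_right (q hv)]
  have h4 := h.ti _ h1 h2 u (h3 ▸ inv_mem h1) (h3 ▸ mt inv_mem_iff.1 h2)
  have h5 : u ∉ H := fun e => h2 (by
    rw [h.eq_t e (o hu), h.eq_t ((H.mul_mem_cancel_left e).1 h1) (o hv), h.tt]; exact one_mem N)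
  exact ⟨⟨h4, h5, q hu⟩, (mul_mem_cancel_left h4).1 (h.le h1),
    fun e => h5 ((H.mul_mem_cancel_right e).1 h1), q hv⟩

theorem J_σ : σ * u ∈ J H t ↔ u ∈ J H t := by
  have h1 := h.le h.σH
  refine and_congr_right_iff.2 (fun hu => ?_) |>.trans (and_congr_left' (mul_mem_cancel_left h1))
  replace hu := (mul_mem_cancel_left h1).1 hu
  rw [H.mul_mem_cancel_left h.σH]
  refine and_congr_right fun e => ?_
  rw [show σ * u * (σ * u) = σ * (u * σ * u⁻¹) * (u * u) by group, h.invσ u hu e, mul_inv_cancel,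
    one_mul]

theorem J_conj_iff (hx : x ∈ H) : x * u * x⁻¹ ∈ J H t ↔ u ∈ J H t :=
  and_congr (memJ_norm (normG _ (h.le hx))) (and_congr (memJ_norm (normG _ hx)).not (by
    rw [show x * u * x⁻¹ * (x * u * x⁻¹) = x * (u * u) * x⁻¹ by group, conj_eq_one_iff]))

end Cfsg.GW.GB
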