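import Cfsg.Agent.Blk.Principal
import Cfsg.Agent.CT.Kernel
import Mathlib.GroupTheory.FiniteAbelian.Duality

/-! Character theoretic lemmas for the Brauer-Suzuki-Wall configuration modulo `N`. -/

set_option autoImplicit false
set_option linter.style.haveILetI false

namespace Cfsg.GW

open Subgroup
open scoped ComplexConjugate

universe u

variable {G : Type u} [Group G]

open Classical in
/-- a class function constant on `p`-sections and vanishing on the `p`-regular elements lies in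
the principal block if the centralizers of the `p`-elements are `p`-nilpotent -/
theorem inner_eq_zero_of_section [Fintype G] {p : ℕ} {M : Ideal AlgInt} (hM : IsPModular p M)
    (hc : ∀ u : G, (∃ k, orderOf u = p ^ k) → u ≠ 1 → HasNormalPComplement p (centralizer {u}))
    {W : G → ℂ} (hW : IsClassFunction G W) (h1 : ∀ g, W g = W (pPart p g)) (h0 : W 1 = 0)
    {χ : IrrCharacter G} (hχ : χ ∉ principalBlock M G) : classInner W χ.1 = 0 := by
  have := hM.fact_prime
  have := Fintype.ofFinite (ConjClasses G)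
  rw [classInner_def, ← Finset.sum_fiberwise _ fun g => ConjClasses.mk (pPart p g),
    Finset.sum_eq_zero fun k _ => ?_, mul_zero]
  by_cases h : ∀ g, ConjClasses.mk (pPart p g) = k → W g = 0
  · exact Finset.sum_eq_zero fun g hg => by rw [h g (Finset.mem_filter.1 hg).2, zero_mul]
  push Not at h
  obtain ⟨g, rfl, hg⟩ := h
  set u := pPart p g
  have hu : ∃ k, orderOf u = p ^ k := exists_orderOf_pPart g
  have h2 := hc u hu fun e => hg (by rw [h1, ← h0, ← e])
  have h3 : ∑ x, (∑ ψ ∈ irrFinset (principalBlock M G), ψ.1 x * conj (ψ.1 u)) * conj (χ.1 x) = 0 := by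
    simp only [Finset.sum_mul]
    rw [Finset.sum_comm]
    refine Finset.sum_eq_zero fun ψ hψ => ?_
    have := IrrCharacter.classInner_of_ne fun e : ψ = χ => hχ (e ▸ mem_irrFinset.1 hψ)
    rw [classInner_def, mul_eq_zero, inv_eq_zero, Nat.cast_eq_zero, or_iff_right Nat.card_pos.ne']
      at this
    simp only [mul_right_comm, ← Finset.sum_mul, this, zero_mul]
  rw [← Finset.sum_filter_of_ne (p := fun x => ConjClasses.mk (pPart p x) = .mk u) fun x _ hx => by
    by_contra e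
    exact hx (by rw [isPBlock_principalBlock.sum_mul_conj_eq_zero hM (by
      rwa [pPart_eq_self_iff.2 hu, ← ConjClasses.mk_eq_mk_iff_isConj]), zero_mul]),
    Finset.sum_congr rfl fun x hx => by
      rw [Finset.sum_congr rfl fun ψ hψ => by
        rw [hM.apply_eq_of_hasNormalPComplement rfl h2 (mem_irrFinset.1 hψ)
          (ConjClasses.mk_eq_mk_iff_isConj.1 (Finset.mem_filter.1 hx).2).symm],
        hM.sum_principalBlock_mul_conj_of_hasNormalPComplement hu rfl h2],
    ← Finset.mul_sum, mul_eq_zero, Nat.cast_eq_zero, or_iff_right (pow_pos hM.1.pos _).ne'] at h3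
  rw [Finset.sum_congr rfl fun x hx => by
    rw [h1, hW.eq_of_isConj (ConjClasses.mk_eq_mk_iff_isConj.1 (Finset.mem_filter.1 hx).2)],
    ← Finset.mul_sum, h3, mul_zero]

open scoped IsMulCommutative in
/-- a generalized character of an abelian group vanishing outside a subgroup -/
theorem dvd_of_vanish [Finite G] [IsMulCommutative G] (K : Subgroup G) {f : G → ℂ}
    (hf : IsGeneralizedCharacter G f) (h0 : ∀ x, x ∉ K → f x = 0) {z : ℤ} (h1 : f 1 = z) :
    (K.index : ℤ) ∣ z := by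
  classical
  have := Fintype.ofFinite G
  have h2 : ∀ β : IrrCharacter K, ∃ m : ℤ, classInner (fun x : K => f x) β.1 * β.1 1 =
      K.index * m := fun β => by
    obtain ⟨b, rfl⟩ := (IrrCharacter.equivHomOfComm K).surjective β
    obtain ⟨a, rfl⟩ := MonoidHom.domRestrict_surjective (M := ℂ) K b
    obtain ⟨m, hm⟩ := hf.exists_classInner_eq_int
      (IrrCharacter.ofHom a).isCharacter.isGeneralizedCharacter
    refine ⟨m, ?_⟩
    rw [← hm, classInner_def, classInner_def, ← Fintype.sum_of_injective _ K.subtype_injective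
      (fun x : K => f x * conj ((IrrCharacter.ofHom a).1 x)) _
      (fun x hx => by rw [h0 x fun e => hx ⟨⟨x, e⟩, rfl⟩, zero_mul]) fun _ => rfl, ← K.card_mul_index]
    have : (K.index : ℂ) ≠ 0 := Nat.cast_ne_zero.2 index_ne_zero_of_finite
    simp [field]
  choose m hm using h2
  have h3 := (hf.isClassFunction.res K).eq_sum_irr 1
  simp only [hm, ← Finset.mul_sum] at h3
  exact ⟨∑ β, m β, by exact_mod_cast h1.symm.trans h3⟩

theorem gb_arith {U R k B C : ℤ} (hU : U ≤ 4) (hR : 0 ≤ R) (k0 : k ≠ 0)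
    (h : U + k ^ 2 * (2 + 2 + 2 * 1) + 2 * k * (0 + 0) = (3 * k) ^ 2 + B ^ 2 + C ^ 2 + R)
    (h' : 3 * k + B + C = 0 + k * (1 + 1)) : R = 0 := by
  have h1 := sq_pos_of_ne_zero k0
  have h6 : 1 ≤ B ^ 2 + C ^ 2 := by
    by_contra e
    obtain rfl : B = 0 := by nlinarith [sq_nonneg C]
    obtain rfl : C = 0 := by nlinarith
    omega
  nlinarith

theorem gb_comb {ι : Type*} {s : Finset ι} {u v v' w d : ι → ℤ} {a b c : ι}
    (hw : ∀ i ∈ s, w i = 0 ∨ w i = 1 ∨ w i = -1) (a1 : w a ^ 2 = 1)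
    (hF : ∀ F : ι → ℤ, ∑ i ∈ s, w i * F i = w a * F a + w b * F b + w c * F c)
    (va : v a = w a) (va' : v' a = w a) (hbc : w b * d b = w c * d c)
    (hu : ∑ i ∈ s, u i ^ 2 ≤ 4) (hv : ∑ i ∈ s, v i ^ 2 = 2) (hv' : ∑ i ∈ s, v' i ^ 2 = 2)
    (hvv : ∑ i ∈ s, v i * v' i = 1) (huv : ∑ i ∈ s, u i * v i = 0)
    (huv' : ∑ i ∈ s, u i * v' i = 0) (huw : ∑ i ∈ s, u i * w i = 0)
    (hvw : ∑ i ∈ s, v i * w i = 1) (hvw' : ∑ i ∈ s, v' i * w i = 1)
    (hud : ∑ i ∈ s, u i * d i = 0) (hvd : ∑ i ∈ s, v i * d i = -1)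
    (hvd' : ∑ i ∈ s, v' i * d i = -1) (hwd : ∑ i ∈ s, w i * d i = -1) : u a = 0 := by
  obtain ⟨k, hk⟩ : ∃ k, k = w a * u a := ⟨_, rfl⟩
  obtain ⟨y, hy⟩ : ∃ y : ι → ℤ, ∀ i, y i = u i + k * (v i + v' i) := ⟨_, fun _ => rfl⟩
  have lin : ∀ F : ι → ℤ, ∑ i ∈ s, y i * F i =
      ∑ i ∈ s, u i * F i + k * (∑ i ∈ s, v i * F i + ∑ i ∈ s, v' i * F i) := fun F => by
    simp only [hy, ← Finset.sum_add_distrib, Finset.mul_sum]
    exact Finset.sum_congr rfl fun i _ => by ring
  have h1 : ∑ i ∈ s, y i ^ 2 = ∑ i ∈ s, u i ^ 2 + k ^ 2 * (∑ i ∈ s, v i ^ 2 + ∑ i ∈ s, v' i ^ 2 +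
      2 * ∑ i ∈ s, v i * v' i) + 2 * k * (∑ i ∈ s, u i * v i + ∑ i ∈ s, u i * v' i) := by
    simp only [hy, ← Finset.sum_add_distrib, Finset.mul_sum]
    exact Finset.sum_congr rfl fun i _ => by ring
  have h2 : ∑ i ∈ s, y i ^ 2 = ∑ i ∈ s, w i * (w i * y i ^ 2) + ∑ i ∈ s, (1 - w i ^ 2) * y i ^ 2 := by
    rw [← Finset.sum_add_distrib]
    exact Finset.sum_congr rfl fun i _ => by ring
  have h3 : ∀ i ∈ s, 0 ≤ (1 - w i ^ 2) * y i ^ 2 := fun i hi => by
    rcases hw i hi with h | h | h <;> simp [h, sq_nonneg]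
  have h4 := Finset.sum_nonneg h3
  have h5 := lin w
  have ya : w a * y a = 3 * k := by rw [hy, va, va', hk]; linear_combination 2 * w a * u a * a1
  rw [Finset.sum_congr rfl fun i _ => mul_comm (y i) (w i), hF, huw, hvw, hvw', ya] at h5
  have sq' : ∀ i, w i * (w i * y i ^ 2) = (w i * y i) ^ 2 := fun i => by ring
  rw [h1, hF, hv, hv', hvv, huv, huv', sq', sq', sq', ya] at h2
  by_contra h0
  have k0 : k ≠ 0 := hk ▸ mul_ne_zero (by rintro e; simp [e] at a1) h0
  have h7 := (Finset.sum_eq_zero_iff_of_nonneg h3).1 (gb_arith hu h4 k0 h2 h5)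
  have h8 := lin d
  rw [Finset.sum_congr rfl (g := fun i => w i * (w i * y i * d i)) fun i hi => by
    have := h7 i hi
    rcases hw i hi with h | h | h <;> simp [h] at this ⊢
    exact .inl this, hF, hud, hvd, hvd', ya] at h8
  rw [hF] at hwd
  have h9 : k * (7 * (w b * d b) + 1) = 0 := by
    linear_combination -h8 + 3 * k * hwd + (w b * d b) * h5 + (3 * k - w c * y c) * hbc
  have := (mul_eq_zero.1 h9).resolve_left k0
  omega

end Cfsg.GW
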