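import Cfsg.Agent.GW.GBa
import Cfsg.Agent.GW.GBb
import Cfsg.Agent.CT.ClassSum

/-! The Brauer-Suzuki-Wall configuration modulo `N`: induction and counting. -/

set_option autoImplicit false
set_option linter.style.haveILetI false
set_option linter.unusedSectionVars false

namespace Cfsg.GW.GB

open Subgroup Cfsg.FT Cfsg.Gag Cfsg.GW.DL
open scoped ComplexConjugate

universe u

variable {G : Type u} [Group G] [Fintype G] {H N A : Subgroup G} {t σ s g v : G}
  (h : GB H N A t σ)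
include h

/-- conjugation by an element of `C(t)` -/
def cj (hs : s ∈ 𝐂₁[t]) : MulAut H := H.normalizerMonoidHom ⟨s, h.normal.norm hs⟩

theorem coe_cj (hs : s ∈ 𝐂₁[t]) (x : H) : (h.cj hs x : G) = s * x * s⁻¹ := rfl

theorem ind_apply (hs : s ∈ 𝐂₁[t]) (sH : s ∉ H) {φ : H → ℂ} (hφ : IsClassFunction H φ)
    (h0 : ∀ x : H, x.1 ∈ N → φ x = 0) (x : H) (hx : x.1 ∉ N) :
    indFun H φ x = φ x + φ (h.cj hs x) := by
  have := Fintype.ofFinite H
  rw [indFun_apply', h.sum_eq hs sH _ fun g hg => by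
    by_cases e : g * x * g⁻¹ ∈ H
    · rw [extendByZero_of_mem _ _ e]
      exact h0 _ (by_contra fun e' => hg (h.ti x x.2 hx g e e'))
    · exact extendByZero_of_not_mem _ _ e]
  have e1 : ∀ k y : H, extendByZero H φ ((k : G) * y * (k : G)⁻¹) = φ y := fun k y =>
    (extendByZero_coe H φ (k * y * k⁻¹)).trans (hφ y k)
  have e2 : ∀ k : H, (k : G) * s * x * ((k : G) * s)⁻¹ = k * h.cj hs x * (k : G)⁻¹ := fun k => by
    rw [coe_cj]; group
  simp only [e1, e2, Finset.sum_const, Finset.card_univ, ← Nat.card_eq_fintype_card, nsmul_eq_mul]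
  rw [← mul_add, inv_mul_cancel_left₀ (Nat.cast_ne_zero.2 Nat.card_pos.ne')]

theorem inner_ind [Fintype H] (hs : s ∈ 𝐂₁[t]) (sH : s ∉ H) {φ ψ : H → ℂ}
    (hψ : IsClassFunction H ψ) (h0 : ∀ x : H, x.1 ∈ N → φ x = 0) (h1 : ∀ x : H, x.1 ∈ N → ψ x = 0) :
    classInner (indFun H φ) (indFun H ψ) =
      classInner φ ψ + classInner φ fun x => ψ (h.cj hs x) := by
  rw [classInner_indFun_left _ _ (indFun_isClassFunction _ _), ← classInner_add_right,
    classInner_def, classInner_def]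
  congr 1
  refine Finset.sum_congr rfl fun x _ => ?_
  by_cases hx : x.1 ∈ N
  · simp [h0 x hx]
  · rw [h.ind_apply hs sH hψ h1 x hx]; rfl

open Classical in
theorem pairs_sum [Fintype H] {φ : H → ℂ} (h0 : ∀ x : H, x.1 ∈ N → φ x = 0) :
    ∑ x : H, φ x * (Nat.card {p : G × G // IsConj t p.1 ∧ IsConj t p.2 ∧ p.1 * p.2 = x} : ℂ) =
      ∑ v ∈ (J H t).toFinset, ∑ u ∈ (J H t).toFinset, extendByZero H φ (u * v) := by
  rw [← Finset.sum_product_right' (f := fun u v => extendByZero H φ (u * v)),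
    Finset.sum_congr rfl (g := fun x : H => ∑ p ∈ (J H t).toFinset ×ˢ (J H t).toFinset,
      if p.1 * p.2 = x then φ x else 0) fun x _ => ?_, Finset.sum_comm]
  · refine Finset.sum_congr rfl fun p hp => ?_
    simp only [Finset.mem_product, Set.mem_toFinset] at hp
    have h1 := h.J_mul hp.1 hp.2
    rw [extendByZero_of_mem _ _ h1, Finset.sum_eq_single ⟨_, h1⟩
      (fun x _ e => if_neg fun e' => e (Subtype.ext e'.symm)) (by simp), if_pos rfl]
  by_cases hx : x.1 ∈ N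
  · simp [h0 x hx]
  rw [← Finset.sum_filter, Finset.sum_const, nsmul_eq_mul, mul_comm, Nat.card_eq_fintype_card,
    Fintype.card_subtype]
  congr 3
  ext p
  simp only [Finset.mem_filter, Finset.mem_univ, true_and, Finset.mem_product, Set.mem_toFinset]
  exact ⟨fun e => ⟨h.pair e.1 e.2.1 (e.2.2 ▸ x.2) (e.2.2 ▸ hx), e.2.2⟩,
    fun e => ⟨h.J_conj e.1.1, h.J_conj e.1.2, e.2⟩⟩

omit h in
theorem hom_odd {l : H →* ℂˣ} (hl : l * l = 1) {x : H} (hx : ¬ 2 ∣ orderOf x) : l x = 1 :=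
  orderOf_eq_one_iff.1 (Nat.eq_one_of_dvd_coprimes (Nat.prime_two.coprime_iff_not_dvd.2 hx)
    (orderOf_dvd_of_pow_eq_one ((sq _).trans (DFunLike.congr_fun hl x))) (orderOf_map_dvd l x))

omit h in
theorem hom_pPart {l : H →* ℂˣ} (hl : l * l = 1) (x : H) : l (pPart 2 x) = l x := by
  conv_rhs => rw [← pPart_mul_pRegPart 2 x, map_mul, hom_odd hl (not_dvd_orderOf_pRegPart x), mul_one]

theorem hom_eq_one {l : H →* ℂˣ} (hl : l * l = 1) (h1 : l ⟨σ, h.σH⟩ = 1) : l = 1 :=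
  MonoidHom.ext fun x => by
    obtain ⟨k, hk⟩ := h.two_mem (pPart 2 x).2 (by rw [coe_pPart]; exact exists_orderOf_pPart _)
    rw [← hom_pPart hl, show pPart 2 x = ⟨σ, h.σH⟩ ^ k from Subtype.ext hk.symm, map_zpow, h1,
      one_zpow, MonoidHom.one_apply]

open Classical in
theorem J_sum {l : H →* ℂˣ} (hN : ∀ x : H, x.1 ∈ N → l x = 1) (hl : l ≠ 1) (hv : v ∈ J H t) :
    ∑ u ∈ (J H t).toFinset, extendByZero H (fun x => (l x : ℂ)) (u * v) = 0 := by
  have key : ∀ (e : G ≃ G) (c : ℂˣ), c ≠ 1 → (∀ u, e u ∈ J H t ↔ u ∈ J H t) →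
      (∀ u ∈ J H t, ∃ a : H, l a = c ∧ e u = a * u) →
      ∑ u ∈ (J H t).toFinset, extendByZero H (fun x => (l x : ℂ)) (u * v) = 0 := fun e c c1 h1 h2 => by
    have := Finset.sum_equiv (s := (J H t).toFinset) (t := (J H t).toFinset) e
      (f := fun u => c * extendByZero H (fun x => (l x : ℂ)) (u * v))
      (g := fun u => extendByZero H (fun x => (l x : ℂ)) (u * v)) (by simp [h1]) fun u hu => by
        obtain ⟨a, rfl, h3⟩ := h2 u (Set.mem_toFinset.1 hu)
        have h4 := h.J_mul (Set.mem_toFinset.1 hu) hv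
        rw [h3, mul_assoc, extendByZero_of_mem _ _ h4, extendByZero_of_mem _ _ (mul_mem a.2 h4),
          ← Units.val_mul, ← map_mul]
        rfl
    rw [← Finset.mul_sum] at this
    exact (mul_left_eq_self₀.1 this).resolve_left fun e => c1 (Units.val_eq_one.1 e)
  by_cases h1 : l ⟨σ, h.σH⟩ = 1
  · obtain ⟨x, hx⟩ := DFunLike.ne_iff.1 fun e => hl (h.hom_eq_one e h1)
    refine key (MulAut.conj x.1).toEquiv _ hx (fun u => h.J_conj_iff x.2) fun u hu =>
      ⟨x * h.cj hu.1 x⁻¹, ?_, by simp [coe_cj, mul_assoc]⟩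
    have := hN (h.cj hu.1 x⁻¹ * x⁻¹) (h.inv u hu.1 hu.2.1 _ (inv_mem x.2))
    rw [map_mul, map_inv l x, mul_inv_eq_one] at this
    rw [map_mul, this]
    rfl
  · exact key (Equiv.mulLeft σ) _ h1 (fun u => h.J_σ) fun u _ => ⟨_, rfl, rfl⟩

theorem ind_pPart {l : H →* ℂˣ} (hl : l * l = 1) (g : G) :
    indFun H (fun x => 1 - (l x : ℂ)) g = indFun H (fun x => 1 - (l x : ℂ)) (pPart 2 g) := by
  rw [indFun_apply', indFun_apply']
  congr 1
  refine Finset.sum_congr rfl fun y _ => ?_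
  rw [← pPart_conj]
  generalize y * g * y⁻¹ = x
  by_cases hx : x ∈ H
  · rw [extendByZero_of_mem _ _ hx, ← hom_pPart hl, ← extendByZero_coe H fun x => 1 - (l x : ℂ),
      coe_pPart]
  rw [extendByZero_of_not_mem _ _ hx]
  by_cases h1 : pPart 2 x = 1
  · rw [h1, extendByZero_of_mem _ _ (one_mem H)]
    exact (sub_eq_zero.2 (congrArg Units.val (map_one l)).symm).symm
  · exact (extendByZero_of_not_mem _ _ fun e => hx (h.mem_of_pPart e h1)).symm

theorem commutator_eq [IsSimpleGroup G] : commutator G = ⊤ := by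
  refine (Subgroup.Normal.eq_bot_or_eq_top inferInstance).resolve_left fun e => ?_
  have h1 : IsMulCommutative G := (_root_.commutator_eq_bot_iff (G := G)).1 e
  obtain ⟨s, -, hs⟩ := h.exists_s
  have h2 : H.Normal := ⟨fun a ha g => by rwa [mul_comm' g, mul_inv_cancel_right]⟩
  exact hs ((h2.eq_bot_or_eq_top.resolve_left (ne_bot_of_mem h.tH h.t_ne)).ge (mem_top s))

end Cfsg.GW.GB
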