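import Cfsg.Agent.GW.BSWh
import Cfsg.Agent.Grp.PSL2Rec

/-! `PSL₂(q)`, `q` odd, has the Brauer-Suzuki-Wall configuration with cyclic `K`. -/

set_option autoImplicit false
set_option linter.unusedSectionVars false

namespace Cfsg.GW

open Subgroup Cfsg.FT Cfsg.Acd.DD Polynomial
open scoped Pointwise MatrixGroups

universe u

namespace L2

variable {F : Type*} [Field F] {A B : SL(2, F)}

theorem ext2 : A = B ↔ A 0 0 = B 0 0 ∧ A 0 1 = B 0 1 ∧ A 1 0 = B 1 0 ∧ A 1 1 = B 1 1 :=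
  ⟨fun h => by simp [h], fun h => by ext i j; fin_cases i <;> fin_cases j <;> simp [h]⟩

theorem mul2 (i j : Fin 2) : (A * B) i j = A i 0 * B 0 j + A i 1 * B 1 j := by
  simp [Matrix.mul_apply]

theorem neg2 (i j : Fin 2) : (-A) i j = -A i j := rfl

theorem det2 (A : SL(2, F)) : A 0 0 * A 1 1 - A 0 1 * A 1 0 = 1 := by
  rw [← Matrix.det_fin_two]; exact A.2

/-- the element of order four -/
def T (F : Type*) [Field F] : SL(2, F) := mobMk 0 (-1) 1 0 (by simp)

theorem mem_C : A ∈ 𝐂₁[T F] ↔ A 1 1 = A 0 0 ∧ A 0 1 = -A 1 0 := by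
  simp only [mem_cent1, ext2, mul2, T, mobMk_00, mobMk_01, mobMk_10, mobMk_11]
  exact ⟨fun h => ⟨by linear_combination h.2.2.1, by linear_combination h.1⟩, fun h => by simp [h]⟩

theorem cyc [Finite F] (h2 : (2 : F) ≠ 0) : IsCyclic 𝐂₁[T F] := by
  obtain ⟨i, hi⟩ := IsAlgClosed.exists_pow_nat_eq (-1 : AlgebraicClosure F) two_pos
  let φ := algebraMap F (AlgebraicClosure F)
  refine isCyclic_of_injective_ringHom (R := AlgebraicClosure F)
    ⟨⟨fun A => φ (A.1 0 0) + φ (A.1 1 0) * i, by simp⟩, fun A B => ?_⟩ fun A B e => ?_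
  · simp only [Subgroup.coe_mul, mul2, (mem_C.1 A.2).1, (mem_C.1 A.2).2, map_add, map_mul, map_neg]
    linear_combination -(φ (A.1 1 0) * φ (B.1 1 0)) * hi
  obtain ⟨a1, a2⟩ := mem_C.1 A.2
  obtain ⟨b1, b2⟩ := mem_C.1 B.2
  have a := congrArg φ (det2 A.1)
  have b := congrArg φ (det2 B.1)
  simp only [a1, a2, b1, b2, map_sub, map_mul, map_neg, map_one, MonoidHom.coe_mk,
    OneHom.coe_mk] at a b e
  have t : φ 2 ≠ 0 := (map_ne_zero φ).2 h2
  rw [map_ofNat] at t
  have i0 : i ≠ 0 := by rintro rfl; simp at hi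
  have e' : φ (A.1 0 0) - φ (A.1 1 0) * i = φ (B.1 0 0) - φ (B.1 1 0) * i := by
    linear_combination (φ (A.1 0 0) - φ (A.1 1 0) * i) * (φ (B.1 0 0) - φ (B.1 1 0) * i) * (-e) +
      (φ (B.1 0 0) - φ (B.1 1 0) * i) * a - (φ (A.1 0 0) - φ (A.1 1 0) * i) * b +
      ((φ (A.1 0 0) - φ (A.1 1 0) * i) * φ (B.1 1 0) ^ 2 -
        (φ (B.1 0 0) - φ (B.1 1 0) * i) * φ (A.1 1 0) ^ 2) * hi
  have c1 := φ.injective (mul_left_cancel₀ t (show 2 * φ (A.1 0 0) = 2 * φ (B.1 0 0) by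
    linear_combination e + e'))
  have c2 := φ.injective (mul_left_cancel₀ (mul_ne_zero t i0)
    (show 2 * i * φ (A.1 1 0) = 2 * i * φ (B.1 1 0) by linear_combination e - e'))
  exact Subtype.ext (ext2.2 ⟨c1, by rw [a2, b2, c2], c2, by rw [a1, b1, c1]⟩)

theorem sq_add_sq [Fintype F] (h : Odd (Fintype.card F)) (c : F) : ∃ a b : F, a ^ 2 + b ^ 2 = c := by
  obtain ⟨a, b, e⟩ := FiniteField.exists_root_sum_quadratic (degree_X_pow (R := F) 2)
    (degree_X_pow_sub_C two_pos c) (Nat.odd_iff.1 h)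
  exact ⟨a, b, by simpa [← add_sub_assoc, sub_eq_zero] using e⟩

theorem conj_T [Fintype F] (h : Odd (Fintype.card F)) (h2 : (2 : F) ≠ 0) (e : A 1 1 = -A 0 0) :
    ∃ g : SL(2, F), A * g = g * T F := by
  have d := det2 A
  obtain ⟨x, y, hxy⟩ : ∃ x y : F, x * (A 1 0 * x + A 1 1 * y) - (A 0 0 * x + A 0 1 * y) * y = 1 := by
    by_cases c : A 1 0 = 0
    · have a : A 0 0 ≠ 0 := fun a => by simp [a, c] at d
      exact ⟨-(1 + A 0 1) / (2 * A 0 0), 1, by rw [c, e]; field_simp; ring⟩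
    · obtain ⟨u, y, h⟩ := sq_add_sq h (A 1 0)
      refine ⟨(u + A 0 0 * y) / A 1 0, y, ?_⟩
      rw [e] at d ⊢
      field_simp
      linear_combination h + y ^ 2 * d
  refine ⟨mobMk x _ y _ hxy, ?_⟩
  simp only [ext2, mul2, T, mobMk_00, mobMk_01, mobMk_10, mobMk_11]
  rw [e] at d ⊢
  exact ⟨by ring, by linear_combination -x * d, by ring, by linear_combination -y * d⟩

theorem trace_of_sq (e : A * A = 1 ∨ A * A = -1) : (A = 1 ∨ A = -1) ∨ A 1 1 = -A 0 0 := by
  refine or_iff_not_imp_right.2 fun c => ?_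
  have c' : A 0 0 + A 1 1 ≠ 0 := fun h => c (by linear_combination h)
  have d := det2 A
  have : A 0 1 * (A 0 0 + A 1 1) = 0 ∧ A 1 0 * (A 0 0 + A 1 1) = 0 ∧
      (A 0 0 - A 1 1) * (A 0 0 + A 1 1) = 0 := by
    rcases e with e | e <;> simp only [ext2, mul2, neg2] at e <;> simp at e <;>
      exact ⟨by linear_combination e.2.1, by linear_combination e.2.2.1,
        by linear_combination e.1 - e.2.2.2⟩
  simp only [mul_eq_zero, c', or_false, sub_eq_zero] at this
  obtain ⟨h1, h2, h3⟩ := this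
  rw [h1, ← h3, zero_mul, sub_zero, mul_self_eq_one_iff] at d
  rcases d with d | d <;> simp [ext2, neg2, h1, h2, ← h3, d]

theorem bswh [Fintype F] (h : Odd (Fintype.card F)) {G : Type*} [Group G] [Finite G]
    (π : SL(2, F) →* G)
    (hs : Function.Surjective π) (hk : ∀ A, π A = 1 ↔ A = 1 ∨ A = -1) :
    ∃ s, BSWH (𝐂₁[T F].map π) (π (T F)) s ∧ IsCyclic (𝐂₁[T F].map π) := by
  have h2 : (2 : F) ≠ 0 := Ring.two_ne_zero fun e =>
    absurd (Nat.odd_iff.1 h) (by rw [FiniteField.even_card_of_char_two e]; decide)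
  have hc := cyc (F := F) h2
  have he : ∀ A B, π A = π B ↔ A = B ∨ A = -B := fun A B => by
    rw [← mul_inv_eq_one, ← map_inv, ← map_mul, hk, mul_inv_eq_one, mul_inv_eq_iff_eq_mul,
      neg_mul, one_mul]
  obtain ⟨x, y, hxy⟩ := sq_add_sq h (-1)
  let S : SL(2, F) := mobMk x y y (-x) (by linear_combination -hxy)
  have inv : ∀ A ∈ 𝐂₁[T F], S * A * S * A = -1 := fun A hA => by
    have d := det2 A
    simp only [ext2, mul2, neg2, S, mobMk_00, mobMk_01, mobMk_10, mobMk_11, (mem_C.1 hA).1,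
      (mem_C.1 hA).2] at d ⊢
    simp
    exact ⟨by linear_combination (x ^ 2 + y ^ 2) * d + hxy, by ring, by ring,
      by linear_combination (x ^ 2 + y ^ 2) * d + hxy⟩
  have hT : ∀ A ∈ 𝐂₁[T F], A 1 1 = -A 0 0 → π A = π (T F) := fun A hA e => by
    obtain ⟨a, b⟩ := mem_C.1 hA
    have d := det2 A
    have z : A 0 0 = 0 := mul_left_cancel₀ h2 (by linear_combination e - a)
    rw [z, b, zero_mul, neg_mul, zero_sub, neg_neg, mul_self_eq_one_iff] at d
    rw [he]
    rcases d with d | d <;> simp [ext2, neg2, T, a, b, z, d]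
  have tt : π (T F) * π (T F) = 1 := by rw [← map_mul, hk]; simp [ext2, mul2, neg2, T]
  have t1 : π (T F) ≠ 1 := by rw [Ne, hk]; simp [ext2, neg2, T]
  have cj : ∀ a, orderOf a = 2 → IsConj (π (T F)) a := fun a o => by
    obtain ⟨A, rfl⟩ := hs a
    obtain ⟨g, e⟩ := conj_T h h2 ((trace_of_sq ((hk _).1 (by
      rw [map_mul, mul_self_eq_one_of_orderOf_two o]))).resolve_left fun e => by
        rw [(hk A).2 e] at o; simp at o)
    exact isConj_iff.2 ⟨π g, by rw [← map_mul, ← e, map_mul, mul_inv_cancel_right]⟩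
  refine ⟨π S, ⟨cyclic_abelian (cyclic_map π hc), ⟨_, cent1id _, rfl⟩, ord_two t1 tt, ?_, ?_, ?_,
    ?_, ?_, fun a b ha hb => (cj a ha).symm.trans (cj b hb)⟩, cyclic_map π hc⟩
  · rintro _ ⟨A, hA, rfl⟩ e
    exact (trace_of_sq ((hk _).1 (by rwa [map_mul]))).imp (hk A).2 (hT A hA)
  · rintro ⟨A, hA, e⟩
    obtain ⟨a, b⟩ := mem_C.1 hA
    have : x = 0 ∧ y = 0 := by
      rcases (he _ _).1 e with rfl | rfl <;>
        simp only [neg2, S, mobMk_00, mobMk_01, mobMk_10, mobMk_11] at a b <;>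
        exact ⟨mul_left_cancel₀ h2 (by first | linear_combination a | linear_combination -a),
          mul_left_cancel₀ h2 (by first | linear_combination b | linear_combination -b)⟩
    simp [this] at hxy
  · simpa [← map_mul] using (hk _).2 (Or.inr (inv 1 (one_mem _)))
  · rintro _ ⟨A, hA, rfl⟩
    rw [eq_inv_iff_mul_eq_one, ← map_mul, ← map_mul, ← map_mul]
    exact (hk _).2 (Or.inr (inv A hA))
  · rintro _ ⟨A, hA, rfl⟩ a1 g hg
    obtain ⟨g, rfl⟩ := hs g
    obtain ⟨a, b⟩ := mem_C.1 hA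
    have c : A 1 0 ≠ 0 := fun c => a1 ((hk A).2 (by
      have d := det2 A
      rw [c, a, mul_zero, sub_zero, mul_self_eq_one_iff] at d
      rcases d with d | d <;> simp [ext2, neg2, a, b, c, d]))
    rw [mem_cent1, ← map_mul, ← map_mul, he] at hg
    simp only [ext2, mul2, neg2, a, b] at hg
    rcases hg with e | e
    · exact mem_sup_left ⟨g, mem_C.2 ⟨mul_left_cancel₀ c (by linear_combination e.2.2.1),
        mul_left_cancel₀ c (by linear_combination e.1)⟩, rfl⟩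
    have z : A 0 0 = 0 := mul_left_cancel₀ h2 (mul_left_cancel₀ h2 (by
      linear_combination g 1 1 * e.1 - g 1 0 * e.2.1 - g 0 1 * e.2.2.1 + g 0 0 * e.2.2.2
        - 4 * A 0 0 * det2 g))
    rw [z] at e
    have u : g 1 1 = -g 0 0 := mul_left_cancel₀ c (by linear_combination e.2.2.1)
    have v : g 0 1 = g 1 0 := mul_left_cancel₀ c (by linear_combination e.1)
    rw [← mul_inv_cancel_right (π g) (π S)]
    refine mul_mem (mem_sup_left ⟨g * S, mem_C.2 ?_, map_mul _ _ _⟩)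
      (mem_sup_right (inv_mem (mem_zpowers _)))
    simp only [mul2, S, mobMk_00, mobMk_01, mobMk_10, mobMk_11, u, v]
    exact ⟨by ring, by ring⟩

end L2

theorem IsL2.bswh {G : Type u} [Group G] [Finite G] (h : IsL2 G) :
    ∃ (K : Subgroup G) (t s : G), BSWH K t s ∧ IsCyclic K := by
  obtain ⟨F, _, _, h, ⟨e⟩⟩ := h
  refine ⟨_, _, L2.bswh h (e.symm.toMonoidHom.comp (QuotientGroup.mk' _))
    (e.symm.surjective.comp (QuotientGroup.mk'_surjective _)) fun A => ?_⟩
  rw [MonoidHom.comp_apply, MulEquiv.coe_toMonoidHom, MulEquiv.map_eq_one_iff,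
    QuotientGroup.mk'_apply, QuotientGroup.eq_one_iff, Matrix.SpecialLinearGroup.mem_center_iff]
  refine ⟨fun ⟨r, hr, e⟩ => ?_, ?_⟩
  · rw [Fintype.card_fin, sq, mul_self_eq_one_iff] at hr
    rcases hr with rfl | rfl
    · exact Or.inl (Subtype.ext (by simpa using e.symm))
    · exact Or.inr (Subtype.ext (e.symm.trans (by rw [map_neg]; simp)))
  · rintro (rfl | rfl)
    · exact ⟨1, by simp, by simp⟩
    · exact ⟨-1, by simp, by rw [map_neg]; simp⟩

end Cfsg.GW
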