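import Cfsg.Agent.GW.Defs
import Cfsg.Agent.Gag.WC

/-!
# S4594, piece PFs: two commuting classes of `2`-elements and their signalizers
-/

set_option autoImplicit false
set_option linter.unusedSectionVars false

namespace Cfsg.GW.PFs

open Subgroup Cfsg.FT Cfsg.Gag
open scoped Pointwise

universe u

variable {G : Type u} [Group G] {P Q S T W X Y : Subgroup G} {𝒜 ℬ : Set G} {a b e g s t x y : G}

/-- the subgroup generated by the elements of `𝒜` in `X` -/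
def LL (𝒜 : Set G) (X : Subgroup G) : Subgroup G := closure (𝒜 ∩ X)

theorem LL_le : LL 𝒜 X ≤ Y ↔ ∀ x ∈ 𝒜, x ∈ X → x ∈ Y :=
  (closure_le _).trans ⟨fun h x h1 h2 => h ⟨h1, h2⟩, fun h x hx => h x hx.1 hx.2⟩

theorem mem_LL (h : x ∈ 𝒜) (h' : x ∈ X) : x ∈ LL 𝒜 X := subset_closure ⟨h, h'⟩

theorem le_LL (h : ∀ x ∈ S, x ∈ 𝒜) (h' : S ≤ X) : S ≤ LL 𝒜 X := fun x hx => mem_LL (h x hx) (h' hx)

theorem LL_sub (𝒜 : Set G) (X : Subgroup G) : LL 𝒜 X ≤ X := LL_le.2 fun _ _ h => h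

theorem LL_mono (h : X ≤ Y) : LL 𝒜 X ≤ LL 𝒜 Y := LL_le.2 fun _ h1 h2 => mem_LL h1 (h h2)

/-- invariance under conjugation -/
def CI (𝒜 : Set G) : Prop := ∀ x ∈ 𝒜, ∀ g : G, g * x * g⁻¹ ∈ 𝒜

theorem CI.conj_le (h : CI 𝒜) (g : G) : g •ᶜ LL 𝒜 X ≤ LL 𝒜 (g •ᶜ X) :=
  conj_le_iff.2 (LL_le.2 fun x h1 h2 => mem_conj.2 (by
    simpa using mem_LL (h x h1 g) (conj_mem_conj.2 h2)))

theorem CI.norms (h : CI 𝒜) (hY : Y ≤ 𝐍[X]) : Y ≤ 𝐍[LL 𝒜 X] := normsP''.2 fun g hg => by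
  simpa only [conj_eq_of_mem_norm (hY hg)] using h.conj_le (X := X) g

theorem CI.norm (h : CI 𝒜) (X : Subgroup G) : X ≤ 𝐍[LL 𝒜 X] := h.norms (normG X)

theorem CI.conj_eq (h : CI 𝒜) (g : G) : g •ᶜ LL 𝒜 X = LL 𝒜 (g •ᶜ X) :=
  (h.conj_le g).antisymm (le_conj_iff.2 (by
    simpa only [inv_conj_conj] using h.conj_le (X := g •ᶜ X) g⁻¹))

/-- elements acting trivially on `L_𝒜(C(b))` modulo `O(C(b))` -/
abbrev trr (𝒜 : Set G) (b : G) : Subgroup G := commStab (LL 𝒜 𝐂₁[b]) (oc b)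

/-- `Δ_T` -/
def Dl (𝒜 : Set G) (T : Subgroup G) : Subgroup G :=
  𝐂[T] ⊓ commStab (LL 𝒜 𝐂[T]) (core {2}ᶜ (LL 𝒜 𝐂[T]))

def db (𝒜 : Set G) (b a : G) : Subgroup G := ⁅oc a, ⟪b⟫⁆ ⊔ (oc a ⊓ 𝐂₁[b] ⊓ trr 𝒜 b)

def dT (𝒜 : Set G) (T : Subgroup G) (a : G) : Subgroup G := ⁅oc a, T⁆ ⊔ (oc a ⊓ Dl 𝒜 T)

theorem CI.norms_trr (h : CI 𝒜) (b : G) : 𝐂₁[b] ≤ 𝐍[trr 𝒜 b] :=
  norms_commStab (h.norm _) (oc_norm b)

theorem CI.norms_db (h : CI 𝒜) (ha : X ≤ 𝐍[oc a]) (hb : X ≤ 𝐂₁[b]) : X ≤ 𝐍[db 𝒜 b a] :=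
  normsY (normsR ha (norms_cycle hb)) (normsI (normsGI ha hb) (hb.trans (h.norms_trr b)))

theorem CI.db_conj_le [Finite G] (h : CI 𝒜) (g : G) :
    g •ᶜ db 𝒜 b a ≤ db 𝒜 (g * b * g⁻¹) (g * a * g⁻¹) := by
  rw [db, db, conj_sup, conj_commutator, conj_inf, conj_inf, conj_zpowers, trr, trr, oc_conj,
    oc_conj, cent1_conj, ← h.conj_eq]
  exact sup_le_sup_left (inf_le_inf_left _ (commStab_conj_le g)) _

/-- two commuting classes -/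
structure Pr (P : Subgroup G) (𝒜 ℬ : Set G) : Prop where
  ciA : CI 𝒜
  ciB : CI ℬ
  twoA : ∀ x ∈ 𝒜, IsPGroup 2 ⟪x⟫
  twoB : ∀ x ∈ ℬ, IsPGroup 2 ⟪x⟫
  comm : ∀ Q : Subgroup G, IsPGroup 2 Q → ∀ x ∈ Q, x ∈ 𝒜 → ∀ y ∈ Q, y ∈ ℬ → x * y = y * x
  pf : ∀ e ∈ P, e ≠ 1 → ⁅LL 𝒜 𝐂₁[e], LL ℬ 𝐂₁[e]⁆ ≤ oc e
  two : IsPGroup 2 P

theorem Pr.symm (c : Pr P 𝒜 ℬ) : Pr P ℬ 𝒜 :=
  ⟨c.ciB, c.ciA, c.twoB, c.twoA, fun Q h x hx h1 y hy h2 => (c.comm Q h y hy h2 x hx h1).symm,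
    fun e he h1 => commGC _ (LL ℬ _) ▸ c.pf e he h1, c.two⟩

/-- a subgroup of `P` consisting of elements of `ℬ` -/
structure In (P : Subgroup G) (ℬ : Set G) (T : Subgroup G) : Prop where
  le : T ≤ P
  mem : ∀ t ∈ T, t ∈ ℬ

theorem In.mono (h : In P ℬ T) (hS : S ≤ T) : In P ℬ S := ⟨hS.trans h.le, fun t ht => h.mem t (hS ht)⟩

variable [Finite G]

theorem cop2 (ho : Odd (Nat.card X)) (h : IsPGroup 2 T) : (Nat.card X).Coprime (Nat.card T) :=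
  (coprime_pgroup h (Nat.two_dvd_ne_zero.2 (Nat.odd_iff.1 ho))).symm

theorem split2 (ho : Odd (Nat.card X)) (h : IsPGroup 2 T) (hn : T ≤ 𝐍[X]) :
    ⁅X, T⁆ ⊔ (X ⊓ 𝐂[T]) = X := coprime_cent_prod hn (cop2 ho h) (.inr (pgroup_sol h))

theorem split1 (ho : Odd (Nat.card X)) (h : IsPGroup 2 ⟪b⟫) (hn : b ∈ 𝐍[X]) :
    ⁅X, ⟪b⟫⁆ ⊔ (X ⊓ 𝐂₁[b]) = X := by
  rw [← cent_cycle]; exact split2 ho h (zpowers_le.2 hn)

theorem le_core_of_odd (ho : Odd (Nat.card W)) (hn : W ⊴ X) : W ≤ core {2}ᶜ X :=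
  p'core_max (Nat.two_dvd_ne_zero.2 (Nat.odd_iff.1 ho)) hn

namespace Pr
variable (c : Pr P 𝒜 ℬ)
include c

theorem le_trr (he : e ∈ P) (e1 : e ≠ 1) (hS : ∀ t ∈ S, t ∈ ℬ) (hc : S ≤ 𝐂₁[e]) : S ≤ trr 𝒜 e :=
  le_commStab.2 ⟨hc.trans (oc_norm e), (commSg _ (le_LL hS hc)).trans (commGC _ (LL ℬ _) ▸ c.pf e he e1)⟩

theorem comm_trr (he : e ∈ P) (e1 : e ≠ 1) (hS : ∀ t ∈ S, t ∈ ℬ) (hc : S ≤ 𝐂₁[e])
    (hX : X ≤ 𝐂₁[e]) : ⁅X, S⁆ ≤ trr 𝒜 e :=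
  (commgS X (c.le_trr he e1 hS hc)).trans (commg_subr.2 (hX.trans (c.ciA.norms_trr e)))

theorem lift (he : e ∈ P) (e1 : e ≠ 1) (hT : In P ℬ T) (hc : T ≤ 𝐂₁[e]) :
    LL 𝒜 𝐂₁[e] ≤ oc e ⊔ LL 𝒜 (𝐂₁[e] ⊓ 𝐂[T]) := LL_le.2 fun x hx hxe => by
  have hT2 := c.two.to_le hT.le
  have hxe' := zpowers_le.2 hxe
  have hTo := hc.trans (oc_norm e)
  have hS : Syl 2 T (oc e ⊔ T) := by
    have := (hall_sup_of_norm hTo (pcore_pgroup {2}ᶜ 𝐂₁[e])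
      (by rw [compl_compl]; exact piSub_singleton.2 hT2)).2
    rw [compl_compl] at this
    exact this.syl
  have hn : ⟪x⟫ ≤ 𝐍[oc e ⊔ T] := by
    rw [← commg_subr, commGC]
    refine commg_sup_le (normsG le_sup_left) (normsG le_sup_right) ?_ ?_
    · exact le_sup_of_le_left (commg_subl.2 (hxe'.trans (oc_norm e)))
    · exact le_sup_of_le_left ((commgS T (zpowers_le.2 (mem_LL hx hxe))).trans
        (le_commStab.1 (c.le_trr he e1 hT.mem hc)).2)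
  obtain ⟨n, hn', h1⟩ := coprime_exists_norm_conj (P := T) (hxe'.trans (oc_norm e))
    (cop2 (oc_odd e) (c.twoA x hx)) (solOr_cycle _ _) fun a ha => by
      obtain ⟨w, hw, e⟩ := Sylow_trans hS ((sylJnorm (hn ha)).2 hS)
      obtain ⟨o, ho, t, ht, rfl⟩ := (mem_join_norm hTo).1 hw
      exact ⟨o, ho, by rw [e, ← conj_conj, conj_eq_of_mem ht]⟩
  have h2 : ⟪n⁻¹ * x * n⁻¹⁻¹⟫ ≤ 𝐍[T] := by
    rw [← conj_zpowers, conj_le_iff, inv_inv, ← norm_conj]; exact h1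
  have h3 := c.ciA x hx n⁻¹
  have h4 : n⁻¹ * x * n⁻¹⁻¹ ∈ 𝐂[T] := mem_cent.2 fun t ht => (c.comm _
    (pgroup_sup hT2 (c.twoA _ h3) h2) _ (mem_sup_right (mem_zpowers _)) h3 t (mem_sup_left ht)
      (hT.mem t ht)).symm
  have h5 : n⁻¹ * x * n⁻¹⁻¹ ∈ 𝐂₁[e] := (memJ_norm (normG _ (inv_mem (oc_le e hn')))).2 hxe
  have h6 : x * n⁻¹ * x⁻¹ ∈ oc e := (memJ_norm (oc_norm e hxe)).2 (inv_mem hn')
  have := mul_mem_sup (mul_mem h6 hn') (mem_LL h3 (mem_inf.2 ⟨h5, h4⟩))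
  have e' : x * n⁻¹ * x⁻¹ * n * (n⁻¹ * x * n⁻¹⁻¹) = x := by group
  rwa [e'] at this

theorem odd_le (he : e ∈ P) (e1 : e ≠ 1) (hT : In P ℬ T) (hc : T ≤ 𝐂₁[e])
    (ho : Odd (Nat.card W)) (hW : W ⊴ LL 𝒜 (𝐂₁[e] ⊓ 𝐂[T])) : W ≤ oc e := by
  have h1 : LL 𝒜 (𝐂₁[e] ⊓ 𝐂[T]) ≤ 𝐂₁[e] := (LL_sub _ _).trans inf_le_left
  have h2 : oc e ⊔ LL 𝒜 𝐂₁[e] ⊴ 𝐂₁[e] :=
    ⟨sup_le (oc_le e) (LL_sub _ _), normsY (oc_norm e) (c.ciA.norm _)⟩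
  have h3 : oc e ⊔ W ⊴ oc e ⊔ LL 𝒜 𝐂₁[e] :=
    ⟨sup_le_sup_left (hW.1.trans (LL_mono inf_le_left)) _,
      (sup_le le_sup_left (c.lift he e1 hT hc)).trans (sup_le (normsG le_sup_left)
        (normsY (h1.trans (oc_norm e)) hW.2))⟩
  refine le_sup_right.trans ((pcore_max ((pcore_pgroup _ _).sup (piSub_compl.2
    (Nat.two_dvd_ne_zero.2 (Nat.odd_iff.1 ho))) (hW.1.trans (h1.trans (oc_norm e)))) h3).trans
    (h2.core_le _))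

theorem trr_le_Dl (hb : b ∈ T) : trr 𝒜 b ⊓ 𝐂[T] ≤ Dl 𝒜 T := by
  have h1 : trr 𝒜 b ⊓ 𝐂[T] ≤ 𝐍[LL 𝒜 𝐂[T]] := inf_le_right.trans (c.ciA.norm _)
  refine le_inf inf_le_right (le_commStab.2 ⟨norms_pcore _ h1, ?_⟩)
  refine le_trans (le_inf (commg_subr.2 h1) ?_)
    (pcoreS _ ((LL_sub _ _).trans (cent_le_cent1 hb)))
  exact (commgS _ (LL_mono (cent_le_cent1 hb))).trans (le_commStab.1 inf_le_left).2

theorem Dl_le_trr (he : e ∈ P) (e1 : e ≠ 1) (hT : In P ℬ T) (hc : T ≤ 𝐂₁[e]) :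
    Dl 𝒜 T ⊓ 𝐂₁[e] ≤ trr 𝒜 e := by
  have h0 : Dl 𝒜 T ⊓ 𝐂₁[e] ≤ 𝐍[oc e] := inf_le_right.trans (oc_norm e)
  have h1 : LL 𝒜 (𝐂₁[e] ⊓ 𝐂[T]) ≤ LL 𝒜 𝐂[T] := LL_mono inf_le_right
  refine le_commStab.2 ⟨h0, (commgS _ (c.lift he e1 hT hc)).trans ?_⟩
  rw [commGC]
  refine commg_sup_le (normG _) ((LL_sub _ _).trans (inf_le_left.trans (oc_norm e)))
    (commg_subl.2 h0) (le_trans (le_inf (commg_subl.2 (c.ciA.norms (normsG ?_))) ?_)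
      (c.odd_le he e1 hT hc (oddSg inf_le_right (Nat.odd_iff.2 (Nat.two_dvd_ne_zero.1
        (p'core_not_dvd 2 (LL 𝒜 𝐂[T]))))) (normalGI h1 (pcore_normal _ _))))
  · exact le_inf inf_le_right (inf_le_left.trans inf_le_left)
  · rw [commGC]
    exact (commgS _ h1).trans (le_commStab.1 (inf_le_left.trans inf_le_right)).2

theorem db_le (hb : b ∈ 𝐂₁[a]) : db 𝒜 b a ≤ oc a :=
  sup_le (commg_subl.2 (zpowers_le.2 (oc_norm a hb))) (inf_le_left.trans inf_le_left)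

theorem db_norm (hP : b ∈ P) (hb : b ∈ 𝐂₁[a]) : oc a ≤ 𝐍[db 𝒜 b a] :=
  (split1 (oc_odd a) (c.two.to_le (zpowers_le.2 hP)) (oc_norm a hb)).ge.trans
    (sup_le (normsG le_sup_left) (c.ciA.norms_db (normsG inf_le_left) inf_le_right))

theorem comm_le_db (hP : b ∈ P) (b1 : b ≠ 1) (hb : b ∈ 𝐂₁[a]) (hS : ∀ t ∈ S, t ∈ ℬ)
    (ha : S ≤ 𝐂₁[a]) (hc : S ≤ 𝐂₁[b]) : ⁅oc a, S⁆ ≤ db 𝒜 b a := by
  have hn := ha.trans (oc_norm a)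
  refine (commSg S (split1 (oc_odd a) (c.two.to_le (zpowers_le.2 hP)) (oc_norm a hb)).ge).trans
    (commg_sup_le (normsG le_sup_left) (inf_le_left.trans (c.db_norm hP hb))
    ((commg_subl.2 (normsR hn (norms_cycle hc))).trans le_sup_left) (le_sup_of_le_right ?_))
  exact le_inf (commg_subl.2 (normsGI hn hc)) (c.comm_trr hP b1 hS hc inf_le_right)

theorem db_eq (hT : In P ℬ T) (hA : IsMulCommutative T) (hb : b ∈ T) (b1 : b ≠ 1)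
    (ha : T ≤ 𝐂₁[a]) : db 𝒜 b a = dT 𝒜 T a := by
  have hc : T ≤ 𝐂₁[b] := le_cent1.2 (abelian_iff.1 hA hb)
  refine le_antisymm (sup_le (le_sup_of_le_left (commgS _ (zpowers_le.2 hb))) ?_)
    (sup_le (c.comm_le_db (hT.le hb) b1 (ha hb) hT.mem ha hc) (le_sup_of_le_right ?_))
  · have h1 : oc a ⊓ 𝐂₁[b] ⊓ trr 𝒜 b ≤ oc a := inf_le_left.trans inf_le_left
    rw [← split2 (oddSg h1 (oc_odd a)) (c.two.to_le hT.le)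
      (normsI (normsGI (ha.trans (oc_norm a)) hc) (hc.trans (c.ciA.norms_trr b)))]
    exact sup_le_sup (commSg _ h1) (le_inf (inf_le_left.trans h1)
      ((inf_le_inf_right _ inf_le_right).trans (c.trr_le_Dl hb)))
  · have h1 : oc a ⊓ Dl 𝒜 T ≤ 𝐂₁[b] := inf_le_right.trans (inf_le_left.trans (cent_le_cent1 hb))
    exact le_inf (le_inf inf_le_left h1) ((le_inf inf_le_right h1).trans
      (c.Dl_le_trr (hT.le hb) b1 hT hc))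

theorem KL (hT : In P ℬ T) (hK : Klein T) (ha : T ≤ 𝐂₁[a]) : dT 𝒜 T a ⊓ 𝐂[T] ≤ Dl 𝒜 T := by
  rw [dT, group_modr (H := oc a ⊓ Dl 𝒜 T) (L := 𝐂[T]) (inf_le_left.trans (commg_norml _ _))
    (inf_le_right.trans inf_le_left)]
  refine sup_le (w3 hK (ha.trans (oc_norm a)) (oc_odd a) fun s hs s1 => ?_) inf_le_right
  exact (inf_le_inf_right _ (c.comm_trr (hT.le hs) s1 hT.mem (le_cent1.2 (abelian_iff.1 hK.ab hs))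
    inf_le_right)).trans (c.trr_le_Dl hs)

theorem bal1 (hT : In P ℬ T) (hK : Klein T) (ha : T ≤ 𝐂₁[a]) (he : e ∈ P) (e1 : e ≠ 1)
    (hc : T ≤ 𝐂₁[e]) (ho : Odd (Nat.card Y)) (hn : T ≤ 𝐍[Y]) (hY : Y ≤ 𝐂₁[e])
    (hd : Y ≤ dT 𝒜 T a) : Y ≤ trr 𝒜 e := by
  rw [← split2 ho hK.pgroup hn]
  exact sup_le (c.comm_trr he e1 hT.mem hc hY) ((le_inf ((inf_le_inf_right _ hd).trans
    (c.KL hT hK ha)) (inf_le_left.trans hY)).trans (c.Dl_le_trr he e1 hT hc))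

theorem bal2 (hT : In P ℬ T) (hK : Klein T) (ha : T ≤ 𝐂₁[a]) (hn : T ≤ 𝐍[Y]) (hY : Y ≤ oc e)
    (hd : Y ≤ dT 𝒜 T a) : Y ≤ dT 𝒜 T e := by
  rw [← split2 (oddSg hY (oc_odd e)) hK.pgroup hn]
  exact sup_le_sup (commSg _ hY) (le_inf (inf_le_left.trans hY)
    ((inf_le_inf_right _ hd).trans (c.KL hT hK ha)))

end Pr

end Cfsg.GW.PFs
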